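import Mathlib
import Groth.Prelude.Def_ega3

set_option autoImplicit false

namespace Groth.Agent.Lib.Helper12.Koszul

open CategoryTheory CategoryTheory.Limits CochainComplex HomComplex CohIII

universe u

variable {A : Type u} [CommRing A]

section Cone

variable {K L N : CochainComplex (ModuleCat.{u} A) ℤ}

/-- functoriality of the cone of multiplication by `f`. -/
noncomputable def coneMap (f : A) (φ : K ⟶ L) :
    mappingCone (f • 𝟙 K) ⟶ mappingCone (f • 𝟙 L) :=
  mappingCone.map _ _ φ φ (by simp)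

lemma coneMap_id (f : A) : coneMap f (𝟙 K) = 𝟙 _ := mappingCone.map_id _

lemma coneMap_comp (f : A) (φ : K ⟶ L) (ψ : L ⟶ N) :
    coneMap f (φ ≫ ψ) = coneMap f φ ≫ coneMap f ψ :=
  mappingCone.map_comp _ _ _ _ _ _ _ _ _

@[reassoc]
lemma inl_v_coneMap_f (f : A) (φ : K ⟶ L) (p q : ℤ) (h : p + (-1) = q) :
    (mappingCone.inl (f • 𝟙 K)).v p q h ≫ (coneMap f φ).f q =
      φ.f p ≫ (mappingCone.inl (f • 𝟙 L)).v p q h := by
  simp [coneMap, mappingCone.map]

@[reassoc]
lemma inr_f_coneMap_f (f : A) (φ : K ⟶ L) (p : ℤ) :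
    (mappingCone.inr (f • 𝟙 K)).f p ≫ (coneMap f φ).f p =
      φ.f p ≫ (mappingCone.inr (f • 𝟙 L)).f p := by
  simp [coneMap, mappingCone.map]

@[reassoc]
lemma coneMap_f_fst_v (f : A) (φ : K ⟶ L) (p q : ℤ) (h : p + 1 = q) :
    (coneMap f φ).f p ≫ (mappingCone.fst (f • 𝟙 L)).1.v p q h =
      (mappingCone.fst (f • 𝟙 K)).1.v p q h ≫ φ.f q := by
  subst h
  rw [mappingCone.ext_from_iff _ (p + 1) p rfl]
  constructor
  · rw [inl_v_coneMap_f_assoc]; simp
  · rw [inr_f_coneMap_f_assoc]; simp

@[reassoc]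
lemma coneMap_f_snd_v (f : A) (φ : K ⟶ L) (p : ℤ) :
    (coneMap f φ).f p ≫ (mappingCone.snd (f • 𝟙 L)).v p p (add_zero p) =
      (mappingCone.snd (f • 𝟙 K)).v p p (add_zero p) ≫ φ.f p := by
  rw [mappingCone.ext_from_iff _ (p + 1) p rfl]
  constructor
  · rw [inl_v_coneMap_f_assoc]; simp
  · rw [inr_f_coneMap_f_assoc]; simp

lemma coneMap_smul (f a : A) (φ : K ⟶ L) : coneMap f (a • φ) = a • coneMap f φ := by
  apply HomologicalComplex.hom_ext
  intro n
  rw [mappingCone.ext_from_iff _ (n + 1) n rfl]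
  constructor
  · rw [inl_v_coneMap_f]; simp [inl_v_coneMap_f]
  · rw [inr_f_coneMap_f]; simp [inr_f_coneMap_f]

lemma coneMap_zero (f : A) : coneMap f (0 : K ⟶ L) = 0 := by
  have := coneMap_smul f 0 (0 : K ⟶ L)
  simpa using this

/-- the cone of multiplication by `f` is an exact functor. -/
lemma coneMap_shortExact (f : A) (S : ShortComplex (CochainComplex (ModuleCat.{u} A) ℤ))
    (hS : S.ShortExact) :
    (ShortComplex.mk (coneMap f S.f) (coneMap f S.g)
      (by rw [← coneMap_comp, S.zero, coneMap_zero])).ShortExact := by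
  have hS' : ∀ n : ℤ, (S.map (HomologicalComplex.eval _ _ n)).ShortExact :=
    fun n => hS.map_of_exact _
  have hmono : ∀ n : ℤ, Mono (S.f.f n) := fun n => (hS' n).mono_f
  have hepi : ∀ n : ℤ, Epi (S.g.f n) := fun n => (hS' n).epi_g
  have hex : ∀ (n : ℤ) (y : S.X₂.X n), (S.g.f n).hom y = 0 → ∃ x : S.X₁.X n, (S.f.f n).hom x = y :=
    fun n => (ShortComplex.moduleCat_exact_iff _).mp (hS' n).exact
  apply HomologicalComplex.shortExact_of_degreewise_shortExact
  intro n
  refine ShortComplex.ShortExact.mk' ?_ ?_ ?_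
  · rw [ShortComplex.moduleCat_exact_iff]
    intro y hy
    change ((coneMap f S.g).f n).hom y = 0 at hy
    change ∃ x, ((coneMap f S.f).f n).hom x = y
    have h1 : ((mappingCone.fst (f • 𝟙 S.X₃)).1.v n (n + 1) rfl).hom (((coneMap f S.g).f n).hom y) =
        (S.g.f (n + 1)).hom (((mappingCone.fst (f • 𝟙 S.X₂)).1.v n (n + 1) rfl).hom y) :=
      congrArg (fun φ => φ.hom y) (coneMap_f_fst_v f S.g n (n + 1) rfl)
    have h2 : ((mappingCone.snd (f • 𝟙 S.X₃)).v n n (add_zero n)).hom (((coneMap f S.g).f n).hom y) =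
        (S.g.f n).hom (((mappingCone.snd (f • 𝟙 S.X₂)).v n n (add_zero n)).hom y) :=
      congrArg (fun φ => φ.hom y) (coneMap_f_snd_v f S.g n)
    rw [hy, map_zero] at h1 h2
    obtain ⟨a, ha⟩ := hex _ _ h1.symm
    obtain ⟨b, hb⟩ := hex _ _ h2.symm
    refine ⟨((mappingCone.inl (f • 𝟙 S.X₁)).v (n + 1) n (by lia)).hom a +
      ((mappingCone.inr (f • 𝟙 S.X₁)).f n).hom b, ?_⟩
    have h3 : ((coneMap f S.f).f n).hom (((mappingCone.inl (f • 𝟙 S.X₁)).v (n + 1) n (by lia)).hom a) =
        ((mappingCone.inl (f • 𝟙 S.X₂)).v (n + 1) n (by lia)).hom ((S.f.f (n + 1)).hom a) :=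
      congrArg (fun φ => φ.hom a) (inl_v_coneMap_f f S.f (n + 1) n (by lia))
    have h4 : ((coneMap f S.f).f n).hom (((mappingCone.inr (f • 𝟙 S.X₁)).f n).hom b) =
        ((mappingCone.inr (f • 𝟙 S.X₂)).f n).hom ((S.f.f n).hom b) :=
      congrArg (fun φ => φ.hom b) (inr_f_coneMap_f f S.f n)
    rw [map_add, h3, h4, ha, hb]
    have h5 : ((mappingCone.inl (f • 𝟙 S.X₂)).v (n + 1) n (by lia)).hom
          (((mappingCone.fst (f • 𝟙 S.X₂)).1.v n (n + 1) rfl).hom y) +
        ((mappingCone.inr (f • 𝟙 S.X₂)).f n).hom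
          (((mappingCone.snd (f • 𝟙 S.X₂)).v n n (add_zero n)).hom y) = y :=
      congrArg (fun φ => φ.hom y) (mappingCone.id_X (f • 𝟙 S.X₂) n (n + 1) rfl)
    exact h5
  · change Mono ((coneMap f S.f).f n)
    apply Preadditive.mono_of_cancel_zero
    intro Z g hg
    rw [mappingCone.ext_to_iff _ n (n + 1) rfl]
    constructor
    · rw [zero_comp, ← cancel_mono (S.f.f (n + 1)), zero_comp, Category.assoc,
        ← coneMap_f_fst_v, reassoc_of% hg, zero_comp]
    · rw [zero_comp, ← cancel_mono (S.f.f n), zero_comp, Category.assoc,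
        ← coneMap_f_snd_v, reassoc_of% hg, zero_comp]
  · change Epi ((coneMap f S.g).f n)
    apply Preadditive.epi_of_cancel_zero
    intro Z g hg
    rw [mappingCone.ext_from_iff _ (n + 1) n rfl]
    constructor
    · rw [comp_zero, ← cancel_epi (S.g.f (n + 1)), comp_zero,
        ← inl_v_coneMap_f_assoc, hg, comp_zero]
    · rw [comp_zero, ← cancel_epi (S.g.f n), comp_zero,
        ← inr_f_coneMap_f_assoc, hg, comp_zero]

end Cone

section KMap

lemma single_map_smul {M N : ModuleCat.{u} A} (a : A) (g : M ⟶ N) :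
    (HomologicalComplex.single (ModuleCat.{u} A) (ComplexShape.up ℤ) 0).map (a • g) =
      a • (HomologicalComplex.single (ModuleCat.{u} A) (ComplexShape.up ℤ) 0).map g := by
  apply HomologicalComplex.from_single_hom_ext
  rw [HomologicalComplex.single_map_f_self, HomologicalComplex.smul_f_apply,
    HomologicalComplex.single_map_f_self]
  simp

lemma koszulCx_nil (M : ModuleCat.{u} A) :
    koszulCx M [] = (HomologicalComplex.single (ModuleCat.{u} A) (ComplexShape.up ℤ) 0).obj M := rfl

lemma koszulCx_cons (M : ModuleCat.{u} A) (f : A) (fs : List A) :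
    koszulCx M (f :: fs) = mappingCone (f • 𝟙 (koszulCx M fs)) := rfl

/-- functoriality of the Koszul complex in the module. -/
noncomputable def kMap {M N : ModuleCat.{u} A} (g : M ⟶ N) :
    ∀ fs : List A, koszulCx M fs ⟶ koszulCx N fs
  | [] => (HomologicalComplex.single (ModuleCat.{u} A) (ComplexShape.up ℤ) 0).map g
  | f :: fs => coneMap f (kMap g fs)

lemma kMap_nil {M N : ModuleCat.{u} A} (g : M ⟶ N) :
    kMap g [] = (HomologicalComplex.single (ModuleCat.{u} A) (ComplexShape.up ℤ) 0).map g := rfl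

lemma kMap_cons {M N : ModuleCat.{u} A} (g : M ⟶ N) (f : A) (fs : List A) :
    kMap g (f :: fs) = coneMap f (kMap g fs) := rfl

lemma kMap_id (M : ModuleCat.{u} A) : ∀ fs : List A, kMap (𝟙 M) fs = 𝟙 _
  | [] => (HomologicalComplex.single (ModuleCat.{u} A) (ComplexShape.up ℤ) 0).map_id M
  | f :: fs => by rw [kMap_cons, kMap_id M fs, coneMap_id]; rfl

lemma kMap_comp {M N P : ModuleCat.{u} A} (g : M ⟶ N) (h : N ⟶ P) :
    ∀ fs : List A, kMap (g ≫ h) fs = kMap g fs ≫ kMap h fs
  | [] => (HomologicalComplex.single (ModuleCat.{u} A) (ComplexShape.up ℤ) 0).map_comp g h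
  | f :: fs => by rw [kMap_cons, kMap_comp g h fs, coneMap_comp]; rfl

lemma kMap_smul {M N : ModuleCat.{u} A} (a : A) (g : M ⟶ N) :
    ∀ fs : List A, kMap (a • g) fs = a • kMap g fs
  | [] => by
      exact single_map_smul a g
  | f :: fs => by rw [kMap_cons, kMap_smul a g fs, coneMap_smul]; rfl

lemma kMap_zero {M N : ModuleCat.{u} A} (fs : List A) : kMap (0 : M ⟶ N) fs = 0 := by
  have := kMap_smul (0 : A) (0 : M ⟶ N) fs
  simpa using this

lemma kMap_comp_eq_zero (S : ShortComplex (ModuleCat.{u} A)) (fs : List A) :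
    kMap S.f fs ≫ kMap S.g fs = 0 := by
  rw [← kMap_comp, S.zero, kMap_zero]

lemma kMap_shortExact (S : ShortComplex (ModuleCat.{u} A)) (hS : S.ShortExact) (fs : List A) :
    (ShortComplex.mk (kMap S.f fs) (kMap S.g fs) (kMap_comp_eq_zero S fs)).ShortExact := by
  induction fs with
  | nil =>
    exact hS.map_of_exact (HomologicalComplex.single (ModuleCat.{u} A) (ComplexShape.up ℤ) 0)
  | cons f fs ih =>
    have h := coneMap_shortExact f _ ih
    simp only [kMap_cons]
    exact h

end KMap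

section Bounds

lemma isZero_koszulCx_X_of_pos (M : ModuleCat.{u} A) :
    ∀ (fs : List A) (i : ℤ), 0 < i → IsZero ((koszulCx M fs).X i)
  | [], i, hi => HomologicalComplex.isZero_single_obj_X _ _ _ _ (by lia)
  | f :: fs, i, hi => by
      rw [koszulCx_cons, mappingCone.isZero_X_iff]
      exact ⟨isZero_koszulCx_X_of_pos M fs _ (by lia), isZero_koszulCx_X_of_pos M fs _ hi⟩

lemma isZero_koszulCx_X_of_lt (M : ModuleCat.{u} A) :
    ∀ (fs : List A) (i : ℤ), i < -(fs.length : ℤ) → IsZero ((koszulCx M fs).X i)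
  | [], i, hi => HomologicalComplex.isZero_single_obj_X _ _ _ _ (by simp at hi; lia)
  | f :: fs, i, hi => by
      rw [koszulCx_cons, mappingCone.isZero_X_iff]
      simp only [List.length_cons, Nat.cast_add, Nat.cast_one] at hi
      exact ⟨isZero_koszulCx_X_of_lt M fs _ (by lia), isZero_koszulCx_X_of_lt M fs _ (by lia)⟩

instance (M : ModuleCat.{u} A) (fs : List A) : (koszulCx M fs).IsStrictlyLE 0 := by
  rw [isStrictlyLE_iff]
  exact fun i hi => isZero_koszulCx_X_of_pos M fs i hi

lemma isStrictlyGE_koszulCx (M : ModuleCat.{u} A) (fs : List A) :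
    (koszulCx M fs).IsStrictlyGE (-(fs.length : ℤ)) := by
  rw [isStrictlyGE_iff]
  exact fun i hi => isZero_koszulCx_X_of_lt M fs i hi

lemma isZero_homology_koszulCx_of_pos (M : ModuleCat.{u} A) (fs : List A) (i : ℤ) (hi : 0 < i) :
    IsZero ((koszulCx M fs).homology i) :=
  ShortComplex.isZero_homology_of_isZero_X₂ _ (isZero_koszulCx_X_of_pos M fs i hi)

lemma isZero_homology_koszulCx_of_lt (M : ModuleCat.{u} A) (fs : List A) (i : ℤ)
    (hi : i < -(fs.length : ℤ)) : IsZero ((koszulCx M fs).homology i) :=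
  ShortComplex.isZero_homology_of_isZero_X₂ _ (isZero_koszulCx_X_of_lt M fs i hi)

end Bounds

section Regular

open Pointwise

variable (M : Type u) [AddCommGroup M] [Module A M]

/-- the short complex `M --f--> M --> M/fM`. -/
noncomputable def smulSC (f : A) : ShortComplex (ModuleCat.{u} A) :=
  ShortComplex.mk (f • 𝟙 (ModuleCat.of A M))
    (ModuleCat.ofHom (Submodule.mkQ (f • (⊤ : Submodule A M)) : M →ₗ[A] QuotSMulTop f M))
    (by
      ext x
      change Submodule.mkQ (f • (⊤ : Submodule A M)) (f • x) = 0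
      rw [Submodule.mkQ_apply, Submodule.Quotient.mk_eq_zero]
      exact Submodule.smul_mem_pointwise_smul x f ⊤ trivial)

lemma smulSC_shortExact (f : A) (hf : IsSMulRegular M f) : (smulSC M f).ShortExact := by
  refine ShortComplex.ShortExact.mk' ?_ ?_ ?_
  · rw [ShortComplex.moduleCat_exact_iff]
    intro (y : M) hy
    have hy' : Submodule.Quotient.mk (p := f • (⊤ : Submodule A M)) y = 0 := hy
    rw [Submodule.Quotient.mk_eq_zero, Submodule.mem_smul_pointwise_iff_exists] at hy'
    obtain ⟨x, -, hx⟩ := hy'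
    exact ⟨x, hx⟩
  · rw [ModuleCat.mono_iff_injective]
    exact hf
  · rw [ModuleCat.epi_iff_surjective]
    exact Submodule.mkQ_surjective _

/-- for an `M`-regular element `f`, the Koszul complex of `f :: fs` on `M` is quasi-isomorphic to the
Koszul complex of `fs` on `M/fM`. -/
lemma exists_quasiIso_cons (f : A) (hf : IsSMulRegular M f) (fs : List A) :
    ∃ q : koszulCx (ModuleCat.of A M) (f :: fs) ⟶ koszulCx (ModuleCat.of A (QuotSMulTop f M)) fs,
      QuasiIso q := by
  have h := kMap_shortExact (smulSC M f) (smulSC_shortExact M f hf) fs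
  have e : kMap (smulSC M f).f fs = f • 𝟙 (koszulCx (ModuleCat.of A M) fs) := by
    change kMap (f • 𝟙 (ModuleCat.of A M)) fs = _
    rw [kMap_smul, kMap_id]
  simp only [e] at h
  exact ⟨mappingCone.descShortComplex (ShortComplex.mk (f • 𝟙 (koszulCx (ModuleCat.of A M) fs))
    (kMap (smulSC M f).g fs) _), mappingCone.quasiIso_descShortComplex h⟩

theorem isZero_koszulH_of_isWeaklyRegular (fs : List A) :
    ∀ (M : Type u) [AddCommGroup M] [Module A M], RingTheory.Sequence.IsWeaklyRegular M fs →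
      ∀ p : ℕ, p ≠ fs.length → IsZero (koszulH fs (ModuleCat.of A M) p) := by
  induction fs with
  | nil =>
    intro M _ _ _ p hp
    apply isZero_homology_koszulCx_of_pos
    simp only [List.length_nil, Nat.cast_zero, sub_zero] at hp ⊢
    lia
  | cons f fs ih =>
    intro M _ _ hreg p hp
    rw [RingTheory.Sequence.isWeaklyRegular_cons_iff] at hreg
    obtain ⟨q, hq⟩ := exists_quasiIso_cons M f hreg.1 fs
    have hiso : ∀ n : ℤ, IsZero ((koszulCx (ModuleCat.of A (QuotSMulTop f M)) fs).homology n) →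
        IsZero ((koszulCx (ModuleCat.of A M) (f :: fs)).homology n) := fun n hn =>
      hn.of_iso (asIso (HomologicalComplex.homologyMap q n))
    apply hiso
    rcases p with _ | p
    · apply isZero_homology_koszulCx_of_lt
      simp only [List.length_cons, Nat.cast_add, Nat.cast_one, Nat.cast_zero]
      lia
    · have e : (((p + 1 : ℕ) : ℤ) - ((f :: fs).length : ℤ)) = (p : ℤ) - (fs.length : ℤ) := by
        simp only [List.length_cons, Nat.cast_add, Nat.cast_one]
        ring
      rw [e]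
      exact ih (QuotSMulTop f M) hreg.2 p (by simpa using hp)

end Regular

end Groth.Agent.Lib.Helper12.Koszul
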