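import Mathlib

set_option autoImplicit false

namespace Groth.Agent.Lib.Helper12.KoszulLES

open CategoryTheory CategoryTheory.Limits CochainComplex HomComplex Pretriangulated

universe v u

variable {C : Type u} [Category.{v} C] [Abelian C]

variable {K L : CochainComplex C ℤ} (φ : K ⟶ L)

/-- the iso between the exact sequence in the homotopy category and the naive one. -/
lemma cone_exact₂_aux (n : ℤ) :
    ∃ (w : (HomologicalComplex.homologyFunctor C (ComplexShape.up ℤ) n).map φ ≫
        (HomologicalComplex.homologyFunctor C (ComplexShape.up ℤ) n).map (mappingCone.inr φ) = 0),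
      (ShortComplex.mk _ _ w).Exact := by
  let F := HomotopyCategory.homologyFunctor C (ComplexShape.up ℤ) 0
  let H := HomotopyCategory.homologyFunctor C (ComplexShape.up ℤ) n
  let Q := HomotopyCategory.quotient C (ComplexShape.up ℤ)
  let G := HomologicalComplex.homologyFunctor C (ComplexShape.up ℤ) n
  have hT := HomotopyCategory.mappingCone_triangleh_distinguished φ
  let e : Q ⋙ H ≅ G := HomotopyCategory.homologyFunctorFactors C (ComplexShape.up ℤ) n
  have h0 : (Q ⋙ H).map φ ≫ (Q ⋙ H).map (mappingCone.inr φ) = 0 :=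
    F.homologySequence_comp _ hT n
  have h : (ShortComplex.mk _ _ h0).Exact := F.homologySequence_exact₂ _ hT n
  have w : G.map φ ≫ G.map (mappingCone.inr φ) = 0 := by
    have : e.hom.app K ≫ G.map φ ≫ G.map (mappingCone.inr φ) = e.hom.app K ≫ 0 := by
      rw [← e.hom.naturality_assoc, ← e.hom.naturality, ← Category.assoc, h0, zero_comp, comp_zero]
    exact (cancel_epi (e.hom.app K)).mp this
  refine ⟨w, ShortComplex.exact_of_iso ?_ h⟩
  exact ShortComplex.isoMk (e.app K) (e.app L) (e.app (mappingCone φ))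
    (e.hom.naturality φ).symm (e.hom.naturality (mappingCone.inr φ)).symm

lemma homologyMap_comp_inr (n : ℤ) :
    HomologicalComplex.homologyMap φ n ≫
      HomologicalComplex.homologyMap (mappingCone.inr φ) n = 0 :=
  (cone_exact₂_aux φ n).choose

lemma cone_exact₂ (n : ℤ) :
    (ShortComplex.mk _ _ (homologyMap_comp_inr φ n)).Exact :=
  (cone_exact₂_aux φ n).choose_spec

lemma epi_homologyMap_inr (n : ℤ) (h : IsZero (K.homology (n + 1))) :
    Epi (HomologicalComplex.homologyMap (mappingCone.inr φ) n) := by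
  let F := HomotopyCategory.homologyFunctor C (ComplexShape.up ℤ) 0
  let H := HomotopyCategory.homologyFunctor C (ComplexShape.up ℤ) n
  let Q := HomotopyCategory.quotient C (ComplexShape.up ℤ)
  let G := HomologicalComplex.homologyFunctor C (ComplexShape.up ℤ) n
  have hT := HomotopyCategory.mappingCone_triangleh_distinguished φ
  let e : Q ⋙ H ≅ G := HomotopyCategory.homologyFunctorFactors C (ComplexShape.up ℤ) n
  have hz : IsZero ((F.shift (n + 1)).obj (mappingCone.triangleh φ).obj₁) :=
    h.of_iso ((HomotopyCategory.homologyFunctorFactors C (ComplexShape.up ℤ) (n + 1)).app K)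
  have hepi : Epi ((Q ⋙ H).map (mappingCone.inr φ)) :=
    (F.homologySequence_epi_shift_map_mor₂_iff _ hT n (n + 1) rfl).mpr (hz.eq_of_tgt _ _)
  have h1 : Epi (e.hom.app L ≫ G.map (mappingCone.inr φ)) := by
    rw [← e.hom.naturality]
    exact epi_comp _ _
  have h2 : Epi (G.map (mappingCone.inr φ)) := epi_of_epi (e.hom.app L) _
  exact h2

/-- the connecting map of the cone, with exactness on both sides. -/
lemma cone_exact₃₁ (n : ℤ) :
    ∃ δ : (HomologicalComplex.homologyFunctor C (ComplexShape.up ℤ) n).obj (mappingCone φ) ⟶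
        (HomologicalComplex.homologyFunctor C (ComplexShape.up ℤ) (n + 1)).obj K,
      ∃ (w₃ : (HomologicalComplex.homologyFunctor C (ComplexShape.up ℤ) n).map (mappingCone.inr φ) ≫
          δ = 0)
        (w₁ : δ ≫ (HomologicalComplex.homologyFunctor C (ComplexShape.up ℤ) (n + 1)).map φ = 0),
        (ShortComplex.mk _ _ w₃).Exact ∧ (ShortComplex.mk _ _ w₁).Exact := by
  let F := HomotopyCategory.homologyFunctor C (ComplexShape.up ℤ) 0
  let H := HomotopyCategory.homologyFunctor C (ComplexShape.up ℤ) n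
  let H' := HomotopyCategory.homologyFunctor C (ComplexShape.up ℤ) (n + 1)
  let Q := HomotopyCategory.quotient C (ComplexShape.up ℤ)
  let G := HomologicalComplex.homologyFunctor C (ComplexShape.up ℤ) n
  let G' := HomologicalComplex.homologyFunctor C (ComplexShape.up ℤ) (n + 1)
  have hT := HomotopyCategory.mappingCone_triangleh_distinguished φ
  let e : Q ⋙ H ≅ G := HomotopyCategory.homologyFunctorFactors C (ComplexShape.up ℤ) n
  let e' : Q ⋙ H' ≅ G' := HomotopyCategory.homologyFunctorFactors C (ComplexShape.up ℤ) (n + 1)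
  let δ' : (Q ⋙ H).obj (mappingCone φ) ⟶ (Q ⋙ H').obj K :=
    F.homologySequenceδ (mappingCone.triangleh φ) n (n + 1) rfl
  have c3 : (Q ⋙ H).map (mappingCone.inr φ) ≫ δ' = 0 :=
    F.comp_homologySequenceδ _ hT n (n + 1) rfl
  have c1 : δ' ≫ (Q ⋙ H').map φ = 0 := F.homologySequenceδ_comp _ hT n (n + 1) rfl
  have h3 : (ShortComplex.mk _ _ c3).Exact := F.homologySequence_exact₃ _ hT n (n + 1) rfl
  have h1 : (ShortComplex.mk _ _ c1).Exact := F.homologySequence_exact₁ _ hT n (n + 1) rfl
  let δ : G.obj (mappingCone φ) ⟶ G'.obj K := e.inv.app (mappingCone φ) ≫ δ' ≫ e'.hom.app K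
  have w₃ : G.map (mappingCone.inr φ) ≫ δ = 0 := by
    have : G.map (mappingCone.inr φ) ≫ e.inv.app (mappingCone φ) =
        e.inv.app L ≫ (Q ⋙ H).map (mappingCone.inr φ) := (e.inv.naturality _)
    show G.map (mappingCone.inr φ) ≫ e.inv.app (mappingCone φ) ≫ δ' ≫ e'.hom.app K = 0
    rw [← Category.assoc, this, Category.assoc, ← Category.assoc ((Q ⋙ H).map (mappingCone.inr φ)),
      c3, zero_comp, comp_zero]
  have w₁ : δ ≫ G'.map φ = 0 := by
    show (e.inv.app (mappingCone φ) ≫ δ' ≫ e'.hom.app K) ≫ G'.map φ = 0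
    rw [Category.assoc, Category.assoc, ← e'.hom.naturality, ← Category.assoc δ', c1, zero_comp,
      comp_zero]
  refine ⟨δ, w₃, w₁, ShortComplex.exact_of_iso ?_ h3, ShortComplex.exact_of_iso ?_ h1⟩
  · refine ShortComplex.isoMk (e.app L) (e.app (mappingCone φ)) (e'.app K)
      (e.hom.naturality (mappingCone.inr φ)).symm ?_
    show e.hom.app (mappingCone φ) ≫ e.inv.app (mappingCone φ) ≫ δ' ≫ e'.hom.app K =
      δ' ≫ e'.hom.app K
    rw [Iso.hom_inv_id_app_assoc]
  · refine ShortComplex.isoMk (e.app (mappingCone φ)) (e'.app K) (e'.app L) ?_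
      (e'.hom.naturality φ).symm
    show e.hom.app (mappingCone φ) ≫ e.inv.app (mappingCone φ) ≫ δ' ≫ e'.hom.app K =
      δ' ≫ e'.hom.app K
    rw [Iso.hom_inv_id_app_assoc]

end Groth.Agent.Lib.Helper12.KoszulLES
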