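import Mathlib
import Groth.Agent.Lib.Helper12.Koszul
import Groth.Agent.Lib.Helper12.KoszulLES

set_option autoImplicit false

namespace Groth.Agent.Lib.Helper12.KoszulTop

open CategoryTheory CategoryTheory.Limits CochainComplex HomComplex CohIII Pointwise
open Groth.Agent.Lib.Helper12.Koszul Groth.Agent.Lib.Helper12.KoszulLES

universe u
variable {A : Type u} [CommRing A]

lemma homologyMap_smul' {ι : Type*} {c : ComplexShape ι}
    {K L : HomologicalComplex (ModuleCat.{u} A) c} (a : A) (φ : K ⟶ L) (i : ι) :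
    HomologicalComplex.homologyMap (a • φ) i = a • HomologicalComplex.homologyMap φ i := by
  show ShortComplex.homologyMap ((HomologicalComplex.shortComplexFunctor _ _ i).map (a • φ)) =
    a • ShortComplex.homologyMap ((HomologicalComplex.shortComplexFunctor _ _ i).map φ)
  rw [← ShortComplex.homologyMap_smul]
  congr 1

/-- abstract quotient lemma. -/
lemma nonempty_equiv_quotSMulTop {H H' Q : Type u} [AddCommGroup H] [AddCommGroup H'] [AddCommGroup Q]
    [Module A H] [Module A H'] [Module A Q] (f : A) (g : H →ₗ[A] H') (hg : Function.Surjective g)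
    (hker : ∀ x, g x = 0 ↔ ∃ y, f • y = x) (e : H ≃ₗ[A] Q) :
    Nonempty (H' ≃ₗ[A] QuotSMulTop f Q) := by
  let π : H →ₗ[A] QuotSMulTop f Q := (Submodule.mkQ (f • (⊤ : Submodule A Q))) ∘ₗ e.toLinearMap
  have hπ : Function.Surjective π := (Submodule.mkQ_surjective _).comp e.surjective
  have hk : LinearMap.ker g = LinearMap.ker π := by
    ext x
    rw [LinearMap.mem_ker, LinearMap.mem_ker, hker]
    change _ ↔ Submodule.Quotient.mk (p := f • (⊤ : Submodule A Q)) (e x) = 0
    rw [Submodule.Quotient.mk_eq_zero, Submodule.mem_smul_pointwise_iff_exists]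
    constructor
    · rintro ⟨y, rfl⟩
      exact ⟨e y, trivial, (map_smul e f y).symm⟩
    · rintro ⟨z, -, hz⟩
      refine ⟨e.symm z, ?_⟩
      apply e.injective
      rw [map_smul, e.apply_symm_apply, hz]
  exact ⟨(LinearMap.quotKerEquivOfSurjective g hg).symm ≪≫ₗ Submodule.quotEquivOfEq _ _ hk ≪≫ₗ
    LinearMap.quotKerEquivOfSurjective π hπ⟩

theorem nonempty_top_equiv (xs : List A) :
    ∀ (M : Type u) [AddCommGroup M] [Module A M],
      Nonempty (↑((koszulCx (ModuleCat.of A M) xs).homology 0) ≃ₗ[A]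
        (M ⧸ (Ideal.ofList xs • (⊤ : Submodule A M)))) := by
  induction xs with
  | nil =>
    intro M _ _
    refine ⟨(HomologicalComplex.singleObjHomologySelfIso (ComplexShape.up ℤ) 0
      (ModuleCat.of A M)).toLinearEquiv ≪≫ₗ (Submodule.quotEquivOfEqBot _ ?_).symm⟩
    rw [Ideal.ofList_nil, Submodule.bot_smul]
  | cons f fs ih =>
    intro M _ _
    obtain ⟨e⟩ := ih M
    let K := koszulCx (ModuleCat.of A M) fs
    let g := HomologicalComplex.homologyMap (mappingCone.inr (f • 𝟙 K)) 0
    have hepi : Epi g := epi_homologyMap_inr (f • 𝟙 K) 0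
      (isZero_homology_koszulCx_of_pos _ fs _ (by norm_num))
    have hex := cone_exact₂ (f • 𝟙 K) 0
    rw [ShortComplex.moduleCat_exact_iff] at hex
    have hf : ∀ y : K.homology 0, (HomologicalComplex.homologyMap (f • 𝟙 K) 0).hom y = f • y := by
      intro y
      rw [homologyMap_smul', HomologicalComplex.homologyMap_id]
      rfl
    obtain ⟨e'⟩ := nonempty_equiv_quotSMulTop f g.hom ((ModuleCat.epi_iff_surjective g).mp hepi)
      (fun x => ⟨fun hx => by
          obtain ⟨y, hy⟩ := hex x hx
          exact ⟨y, (hf y).symm.trans hy⟩,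
        fun ⟨y, hy⟩ => by
          rw [← hy, ← hf y]
          exact congrArg (fun φ => φ.hom y) (homologyMap_comp_inr (f • 𝟙 K) 0)⟩) e
    exact ⟨e' ≪≫ₗ (Submodule.quotOfListConsSMulTopEquivQuotSMulTopOuter M f fs).symm⟩

end Groth.Agent.Lib.Helper12.KoszulTop
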