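import Mathlib

/-!
# A filtered form of the Hilbert basis theorem (helper12)

Let `k` be a Noetherian ring, `F̄ = (k[x₁,…,xₙ])^r` with its filtration by total degree, and
`W_d ⊆ F̄_d` an increasing family of `k`-submodules with `x_i W_d ⊆ W_{d+1}`.  Then for `d ≫ 0`
`W_{d+1} = W_d + Σ x_i W_d`.  The proof is the Rees-module trick, carried out inside
`k[x][t]`: the ring map `Θ : k[x₀,…,xₙ] → k[x][t]`, `x₀ ↦ t`, `x_i ↦ x_i t`.
-/

set_option autoImplicit false

namespace Groth.Agent.Lib.Helper12.FiltHilbert

variable {k : Type*} [CommRing k] (n : ℕ)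

/-- The homogenising map `k[x₀,…,xₙ] → k[x][t]`. -/
noncomputable def Θ : MvPolynomial (Option (Fin n)) k →ₐ[k] Polynomial (MvPolynomial (Fin n) k) :=
  MvPolynomial.aeval (fun o : Option (Fin n) =>
    o.elim (Polynomial.X) (fun i => Polynomial.C (MvPolynomial.X i) * Polynomial.X))

@[simp] lemma Θ_X_none : Θ (k := k) n (MvPolynomial.X none) = Polynomial.X := by
  simp [Θ]

@[simp] lemma Θ_X_some (i : Fin n) :
    Θ (k := k) n (MvPolynomial.X (some i)) = Polynomial.C (MvPolynomial.X i) * Polynomial.X := by
  simp [Θ]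

@[simp] lemma Θ_C (a : k) :
    Θ (k := k) n (MvPolynomial.C a) = Polynomial.C (MvPolynomial.C a) := by
  simp [Θ]

/-- Coefficients of `Θ b` have degree bounded by their index. -/
lemma totalDegree_coeff_Θ_le (b : MvPolynomial (Option (Fin n)) k) (j : ℕ) :
    ((Θ n b).coeff j).totalDegree ≤ j := by
  induction b using MvPolynomial.induction_on generalizing j with
  | C a =>
    rw [Θ_C, Polynomial.coeff_C]
    split_ifs <;> simp
  | add p q hp hq =>
    rw [map_add, Polynomial.coeff_add]
    exact (MvPolynomial.totalDegree_add _ _).trans (max_le (hp j) (hq j))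
  | mul_X p o hp =>
    rw [map_mul]
    cases o with
    | none =>
      rw [Θ_X_none]
      cases j with
      | zero => simp
      | succ j =>
        rw [Polynomial.coeff_mul_X]
        exact (hp j).trans (Nat.le_succ j)
    | some i =>
      rw [Θ_X_some, ← mul_assoc]
      cases j with
      | zero => simp
      | succ j =>
        rw [Polynomial.coeff_mul_X, Polynomial.coeff_mul_C]
        refine (MvPolynomial.totalDegree_mul _ _).trans ?_
        have := hp j
        have h2 : (MvPolynomial.X i : MvPolynomial (Fin n) k).totalDegree ≤ 1 := by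
          have := MvPolynomial.totalDegree_monomial_le (R := k) (Finsupp.single i 1) 1
          simpa [MvPolynomial.X] using this
        omega

/-- `x^α t^{|α|}` lies in the range of `Θ`. -/
lemma monomial_mul_X_pow_mem_range (α : Fin n →₀ ℕ) (c : k) :
    Polynomial.C (MvPolynomial.monomial α c) * Polynomial.X ^ (α.sum fun _ e => e) ∈
      (Θ (k := k) n).range := by
  refine ⟨MvPolynomial.monomial (α.mapDomain some) c, ?_⟩
  change MvPolynomial.aeval _ _ = _
  rw [MvPolynomial.aeval_monomial, Finsupp.prod_mapDomain_index_inj (Option.some_injective _)]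
  simp only [Option.elim_some, mul_pow]
  rw [Finsupp.prod_mul, MvPolynomial.monomial_eq]
  simp only [Finsupp.prod, Finsupp.sum, map_mul, map_prod, map_pow, Finset.prod_pow_eq_pow_sum]
  rw [mul_assoc]
  rfl

/-- `q t^d` lies in the range of `Θ` when `deg q ≤ d`. -/
lemma C_mul_X_pow_mem_range (q : MvPolynomial (Fin n) k) (d : ℕ) (hq : q.totalDegree ≤ d) :
    Polynomial.C q * Polynomial.X ^ d ∈ (Θ (k := k) n).range := by
  rw [← MvPolynomial.support_sum_monomial_coeff q, map_sum, Finset.sum_mul]
  refine Subalgebra.sum_mem _ fun α hα => ?_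
  have hα' : (α.sum fun _ e => e) ≤ d := (MvPolynomial.le_totalDegree hα).trans hq
  obtain ⟨e, he⟩ := Nat.exists_eq_add_of_le hα'
  rw [he, pow_add, ← mul_assoc]
  refine Subalgebra.mul_mem _ (monomial_mul_X_pow_mem_range n α _) ?_
  exact Subalgebra.pow_mem _
    (show Polynomial.X ∈ (Θ (k := k) n).range from ⟨MvPolynomial.X none, Θ_X_none n⟩) e

section Main

variable (r : ℕ)

/-- Multiplication by `x_i` on `(k[x])^r`, as a `k`-linear map. -/
noncomputable def mulX (i : Fin n) :
    (Fin r → MvPolynomial (Fin n) k) →ₗ[k] (Fin r → MvPolynomial (Fin n) k) :=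
  (LinearMap.lsmul (MvPolynomial (Fin n) k) (Fin r → MvPolynomial (Fin n) k)
    (MvPolynomial.X i)).restrictScalars k

@[simp] lemma mulX_apply (i : Fin n) (v : Fin r → MvPolynomial (Fin n) k) :
    mulX n r i v = (MvPolynomial.X i : MvPolynomial (Fin n) k) • v := rfl

variable (W : ℕ → Submodule k (Fin r → MvPolynomial (Fin n) k))

/-- A compatible filtration. -/
structure IsCompat : Prop where
  deg : ∀ d, ∀ v ∈ W d, ∀ j, (v j).totalDegree ≤ d
  mono : ∀ d, W d ≤ W (d + 1)
  mulX : ∀ d (i : Fin n), ∀ v ∈ W d, (MvPolynomial.X i : MvPolynomial (Fin n) k) • v ∈ W (d + 1)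

variable {n r W}

lemma IsCompat.mono' (h : IsCompat n r W) {d e : ℕ} (hde : d ≤ e) : W d ≤ W e :=
  monotone_nat_of_le_succ h.mono hde

lemma IsCompat.X_pow_smul_mem (h : IsCompat n r W) (i : Fin n) (b e : ℕ)
    {u : Fin r → MvPolynomial (Fin n) k} (hu : u ∈ W e) :
    (MvPolynomial.X i ^ b : MvPolynomial (Fin n) k) • u ∈ W (e + b) := by
  induction b with
  | zero => simpa using hu
  | succ b ih =>
    rw [pow_succ', mul_smul, ← add_assoc]
    exact h.mulX _ i _ ih

lemma IsCompat.prod_smul_mem (h : IsCompat n r W) (s : Finset (Fin n)) (α : Fin n → ℕ) (e : ℕ)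
    {u : Fin r → MvPolynomial (Fin n) k} (hu : u ∈ W e) :
    (∏ i ∈ s, (MvPolynomial.X i ^ α i : MvPolynomial (Fin n) k)) • u ∈ W (e + ∑ i ∈ s, α i) := by
  classical
  induction s using Finset.induction_on with
  | empty => simpa using hu
  | insert a s ha ih =>
    rw [Finset.prod_insert ha, Finset.sum_insert ha, mul_smul]
    have := h.X_pow_smul_mem a (α a) _ ih
    convert this using 2
    ring

lemma IsCompat.monomial_smul_mem (h : IsCompat n r W) (α : Fin n →₀ ℕ) (c : k) (e : ℕ)
    {u : Fin r → MvPolynomial (Fin n) k} (hu : u ∈ W e) :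
    (MvPolynomial.monomial α c : MvPolynomial (Fin n) k) • u ∈ W (e + α.sum fun _ x => x) := by
  rw [MvPolynomial.monomial_eq, mul_smul, MvPolynomial.C_eq_smul_one, smul_assoc, one_smul]
  exact (W _).smul_mem c (h.prod_smul_mem α.support α e hu)

lemma IsCompat.smul_mem (h : IsCompat n r W) (q : MvPolynomial (Fin n) k) (j : ℕ)
    (hq : q.totalDegree ≤ j) (e : ℕ) {u : Fin r → MvPolynomial (Fin n) k} (hu : u ∈ W e) :
    q • u ∈ W (e + j) := by
  rw [← MvPolynomial.support_sum_monomial_coeff q, Finset.sum_smul]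
  refine Submodule.sum_mem _ fun α hα => ?_
  have hα' : (α.sum fun _ x => x) ≤ j := (MvPolynomial.le_totalDegree hα).trans hq
  exact h.mono' (Nat.add_le_add_left hα' e) (h.monomial_smul_mem α _ e hu)

/-- The target of the stabilisation statement. -/
noncomputable def next (W : ℕ → Submodule k (Fin r → MvPolynomial (Fin n) k)) (d : ℕ) :
    Submodule k (Fin r → MvPolynomial (Fin n) k) :=
  W d ⊔ ⨆ i : Fin n, (W d).map (mulX n r i)

lemma IsCompat.smul_mem_next (h : IsCompat n r W) (q : MvPolynomial (Fin n) k) (a b d : ℕ)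
    (hab : b + a = d) (hq : q.totalDegree ≤ a + 1) {w : Fin r → MvPolynomial (Fin n) k}
    (hw : w ∈ W b) : q • w ∈ next W d := by
  classical
  rw [← MvPolynomial.support_sum_monomial_coeff q, Finset.sum_smul]
  refine Submodule.sum_mem _ fun α hα => ?_
  have hα' : (α.sum fun _ x => x) ≤ a + 1 := (MvPolynomial.le_totalDegree hα).trans hq
  rcases Nat.lt_or_ge (α.sum fun _ x => x) (a + 1) with hlt | hge
  · refine Submodule.mem_sup_left ?_
    refine h.mono' ?_ (h.monomial_smul_mem α _ b hw)
    omega
  · have hsum : (α.sum fun _ x => x) = a + 1 := le_antisymm hα' hge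
    have hne : α ≠ 0 := by
      rintro rfl
      simp at hsum
    obtain ⟨i, hi⟩ : ∃ i, α i ≠ 0 := by
      by_contra hcon
      push_neg at hcon
      exact hne (Finsupp.ext hcon)
    have hle : Finsupp.single i 1 ≤ α := by
      rw [Finsupp.single_le_iff]
      omega
    set β := α - Finsupp.single i 1 with hβ
    have hαβ : α = Finsupp.single i 1 + β := by rw [hβ, add_tsub_cancel_of_le hle]
    have hβsum : (β.sum fun _ x => x) = a := by
      have : (α.sum fun _ x => x) = (Finsupp.single i 1).sum (fun _ x => x) + β.sum fun _ x => x := by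
        rw [hαβ, Finsupp.sum_add_index' (fun _ => rfl) (fun _ _ _ => rfl)]
      rw [hsum, Finsupp.sum_single_index rfl] at this
      omega
    have hmon : (MvPolynomial.monomial α (MvPolynomial.coeff α q) : MvPolynomial (Fin n) k) =
        MvPolynomial.X i * MvPolynomial.monomial β (MvPolynomial.coeff α q) := by
      rw [MvPolynomial.X, MvPolynomial.monomial_mul, one_mul, ← hαβ]
    rw [hmon, mul_smul]
    refine Submodule.mem_sup_right (Submodule.mem_iSup_of_mem i ?_)
    refine ⟨_, ?_, rfl⟩
    have := h.monomial_smul_mem β (MvPolynomial.coeff α q) b hw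
    rw [hβsum, hab] at this
    exact this

/-- Coefficient vector of an element of `(k[x₀,…,xₙ])^r` in `t`-degree `d`. -/
noncomputable def cv (u : Fin r → MvPolynomial (Option (Fin n)) k) (d : ℕ) :
    Fin r → MvPolynomial (Fin n) k := fun j => (Θ n (u j)).coeff d

omit W in
lemma cv_add (u u' : Fin r → MvPolynomial (Option (Fin n)) k) (d : ℕ) :
    cv (u + u') d = cv u d + cv u' d := by
  ext j; simp [cv]

omit W in
lemma cv_zero (d : ℕ) : cv (0 : Fin r → MvPolynomial (Option (Fin n)) k) d = 0 := by
  ext j; simp [cv]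

omit W in
lemma cv_C_smul (a : k) (u : Fin r → MvPolynomial (Option (Fin n)) k) (d : ℕ) :
    cv ((MvPolynomial.C a : MvPolynomial (Option (Fin n)) k) • u) d = a • cv u d := by
  ext j
  simp only [cv, Pi.smul_apply, smul_eq_mul, map_mul, Θ_C, Polynomial.coeff_C_mul]
  rw [MvPolynomial.C_mul']

omit W in
lemma cv_X_none_smul_zero (u : Fin r → MvPolynomial (Option (Fin n)) k) :
    cv ((MvPolynomial.X none : MvPolynomial (Option (Fin n)) k) • u) 0 = 0 := by
  ext j
  simp [cv, mul_comm (Polynomial.X : Polynomial (MvPolynomial (Fin n) k))]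

omit W in
lemma cv_X_none_smul_succ (u : Fin r → MvPolynomial (Option (Fin n)) k) (d : ℕ) :
    cv ((MvPolynomial.X none : MvPolynomial (Option (Fin n)) k) • u) (d + 1) = cv u d := by
  ext j
  simp [cv, mul_comm (Polynomial.X : Polynomial (MvPolynomial (Fin n) k))]

omit W in
lemma cv_X_some_smul_zero (i : Fin n) (u : Fin r → MvPolynomial (Option (Fin n)) k) :
    cv ((MvPolynomial.X (some i) : MvPolynomial (Option (Fin n)) k) • u) 0 = 0 := by
  ext j
  simp only [cv, Pi.smul_apply, smul_eq_mul, map_mul, Θ_X_some, Pi.zero_apply]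
  rw [mul_comm, ← mul_assoc, Polynomial.coeff_mul_X_zero]

omit W in
lemma cv_X_some_smul_succ (i : Fin n) (u : Fin r → MvPolynomial (Option (Fin n)) k) (d : ℕ) :
    cv ((MvPolynomial.X (some i) : MvPolynomial (Option (Fin n)) k) • u) (d + 1) =
      (MvPolynomial.X i : MvPolynomial (Fin n) k) • cv u d := by
  ext j
  simp only [cv, Pi.smul_apply, smul_eq_mul, map_mul, Θ_X_some]
  rw [mul_comm, ← mul_assoc, Polynomial.coeff_mul_X, Polynomial.coeff_mul_C, mul_comm]

/-- The Rees module of the filtration, pulled back along `Θ`. -/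
noncomputable def rees (h : IsCompat n r W) :
    Submodule (MvPolynomial (Option (Fin n)) k) (Fin r → MvPolynomial (Option (Fin n)) k) where
  carrier := {u | ∀ d, cv u d ∈ W d}
  add_mem' := by
    intro u u' hu hu' d
    rw [cv_add]
    exact add_mem (hu d) (hu' d)
  zero_mem' := by
    intro d
    rw [cv_zero]
    exact zero_mem _
  smul_mem' := by
    intro b u hu
    induction b using MvPolynomial.induction_on generalizing u with
    | C a =>
      intro d
      rw [cv_C_smul]
      exact (W d).smul_mem a (hu d)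
    | add p q hp hq =>
      rw [add_smul]
      intro d
      rw [cv_add]
      exact add_mem (hp hu d) (hq hu d)
    | mul_X p o hp =>
      rw [mul_smul]
      refine hp (u := MvPolynomial.X o • u) ?_
      intro d
      cases o with
      | none =>
        cases d with
        | zero => rw [cv_X_none_smul_zero]; exact zero_mem _
        | succ d => rw [cv_X_none_smul_succ]; exact h.mono d (hu d)
      | some i =>
        cases d with
        | zero => rw [cv_X_some_smul_zero]; exact zero_mem _
        | succ d => rw [cv_X_some_smul_succ]; exact h.mulX d i _ (hu d)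

lemma mem_rees (h : IsCompat n r W) (u : Fin r → MvPolynomial (Option (Fin n)) k) :
    u ∈ rees h ↔ ∀ d, cv u d ∈ W d := Iff.rfl

omit W in
lemma cv_smul (b : MvPolynomial (Option (Fin n)) k) (u : Fin r → MvPolynomial (Option (Fin n)) k)
    (d : ℕ) : cv (b • u) d =
      ∑ x ∈ Finset.HasAntidiagonal.antidiagonal d, ((Θ n b).coeff x.1) • cv u x.2 := by
  ext j
  simp [cv, Polynomial.coeff_mul, Finset.sum_apply]

omit W in
lemma cv_sum {ι : Type*} (S : Finset ι) (g : ι → Fin r → MvPolynomial (Option (Fin n)) k) (d : ℕ) :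
    cv (∑ s ∈ S, g s) d = ∑ s ∈ S, cv (g s) d := by
  ext j
  simp [cv, Finset.sum_apply]

/-- **Filtered Hilbert basis theorem.** -/
theorem exists_stable [IsNoetherianRing k] (h : IsCompat n r W) :
    ∃ D, ∀ d, D ≤ d → W (d + 1) ≤ next W d := by
  classical
  have hfg : (rees h).FG := IsNoetherian.noetherian _
  obtain ⟨S, hS⟩ := hfg
  obtain ⟨D, hD⟩ : ∃ D : ℕ, ∀ s ∈ S, ∀ j, (Θ n (s j)).natDegree ≤ D := by
    clear hS
    induction S using Finset.induction_on with
    | empty => exact ⟨0, fun s hs => absurd hs (Finset.notMem_empty s)⟩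
    | insert a S ha ih =>
      obtain ⟨D, hD⟩ := ih
      refine ⟨max D (∑ j, (Θ n (a j)).natDegree), fun s hs j => ?_⟩
      rcases Finset.mem_insert.mp hs with rfl | hs'
      · refine le_trans ?_ (le_max_right _ _)
        exact Finset.single_le_sum (f := fun j => (Θ n (s j)).natDegree)
          (fun _ _ => Nat.zero_le _) (Finset.mem_univ j)
      · exact (hD s hs' j).trans (le_max_left _ _)
  refine ⟨D, fun d hd v hv => ?_⟩
  have hlift : ∀ j, ∃ b, Θ n b = Polynomial.C (v j) * Polynomial.X ^ (d + 1) := fun j =>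
    C_mul_X_pow_mem_range n (v j) (d + 1) (h.deg _ v hv j)
  choose u hu using hlift
  have hcv : ∀ e, cv u e = if e = d + 1 then v else 0 := by
    intro e
    ext j
    simp only [cv, hu, Polynomial.coeff_C_mul_X_pow]
    split_ifs <;> simp
  have humem : u ∈ rees h := by
    intro e
    rw [hcv]
    split_ifs with he
    · subst he; exact hv
    · exact zero_mem _
  rw [← hS] at humem
  obtain ⟨f, -, hf⟩ := Submodule.mem_span_finset.mp humem
  have hv' : v = ∑ s ∈ S, cv (f s • s) (d + 1) := by
    rw [← cv_sum, hf, hcv, if_pos rfl]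
  rw [hv']
  refine Submodule.sum_mem _ fun s hs => ?_
  rw [cv_smul]
  refine Submodule.sum_mem _ fun x hx => ?_
  have hx' : x.1 + x.2 = d + 1 := Finset.HasAntidiagonal.mem_antidiagonal.mp hx
  have hsmem : s ∈ rees h := by
    rw [← hS]; exact Submodule.subset_span hs
  by_cases hb : x.2 ≤ D
  · have hx1 : x.1 = (d - x.2) + 1 := by omega
    refine h.smul_mem_next ((Θ n (f s)).coeff x.1) (d - x.2) x.2 d (by omega) ?_ (hsmem x.2)
    rw [← hx1]
    exact totalDegree_coeff_Θ_le n _ _
  · have hz : cv s x.2 = 0 := by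
      funext j
      simp only [cv, Pi.zero_apply]
      apply Polynomial.coeff_eq_zero_of_natDegree_lt
      have h1 : (Θ n (s j)).natDegree ≤ D := hD s hs j
      omega
    rw [hz, smul_zero]
    exact zero_mem _

end Main

end Groth.Agent.Lib.Helper12.FiltHilbert
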