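import Mathlib
import Groth.Agent.Lib.Helper12.FiltHilbert

/-!
# Nagata's theorem: finite flat modules over `R[x₁,…,xₙ]`, `R` a valuation ring, are finitely
presented (helper12)

The proof uses the filtration by total degree, the freeness of finite flat modules over a local
ring, reduction modulo the maximal ideal, the filtered Hilbert basis theorem and Nakayama.
-/

set_option autoImplicit false
universe u

namespace Groth.Agent.Lib.Helper12.NagataFP

open Groth.Agent.Lib.Helper12.FiltHilbert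

section Filtration

variable {R : Type*} [CommRing R] (n r : ℕ)

/-- Vectors of polynomials of total degree `≤ d`. -/
noncomputable def Fdeg (d : ℕ) : Submodule R (Fin r → MvPolynomial (Fin n) R) :=
  Submodule.pi Set.univ (fun _ => MvPolynomial.restrictTotalDegree (Fin n) R d)

variable {n r}

lemma mem_Fdeg {d : ℕ} {v : Fin r → MvPolynomial (Fin n) R} :
    v ∈ Fdeg n r d ↔ ∀ j, (v j).totalDegree ≤ d := by
  simp [Fdeg, Submodule.mem_pi, MvPolynomial.mem_restrictTotalDegree]

lemma Fdeg_fg (d : ℕ) : (Fdeg (R := R) n r d).FG :=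
  Submodule.fg_pi fun _ => Module.Finite.iff_fg.mp inferInstance

lemma Fdeg_mono {d e : ℕ} (h : d ≤ e) : Fdeg (R := R) n r d ≤ Fdeg n r e := by
  intro v hv
  rw [mem_Fdeg] at hv ⊢
  exact fun j => (hv j).trans h

lemma exists_mem_Fdeg (v : Fin r → MvPolynomial (Fin n) R) : ∃ d, v ∈ Fdeg n r d := by
  refine ⟨∑ j, (v j).totalDegree, mem_Fdeg.mpr fun j => ?_⟩
  exact Finset.single_le_sum (f := fun j => (v j).totalDegree) (fun _ _ => Nat.zero_le _)
    (Finset.mem_univ j)

lemma totalDegree_X_le (i : Fin n) : (MvPolynomial.X i : MvPolynomial (Fin n) R).totalDegree ≤ 1 := by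
  have := MvPolynomial.totalDegree_monomial_le (R := R) (Finsupp.single i 1) 1
  simpa [MvPolynomial.X] using this

lemma X_smul_mem_Fdeg {d : ℕ} (i : Fin n) {v : Fin r → MvPolynomial (Fin n) R}
    (hv : v ∈ Fdeg n r d) : (MvPolynomial.X i : MvPolynomial (Fin n) R) • v ∈ Fdeg n r (d + 1) := by
  rw [mem_Fdeg] at hv ⊢
  intro j
  rw [Pi.smul_apply, smul_eq_mul]
  refine (MvPolynomial.totalDegree_mul _ _).trans ?_
  have := hv j
  have h2 := totalDegree_X_le (R := R) i
  omega

/-- `Pi.single j (monomial α 1)` has degree `|α|`. -/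
lemma single_monomial_mem_Fdeg {d : ℕ} (j : Fin r) (α : Fin n →₀ ℕ)
    (hα : (α.sum fun _ e => e) ≤ d) :
    (Pi.single j (MvPolynomial.monomial α (1 : R)) : Fin r → MvPolynomial (Fin n) R) ∈
      Fdeg n r d := by
  classical
  rw [mem_Fdeg]
  intro j'
  by_cases hj : j' = j
  · subst hj
    rw [Pi.single_eq_same]
    exact (MvPolynomial.totalDegree_monomial_le _ _).trans hα
  · rw [Pi.single_eq_of_ne hj]
    simp

/-- A vector of degree `≤ d` all of whose coefficients lie in `I` lies in `I • F_d`. -/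
lemma mem_smul_Fdeg_of_coeff_mem (I : Ideal R) {d : ℕ} {v : Fin r → MvPolynomial (Fin n) R}
    (hv : v ∈ Fdeg n r d) (hc : ∀ j α, MvPolynomial.coeff α (v j) ∈ I) :
    v ∈ I • Fdeg n r d := by
  classical
  have h1 : v = ∑ j, ∑ α ∈ (v j).support,
      MvPolynomial.coeff α (v j) • (Pi.single j (MvPolynomial.monomial α (1 : R)) :
        Fin r → MvPolynomial (Fin n) R) := by
    funext j'
    simp only [Finset.sum_apply, Pi.smul_apply, Pi.single_apply, smul_ite, smul_zero]
    rw [Finset.sum_eq_single j']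
    · simp only [if_true]
      conv_lhs => rw [← MvPolynomial.support_sum_monomial_coeff (v j')]
      refine Finset.sum_congr rfl fun α _ => ?_
      rw [MvPolynomial.smul_monomial, smul_eq_mul, mul_one]
    · intro b _ hb
      simp [Ne.symm hb]
    · intro h; exact absurd (Finset.mem_univ j') h
  rw [h1]
  refine Submodule.sum_mem _ fun j _ => Submodule.sum_mem _ fun α hα => ?_
  refine Submodule.smul_mem_smul (hc j α) (single_monomial_mem_Fdeg j α ?_)
  exact (MvPolynomial.le_totalDegree hα).trans (mem_Fdeg.mp hv j)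

end Filtration

section Split

variable {R : Type*} [CommRing R] {F M : Type*} [AddCommGroup F] [Module R F] [AddCommGroup M]
  [Module R M]

/-- If the image of the finitely generated submodule `G` under `ψ` is projective, then
`ker ψ ⊓ G` is finitely generated and is `I`-pure in `G` for every ideal `I`. -/
lemma split_aux (G : Submodule R F) (hG : G.FG) (ψ : F →ₗ[R] M) [Module.Projective R (G.map ψ)] :
    (LinearMap.ker ψ ⊓ G).FG ∧
      ∀ I : Ideal R, LinearMap.ker ψ ⊓ (I • G) ≤ I • (LinearMap.ker ψ ⊓ G) := by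
  let φ : G →ₗ[R] G.map ψ := (ψ.domRestrict G).codRestrict (G.map ψ)
    (fun g => ⟨g.1, g.2, rfl⟩)
  have hφ : Function.Surjective φ := by
    rintro ⟨_, g, hg, rfl⟩
    exact ⟨⟨g, hg⟩, rfl⟩
  obtain ⟨σ, hσ⟩ := Module.projective_lifting_property φ LinearMap.id hφ
  let q : G →ₗ[R] G := LinearMap.id - σ ∘ₗ φ
  have hq1 : ∀ g : G, ((q g : G) : F) ∈ LinearMap.ker ψ ⊓ G := by
    intro g
    refine ⟨?_, (q g).2⟩
    change ψ ((q g : G) : F) = 0
    have h1 : φ (q g) = 0 := by
      have := LinearMap.congr_fun hσ (φ g)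
      simp only [LinearMap.comp_apply, LinearMap.id_apply] at this
      simp [q, this]
    have h2 := congrArg (fun x : G.map ψ => (x : M)) h1
    simpa [φ] using h2
  have hq2 : ∀ g : G, (g : F) ∈ LinearMap.ker ψ → q g = g := by
    intro g hg
    have : φ g = 0 := by
      apply Subtype.ext
      simpa [φ] using hg
    simp [q, this]
  haveI : Module.Finite R G := Module.Finite.iff_fg.mpr hG
  constructor
  · have : LinearMap.ker ψ ⊓ G = LinearMap.range (G.subtype ∘ₗ q) := by
      apply le_antisymm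
      · rintro x ⟨hx1, hx2⟩
        exact ⟨⟨x, hx2⟩, by simp [hq2 ⟨x, hx2⟩ hx1]⟩
      · rintro _ ⟨g, rfl⟩
        exact hq1 g
    rw [this]
    exact Submodule.fg_range _
  · intro I x hx
    have key : ∀ y ∈ I • G, ∀ hy : y ∈ G, ((q ⟨y, hy⟩ : G) : F) ∈ I • (LinearMap.ker ψ ⊓ G) := by
      intro y hy
      refine Submodule.smul_induction_on' (p := fun y _ => ∀ hy : y ∈ G,
        ((q ⟨y, hy⟩ : G) : F) ∈ I • (LinearMap.ker ψ ⊓ G)) hy ?_ ?_
      · intro a ha g hg hag
        have : (⟨a • g, hag⟩ : G) = a • ⟨g, hg⟩ := rfl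
        rw [this, map_smul]
        exact Submodule.smul_mem_smul ha (hq1 _)
      · intro y1 hy1 y2 hy2 h1 h2 h12
        have hy1G : y1 ∈ G := Submodule.smul_le_right hy1
        have hy2G : y2 ∈ G := Submodule.smul_le_right hy2
        have : (⟨y1 + y2, h12⟩ : G) = ⟨y1, hy1G⟩ + ⟨y2, hy2G⟩ := rfl
        rw [this, map_add]
        exact add_mem (h1 hy1G) (h2 hy2G)
    have hxG : x ∈ G := Submodule.smul_le_right hx.2
    have := key x hx.2 hxG
    rwa [hq2 ⟨x, hxG⟩ hx.1] at this

end Split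

section Reduction

variable {R : Type*} [CommRing R] [IsLocalRing R] {n r : ℕ}

/-- Reduction modulo the maximal ideal. -/
noncomputable def ρ (v : Fin r → MvPolynomial (Fin n) R) :
    Fin r → MvPolynomial (Fin n) (IsLocalRing.ResidueField R) :=
  fun j => MvPolynomial.map (IsLocalRing.residue R) (v j)

lemma ρ_add (v w : Fin r → MvPolynomial (Fin n) R) : ρ (v + w) = ρ v + ρ w := by
  funext j; simp [ρ]

lemma ρ_zero : ρ (0 : Fin r → MvPolynomial (Fin n) R) = 0 := by
  funext j; simp [ρ]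

lemma ρ_sub (v w : Fin r → MvPolynomial (Fin n) R) : ρ (v - w) = ρ v - ρ w := by
  funext j; simp [ρ]

lemma ρ_smul (c : R) (v : Fin r → MvPolynomial (Fin n) R) :
    ρ (c • v) = (IsLocalRing.residue R c) • ρ v := by
  funext j
  simp [ρ, MvPolynomial.smul_eq_C_mul]

lemma ρ_X_smul (i : Fin n) (v : Fin r → MvPolynomial (Fin n) R) :
    ρ ((MvPolynomial.X i : MvPolynomial (Fin n) R) • v) =
      (MvPolynomial.X i : MvPolynomial (Fin n) (IsLocalRing.ResidueField R)) • ρ v := by
  funext j
  simp [ρ]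

lemma ρ_sum {ι : Type*} (s : Finset ι) (g : ι → Fin r → MvPolynomial (Fin n) R) :
    ρ (∑ i ∈ s, g i) = ∑ i ∈ s, ρ (g i) := by
  funext j
  simp [ρ, Finset.sum_apply]

lemma totalDegree_ρ_le (v : Fin r → MvPolynomial (Fin n) R) (j : Fin r) :
    (ρ v j).totalDegree ≤ (v j).totalDegree :=
  Finset.sup_mono (MvPolynomial.support_map_subset _ _)

lemma coeff_mem_of_ρ_eq_zero {v : Fin r → MvPolynomial (Fin n) R} (h : ρ v = 0) (j : Fin r)
    (α : Fin n →₀ ℕ) : MvPolynomial.coeff α (v j) ∈ IsLocalRing.maximalIdeal R := by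
  have h1 := congrArg (fun w => MvPolynomial.coeff α (w j)) h
  simp only [ρ, MvPolynomial.coeff_map, Pi.zero_apply, MvPolynomial.coeff_zero] at h1
  exact (IsLocalRing.residue_eq_zero_iff _).mp h1

end Reduction

section Main

variable {R : Type*} [CommRing R] [IsDomain R] [ValuationRing R] {n r : ℕ}
  {M : Type*} [AddCommGroup M] [Module (MvPolynomial (Fin n) R) M] [Module R M]
  [IsScalarTower R (MvPolynomial (Fin n) R) M]

lemma flat_submodule {R : Type*} [CommRing R] [IsDomain R] [IsBezout R] {M : Type*}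
    [AddCommGroup M] [Module R M] [Module.Flat R M] (S : Submodule R M) : Module.Flat R S := by
  rw [Module.Flat.flat_iff_torsion_eq_bot_of_isBezout, ← Submodule.isTorsionFree_iff_torsion_eq_bot]
  infer_instance

variable (ψ : (Fin r → MvPolynomial (Fin n) R) →ₗ[MvPolynomial (Fin n) R] M)

/-- The degree-`≤ d` part of the kernel, as an `R`-module. -/
noncomputable def Nd (d : ℕ) : Submodule R (Fin r → MvPolynomial (Fin n) R) :=
  LinearMap.ker (ψ.restrictScalars R) ⊓ Fdeg n r d

lemma mem_Nd {d : ℕ} {v : Fin r → MvPolynomial (Fin n) R} :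
    v ∈ Nd ψ d ↔ ψ v = 0 ∧ v ∈ Fdeg n r d := by
  simp [Nd]

lemma Nd_mono {d e : ℕ} (h : d ≤ e) : Nd ψ d ≤ Nd ψ e :=
  inf_le_inf_left _ (Fdeg_mono h)

lemma X_smul_mem_Nd {d : ℕ} (i : Fin n) {v : Fin r → MvPolynomial (Fin n) R} (hv : v ∈ Nd ψ d) :
    (MvPolynomial.X i : MvPolynomial (Fin n) R) • v ∈ Nd ψ (d + 1) := by
  rw [mem_Nd] at hv ⊢
  exact ⟨by rw [map_smul, hv.1, smul_zero], X_smul_mem_Fdeg i hv.2⟩

variable [Module.Flat R M]

lemma Nd_fg_and_pure (d : ℕ) : (Nd ψ d).FG ∧
    ∀ I : Ideal R, LinearMap.ker (ψ.restrictScalars R) ⊓ (I • Fdeg n r d) ≤ I • Nd ψ d := by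
  haveI : Module.Flat R ((Fdeg n r d).map (ψ.restrictScalars R)) := flat_submodule _
  haveI : Module.Finite R ((Fdeg n r d).map (ψ.restrictScalars R)) :=
    Module.Finite.iff_fg.mpr ((Fdeg_fg d).map _)
  haveI : Module.Free R ((Fdeg n r d).map (ψ.restrictScalars R)) :=
    Module.free_of_flat_of_isLocalRing
  exact split_aux (Fdeg n r d) (Fdeg_fg d) (ψ.restrictScalars R)

/-- The reductions of the `Nd`, as subspaces over the residue field. -/
noncomputable def Wd (d : ℕ) : Submodule (IsLocalRing.ResidueField R)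
    (Fin r → MvPolynomial (Fin n) (IsLocalRing.ResidueField R)) where
  carrier := ρ '' (Nd ψ d : Set (Fin r → MvPolynomial (Fin n) R))
  add_mem' := by
    rintro _ _ ⟨v, hv, rfl⟩ ⟨w, hw, rfl⟩
    exact ⟨v + w, add_mem hv hw, ρ_add v w⟩
  zero_mem' := ⟨0, zero_mem _, ρ_zero⟩
  smul_mem' := by
    rintro c _ ⟨v, hv, rfl⟩
    obtain ⟨c, rfl⟩ := IsLocalRing.residue_surjective c
    exact ⟨c • v, Submodule.smul_mem _ c hv, ρ_smul c v⟩

omit [Module.Flat R M] in
lemma mem_Wd {d : ℕ} {x : Fin r → MvPolynomial (Fin n) (IsLocalRing.ResidueField R)} :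
    x ∈ Wd ψ d ↔ ∃ v ∈ Nd ψ d, ρ v = x := Iff.rfl

omit [Module.Flat R M] in
lemma Wd_isCompat : IsCompat n r (Wd ψ) where
  deg := by
    rintro d _ ⟨v, hv, rfl⟩ j
    exact (totalDegree_ρ_le v j).trans (mem_Fdeg.mp ((mem_Nd ψ).mp hv).2 j)
  mono := by
    rintro d _ ⟨v, hv, rfl⟩
    exact ⟨v, Nd_mono ψ (Nat.le_succ d) hv, rfl⟩
  mulX := by
    rintro d i _ ⟨v, hv, rfl⟩
    exact ⟨_, X_smul_mem_Nd ψ i hv, ρ_X_smul i v⟩

omit [IsDomain R] [ValuationRing R] in
lemma exists_of_mem_next {k : Type*} [CommRing k] {n r : ℕ}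
    (W : ℕ → Submodule k (Fin r → MvPolynomial (Fin n) k)) (d : ℕ)
    {x : Fin r → MvPolynomial (Fin n) k} (hx : x ∈ next W d) :
    ∃ u₀ ∈ W d, ∃ u : Fin n → (Fin r → MvPolynomial (Fin n) k), (∀ i, u i ∈ W d) ∧
      x = u₀ + ∑ i, (MvPolynomial.X i : MvPolynomial (Fin n) k) • u i := by
  classical
  obtain ⟨u₀, hu₀, y, hy, rfl⟩ := Submodule.mem_sup.mp hx
  refine ⟨u₀, hu₀, ?_⟩
  suffices h : ∃ u : Fin n → (Fin r → MvPolynomial (Fin n) k), (∀ i, u i ∈ W d) ∧
      y = ∑ i, (MvPolynomial.X i : MvPolynomial (Fin n) k) • u i by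
    obtain ⟨u, hu, rfl⟩ := h
    exact ⟨u, hu, rfl⟩
  refine Submodule.iSup_induction (p := fun i => (W d).map (mulX n r i))
    (motive := fun y => ∃ u : Fin n → (Fin r → MvPolynomial (Fin n) k), (∀ i, u i ∈ W d) ∧
      y = ∑ i, (MvPolynomial.X i : MvPolynomial (Fin n) k) • u i) hy ?_ ?_ ?_
  · rintro i _ ⟨w, hw, rfl⟩
    refine ⟨Pi.single i w, fun i' => ?_, ?_⟩
    · by_cases h : i' = i
      · subst h; rw [Pi.single_eq_same]; exact hw
      · rw [Pi.single_eq_of_ne h]; exact zero_mem _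
    · rw [Finset.sum_eq_single i]
      · rw [Pi.single_eq_same]; rfl
      · intro b _ hb; rw [Pi.single_eq_of_ne hb, smul_zero]
      · intro h; exact absurd (Finset.mem_univ i) h
  · exact ⟨0, fun i => zero_mem _, by simp⟩
  · rintro y1 y2 ⟨u1, h1, rfl⟩ ⟨u2, h2, rfl⟩
    exact ⟨u1 + u2, fun i => add_mem (h1 i) (h2 i), by
      simp [smul_add, Finset.sum_add_distrib]⟩

omit [Module.Flat R M] in
lemma next_Nd_le (d : ℕ) : next (Nd ψ) d ≤ Nd ψ (d + 1) := by
  refine sup_le (Nd_mono ψ (Nat.le_succ d)) (iSup_le fun i => ?_)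
  rintro _ ⟨v, hv, rfl⟩
  exact X_smul_mem_Nd ψ i hv

lemma Nd_succ_le (D : ℕ) (hD : ∀ d, D ≤ d → Wd ψ (d + 1) ≤ next (Wd ψ) d) (d : ℕ) (hd : D ≤ d) :
    Nd ψ (d + 1) ≤ next (Nd ψ) d := by
  refine Submodule.le_of_le_smul_of_le_jacobson_bot (I := IsLocalRing.maximalIdeal R)
    (Nd_fg_and_pure ψ (d + 1)).1 (IsLocalRing.maximalIdeal_le_jacobson ⊥) ?_
  intro v hv
  have h1 : ρ v ∈ next (Wd ψ) d := hD d hd ⟨v, hv, rfl⟩
  obtain ⟨_, ⟨u₀, hu₀, rfl⟩, ū, hū, hsum⟩ := exists_of_mem_next _ _ h1
  choose u hu hρu using hū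
  set w : Fin r → MvPolynomial (Fin n) R :=
    u₀ + ∑ i, (MvPolynomial.X i : MvPolynomial (Fin n) R) • u i with hw
  have hwnext : w ∈ next (Nd ψ) d := by
    refine add_mem (Submodule.mem_sup_left hu₀) (Submodule.sum_mem _ fun i _ => ?_)
    exact Submodule.mem_sup_right (Submodule.mem_iSup_of_mem i ⟨u i, hu i, rfl⟩)
  have hρ : ρ (v - w) = 0 := by
    rw [ρ_sub, hsum, hw, ρ_add, ρ_sum]
    simp only [ρ_X_smul, hρu]
    exact sub_self _
  have hvw : v - w ∈ Nd ψ (d + 1) := sub_mem hv (next_Nd_le ψ d hwnext)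
  have hvw2 : v - w ∈ IsLocalRing.maximalIdeal R • Fdeg n r (d + 1) :=
    mem_smul_Fdeg_of_coeff_mem _ ((mem_Nd ψ).mp hvw).2 (coeff_mem_of_ρ_eq_zero hρ)
  have hvw3 : v - w ∈ IsLocalRing.maximalIdeal R • Nd ψ (d + 1) :=
    (Nd_fg_and_pure ψ (d + 1)).2 _ ⟨hvw.1, hvw2⟩
  have : v = w + (v - w) := by abel
  rw [this]
  exact add_mem (Submodule.mem_sup_left hwnext) (Submodule.mem_sup_right hvw3)

/-- **Nagata's theorem**, kernel form. -/
theorem ker_fg : (LinearMap.ker ψ).FG := by
  obtain ⟨D, hD⟩ := exists_stable (Wd_isCompat ψ)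
  set T : Submodule (MvPolynomial (Fin n) R) (Fin r → MvPolynomial (Fin n) R) :=
    Submodule.span (MvPolynomial (Fin n) R) (Nd ψ D : Set (Fin r → MvPolynomial (Fin n) R)) with hT
  have hTd : ∀ d, (Nd ψ d : Set (Fin r → MvPolynomial (Fin n) R)) ⊆ T := by
    intro d
    induction d with
    | zero => exact fun v hv => Submodule.subset_span (Nd_mono ψ (Nat.zero_le D) hv)
    | succ d ih =>
      by_cases hd : D ≤ d
      · intro v hv
        have := Nd_succ_le ψ D hD d hd hv
        obtain ⟨u₀, hu₀, u, hu, rfl⟩ := exists_of_mem_next _ _ this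
        exact add_mem (ih hu₀) (Submodule.sum_mem _ fun i _ => T.smul_mem _ (ih (hu i)))
      · exact fun v hv => Submodule.subset_span (Nd_mono ψ (by omega) hv)
  have hker : LinearMap.ker ψ = T := by
    apply le_antisymm
    · intro v hv
      obtain ⟨d, hd⟩ := exists_mem_Fdeg v
      exact hTd d ((mem_Nd ψ).mpr ⟨hv, hd⟩)
    · exact Submodule.span_le.mpr fun v hv => ((mem_Nd ψ).mp hv).1
  rw [hker]
  obtain ⟨S, hS⟩ := (Nd_fg_and_pure ψ D).1
  refine ⟨S, ?_⟩
  rw [hT, ← hS, Submodule.span_span_of_tower]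

end Main

section Wrappers

variable {R : Type u} [CommRing R] [IsDomain R] [ValuationRing R]

/-- **Nagata's theorem**: a finite module over `R[x₁,…,xₙ]`, flat over the valuation ring `R`, is
finitely presented. -/
theorem finitePresentation_mvPolynomial (n : ℕ) (M : Type u) [AddCommGroup M]
    [Module (MvPolynomial (Fin n) R) M] [Module R M] [IsScalarTower R (MvPolynomial (Fin n) R) M]
    [Module.Finite (MvPolynomial (Fin n) R) M] [Module.Flat R M] :
    Module.FinitePresentation (MvPolynomial (Fin n) R) M := by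
  obtain ⟨r, ψ, hψ⟩ := Module.Finite.exists_fin' (MvPolynomial (Fin n) R) M
  exact Module.finitePresentation_of_free_of_surjective ψ hψ (ker_fg ψ)

omit [IsDomain R] [ValuationRing R] in
/-- For a surjective ring map `P → S` and an `S`-module `M`, `M` is its own base change. -/
lemma isBaseChange_id_of_surjective {P S M : Type u} [CommRing P] [CommRing S] [Algebra P S]
    (hs : Function.Surjective (algebraMap P S)) [AddCommGroup M] [Module P M] [Module S M]
    [IsScalarTower P S M] : IsBaseChange S (LinearMap.id : M →ₗ[P] M) := by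
  refine IsBaseChange.of_lift_unique _ fun Q _ _ _ _ g => ?_
  refine ⟨{ toFun := g, map_add' := g.map_add, map_smul' := fun s m => ?_ }, ?_, ?_⟩
  · obtain ⟨p, rfl⟩ := hs s
    simp only [RingHom.id_apply]
    rw [algebraMap_smul S p m, algebraMap_smul S p (g m), map_smul]
  · ext m; rfl
  · intro g' hg'
    ext m
    exact LinearMap.congr_fun hg' m

/-- Finite type version. -/
theorem finitePresentation_of_finiteType (S : Type u) [CommRing S] [Algebra R S]
    [Algebra.FiniteType R S] (M : Type u) [AddCommGroup M] [Module S M] [Module R M]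
    [IsScalarTower R S M] [Module.Finite S M] [Module.Flat R M] :
    Module.FinitePresentation S M := by
  obtain ⟨n, f, hf⟩ := Algebra.FiniteType.iff_quotient_mvPolynomial''.mp
    (inferInstance : Algebra.FiniteType R S)
  letI : Algebra (MvPolynomial (Fin n) R) S := f.toRingHom.toAlgebra
  letI : Module (MvPolynomial (Fin n) R) M := Module.compHom M f.toRingHom
  haveI : IsScalarTower (MvPolynomial (Fin n) R) S M :=
    ⟨fun p s m => by
      change (f p * s) • m = f p • (s • m)
      rw [mul_smul]⟩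
  haveI : IsScalarTower R (MvPolynomial (Fin n) R) M :=
    ⟨fun c p m => by
      change f (c • p) • m = c • (f p • m)
      rw [map_smul, smul_assoc]⟩
  have hsurj : Function.Surjective (algebraMap (MvPolynomial (Fin n) R) S) := hf
  haveI : Module.Finite (MvPolynomial (Fin n) R) S :=
    Module.Finite.of_surjective (Algebra.linearMap _ S) hsurj
  haveI : Module.Finite (MvPolynomial (Fin n) R) M := Module.Finite.trans S M
  haveI := finitePresentation_mvPolynomial (R := R) n M
  exact FinitePresentation.of_isBaseChange (LinearMap.id)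
    (isBaseChange_id_of_surjective hsurj)

/-- Essentially finite type version. -/
theorem finitePresentation_of_essFiniteType (B : Type u) [CommRing B] [Algebra R B]
    [Algebra.EssFiniteType R B] (M : Type u) [AddCommGroup M] [Module B M] [Module R M]
    [IsScalarTower R B M] [Module.Finite B M] [Module.Flat R M] :
    Module.FinitePresentation B M := by
  classical
  let S₀ := Algebra.EssFiniteType.subalgebra R B
  let W₀ := Algebra.EssFiniteType.submonoid R B
  have hsmul : ∀ (s : S₀) (x : M), s • x = (algebraMap S₀ B s) • x := fun _ _ => rfl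
  obtain ⟨r, m, hm⟩ := Module.Finite.exists_fin (R := B) (M := M)
  let M₀ : Submodule S₀ M := Submodule.span S₀ (Set.range m)
  haveI : Module.Finite S₀ M₀ := Module.Finite.span_of_finite S₀ (Set.finite_range m)
  haveI : Module.Flat R M₀ := flat_submodule (M₀.restrictScalars R)
  haveI : Module.FinitePresentation S₀ M₀ := finitePresentation_of_finiteType (R := R) S₀ M₀
  haveI : IsLocalizedModule W₀ M₀.subtype := by
    refine ⟨fun w => ?_, fun y => ?_, fun {x₁ x₂} h => ⟨1, by rw [Subtype.ext h]⟩⟩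
    · have hw : IsUnit (algebraMap S₀ B w.1) := w.2
      rw [Module.End.isUnit_iff]
      constructor
      · intro x y hxy
        simp only [Module.algebraMap_end_apply] at hxy
        rw [hsmul, hsmul] at hxy
        have := congrArg (fun z => (hw.unit⁻¹ : Bˣ) • z) hxy
        simpa [Units.smul_def, ← mul_smul] using this
      · intro y
        refine ⟨(hw.unit⁻¹ : Bˣ) • y, ?_⟩
        simp only [Module.algebraMap_end_apply]
        rw [hsmul, Units.smul_def, ← mul_smul]
        simp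
    · have hy : y ∈ Submodule.span B (Set.range m) := by rw [hm]; trivial
      obtain ⟨b, rfl⟩ := (Submodule.mem_span_range_iff_exists_fun B).mp hy
      obtain ⟨w, hw⟩ := IsLocalization.exist_integer_multiples W₀ Finset.univ b
      choose s hs using fun j => hw j (Finset.mem_univ j)
      refine ⟨⟨⟨∑ j, s j • m j, ?_⟩, w⟩, ?_⟩
      · exact Submodule.sum_mem _ fun j _ => Submodule.smul_mem _ _
          (Submodule.subset_span ⟨j, rfl⟩)
      · change (w : S₀) • (∑ j, b j • m j) = ∑ j, s j • m j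
        rw [Finset.smul_sum]
        refine Finset.sum_congr rfl fun j _ => ?_
        rw [hsmul, hsmul, hs j, ← mul_smul, Algebra.smul_def]
  exact FinitePresentation.of_isBaseChange M₀.subtype
    (IsLocalizedModule.isBaseChange W₀ B M₀.subtype)

end Wrappers

end Groth.Agent.Lib.Helper12.NagataFP
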