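/-
Helper library (helper12): constructible sets in Noetherian spaces (EGA 0_III 9.2).
-/
import Mathlib.Topology.Constructible
import Mathlib.Topology.NoetherianSpace
import Mathlib.Topology.Sober
import Mathlib.Topology.Irreducible
import Mathlib.Topology.Semicontinuity.Defs

set_option autoImplicit false

namespace Groth.Agent.Lib.Helper12.ConstrTop

open Topology TopologicalSpace Set

universe u v
variable {X : Type u} [TopologicalSpace X]

/-- In an irreducible space, a constructible set or its complement contains a nonempty open. -/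
theorem exists_open_subset_or_compl [IrreducibleSpace X] {E : Set X}
    (hE : IsConstructible E) :
    (∃ U : Set X, IsOpen U ∧ U.Nonempty ∧ U ⊆ E) ∨
      (∃ U : Set X, IsOpen U ∧ U.Nonempty ∧ U ⊆ Eᶜ) := by
  induction hE using IsConstructible.empty_union_induction with
  | open_retrocompact U hUo hUc =>
    rcases U.eq_empty_or_nonempty with rfl | hne
    · right; exact ⟨univ, isOpen_univ, univ_nonempty, by simp⟩
    · left; exact ⟨U, hUo, hne, subset_rfl⟩
  | union s hs t ht hs' ht' =>
    rcases hs' with ⟨U, hU, hne, hsub⟩ | ⟨U, hU, hne, hsub⟩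
    · left; exact ⟨U, hU, hne, hsub.trans subset_union_left⟩
    · rcases ht' with ⟨V, hV, hne', hsub'⟩ | ⟨V, hV, hne', hsub'⟩
      · left; exact ⟨V, hV, hne', hsub'.trans subset_union_right⟩
      · right
        refine ⟨U ∩ V, hU.inter hV, nonempty_preirreducible_inter hU hV hne hne', ?_⟩
        rw [compl_union]; exact inter_subset_inter hsub hsub'
  | compl s hs hs' =>
    rcases hs' with h | h
    · right; simpa using h
    · left; exact h

/-- Restriction of a constructible set to a subspace of a Noetherian space is constructible. -/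
theorem isConstructible_preimage_val [NoetherianSpace X] {E : Set X}
    (hE : IsConstructible E) (Y : Set X) :
    IsConstructible (Subtype.val ⁻¹' E : Set Y) :=
  hE.preimage continuous_subtype_val fun _ _ _ => fun _ _ _ => NoetherianSpace.isCompact _

/-- Every subset of a Noetherian space which is locally closed is constructible; in fact we only
need: opens and closeds are constructible. -/
theorem isConstructible_of_isOpen [NoetherianSpace X] {U : Set X} (hU : IsOpen U) :
    IsConstructible U :=
  IsRetrocompact.isConstructible hU fun _ _ _ => NoetherianSpace.isCompact _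

theorem isConstructible_of_isClosed [NoetherianSpace X] {Z : Set X} (hZ : IsClosed Z) :
    IsConstructible Z := by
  have := (isConstructible_of_isOpen hZ.isOpen_compl).compl
  simpa using this

/-- Key dichotomy: for an irreducible subset `Y` of a Noetherian space and a constructible `E`,
either `E` or its complement contains a nonempty relatively open subset of `Y`. -/
theorem dichotomy [NoetherianSpace X] {E : Set X} (hE : IsConstructible E) {Y : Set X}
    (hY : IsIrreducible Y) :
    (∃ U : Set X, IsOpen U ∧ (U ∩ Y).Nonempty ∧ U ∩ Y ⊆ E) ∨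
      (∃ U : Set X, IsOpen U ∧ (U ∩ Y).Nonempty ∧ U ∩ Y ⊆ Eᶜ) := by
  have : IrreducibleSpace Y := (isIrreducible_iff_irreducibleSpace (s := Y)).1 hY
  rcases exists_open_subset_or_compl (isConstructible_preimage_val hE Y) with
    ⟨V, hV, hne, hsub⟩ | ⟨V, hV, hne, hsub⟩
  · obtain ⟨U, hU, rfl⟩ := isOpen_induced_iff.1 hV
    left
    refine ⟨U, hU, ?_, ?_⟩
    · obtain ⟨y, hy⟩ := hne
      exact ⟨y.1, hy, y.2⟩
    · rintro x ⟨hxU, hxY⟩
      exact hsub (show (⟨x, hxY⟩ : Y) ∈ Subtype.val ⁻¹' U from hxU)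
  · obtain ⟨U, hU, rfl⟩ := isOpen_induced_iff.1 hV
    right
    refine ⟨U, hU, ?_, ?_⟩
    · obtain ⟨y, hy⟩ := hne
      exact ⟨y.1, hy, y.2⟩
    · rintro x ⟨hxU, hxY⟩
      exact hsub (show (⟨x, hxY⟩ : Y) ∈ Subtype.val ⁻¹' U from hxU)

/-- Noetherian induction on closed subsets, in the form adapted to irreducible decomposition. -/
theorem closed_induction [NoetherianSpace X] (P : Set X → Prop)
    (hirr : ∀ Z, IsClosed Z → IsIrreducible Z → (∀ Z', IsClosed Z' → Z' ⊂ Z → P Z') → P Z)
    (hunion : ∀ S : Set (Set X), S.Finite → (∀ s ∈ S, IsClosed s) → (∀ s ∈ S, P s) → P (⋃₀ S))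
    {Z : Set X} (hZ : IsClosed Z) : P Z := by
  lift Z to Closeds X using hZ
  induction Z using WellFoundedLT.induction with
  | ind Z IH =>
  by_cases hirrZ : IsIrreducible (Z : Set X)
  · exact hirr Z Z.isClosed hirrZ fun Z' hZ' hlt =>
      IH ⟨Z', hZ'⟩ (by rw [← SetLike.coe_ssubset_coe]; exact hlt)
  · obtain ⟨S, hSf, hSc, hSi, hSU⟩ :=
      NoetherianSpace.exists_finite_set_isClosed_irreducible Z.isClosed
    rw [hSU]
    refine hunion S hSf hSc fun s hs => ?_
    have hsub : s ⊆ Z := by rw [hSU]; exact subset_sUnion_of_mem hs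
    have hne : s ≠ Z := fun h => hirrZ (h ▸ hSi s hs)
    exact IH ⟨s, hSc s hs⟩ (by
      rw [← SetLike.coe_ssubset_coe]; exact LE.le.ssubset_of_ne hsub hne)

/-- EGA 0_III 9.2.3 (no Noetherian hypothesis needed). -/
theorem dense_iff_contains_open [IrreducibleSpace X] {E : Set X} (hE : IsConstructible E) :
    Dense E ↔ ∃ U : Set X, IsOpen U ∧ U.Nonempty ∧ U ⊆ E := by
  constructor
  · intro hd
    rcases exists_open_subset_or_compl hE with h | ⟨U, hU, hne, hsub⟩
    · exact h
    · exfalso
      obtain ⟨x, hxU, hxE⟩ := hd.inter_open_nonempty U hU hne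
      exact hsub hxU hxE
  · rintro ⟨U, hU, hne, hsub⟩
    exact (hU.dense hne).mono hsub

/-- Density of the trace in a subspace, unfolded. -/
theorem dense_preimage_val_iff {E Y : Set X} :
    Dense (Subtype.val ⁻¹' E : Set Y) ↔ Y ⊆ closure (E ∩ Y) := by
  rw [Subtype.dense_iff, inter_comm, Subtype.image_preimage_coe, inter_comm]

/-- If the trace of a constructible set `E` on an irreducible `Y` is dense in `Y`, then it
contains a nonempty relatively open subset of `Y`. -/
theorem exists_open_of_dense_trace [NoetherianSpace X] {E : Set X} (hE : IsConstructible E)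
    {Y : Set X} (hY : IsIrreducible Y) (hd : Y ⊆ closure (E ∩ Y)) :
    ∃ U : Set X, IsOpen U ∧ (U ∩ Y).Nonempty ∧ U ∩ Y ⊆ E := by
  rcases dichotomy hE hY with h | ⟨U, hU, ⟨y, hyU, hyY⟩, hsub⟩
  · exact h
  · exfalso
    have hy : y ∈ closure (E ∩ Y) := hd hyY
    obtain ⟨z, hzU, hzE, hzY⟩ := mem_closure_iff.1 hy U hU hyU
    exact hsub ⟨hzU, hzY⟩ hzE

/-- EGA 0_III 9.2.4. -/
theorem eq_of_directed_constructible_cover [NoetherianSpace X] {ι : Type v} [Preorder ι]
    [IsDirected ι (· ≤ ·)] [Nonempty ι]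
    (E : ι → Set X) (hmono : Monotone E) (hE : ∀ a, IsConstructible (E a))
    (hirr : ∀ Y : Set X, IsClosed Y → IsIrreducible Y → ∃ a, Y ⊆ closure (E a ∩ Y)) :
    ∃ a, E a = Set.univ := by
  have key : ∀ Z : Set X, IsClosed Z → ∃ a, Z ⊆ E a := by
    intro Z hZ
    refine closed_induction (fun Z => ∃ a, Z ⊆ E a) ?_ ?_ hZ
    · intro Z hZc hZi IH
      obtain ⟨a, ha⟩ := hirr Z hZc hZi
      obtain ⟨U, hU, hne, hsub⟩ := exists_open_of_dense_trace (hE a) hZi ha
      have hZ' : IsClosed (Z \ U) := hZc.sdiff hU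
      have hlt : Z \ U ⊂ Z := by
        refine ⟨sdiff_subset, fun h => ?_⟩
        obtain ⟨y, hyU, hyZ⟩ := hne
        exact (h hyZ).2 hyU
      obtain ⟨b, hb⟩ := IH _ hZ' hlt
      obtain ⟨c, hac, hbc⟩ := exists_ge_ge a b
      refine ⟨c, fun z hz => ?_⟩
      by_cases hzU : z ∈ U
      · exact hmono hac (hsub ⟨hzU, hz⟩)
      · exact hmono hbc (hb ⟨hz, hzU⟩)
    · intro S hSf _ hS
      choose! f hf using hS
      obtain ⟨c, hc⟩ := (hSf.image f).exists_le
      refine ⟨c, sUnion_subset fun s hs => (hf s hs).trans (hmono (hc _ (mem_image_of_mem f hs)))⟩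
  obtain ⟨a, ha⟩ := key univ isClosed_univ
  exact ⟨a, eq_univ_of_univ_subset ha⟩

/-- EGA 0_III 9.2.6. -/
theorem isOpen_iff_forall_irreducible_closed [NoetherianSpace X] (E : Set X) :
    IsOpen E ↔
      ∀ Y : Set X, IsClosed Y → IsIrreducible Y → (E ∩ Y).Nonempty →
        ∃ U : Set X, IsOpen U ∧ (U ∩ Y).Nonempty ∧ U ∩ Y ⊆ E := by
  constructor
  · intro hE Y _ _ hne
    exact ⟨E, hE, hne, inter_subset_left⟩
  · intro H
    have key : ∀ Z : Set X, IsClosed Z → IsClosed (Z \ E) := by
      intro Z hZ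
      refine closed_induction (fun Z => IsClosed (Z \ E)) ?_ ?_ hZ
      · intro Z hZc hZi IH
        rcases (E ∩ Z).eq_empty_or_nonempty with hemp | hne
        · have : Z \ E = Z := by
            ext z
            constructor
            · exact fun h => h.1
            · intro hz
              refine ⟨hz, fun hzE => ?_⟩
              have : z ∈ E ∩ Z := ⟨hzE, hz⟩
              rw [hemp] at this
              exact this
          rw [this]; exact hZc
        · obtain ⟨U, hU, hne', hsub⟩ := H Z hZc hZi hne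
          have hZ' : IsClosed (Z \ U) := hZc.sdiff hU
          have hlt : Z \ U ⊂ Z := by
            refine ⟨sdiff_subset, fun h => ?_⟩
            obtain ⟨y, hyU, hyZ⟩ := hne'
            exact (h hyZ).2 hyU
          have := IH _ hZ' hlt
          have heq : Z \ E = (Z \ U) \ E := by
            ext z
            constructor
            · rintro ⟨hz, hzE⟩
              exact ⟨⟨hz, fun hzU => hzE (hsub ⟨hzU, hz⟩)⟩, hzE⟩
            · rintro ⟨⟨hz, _⟩, hzE⟩
              exact ⟨hz, hzE⟩
          rw [heq]; exact this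
      · intro S hSf _ hS
        have : (⋃₀ S) \ E = ⋃ s ∈ S, s \ E := by
          ext z
          simp only [mem_sdiff, mem_sUnion, mem_iUnion, exists_prop]
          constructor
          · rintro ⟨⟨s, hs, hz⟩, hzE⟩
            exact ⟨s, hs, hz, hzE⟩
          · rintro ⟨s, hs, hz, hzE⟩
            exact ⟨⟨s, hs, hz⟩, hzE⟩
        rw [this]
        exact hSf.isClosed_biUnion hS
    have := key univ isClosed_univ
    rw [← compl_eq_univ_sdiff] at this
    exact isClosed_compl_iff.1 this

/-- EGA 0_III 9.2.5. -/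
theorem mem_nhds_iff_dense_on_irreducible_closed [NoetherianSpace X] (x : X) {E : Set X}
    (hE : IsConstructible E) :
    E ∈ nhds x ↔
      ∀ Y : Set X, IsClosed Y → IsIrreducible Y → x ∈ Y → Y ⊆ closure (E ∩ Y) := by
  constructor
  · intro hEx Y _ hYi hxY
    obtain ⟨U, hUE, hU, hxU⟩ := mem_nhds_iff.1 hEx
    intro y hyY
    rw [mem_closure_iff]
    intro V hV hyV
    obtain ⟨z, hzY, hzU, hzV⟩ := hYi.2 U V hU hV ⟨x, hxY, hxU⟩ ⟨y, hyY, hyV⟩
    exact ⟨z, hzV, hUE hzU, hzY⟩
  · intro H
    have key : ∀ Z : Set X, IsClosed Z → ∃ U : Set X, IsOpen U ∧ x ∈ U ∧ U ∩ Z ⊆ E := by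
      intro Z hZ
      refine closed_induction (fun Z => ∃ U : Set X, IsOpen U ∧ x ∈ U ∧ U ∩ Z ⊆ E) ?_ ?_ hZ
      · intro Z hZc hZi IH
        by_cases hxZ : x ∈ Z
        · obtain ⟨U, hU, hne, hsub⟩ := exists_open_of_dense_trace hE hZi (H Z hZc hZi hxZ)
          have hZ' : IsClosed (Z \ U) := hZc.sdiff hU
          have hlt : Z \ U ⊂ Z := by
            refine ⟨sdiff_subset, fun h => ?_⟩
            obtain ⟨y, hyU, hyZ⟩ := hne
            exact (h hyZ).2 hyU
          obtain ⟨V, hV, hxV, hVsub⟩ := IH _ hZ' hlt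
          refine ⟨V, hV, hxV, ?_⟩
          rintro z ⟨hzV, hzZ⟩
          by_cases hzU : z ∈ U
          · exact hsub ⟨hzU, hzZ⟩
          · exact hVsub ⟨hzV, hzZ, hzU⟩
        · exact ⟨Zᶜ, hZc.isOpen_compl, hxZ, by rintro z ⟨h1, h2⟩; exact absurd h2 h1⟩
      · intro S hSf _ hS
        choose! f hf using hS
        refine ⟨⋂ s ∈ S, f s, hSf.isOpen_biInter fun s hs => (hf s hs).1, ?_, ?_⟩
        · simp only [mem_iInter]
          exact fun s hs => (hf s hs).2.1
        · rintro z ⟨hz1, s, hs, hzs⟩
          simp only [mem_iInter] at hz1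
          exact (hf s hs).2.2 ⟨hz1 s hs, hzs⟩
    obtain ⟨U, hU, hxU, hsub⟩ := key univ isClosed_univ
    rw [inter_univ] at hsub
    exact mem_nhds_iff.2 ⟨U, hsub, hU, hxU⟩

/-- EGA 0_III 9.2.2. -/
theorem isConstructible_iff_forall_irreducible_closed [NoetherianSpace X] (E : Set X) :
    IsConstructible E ↔
      ∀ Y : Set X, IsClosed Y → IsIrreducible Y →
        IsNowhereDense (Subtype.val ⁻¹' E : Set Y) ∨
          ∃ U : Set X, IsOpen U ∧ (U ∩ Y).Nonempty ∧ U ∩ Y ⊆ E := by
  constructor
  · intro hE Y _ hYi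
    rcases dichotomy hE hYi with h | ⟨U, hU, ⟨y, hyU, hyY⟩, hsub⟩
    · exact Or.inr h
    · left
      have : IrreducibleSpace Y := (isIrreducible_iff_irreducibleSpace (s := Y)).1 hYi
      have hVo : IsOpen (Subtype.val ⁻¹' U : Set Y) := hU.preimage continuous_subtype_val
      have hVd : Dense (Subtype.val ⁻¹' U : Set Y) := hVo.dense ⟨⟨y, hyY⟩, hyU⟩
      have hsub' : (Subtype.val ⁻¹' E : Set Y) ⊆ (Subtype.val ⁻¹' U : Set Y)ᶜ := by
        intro z hzE hzU
        exact hsub ⟨hzU, z.2⟩ hzE
      have hcl : closure (Subtype.val ⁻¹' E : Set Y) ⊆ (Subtype.val ⁻¹' U : Set Y)ᶜ :=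
        closure_minimal hsub' hVo.isClosed_compl
      rw [IsNowhereDense, ← subset_empty_iff]
      calc interior (closure (Subtype.val ⁻¹' E : Set Y))
          ⊆ interior ((Subtype.val ⁻¹' U : Set Y)ᶜ) := interior_mono hcl
        _ = ∅ := by rw [interior_compl, hVd.closure_eq, compl_univ]
  · intro H
    have key : ∀ Z : Set X, IsClosed Z → IsConstructible (E ∩ Z) := by
      intro Z hZ
      refine closed_induction (fun Z => IsConstructible (E ∩ Z)) ?_ ?_ hZ
      · intro Z hZc hZi IH
        rcases H Z hZc hZi with hnd | ⟨U, hU, hne, hsub⟩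
        · -- the closure of `E ∩ Z` is a proper closed subset of `Z`
          have hZ' : IsClosed (closure (E ∩ Z)) := isClosed_closure
          have hle : closure (E ∩ Z) ⊆ Z := closure_minimal inter_subset_right hZc
          have hlt : closure (E ∩ Z) ⊂ Z := by
            refine ⟨hle, fun h => ?_⟩
            have hd : Dense (Subtype.val ⁻¹' E : Set Z) := dense_preimage_val_iff.2 h
            have : interior (closure (Subtype.val ⁻¹' E : Set Z)) = ∅ := hnd
            rw [hd.closure_eq, interior_univ] at this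
            obtain ⟨z, hz⟩ := hZi.1
            exact (this ▸ mem_univ (⟨z, hz⟩ : Z) : (⟨z, hz⟩ : Z) ∈ (∅ : Set Z))
          have := IH _ hZ' hlt
          have heq : E ∩ Z = E ∩ closure (E ∩ Z) := by
            ext z
            constructor
            · rintro ⟨hzE, hzZ⟩
              exact ⟨hzE, subset_closure ⟨hzE, hzZ⟩⟩
            · rintro ⟨hzE, hz⟩
              exact ⟨hzE, hle hz⟩
          rw [heq]; exact this
        · have hZ' : IsClosed (Z \ U) := hZc.sdiff hU
          have hlt : Z \ U ⊂ Z := by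
            refine ⟨sdiff_subset, fun h => ?_⟩
            obtain ⟨y, hyU, hyZ⟩ := hne
            exact (h hyZ).2 hyU
          have h1 := IH _ hZ' hlt
          have h2 : IsConstructible (U ∩ Z) :=
            (isConstructible_of_isOpen hU).inter (isConstructible_of_isClosed hZc)
          have heq : E ∩ Z = (U ∩ Z) ∪ (E ∩ (Z \ U)) := by
            ext z
            constructor
            · rintro ⟨hzE, hzZ⟩
              by_cases hzU : z ∈ U
              · exact Or.inl ⟨hzU, hzZ⟩
              · exact Or.inr ⟨hzE, hzZ, hzU⟩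
            · rintro (⟨hzU, hzZ⟩ | ⟨hzE, hzZ, _⟩)
              · exact ⟨hsub ⟨hzU, hzZ⟩, hzZ⟩
              · exact ⟨hzE, hzZ⟩
          rw [heq]; exact h2.union h1
      · intro S hSf _ hS
        have : E ∩ ⋃₀ S = ⋃ s ∈ S, E ∩ s := by
          rw [sUnion_eq_biUnion, inter_iUnion₂]
        rw [this]
        exact IsConstructible.biUnion hSf hS
    have := key univ isClosed_univ
    rwa [inter_univ] at this

/-- In an irreducible set, finitely many relatively open nonempty subsets have a common point. -/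
theorem exists_mem_biInter_of_irreducible {Y : Set X} (hY : IsIrreducible Y) {κ : Type v}
    {S : Set κ} (hS : S.Finite) (U : κ → Set X) (hU : ∀ k ∈ S, IsOpen (U k))
    (hne : ∀ k ∈ S, (U k ∩ Y).Nonempty) : ∃ y ∈ Y, ∀ k ∈ S, y ∈ U k := by
  induction S, hS using Set.Finite.induction_on with
  | empty =>
    obtain ⟨y, hy⟩ := hY.1
    exact ⟨y, hy, by simp⟩
  | @insert a S _ hSf IH =>
    obtain ⟨y, hyY, hy⟩ := IH (fun k hk => hU k (mem_insert_of_mem _ hk))
      (fun k hk => hne k (mem_insert_of_mem _ hk))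
    have hVo : IsOpen (⋂ k ∈ S, U k) :=
      hSf.isOpen_biInter fun k hk => hU k (mem_insert_of_mem _ hk)
    obtain ⟨z, hzY, hzV, hzU⟩ := hY.2 (⋂ k ∈ S, U k) (U a) hVo (hU a (mem_insert _ _))
      ⟨y, hyY, by simpa using hy⟩ (by obtain ⟨w, hwU, hwY⟩ := hne a (mem_insert _ _); exact ⟨w, hwY, hwU⟩)
    refine ⟨z, hzY, ?_⟩
    intro k hk
    rcases hk with rfl | hk
    · exact hzU
    · simp only [mem_iInter] at hzV
      exact hzV k hk

/-- EGA 0_III 9.2.x: characterization of constructible functions. -/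
theorem constructible_function_iff [NoetherianSpace X] {T : Type v} (h : X → T) :
    ((∀ t, IsConstructible (h ⁻¹' {t})) ∧ (Set.range h).Finite) ↔
      ∀ Y : Set X, IsClosed Y → IsIrreducible Y →
        ∃ U : Set X, IsOpen U ∧ (U ∩ Y).Nonempty ∧ ∀ a ∈ U ∩ Y, ∀ b ∈ U ∩ Y, h a = h b := by
  constructor
  · rintro ⟨hfib, hfin⟩ Y _ hYi
    by_contra hcon
    push Not at hcon
    -- for every `t` in the range, the complement of the fibre contains a nonempty open of `Y`
    have H : ∀ t ∈ Set.range h, ∃ U : Set X, IsOpen U ∧ (U ∩ Y).Nonempty ∧ U ∩ Y ⊆ (h ⁻¹' {t})ᶜ := by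
      intro t _
      rcases dichotomy (hfib t) hYi with ⟨U, hU, hne, hsub⟩ | hr
      · exfalso
        obtain ⟨a, ha, b, hb, hab⟩ := hcon U hU hne
        exact hab ((hsub ha : h a = t).trans (hsub hb : h b = t).symm)
      · exact hr
    choose! U hU using H
    obtain ⟨y, hyY, hy⟩ := exists_mem_biInter_of_irreducible hYi hfin U
      (fun t ht => (hU t ht).1) (fun t ht => (hU t ht).2.1)
    exact (hU (h y) ⟨y, rfl⟩).2.2 ⟨hy (h y) ⟨y, rfl⟩, hyY⟩ rfl
  · intro H
    have key : ∀ Z : Set X, IsClosed Z →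
        ((∀ t, IsConstructible (h ⁻¹' {t} ∩ Z)) ∧ (h '' Z).Finite) := by
      intro Z hZ
      refine closed_induction
        (fun Z => (∀ t, IsConstructible (h ⁻¹' {t} ∩ Z)) ∧ (h '' Z).Finite) ?_ ?_ hZ
      · intro Z hZc hZi IH
        obtain ⟨U, hU, hne, hconst⟩ := H Z hZc hZi
        have hZ' : IsClosed (Z \ U) := hZc.sdiff hU
        have hlt : Z \ U ⊂ Z := by
          refine ⟨sdiff_subset, fun h => ?_⟩
          obtain ⟨y, hyU, hyZ⟩ := hne
          exact (h hyZ).2 hyU
        obtain ⟨h1, h2⟩ := IH _ hZ' hlt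
        obtain ⟨y0, hy0⟩ := hne
        have hUZ : IsConstructible (U ∩ Z) :=
          (isConstructible_of_isOpen hU).inter (isConstructible_of_isClosed hZc)
        constructor
        · intro t
          by_cases ht : h y0 = t
          · have heq : h ⁻¹' {t} ∩ Z = (U ∩ Z) ∪ (h ⁻¹' {t} ∩ (Z \ U)) := by
              ext z
              constructor
              · rintro ⟨hzt, hzZ⟩
                by_cases hzU : z ∈ U
                · exact Or.inl ⟨hzU, hzZ⟩
                · exact Or.inr ⟨hzt, hzZ, hzU⟩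
              · rintro (hz | ⟨hzt, hzZ, _⟩)
                · exact ⟨(hconst z hz y0 hy0).trans ht, hz.2⟩
                · exact ⟨hzt, hzZ⟩
            rw [heq]; exact hUZ.union (h1 t)
          · have heq : h ⁻¹' {t} ∩ Z = h ⁻¹' {t} ∩ (Z \ U) := by
              ext z
              constructor
              · rintro ⟨hzt, hzZ⟩
                refine ⟨hzt, hzZ, fun hzU => ht ?_⟩
                exact (hconst y0 hy0 z ⟨hzU, hzZ⟩).trans hzt
              · rintro ⟨hzt, hzZ, _⟩
                exact ⟨hzt, hzZ⟩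
            rw [heq]; exact h1 t
        · refine (h2.union (finite_singleton (h y0))).subset ?_
          rintro _ ⟨z, hzZ, rfl⟩
          by_cases hzU : z ∈ U
          · exact Or.inr (hconst z ⟨hzU, hzZ⟩ y0 hy0)
          · exact Or.inl ⟨z, ⟨hzZ, hzU⟩, rfl⟩
      · intro S hSf _ hS
        constructor
        · intro t
          have : h ⁻¹' {t} ∩ ⋃₀ S = ⋃ s ∈ S, h ⁻¹' {t} ∩ s := by
            rw [sUnion_eq_biUnion, inter_iUnion₂]
          rw [this]
          exact IsConstructible.biUnion hSf fun s hs => (hS s hs).1 t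
        · rw [sUnion_eq_biUnion, image_iUnion₂]
          exact hSf.biUnion fun s hs => (hS s hs).2
    obtain ⟨h1, h2⟩ := key univ isClosed_univ
    refine ⟨fun t => ?_, ?_⟩
    · have := h1 t
      rwa [inter_univ] at this
    · rwa [image_univ] at h2

/-- EGA 0_III 9.2.x: in a quasi-sober Noetherian space a function with constructible fibres takes
finitely many values. -/
theorem constructible_function_of_fibres_of_quasiSober [NoetherianSpace X] [QuasiSober X]
    {T : Type v} (h : X → T) (hfib : ∀ t, IsConstructible (h ⁻¹' {t})) : (Set.range h).Finite := by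
  have H : ∀ Y : Set X, IsClosed Y → IsIrreducible Y →
      ∃ U : Set X, IsOpen U ∧ (U ∩ Y).Nonempty ∧ ∀ a ∈ U ∩ Y, ∀ b ∈ U ∩ Y, h a = h b := by
    intro Y hYc hYi
    have hη := hYi.isGenericPoint_genericPoint hYc
    set η := hYi.genericPoint
    have hd : Y ⊆ closure (h ⁻¹' {h η} ∩ Y) := by
      have h1 : ({η} : Set X) ⊆ h ⁻¹' {h η} ∩ Y := singleton_subset_iff.2 ⟨rfl, hη.mem⟩
      calc Y = closure {η} := hη.def.symm
        _ ⊆ closure (h ⁻¹' {h η} ∩ Y) := closure_mono h1
    obtain ⟨U, hU, hne, hsub⟩ := exists_open_of_dense_trace (hfib (h η)) hYi hd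
    exact ⟨U, hU, hne, fun a ha b hb => (hsub ha : h a = h η).trans (hsub hb : h b = h η).symm⟩
  exact ((constructible_function_iff h).2 H).2

/-- EGA 0_III 9.3.x: semicontinuity of constructible functions via specialization. -/
theorem upperSemicontinuous_iff_antitone_specialization [NoetherianSpace X] [QuasiSober X]
    {T : Type v} [LinearOrder T] (h : X → T)
    (hc : (∀ t, IsConstructible (h ⁻¹' {t})) ∧ (Set.range h).Finite) :
    UpperSemicontinuous h ↔ ∀ x x' : X, x' ⤳ x → h x' ≤ h x := by
  constructor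
  · intro hu x x' hsp
    by_contra hlt
    push Not at hlt
    have := hu x (h x') hlt
    have hmem : x' ∈ {z | h z < h x'} := mem_of_mem_nhds (hsp this)
    exact lt_irrefl _ hmem
  · intro H x y hxy
    have hE : IsConstructible {z | h z < y} := by
      have : {z | h z < y} = ⋃ t ∈ (Set.range h ∩ {t | t < y}), h ⁻¹' {t} := by
        ext z
        simp only [mem_ofPred_eq, mem_iUnion, mem_preimage, mem_singleton_iff, mem_inter_iff,
          mem_range, exists_prop]
        constructor
        · intro hz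
          exact ⟨h z, ⟨⟨z, rfl⟩, hz⟩, rfl⟩
        · rintro ⟨t, ⟨_, ht⟩, rfl⟩
          exact ht
      rw [this]
      exact IsConstructible.biUnion (hc.2.subset inter_subset_left) fun t _ => hc.1 t
    show {z | h z < y} ∈ nhds x
    rw [mem_nhds_iff_dense_on_irreducible_closed x hE]
    intro Y hYc hYi hxY
    have hη := hYi.isGenericPoint_genericPoint hYc
    set η := hYi.genericPoint
    have hηE : η ∈ {z | h z < y} := lt_of_le_of_lt (H x η (hη.specializes hxY)) hxy
    have h1 : ({η} : Set X) ⊆ {z | h z < y} ∩ Y := singleton_subset_iff.2 ⟨hηE, hη.mem⟩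
    calc Y = closure {η} := hη.def.symm
      _ ⊆ closure ({z | h z < y} ∩ Y) := closure_mono h1

/-- In a quasi-sober space which is locally Noetherian (every point has an open neighbourhood which
is a Noetherian space), a closed subset stable under generalization is open. -/
theorem isOpen_of_isClosed_of_stableUnderGeneralization [QuasiSober X]
    (hloc : ∀ x : X, ∃ U : Set X, IsOpen U ∧ x ∈ U ∧ NoetherianSpace U)
    (W : Set X) (hW : IsClosed W) (hgen : StableUnderGeneralization W) : IsOpen W := by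
  rw [isOpen_iff_mem_nhds]
  intro y hy
  obtain ⟨U, hU, hyU, hUN⟩ := hloc y
  have hemb : IsOpenEmbedding (Subtype.val : U → X) := hU.isOpenEmbedding_subtypeVal
  have : QuasiSober U := hemb.quasiSober
  have hEc : IsClosed (Subtype.val ⁻¹' W : Set U) := hW.preimage continuous_subtype_val
  have hE : IsConstructible (Subtype.val ⁻¹' W : Set U) := isConstructible_of_isClosed hEc
  have key : (Subtype.val ⁻¹' W : Set U) ∈ nhds (⟨y, hyU⟩ : U) := by
    rw [mem_nhds_iff_dense_on_irreducible_closed _ hE]
    intro Z hZc hZi hyZ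
    have hη := hZi.isGenericPoint_genericPoint hZc
    set η := hZi.genericPoint
    have hsp : η ⤳ (⟨y, hyU⟩ : U) := hη.specializes hyZ
    have hsp' : (η : X) ⤳ y := hsp.map continuous_subtype_val
    have hηW : (η : X) ∈ W := hgen hsp' hy
    have h1 : ({η} : Set U) ⊆ (Subtype.val ⁻¹' W) ∩ Z := singleton_subset_iff.2 ⟨hηW, hη.mem⟩
    calc Z = closure {η} := hη.def.symm
      _ ⊆ closure ((Subtype.val ⁻¹' W) ∩ Z) := closure_mono h1
  have := hemb.isOpenMap.image_mem_nhds key
  refine Filter.mem_of_superset this ?_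
  rintro _ ⟨z, hz, rfl⟩
  exact hz

end Groth.Agent.Lib.Helper12.ConstrTop
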