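import Mathlib
import Groth.Agent.Lib.Helper71.LocalCritNoeth

/-!
# Flatness from flatness off a closed set plus depth of the closed fibre (helper12)

`A → B` local homomorphism of Noetherian local rings, `M` a finite `B`-module which is `A`-flat at
all primes not containing an ideal `J`, and `r ∈ J` a nonzerodivisor on `M / m_A M`.
Then `M` is `A`-flat.
-/

set_option autoImplicit false
universe u
open TensorProduct

namespace Groth.Agent.Lib.Helper12.FlatOffClosed

section loc
variable {A B : Type*} [CommRing A] [CommRing B] [Algebra A B] (W : Submonoid B)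
  {M M' : Type*} [AddCommGroup M] [Module A M] [Module B M] [IsScalarTower A B M]
  [AddCommGroup M'] [Module A M'] [Module B M'] [IsScalarTower A B M']
  {X Y : Type*} [AddCommGroup X] [Module A X] [AddCommGroup Y] [Module A Y]

theorem exists_smul_eq_zero (ℓ : M →ₗ[B] M') [IsLocalizedModule W ℓ] [Module.Flat A M']
    (u : X →ₗ[A] Y) (hu : Function.Injective u) (z : M ⊗[A] X)
    (hz : u.lTensor M z = 0) : ∃ w : W, (w : B) • z = 0 := by
  haveI h1 : IsLocalizedModule W (AlgebraTensorModule.rTensor A X ℓ) := inferInstance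
  have hnat : ∀ t : M ⊗[A] X, u.lTensor M' (AlgebraTensorModule.rTensor A X ℓ t) =
      AlgebraTensorModule.rTensor A Y ℓ (u.lTensor M t) := by
    intro t
    induction t using TensorProduct.induction_on with
    | zero => simp
    | tmul x y => simp
    | add a b ha hb => simp only [map_add, ha, hb]
  have h2 : AlgebraTensorModule.rTensor A X ℓ z = 0 := by
    apply Module.Flat.lTensor_preserves_injective_linearMap (M := M') u hu
    rw [hnat, hz, map_zero, map_zero]
  obtain ⟨w, hw⟩ := (IsLocalizedModule.eq_zero_iff W (AlgebraTensorModule.rTensor A X ℓ)).1 h2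
  exact ⟨w, hw⟩

end loc

section pow
variable {A B : Type*} [CommRing A] [CommRing B] [Algebra A B]
  {M : Type*} [AddCommGroup M] [Module A M] [Module B M] [IsScalarTower A B M]
  {X Y : Type*} [AddCommGroup X] [Module A X] [AddCommGroup Y] [Module A Y]

theorem exists_pow_smul_eq_zero (J : Ideal B)
    (hU : ∀ q : PrimeSpectrum B, ¬ J ≤ q.asIdeal →
      Module.Flat A (LocalizedModule q.asIdeal.primeCompl M))
    (r : B) (hr : r ∈ J) (u : X →ₗ[A] Y) (hu : Function.Injective u) (z : M ⊗[A] X)
    (hz : u.lTensor M z = 0) : ∃ e : ℕ, r ^ e • z = 0 := by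
  let 𝔞 : Ideal B := LinearMap.ker (LinearMap.toSpanSingleton B (M ⊗[A] X) z)
  have hmem : ∀ b, b ∈ 𝔞 ↔ b • z = 0 := fun b => by
    simp [𝔞, LinearMap.mem_ker, LinearMap.toSpanSingleton_apply]
  have hrad : r ∈ 𝔞.radical := by
    rw [Ideal.radical_eq_sInf, Ideal.mem_sInf]
    rintro q ⟨hq, hqp⟩
    by_contra hrq
    have hJq : ¬ J ≤ q := fun h => hrq (h hr)
    haveI := hU ⟨q, hqp⟩ hJq
    obtain ⟨w, hw⟩ := exists_smul_eq_zero q.primeCompl
      (LocalizedModule.mkLinearMap q.primeCompl M) u hu z hz
    exact w.2 (hq ((hmem _).2 hw))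
  obtain ⟨e, he⟩ := hrad
  exact ⟨e, (hmem _).1 he⟩

end pow

section reg
variable {A : Type*} [CommRing A] (m : Ideal A) [hm : m.IsMaximal]
  {M : Type*} [AddCommGroup M] [Module A M]
  {X : Type*} [AddCommGroup X] [Module A X]

/-- If `φ ⊗ (A/m)` is injective then `φ ⊗ X` is injective for every `X` killed by `m`. -/
theorem rTensor_injective_of_torsion (φ : M →ₗ[A] M)
    (hφ : Function.Injective (φ.rTensor (A ⧸ m)))
    (hX : Module.IsTorsionBySet A X (m : Set A)) : Function.Injective (φ.rTensor X) := by
  rw [← LinearMap.lTensor_inj_iff_rTensor_inj] at hφ ⊢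
  letI : Field (A ⧸ m) := Ideal.Quotient.field m
  letI := hX.module
  let e := TensorProduct.AlgebraTensorModule.cancelBaseChange A (A ⧸ m) (A ⧸ m) X M
  let ψ : (A ⧸ m) ⊗[A] M →ₗ[A ⧸ m] (A ⧸ m) ⊗[A] M :=
    TensorProduct.AlgebraTensorModule.lTensor (A ⧸ m) (A ⧸ m) φ
  have hψ : Function.Injective ψ := hφ
  have hinj : Function.Injective (ψ.lTensor X) :=
    Module.Flat.lTensor_preserves_injective_linearMap (M := X) ψ hψ
  have comm : ∀ t, e (ψ.lTensor X t) = φ.lTensor X (e t) := by
    intro t
    induction t using TensorProduct.induction_on with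
    | zero => simp
    | tmul x y =>
      induction y using TensorProduct.induction_on with
      | zero => simp
      | tmul c y => simp [e, ψ]
      | add a b ha hb => simp only [TensorProduct.tmul_add, map_add, ha, hb]
    | add a b ha hb => simp only [map_add, ha, hb]
  intro a b hab
  obtain ⟨a', rfl⟩ := e.surjective a
  obtain ⟨b', rfl⟩ := e.surjective b
  rw [← comm, ← comm] at hab
  rw [hinj (e.injective hab)]

end reg

section reg2
variable {A B : Type*} [CommRing A] [CommRing B] [Algebra A B] (m : Ideal A)
  {M : Type*} [AddCommGroup M] [Module A M] [Module B M] [IsScalarTower A B M]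

theorem smul_top_eq (x : M) :
    x ∈ (m • (⊤ : Submodule A M)) ↔ x ∈ (m.map (algebraMap A B) • (⊤ : Submodule B M)) := by
  constructor
  · intro hx
    refine Submodule.smul_induction_on hx ?_ ?_
    · intro a ha y _
      rw [← algebraMap_smul B a y]
      exact Submodule.smul_mem_smul (Ideal.mem_map_of_mem _ ha) Submodule.mem_top
    · intro y y' hy hy'
      exact Submodule.add_mem _ hy hy'
  · intro hx
    refine Submodule.smul_induction_on hx ?_ ?_
    · intro b hb y _
      have : ∀ b ∈ m.map (algebraMap A B), ∀ y : M, b • y ∈ (m • (⊤ : Submodule A M)) := by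
        intro b hb
        refine Submodule.span_induction ?_ ?_ ?_ ?_ hb
        · rintro _ ⟨a, ha, rfl⟩ y
          rw [algebraMap_smul]
          exact Submodule.smul_mem_smul ha Submodule.mem_top
        · intro y
          rw [zero_smul]
          exact Submodule.zero_mem _
        · intro b b' _ _ hb hb' y
          rw [add_smul]
          exact Submodule.add_mem _ (hb y) (hb' y)
        · intro c b _ hb y
          rw [smul_eq_mul, mul_comm, mul_smul]
          exact hb _
      exact this b hb y
    · intro y y' hy hy'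
      exact Submodule.add_mem _ hy hy'

theorem rTensor_quot_injective_of_isSMulRegular (r : B)
    (hreg : IsSMulRegular (M ⧸ (m.map (algebraMap A B) • (⊤ : Submodule B M))) r) :
    Function.Injective (((LinearMap.lsmul B M r).restrictScalars A).rTensor (A ⧸ m)) := by
  let e := TensorProduct.tensorQuotEquivQuotSMul M m
  rw [injective_iff_map_eq_zero]
  intro t ht
  obtain ⟨x, hx⟩ := Submodule.Quotient.mk_surjective _ (e t)
  have ht' : t = x ⊗ₜ 1 := by
    rw [← TensorProduct.tensorQuotEquivQuotSMul_symm_mk, hx]
    exact (e.symm_apply_apply t).symm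
  rw [ht', LinearMap.rTensor_tmul] at ht
  have h1 : Submodule.Quotient.mk (p := m • (⊤ : Submodule A M)) (r • x) = 0 := by
    have := congrArg e ht
    rw [map_zero] at this
    rw [← this]
    change _ = e ((r • x) ⊗ₜ[A] (Ideal.Quotient.mk m 1))
    rw [TensorProduct.tensorQuotEquivQuotSMul_tmul_mk, one_smul]
  rw [Submodule.Quotient.mk_eq_zero, smul_top_eq (B := B)] at h1
  have h2 : r • (Submodule.Quotient.mk x :
      M ⧸ (m.map (algebraMap A B) • (⊤ : Submodule B M))) = 0 := by
    rw [← Submodule.Quotient.mk_smul, Submodule.Quotient.mk_eq_zero]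
    exact h1
  have h3 := hreg (show r • _ = r • (0 : M ⧸ (m.map (algebraMap A B) • (⊤ : Submodule B M)))
    by rw [h2, smul_zero])
  rw [Submodule.Quotient.mk_eq_zero, ← smul_top_eq (B := B)] at h3
  rw [ht']
  have : Submodule.Quotient.mk (p := m • (⊤ : Submodule A M)) x = 0 := by
    rw [Submodule.Quotient.mk_eq_zero]
    exact h3
  rw [← TensorProduct.tensorQuotEquivQuotSMul_symm_mk, this, map_zero]

end reg2

section main
variable {A B : Type u} [CommRing A] [CommRing B] [Algebra A B] (m : Ideal A) [hm : m.IsMaximal]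
  {M : Type u} [AddCommGroup M] [Module A M] [Module B M] [IsScalarTower A B M]
  (J : Ideal B)
  (hU : ∀ q : PrimeSpectrum B, ¬ J ≤ q.asIdeal →
    Module.Flat A (LocalizedModule q.asIdeal.primeCompl M))
  (r : B) (hr : r ∈ J)
  (hreg : IsSMulRegular (M ⧸ (m.map (algebraMap A B) • (⊤ : Submodule B M))) r)

include hm hU hr hreg in
/-- base case: `N'` killed by `m`. -/
theorem rTensor_injective_base {N' N : Type u} [AddCommGroup N'] [AddCommGroup N] [Module A N']
    [Module A N] (t1 : Module.IsTorsionBySet A N' (m : Set A)) (f : N' →ₗ[A] N)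
    (hf : Function.Injective f) : Function.Injective (f.rTensor M) := by
  rw [← LinearMap.lTensor_inj_iff_rTensor_inj, injective_iff_map_eq_zero]
  intro z hz
  obtain ⟨e, he⟩ := exists_pow_smul_eq_zero J hU r hr f hf z hz
  have hρ : Function.Injective (((LinearMap.lsmul B M r).restrictScalars A).rTensor N') :=
    rTensor_injective_of_torsion m _ (rTensor_quot_injective_of_isSMulRegular m r hreg) t1
  have hρ' : ∀ t : M ⊗[A] N', ((LinearMap.lsmul B M r).restrictScalars A).rTensor N' t = r • t := by
    intro t
    induction t using TensorProduct.induction_on with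
    | zero => simp
    | tmul x y => simp [TensorProduct.smul_tmul']
    | add a b ha hb => simp only [map_add, ha, hb, smul_add]
  have hinj : ∀ t : M ⊗[A] N', r • t = 0 → t = 0 := by
    intro t ht
    apply hρ
    rw [hρ', ht, map_zero]
  induction e with
  | zero => simpa using he
  | succ e ih =>
    apply ih
    apply hinj
    rw [← mul_smul, ← pow_succ']
    exact he

include hm hU hr hreg in
theorem rTensor_injective_pow : ∀ (n : ℕ) (N' N : Type u) [AddCommGroup N'] [AddCommGroup N]
    [Module A N'] [Module A N]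
    (_ : Module.IsTorsionBySet A N' ((m ^ (n + 1) : Ideal A) : Set A)) (f : N' →ₗ[A] N),
    Function.Injective f → Function.Injective (f.rTensor M) := by
  intro n
  induction n with
  | zero =>
    intro N' N _ _ _ _ t1 f hf
    refine rTensor_injective_base m J hU r hr hreg ?_ f hf
    simpa using t1
  | succ n ih =>
    intro N' N _ _ _ _ t1 f hf
    let N0 : Submodule A N' := (m ^ (n + 1)) • ⊤
    have tN0 : Module.IsTorsionBySet A N0 (m : Set A) := by
      intro x a
      apply Subtype.ext
      change (a : A) • (x : N') = 0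
      have hx : (x : N') ∈ (m ^ (n + 1)) • (⊤ : Submodule A N') := x.2
      refine Submodule.smul_induction_on hx ?_ ?_
      · intro c hc y _
        rw [← mul_smul]
        have : (a : A) * c ∈ m ^ (n + 1 + 1) := by
          rw [pow_succ' m (n + 1)]
          exact Ideal.mul_mem_mul a.2 hc
        exact t1 (x := y) (a := ⟨_, this⟩)
      · intro y y' hy hy'
        rw [smul_add, hy, hy', add_zero]
    have tQ : Module.IsTorsionBySet A (N' ⧸ N0) ((m ^ (n + 1) : Ideal A) : Set A) := by
      intro x c
      obtain ⟨y, rfl⟩ := Submodule.Quotient.mk_surjective _ x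
      rw [← Submodule.Quotient.mk_smul, Submodule.Quotient.mk_eq_zero]
      exact Submodule.smul_mem_smul c.2 Submodule.mem_top
    let fbar : N' ⧸ N0 →ₗ[A] N ⧸ N0.map f := Submodule.mapQ N0 (N0.map f) f (Submodule.le_comap_map f N0)
    have hfbar : Function.Injective fbar := by
      rw [injective_iff_map_eq_zero]
      intro x hx
      obtain ⟨y, rfl⟩ := Submodule.Quotient.mk_surjective _ x
      rw [Submodule.mapQ_apply, Submodule.Quotient.mk_eq_zero] at hx
      obtain ⟨y0, hy0, hy0'⟩ := hx
      rw [Submodule.Quotient.mk_eq_zero, ← hf hy0']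
      exact hy0
    have h1 := ih (N' ⧸ N0) (N ⧸ N0.map f) tQ fbar hfbar
    have h2 := rTensor_injective_base m J hU r hr hreg tN0 (f ∘ₗ N0.subtype)
      (hf.comp Subtype.val_injective)
    rw [injective_iff_map_eq_zero]
    intro z hz
    have hz1 : (N0.mkQ).rTensor M z = 0 := by
      apply h1
      have : fbar ∘ₗ N0.mkQ = (N0.map f).mkQ ∘ₗ f := by
        ext y
        rfl
      rw [map_zero, ← LinearMap.comp_apply, ← LinearMap.rTensor_comp, this, LinearMap.rTensor_comp,
        LinearMap.comp_apply, hz, map_zero]
    have hex : Function.Exact (N0.subtype.rTensor M) (N0.mkQ.rTensor M) :=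
      rTensor_exact M (LinearMap.exact_subtype_mkQ N0) (Submodule.mkQ_surjective N0)
    obtain ⟨z0, rfl⟩ := (hex z).1 hz1
    have : z0 = 0 := by
      apply h2
      rw [LinearMap.rTensor_comp, LinearMap.comp_apply, hz, map_zero]
    rw [this, map_zero]

end main

section final
variable (A B : Type u) [CommRing A] [CommRing B]
    [IsNoetherianRing A] [IsNoetherianRing B] [IsLocalRing A] [IsLocalRing B] [Algebra A B]
    [IsLocalHom (algebraMap A B)] (J : Ideal B)
    (M : Type u) [AddCommGroup M] [Module B M] [Module A M] [IsScalarTower A B M] [Module.Finite B M]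

theorem flat_of_flatAt_off
    (hU : ∀ q : PrimeSpectrum B, ¬ J ≤ q.asIdeal →
      Module.Flat A (LocalizedModule q.asIdeal.primeCompl M))
    (r : B) (hr : r ∈ J)
    (hreg : IsSMulRegular
      (M ⧸ ((IsLocalRing.maximalIdeal A).map (algebraMap A B) • (⊤ : Submodule B M))) r) :
    Module.Flat A M := by
  refine Groth.Agent.Lib.Helper71.LocalCritNoeth.flat_of_relative_flat_pow
    (IsLocalRing.maximalIdeal A) (B := B) M ?_ ?_
  · rw [IsLocalRing.jacobson_eq_maximalIdeal _ bot_ne_top]
    exact IsLocalRing.map_maximalIdeal_le (algebraMap A B)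
  · intro n N' N _ _ _ _ t1 _ f hf
    exact rTensor_injective_pow (IsLocalRing.maximalIdeal A) J hU r hr hreg n N' N t1 f hf

end final

end Groth.Agent.Lib.Helper12.FlatOffClosed
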