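import Mathlib
import Groth.Agent.Lib.Helper12.FlatOffClosed

/-!
# Lifting regular elements from the closed fibre of a flat module (helper12)

* `lTensor_injective_of_torsion_pow` (R1): `M` flat over `A`, `φ : M → M` with `φ ⊗ A/m` injective;
  then `N ⊗ φ` is injective for all `N` killed by a power of `m`.
* `rTensor_injective_coker` (R2): in the same situation `coker φ` satisfies the hypothesis of the
  local criterion (helper71 `flat_of_relative_flat_pow`).
* `flat_quot_smul` : `M / r M` is flat over `A`.
-/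

set_option autoImplicit false
universe u
open TensorProduct

namespace Groth.Agent.Lib.Helper12.FlatRegLift

open Groth.Agent.Lib.Helper12.FlatOffClosed

section R1
variable {A : Type u} [CommRing A] (m : Ideal A) [hm : m.IsMaximal]
  {M : Type u} [AddCommGroup M] [Module A M] [Module.Flat A M]
  (φ : M →ₗ[A] M) (hφ : Function.Injective (φ.rTensor (A ⧸ m)))

include hm hφ in
theorem lTensor_injective_of_torsion_pow : ∀ (j : ℕ) (N : Type u) [AddCommGroup N] [Module A N],
    Module.IsTorsionBySet A N ((m ^ j : Ideal A) : Set A) → Function.Injective (φ.lTensor N) := by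
  intro j
  induction j with
  | zero =>
    intro N _ _ t
    haveI : Subsingleton N := by
      refine ⟨fun a b => ?_⟩
      have h1 : (1 : A) ∈ ((m ^ 0 : Ideal A) : Set A) := by simp
      have ha := t (x := a) (a := ⟨1, h1⟩)
      have hb := t (x := b) (a := ⟨1, h1⟩)
      simp only [one_smul] at ha hb
      rw [ha, hb]
    intro a b _
    exact Subsingleton.elim a b
  | succ j ih =>
    intro N _ _ t
    let N0 : Submodule A N := m • ⊤
    have tN0 : Module.IsTorsionBySet A N0 ((m ^ j : Ideal A) : Set A) := by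
      intro x a
      apply Subtype.ext
      change (a : A) • (x : N) = 0
      have hx : (x : N) ∈ m • (⊤ : Submodule A N) := x.2
      refine Submodule.smul_induction_on hx ?_ ?_
      · intro c hc y _
        rw [← mul_smul]
        have : (a : A) * c ∈ m ^ (j + 1) := by
          rw [pow_succ]
          exact Ideal.mul_mem_mul a.2 hc
        exact t (x := y) (a := ⟨_, this⟩)
      · intro y y' hy hy'
        rw [smul_add, hy, hy', add_zero]
    have tQ : Module.IsTorsionBySet A (N ⧸ N0) (m : Set A) := by
      intro x c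
      obtain ⟨y, rfl⟩ := Submodule.Quotient.mk_surjective _ x
      rw [← Submodule.Quotient.mk_smul, Submodule.Quotient.mk_eq_zero]
      exact Submodule.smul_mem_smul c.2 Submodule.mem_top
    have h1 : Function.Injective (φ.lTensor (N ⧸ N0)) := by
      rw [LinearMap.lTensor_inj_iff_rTensor_inj]
      exact rTensor_injective_of_torsion m φ hφ tQ
    have h2 : Function.Injective (φ.lTensor N0) := ih N0 tN0
    have h3 : Function.Injective (N0.subtype.rTensor M) :=
      Module.Flat.rTensor_preserves_injective_linearMap N0.subtype Subtype.val_injective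
    have hex : Function.Exact (N0.subtype.rTensor M) (N0.mkQ.rTensor M) :=
      rTensor_exact M (LinearMap.exact_subtype_mkQ N0) (Submodule.mkQ_surjective N0)
    rw [injective_iff_map_eq_zero]
    intro z hz
    have hz1 : N0.mkQ.rTensor M z = 0 := by
      apply h1
      rw [map_zero, ← LinearMap.comp_apply, LinearMap.lTensor_comp_rTensor,
        ← LinearMap.rTensor_comp_lTensor, LinearMap.comp_apply, hz, map_zero]
    obtain ⟨z0, rfl⟩ := (hex z).1 hz1
    have : z0 = 0 := by
      apply h2
      apply h3
      rw [map_zero, map_zero, ← LinearMap.comp_apply, LinearMap.rTensor_comp_lTensor,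
        ← LinearMap.lTensor_comp_rTensor, LinearMap.comp_apply, hz]
    rw [this, map_zero]

end R1

section R2
variable {A : Type u} [CommRing A] (m : Ideal A) [hm : m.IsMaximal]
  {M : Type u} [AddCommGroup M] [Module A M] [Module.Flat A M]
  (φ : M →ₗ[A] M) (hφ : Function.Injective (φ.rTensor (A ⧸ m)))
  {M₁ : Type u} [AddCommGroup M₁] [Module A M₁] (p : M →ₗ[A] M₁) (hp : Function.Surjective p)
  (hex : Function.Exact φ p)

include hm hφ hp hex in
theorem rTensor_injective_coker (n : ℕ) (N' N : Type u) [AddCommGroup N'] [AddCommGroup N]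
    [Module A N'] [Module A N]
    (tN : Module.IsTorsionBySet A N ((m ^ (n + 1) : Ideal A) : Set A)) (f : N' →ₗ[A] N)
    (hf : Function.Injective f) : Function.Injective (f.rTensor M₁) := by
  let C := N ⧸ LinearMap.range f
  let q : N →ₗ[A] C := (LinearMap.range f).mkQ
  have tC : Module.IsTorsionBySet A C ((m ^ (n + 1) : Ideal A) : Set A) := by
    intro x c
    obtain ⟨y, rfl⟩ := Submodule.Quotient.mk_surjective _ x
    rw [← Submodule.Quotient.mk_smul, tN (x := y) (a := c), Submodule.Quotient.mk_zero]
  have hφC : Function.Injective (φ.lTensor C) :=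
    lTensor_injective_of_torsion_pow m φ hφ (n + 1) C tC
  have hfM : Function.Injective (f.rTensor M) :=
    Module.Flat.rTensor_preserves_injective_linearMap f hf
  have hexN' : Function.Exact (φ.lTensor N') (p.lTensor N') := lTensor_exact N' hex hp
  have hexN : Function.Exact (φ.lTensor N) (p.lTensor N) := lTensor_exact N hex hp
  have hexC : Function.Exact (f.rTensor M) (q.rTensor M) :=
    rTensor_exact M (LinearMap.exact_map_mkQ_range f) (Submodule.mkQ_surjective _)
  rw [injective_iff_map_eq_zero]
  intro z hz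
  obtain ⟨y, rfl⟩ := LinearMap.lTensor_surjective N' hp z
  have h1 : p.lTensor N (f.rTensor M y) = 0 := by
    rw [← LinearMap.comp_apply, LinearMap.lTensor_comp_rTensor, ← LinearMap.rTensor_comp_lTensor,
      LinearMap.comp_apply, hz]
  obtain ⟨w, hw⟩ := (hexN _).1 h1
  have h2 : q.rTensor M w = 0 := by
    apply hφC
    rw [map_zero, ← LinearMap.comp_apply, LinearMap.lTensor_comp_rTensor,
      ← LinearMap.rTensor_comp_lTensor, LinearMap.comp_apply, hw]
    exact (hexC _).2 ⟨y, rfl⟩
  obtain ⟨y', rfl⟩ := (hexC w).1 h2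
  have h3 : y = φ.lTensor N' y' := by
    apply hfM
    rw [← hw, ← LinearMap.comp_apply, ← LinearMap.comp_apply, LinearMap.lTensor_comp_rTensor,
      LinearMap.rTensor_comp_lTensor]
  rw [h3]
  exact (hexN' _).2 ⟨y', rfl⟩

end R2

section Q
variable {A B : Type*} [CommRing A] [CommRing B] [Algebra A B] (I : Ideal A)
  {M : Type*} [AddCommGroup M] [Module A M] [Module B M] [IsScalarTower A B M]

/-- converse of `rTensor_quot_injective_of_isSMulRegular`, for any ideal. -/
theorem isSMulRegular_quot_of_rTensor_injective (s : B)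
    (h : Function.Injective (((LinearMap.lsmul B M s).restrictScalars A).rTensor (A ⧸ I))) :
    IsSMulRegular (M ⧸ (I.map (algebraMap A B) • (⊤ : Submodule B M))) s := by
  rw [isSMulRegular_quotient_iff_mem_of_smul_mem]
  intro x hx
  rw [← smul_top_eq (B := B)] at hx ⊢
  let e := TensorProduct.tensorQuotEquivQuotSMul M I
  have h1 : ((LinearMap.lsmul B M s).restrictScalars A).rTensor (A ⧸ I) (x ⊗ₜ 1) = 0 := by
    rw [LinearMap.rTensor_tmul]
    change (s • x) ⊗ₜ[A] (1 : A ⧸ I) = 0
    rw [← TensorProduct.tensorQuotEquivQuotSMul_symm_mk,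
      (Submodule.Quotient.mk_eq_zero _).2 hx, map_zero]
  have h2 : (x ⊗ₜ[A] (1 : A ⧸ I)) = 0 := h (by rw [h1, map_zero])
  have h3 := congrArg e h2
  rw [map_zero] at h3
  change e (x ⊗ₜ[A] (Ideal.Quotient.mk I 1)) = 0 at h3
  rw [TensorProduct.tensorQuotEquivQuotSMul_tmul_mk, one_smul, Submodule.Quotient.mk_eq_zero] at h3
  exact h3

end Q

section T
variable {B : Type*} [CommRing B] {M : Type*} [AddCommGroup M] [Module B M]

theorem isSMulRegular_quot_quot_iff (P Q : Submodule B M) (s : B) :
    IsSMulRegular ((M ⧸ P) ⧸ Q.map P.mkQ) s ↔ IsSMulRegular (M ⧸ (P ⊔ Q)) s := by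
  rw [isSMulRegular_quotient_iff_mem_of_smul_mem, isSMulRegular_quotient_iff_mem_of_smul_mem]
  have key : ∀ y : M, P.mkQ y ∈ Q.map P.mkQ ↔ y ∈ P ⊔ Q := by
    intro y
    rw [← Submodule.mem_comap, Submodule.comap_map_mkQ]
  constructor
  · intro h y hy
    rw [← key] at hy ⊢
    exact h _ (by rw [← map_smul]; exact hy)
  · intro h x hx
    obtain ⟨y, rfl⟩ := P.mkQ_surjective x
    rw [← map_smul, key] at hx
    rw [key]
    exact h y hx

theorem smul_top_quot (P : Submodule B M) (I : Ideal B) :
    (I • (⊤ : Submodule B (M ⧸ P))) = (I • (⊤ : Submodule B M)).map P.mkQ := by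
  rw [Submodule.map_smul'', Submodule.map_top, Submodule.range_mkQ]

open Pointwise in
theorem pointwise_smul_top_quot (P : Submodule B M) (r : B) :
    (r • (⊤ : Submodule B (M ⧸ P))) = (r • (⊤ : Submodule B M)).map P.mkQ := by
  rw [Submodule.map_pointwise_smul, Submodule.map_top, Submodule.range_mkQ]

end T

section T2
open Pointwise
variable {B : Type*} [CommRing B] {M : Type*} [AddCommGroup M] [Module B M]

theorem isSMulRegular_quotSMulTop_quot_iff (I : Ideal B) (r s : B) :
    IsSMulRegular (QuotSMulTop r (M ⧸ (I • (⊤ : Submodule B M)))) s ↔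
      IsSMulRegular ((M ⧸ (r • (⊤ : Submodule B M))) ⧸
        (I • (⊤ : Submodule B (M ⧸ (r • (⊤ : Submodule B M)))))) s := by
  unfold QuotSMulTop
  rw [pointwise_smul_top_quot, smul_top_quot, isSMulRegular_quot_quot_iff,
    isSMulRegular_quot_quot_iff, sup_comm]

end T2

section final
open Pointwise
variable (A B : Type u) [CommRing A] [CommRing B]
    [IsNoetherianRing A] [IsNoetherianRing B] [IsLocalRing A] [IsLocalRing B] [Algebra A B]
    [IsLocalHom (algebraMap A B)]
    (M : Type u) [AddCommGroup M] [Module B M] [Module A M] [IsScalarTower A B M] [Module.Finite B M]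

/-- `M / r M` is flat over `A` when `M` is flat and `r` is regular on the closed fibre. -/
theorem flat_quot_smul [Module.Flat A M] (r : B)
    (hreg : IsSMulRegular
      (M ⧸ ((IsLocalRing.maximalIdeal A).map (algebraMap A B) • (⊤ : Submodule B M))) r) :
    Module.Flat A (M ⧸ (r • (⊤ : Submodule B M))) := by
  let φ : M →ₗ[A] M := (LinearMap.lsmul B M r).restrictScalars A
  let p : M →ₗ[A] M ⧸ (r • (⊤ : Submodule B M)) :=
    ((r • (⊤ : Submodule B M)).mkQ).restrictScalars A
  have hφ : Function.Injective (φ.rTensor (A ⧸ IsLocalRing.maximalIdeal A)) :=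
    rTensor_quot_injective_of_isSMulRegular (IsLocalRing.maximalIdeal A) r hreg
  have hp : Function.Surjective p := Submodule.mkQ_surjective _
  have hex : Function.Exact φ p := by
    intro x
    change Submodule.Quotient.mk x = 0 ↔ x ∈ Set.range φ
    rw [Submodule.Quotient.mk_eq_zero, Submodule.mem_smul_pointwise_iff_exists]
    constructor
    · rintro ⟨y, -, rfl⟩
      exact ⟨y, rfl⟩
    · rintro ⟨y, rfl⟩
      exact ⟨y, Submodule.mem_top, rfl⟩
  refine Groth.Agent.Lib.Helper71.LocalCritNoeth.flat_of_relative_flat_pow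
    (IsLocalRing.maximalIdeal A) (B := B) (M ⧸ (r • (⊤ : Submodule B M))) ?_ ?_
  · rw [IsLocalRing.jacobson_eq_maximalIdeal _ bot_ne_top]
    exact IsLocalRing.map_maximalIdeal_le (algebraMap A B)
  · intro n N' N _ _ _ _ _ tN f hf
    exact rTensor_injective_coker (IsLocalRing.maximalIdeal A) φ hφ p hp hex n N' N tN f hf

/-- a regular element of the closed fibre of a flat module is regular on all infinitesimal
neighbourhoods. -/
theorem isSMulRegular_quot_pow [Module.Flat A M] (r : B)
    (hreg : IsSMulRegular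
      (M ⧸ ((IsLocalRing.maximalIdeal A).map (algebraMap A B) • (⊤ : Submodule B M))) r) (n : ℕ) :
    IsSMulRegular
      (M ⧸ (((IsLocalRing.maximalIdeal A).map (algebraMap A B)) ^ (n + 1) •
        (⊤ : Submodule B M))) r := by
  let φ : M →ₗ[A] M := (LinearMap.lsmul B M r).restrictScalars A
  have hφ : Function.Injective (φ.rTensor (A ⧸ IsLocalRing.maximalIdeal A)) :=
    rTensor_quot_injective_of_isSMulRegular (IsLocalRing.maximalIdeal A) r hreg
  have t : Module.IsTorsionBySet A (A ⧸ (IsLocalRing.maximalIdeal A) ^ (n + 1))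
      (((IsLocalRing.maximalIdeal A) ^ (n + 1) : Ideal A) : Set A) := by
    intro x c
    obtain ⟨y, rfl⟩ := Ideal.Quotient.mk_surjective x
    rw [Algebra.smul_def, Ideal.Quotient.algebraMap_eq, ← map_mul,
      Ideal.Quotient.eq_zero_iff_mem]
    exact Ideal.mul_mem_right _ _ c.2
  have h1 := lTensor_injective_of_torsion_pow (IsLocalRing.maximalIdeal A) φ hφ (n + 1)
    (A ⧸ (IsLocalRing.maximalIdeal A) ^ (n + 1)) t
  rw [LinearMap.lTensor_inj_iff_rTensor_inj] at h1
  have h2 := isSMulRegular_quot_of_rTensor_injective (B := B)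
    ((IsLocalRing.maximalIdeal A) ^ (n + 1)) r h1
  rwa [Ideal.map_pow] at h2

theorem isWeaklyRegular_quot_pow (J : Ideal B)
    (hU : ∀ q : PrimeSpectrum B, ¬ J ≤ q.asIdeal →
      Module.Flat A (LocalizedModule q.asIdeal.primeCompl M))
    (r s : B) (hr : r ∈ J)
    (hreg : IsSMulRegular
      (M ⧸ ((IsLocalRing.maximalIdeal A).map (algebraMap A B) • (⊤ : Submodule B M))) r)
    (hs : IsSMulRegular (QuotSMulTop r
      (M ⧸ ((IsLocalRing.maximalIdeal A).map (algebraMap A B) • (⊤ : Submodule B M)))) s)
    (n : ℕ) :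
    RingTheory.Sequence.IsWeaklyRegular
      (M ⧸ (((IsLocalRing.maximalIdeal A).map (algebraMap A B)) ^ (n + 1) •
        (⊤ : Submodule B M))) [r, s] := by
  haveI hflat : Module.Flat A M := flat_of_flatAt_off A B J M hU r hr hreg
  haveI hflat1 : Module.Flat A (M ⧸ (r • (⊤ : Submodule B M))) := flat_quot_smul A B M r hreg
  rw [RingTheory.Sequence.isWeaklyRegular_cons_iff, RingTheory.Sequence.isWeaklyRegular_cons_iff]
  refine ⟨isSMulRegular_quot_pow A B M r hreg n, ?_, RingTheory.Sequence.IsWeaklyRegular.nil _ _⟩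
  rw [isSMulRegular_quotSMulTop_quot_iff] at hs ⊢
  exact isSMulRegular_quot_pow A B (M ⧸ (r • (⊤ : Submodule B M))) s hs n

end final

end Groth.Agent.Lib.Helper12.FlatRegLift
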