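import Mathlib
import Groth.Agent.Lib.Helper12.FlatRegLift
import Groth.Agent.Lib.Helper93.Depth
import Groth.Agent.H76.InjFlat
import Groth.Agent.Lib.Helper71.FlatKer

/-!
# Four-term exact sequences, depth of the closed fibre and flatness of the cokernel (helper12)
-/

set_option autoImplicit false
universe u
open TensorProduct

namespace Groth.Agent.Lib.Helper12.FourTermFlat

open Groth.Agent.Lib.Helper12.FlatOffClosed Groth.Agent.Lib.Helper12.FlatRegLift

section loc
variable {A B : Type*} [CommRing A] [CommRing B] [Algebra A B] (W : Submonoid B)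

/-- A localization (over a bigger ring) of a flat module is flat. -/
theorem flat_of_isLocalizedModule {M Mp : Type*} [AddCommGroup M] [AddCommGroup Mp] [Module A M]
    [Module B M] [IsScalarTower A B M] [Module A Mp] [Module B Mp] [IsScalarTower A B Mp]
    (f : M →ₗ[B] Mp) [IsLocalizedModule W f] [H : Module.Flat A M] : Module.Flat A Mp := by
  rw [Module.Flat.iff_lTensor_injectiveₛ] at H ⊢
  intro P _ _ N
  have h1 := H (P := P) N
  have h2 : Function.Injective (AlgebraTensorModule.lTensor B M N.subtype) := h1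
  have h3 := IsLocalizedModule.map_injective W (AlgebraTensorModule.rTensor A N f)
    (AlgebraTensorModule.rTensor A P f) (AlgebraTensorModule.lTensor B M N.subtype) h2
  rw [IsLocalizedModule.map_lTensor] at h3
  exact h3

theorem flat_localizedModule (E : Type*) [AddCommGroup E] [Module A E] [Module B E]
    [IsScalarTower A B E] [Module.Flat A E] : Module.Flat A (LocalizedModule W E) :=
  flat_of_isLocalizedModule W (LocalizedModule.mkLinearMap W E)

variable {Z E Q : Type*} [AddCommGroup Z] [Module A Z] [Module B Z] [IsScalarTower A B Z]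
  [AddCommGroup E] [Module A E] [Module B E] [IsScalarTower A B E]
  [AddCommGroup Q] [Module A Q] [Module B Q] [IsScalarTower A B Q]
  (ι : Z →ₗ[B] E) (π : E →ₗ[B] Q)

/-- Lemma V: if the localized cokernel is flat, the kernel of `ι ⊗ X` is `W`-torsion. -/
theorem exists_smul_eq_zero_of_flat_coker (hι : Function.Injective ι) (hex : Function.Exact ι π)
    (hπ : Function.Surjective π) [Module.Flat A (LocalizedModule W Q)]
    {X : Type*} [AddCommGroup X] [Module A X] (t : Z ⊗[A] X)
    (ht : (ι.restrictScalars A).rTensor X t = 0) : ∃ w : W, (w : B) • t = 0 := by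
  let ℓZ := LocalizedModule.mkLinearMap W Z
  let ℓE := LocalizedModule.mkLinearMap W E
  let ℓQ := LocalizedModule.mkLinearMap W Q
  let ιW : LocalizedModule W Z →ₗ[B] LocalizedModule W E := IsLocalizedModule.map W ℓZ ℓE ι
  let πW : LocalizedModule W E →ₗ[B] LocalizedModule W Q := IsLocalizedModule.map W ℓE ℓQ π
  have hιW : Function.Injective ιW := IsLocalizedModule.map_injective W ℓZ ℓE ι hι
  have hπW : Function.Surjective πW := IsLocalizedModule.map_surjective W ℓE ℓQ π hπ
  have hexW : Function.Exact ιW πW := IsLocalizedModule.map_exact W ℓZ ℓE ℓQ ι π hex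
  have hinj : Function.Injective ((ιW.restrictScalars A).rTensor X) := by
    rw [← LinearMap.lTensor_inj_iff_rTensor_inj]
    exact LinearMap.lTensor_injective_of_exact_of_flat (πW.restrictScalars A) hπW
      (ιW.restrictScalars A) hιW hexW X
  have hnat : ∀ t : Z ⊗[A] X, (ιW.restrictScalars A).rTensor X
      (AlgebraTensorModule.rTensor A X ℓZ t) =
      AlgebraTensorModule.rTensor A X ℓE ((ι.restrictScalars A).rTensor X t) := by
    intro t
    induction t using TensorProduct.induction_on with
    | zero => simp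
    | tmul z x =>
      simp only [AlgebraTensorModule.rTensor_tmul, LinearMap.rTensor_tmul,
        LinearMap.coe_restrictScalars]
      rw [IsLocalizedModule.map_apply]
    | add a b ha hb => simp only [map_add, ha, hb]
  have h2 : AlgebraTensorModule.rTensor A X ℓZ t = 0 := by
    apply hinj
    rw [hnat, ht, map_zero, map_zero]
  obtain ⟨w, hw⟩ := (IsLocalizedModule.eq_zero_iff W (AlgebraTensorModule.rTensor A X ℓZ)).1 h2
  exact ⟨w, hw⟩

end loc

section rad
variable {B : Type*} [CommRing B] {X : Type*} [AddCommGroup X] [Module B X]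

theorem exists_pow_smul_eq_zero_of_forall_prime (J : Ideal B) (t : X)
    (h : ∀ q : Ideal B, q.IsPrime → ¬ J ≤ q → ∃ w : B, w ∉ q ∧ w • t = 0) (r : B) (hr : r ∈ J) :
    ∃ e : ℕ, r ^ e • t = 0 := by
  let 𝔞 : Ideal B := LinearMap.ker (LinearMap.toSpanSingleton B X t)
  have hmem : ∀ b, b ∈ 𝔞 ↔ b • t = 0 := fun b => by
    simp [𝔞, LinearMap.mem_ker, LinearMap.toSpanSingleton_apply]
  have hrad : r ∈ 𝔞.radical := by
    rw [Ideal.radical_eq_sInf, Ideal.mem_sInf]
    rintro q ⟨hq, hqp⟩
    by_contra hrq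
    obtain ⟨w, hwq, hw⟩ := h q hqp (fun h => hrq (h hr))
    exact hwq (hq ((hmem _).2 hw))
  obtain ⟨e, he⟩ := hrad
  exact ⟨e, (hmem _).1 he⟩

end rad

section quot
variable {A B : Type*} [CommRing A] [CommRing B] [Algebra A B] (I : Ideal A)
  {X : Type*} [AddCommGroup X] [Module A X] [Module B X] [IsScalarTower A B X]

theorem tmul_one_eq_zero_iff (x : X) :
    x ⊗ₜ[A] (1 : A ⧸ I) = 0 ↔ x ∈ I.map (algebraMap A B) • (⊤ : Submodule B X) := by
  rw [← smul_top_eq (B := B)]
  let e := TensorProduct.tensorQuotEquivQuotSMul X I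
  constructor
  · intro h
    have h3 := congrArg e h
    rw [map_zero] at h3
    change e (x ⊗ₜ[A] (Ideal.Quotient.mk I 1)) = 0 at h3
    rwa [TensorProduct.tensorQuotEquivQuotSMul_tmul_mk, one_smul,
      Submodule.Quotient.mk_eq_zero] at h3
  · intro h
    rw [← TensorProduct.tensorQuotEquivQuotSMul_symm_mk,
      (Submodule.Quotient.mk_eq_zero _).2 h, map_zero]

end quot

section pure
variable {A B : Type*} [CommRing A] [CommRing B] [Algebra A B]
  {Z E Q : Type*} [AddCommGroup Z] [Module A Z] [Module B Z] [IsScalarTower A B Z]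
  [AddCommGroup E] [Module A E] [Module B E] [IsScalarTower A B E]
  [AddCommGroup Q] [Module A Q] [Module B Q] [IsScalarTower A B Q]
  (ι : Z →ₗ[B] E) (π : E →ₗ[B] Q)

/-- Lemma V': localized purity. -/
theorem exists_smul_mem_of_flat_coker (W : Submonoid B) (hι : Function.Injective ι)
    (hex : Function.Exact ι π) (hπ : Function.Surjective π)
    [Module.Flat A (LocalizedModule W Q)] (I : Ideal A) (z : Z)
    (hz : ι z ∈ I.map (algebraMap A B) • (⊤ : Submodule B E)) :
    ∃ w : W, (w : B) • z ∈ I.map (algebraMap A B) • (⊤ : Submodule B Z) := by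
  have h1 : (ι.restrictScalars A).rTensor (A ⧸ I) (z ⊗ₜ[A] (1 : A ⧸ I)) = 0 := by
    rw [LinearMap.rTensor_tmul]
    exact (tmul_one_eq_zero_iff (B := B) I (ι z)).2 hz
  obtain ⟨w, hw⟩ := exists_smul_eq_zero_of_flat_coker W ι π hι hex hπ _ h1
  refine ⟨w, ?_⟩
  rw [TensorProduct.smul_tmul'] at hw
  exact (tmul_one_eq_zero_iff (B := B) I _).1 hw

/-- Lemma P: purity of a submodule with flat quotient. -/
theorem mem_smul_top_of_flat_coker (hι : Function.Injective ι)
    (hex : Function.Exact ι π) (hπ : Function.Surjective π)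
    [Module.Flat A Q] (I : Ideal A) (z : Z)
    (hz : ι z ∈ I.map (algebraMap A B) • (⊤ : Submodule B E)) :
    z ∈ I.map (algebraMap A B) • (⊤ : Submodule B Z) := by
  have hinj : Function.Injective ((ι.restrictScalars A).rTensor (A ⧸ I)) := by
    rw [← LinearMap.lTensor_inj_iff_rTensor_inj]
    exact LinearMap.lTensor_injective_of_exact_of_flat (π.restrictScalars A) hπ
      (ι.restrictScalars A) hι hex (A ⧸ I)
  have h1 : (ι.restrictScalars A).rTensor (A ⧸ I) (z ⊗ₜ[A] (1 : A ⧸ I)) = 0 := by
    rw [LinearMap.rTensor_tmul]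
    exact (tmul_one_eq_zero_iff (B := B) I (ι z)).2 hz
  exact (tmul_one_eq_zero_iff (B := B) I z).1 (hinj (by rw [h1, map_zero]))

end pure

section D1
open LocCoh Groth.Agent.Lib.Helper93.Depth
variable {B : Type u} [CommRing B] [IsLocalRing B] {X : Type u} [AddCommGroup X] [Module B X]
  [Module.Finite B X]

/-- a module with nontrivial `J`-adic quotient is zero when `J` is proper. -/
theorem subsingleton_of_smul_top_eq_top (J : Ideal B) (hJ : J ≠ ⊤)
    (h : J • (⊤ : Submodule B X) = ⊤) : Subsingleton X := by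
  have hJle : J ≤ Ideal.jacobson ⊥ := by
    rw [IsLocalRing.jacobson_eq_maximalIdeal _ bot_ne_top]
    exact IsLocalRing.le_maximalIdeal hJ
  have hbot : (⊤ : Submodule B X) = ⊥ :=
    Submodule.eq_bot_of_le_smul_of_le_jacobson_bot J ⊤ Module.Finite.fg_top h.ge hJle
  refine ⟨fun a b => ?_⟩
  have ha : a ∈ (⊤ : Submodule B X) := Submodule.mem_top
  have hb : b ∈ (⊤ : Submodule B X) := Submodule.mem_top
  rw [hbot, Submodule.mem_bot] at ha hb
  rw [ha, hb]

/-- Lemma D1: `J`-power torsion elements vanish when `depth_J ≥ 1`. -/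
theorem eq_zero_of_pow_smul_eq_zero (J : Ideal B) (h1 : 1 ≤ idealDepth J X) (t : X)
    (ht : ∀ r ∈ J, ∃ e : ℕ, r ^ e • t = 0) : t = 0 := by
  rcases (one_le_idealDepth_iff (I := J) (M := X)).1 h1 with htop | ⟨r, hr, hreg⟩
  · by_cases hJ : J = ⊤
    · obtain ⟨e, he⟩ := ht 1 (hJ ▸ Submodule.mem_top)
      simpa using he
    · haveI := subsingleton_of_smul_top_eq_top J hJ htop
      exact Subsingleton.elim _ _
  · obtain ⟨e, he⟩ := ht r hr
    exact (hreg.pow e) (show r ^ e • t = r ^ e • (0 : X) by rw [he, smul_zero])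

end D1

section D2
open LocCoh Groth.Agent.Lib.Helper93.Depth Pointwise
variable (A B : Type u) [CommRing A] [CommRing B]
    [IsNoetherianRing A] [IsNoetherianRing B] [IsLocalRing A] [IsLocalRing B] [Algebra A B]
    [IsLocalHom (algebraMap A B)] (J : Ideal B)
    (M : Type u) [AddCommGroup M] [Module B M] [Module A M] [IsScalarTower A B M] [Module.Finite B M]

theorem subsingleton_of_fibMod_subsingleton
    (h : Subsingleton (M ⧸ ((IsLocalRing.maximalIdeal A).map (algebraMap A B) •
      (⊤ : Submodule B M)))) : Subsingleton M := by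
  have hmBle : (IsLocalRing.maximalIdeal A).map (algebraMap A B) ≤ Ideal.jacobson ⊥ := by
    rw [IsLocalRing.jacobson_eq_maximalIdeal _ bot_ne_top]
    exact IsLocalRing.map_maximalIdeal_le (algebraMap A B)
  have hM : (⊤ : Submodule B M) ≤
      (IsLocalRing.maximalIdeal A).map (algebraMap A B) • (⊤ : Submodule B M) := by
    intro x _
    have := Subsingleton.elim (Submodule.Quotient.mk x :
      M ⧸ ((IsLocalRing.maximalIdeal A).map (algebraMap A B) • (⊤ : Submodule B M))) 0
    rwa [Submodule.Quotient.mk_eq_zero] at this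
  have hMbot : (⊤ : Submodule B M) = ⊥ :=
    Submodule.eq_bot_of_le_smul_of_le_jacobson_bot _ ⊤ Module.Finite.fg_top hM hmBle
  refine ⟨fun a b => ?_⟩
  have ha : a ∈ (⊤ : Submodule B M) := Submodule.mem_top
  have hb : b ∈ (⊤ : Submodule B M) := Submodule.mem_top
  rw [hMbot, Submodule.mem_bot] at ha hb
  rw [ha, hb]

/-- degenerate case: `J • M₀ = M₀` forces depth `⊤` on all thickenings. -/
theorem idealDepth_quot_pow_eq_top_of_smul_top_eq_top
    (htop : J • (⊤ : Submodule B (M ⧸ ((IsLocalRing.maximalIdeal A).map (algebraMap A B) •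
      (⊤ : Submodule B M)))) = ⊤) (n : ℕ) :
    idealDepth J (M ⧸ (((IsLocalRing.maximalIdeal A).map (algebraMap A B)) ^ (n + 1) •
        (⊤ : Submodule B M))) = ⊤ := by
  by_cases hJ : J = ⊤
  · apply idealDepth_of_smul_top_eq_top
    rw [hJ, Submodule.top_smul]
  · haveI := subsingleton_of_smul_top_eq_top J hJ htop
    haveI := subsingleton_of_fibMod_subsingleton A B M inferInstance
    exact idealDepth_of_subsingleton

theorem isWeaklyRegular_quot_pow_of_flat [Module.Flat A M] (r s : B)
    (hreg : IsSMulRegular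
      (M ⧸ ((IsLocalRing.maximalIdeal A).map (algebraMap A B) • (⊤ : Submodule B M))) r)
    (hs : IsSMulRegular (QuotSMulTop r
      (M ⧸ ((IsLocalRing.maximalIdeal A).map (algebraMap A B) • (⊤ : Submodule B M)))) s)
    (n : ℕ) :
    RingTheory.Sequence.IsWeaklyRegular
      (M ⧸ (((IsLocalRing.maximalIdeal A).map (algebraMap A B)) ^ (n + 1) •
        (⊤ : Submodule B M))) [r, s] := by
  haveI hflat1 : Module.Flat A (M ⧸ (r • (⊤ : Submodule B M))) := flat_quot_smul A B M r hreg
  rw [RingTheory.Sequence.isWeaklyRegular_cons_iff, RingTheory.Sequence.isWeaklyRegular_cons_iff]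
  refine ⟨isSMulRegular_quot_pow A B M r hreg n, ?_, RingTheory.Sequence.IsWeaklyRegular.nil _ _⟩
  rw [isSMulRegular_quotSMulTop_quot_iff] at hs ⊢
  exact isSMulRegular_quot_pow A B (M ⧸ (r • (⊤ : Submodule B M))) s hs n

theorem one_le_idealDepth_quot_pow [Module.Flat A M]
    (h1 : 1 ≤ idealDepth J (M ⧸ ((IsLocalRing.maximalIdeal A).map (algebraMap A B) •
      (⊤ : Submodule B M)))) (n : ℕ) :
    1 ≤ idealDepth J (M ⧸ (((IsLocalRing.maximalIdeal A).map (algebraMap A B)) ^ (n + 1) •
        (⊤ : Submodule B M))) := by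
  rcases (one_le_idealDepth_iff).1 h1 with htop | ⟨r, hr, hreg⟩
  · rw [idealDepth_quot_pow_eq_top_of_smul_top_eq_top A B J M htop n]
    exact le_top
  · exact (one_le_idealDepth_iff).2 (Or.inr ⟨r, hr, isSMulRegular_quot_pow A B M r hreg n⟩)

theorem two_le_idealDepth_quot_pow [Module.Flat A M]
    (h2 : 2 ≤ idealDepth J (M ⧸ ((IsLocalRing.maximalIdeal A).map (algebraMap A B) •
      (⊤ : Submodule B M)))) (n : ℕ) :
    2 ≤ idealDepth J (M ⧸ (((IsLocalRing.maximalIdeal A).map (algebraMap A B)) ^ (n + 1) •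
        (⊤ : Submodule B M))) := by
  have e2 : (2 : ℕ∞) = ((2 : ℕ) : ℕ∞) := rfl
  rw [e2] at h2 ⊢
  rcases (natCast_le_idealDepth_iff 2).1 h2 with htop | ⟨rs, hlen, hmem, hwr⟩
  · rw [idealDepth_quot_pow_eq_top_of_smul_top_eq_top A B J M htop n]
    exact le_top
  · match rs, hlen, hmem, hwr with
    | [r, s], _, hmem, hwr =>
      rw [RingTheory.Sequence.isWeaklyRegular_cons_iff,
        RingTheory.Sequence.isWeaklyRegular_cons_iff] at hwr
      have key := isWeaklyRegular_quot_pow_of_flat A B M r s hwr.1 hwr.2.1 n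
      exact length_le_idealDepth key hmem

end D2

section fib
variable {B : Type*} [CommRing B] (𝔟 : Ideal B)
  {X Y Z : Type*} [AddCommGroup X] [Module B X] [AddCommGroup Y] [Module B Y]
  [AddCommGroup Z] [Module B Z]

/-- the map induced on `X / 𝔟 X → Y / 𝔟 Y`. -/
def fibMap (g : X →ₗ[B] Y) :
    (X ⧸ (𝔟 • (⊤ : Submodule B X))) →ₗ[B] (Y ⧸ (𝔟 • (⊤ : Submodule B Y))) :=
  Submodule.mapQ _ _ g (Submodule.smul_top_le_comap_smul_top 𝔟 g)

@[simp] theorem fibMap_mk (g : X →ₗ[B] Y) (x : X) :
    fibMap 𝔟 g (Submodule.Quotient.mk x) = Submodule.Quotient.mk (g x) := rfl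

theorem fibMap_injective (g : X →ₗ[B] Y)
    (h : ∀ x, g x ∈ 𝔟 • (⊤ : Submodule B Y) → x ∈ 𝔟 • (⊤ : Submodule B X)) :
    Function.Injective (fibMap 𝔟 g) := by
  rw [injective_iff_map_eq_zero]
  intro t ht
  obtain ⟨x, rfl⟩ := Submodule.Quotient.mk_surjective _ t
  rw [fibMap_mk, Submodule.Quotient.mk_eq_zero] at ht
  rw [Submodule.Quotient.mk_eq_zero]
  exact h x ht

theorem fibMap_surjective (g : X →ₗ[B] Y) (hg : Function.Surjective g) :
    Function.Surjective (fibMap 𝔟 g) := by
  intro t
  obtain ⟨y, rfl⟩ := Submodule.Quotient.mk_surjective _ t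
  obtain ⟨x, rfl⟩ := hg y
  exact ⟨Submodule.Quotient.mk x, rfl⟩

theorem fibMap_exact (g : X →ₗ[B] Y) (h : Y →ₗ[B] Z) (hex : Function.Exact g h)
    (hh : ∀ y, h y ∈ 𝔟 • (⊤ : Submodule B Z) → ∃ y' ∈ 𝔟 • (⊤ : Submodule B Y), h y' = h y) :
    Function.Exact (fibMap 𝔟 g) (fibMap 𝔟 h) := by
  intro t
  obtain ⟨y, rfl⟩ := Submodule.Quotient.mk_surjective _ t
  constructor
  · intro ht
    rw [fibMap_mk, Submodule.Quotient.mk_eq_zero] at ht
    obtain ⟨y', hy', hyy'⟩ := hh y ht
    have : h (y - y') = 0 := by rw [map_sub, hyy', sub_self]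
    obtain ⟨x, hx⟩ := (hex _).1 this
    refine ⟨Submodule.Quotient.mk x, ?_⟩
    rw [fibMap_mk, hx, Submodule.Quotient.mk_sub, sub_eq_self, Submodule.Quotient.mk_eq_zero]
    exact hy'
  · rintro ⟨s, hs⟩
    obtain ⟨x, rfl⟩ := Submodule.Quotient.mk_surjective _ s
    rw [← hs, fibMap_mk, fibMap_mk, hex.apply_apply_eq_zero, Submodule.Quotient.mk_zero]

theorem exists_mem_of_surjective (h : Y →ₗ[B] Z) (hh : Function.Surjective h) (y : Y)
    (hy : h y ∈ 𝔟 • (⊤ : Submodule B Z)) : ∃ y' ∈ 𝔟 • (⊤ : Submodule B Y), h y' = h y := by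
  have : (𝔟 • (⊤ : Submodule B Z)) = (𝔟 • (⊤ : Submodule B Y)).map h := by
    rw [Submodule.map_smul'', Submodule.map_top, LinearMap.range_eq_top.2 hh]
  rw [this] at hy
  obtain ⟨y', hy', e⟩ := hy
  exact ⟨y', hy', e⟩

end fib

section main
open LocCoh Groth.Agent.Lib.Helper93.Depth
variable (A B : Type u) [CommRing A] [CommRing B]
    [IsNoetherianRing A] [IsNoetherianRing B] [IsLocalRing A] [IsLocalRing B] [Algebra A B]
    [IsLocalHom (algebraMap A B)] (J : Ideal B)
    {F E0 E1 G : Type u} [AddCommGroup F] [Module B F] [Module A F] [IsScalarTower A B F]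
    [Module.Finite B F]
    [AddCommGroup E0] [Module B E0] [Module A E0] [IsScalarTower A B E0] [Module.Finite B E0]
    [Module.Flat A E0]
    [AddCommGroup E1] [Module B E1] [Module A E1] [IsScalarTower A B E1] [Module.Finite B E1]
    [Module.Flat A E1]
    [AddCommGroup G] [Module B G] [Module A G] [IsScalarTower A B G] [Module.Finite B G]
    (f : F →ₗ[B] E0) (u : E0 →ₗ[B] E1) (v : E1 →ₗ[B] G)
    (hf : Function.Injective f) (hfu : Function.Exact f u) (huv : Function.Exact u v)
    (hv : Function.Surjective v)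

/-- `û : E⁰ → Z = ker v`. -/
def uhat : E0 →ₗ[B] LinearMap.ker v :=
  u.codRestrict (LinearMap.ker v) (fun x => huv.apply_apply_eq_zero x)

omit [IsNoetherianRing B] [IsLocalRing B] [Module.Finite B E0] [Module.Finite B E1]
  [Module.Finite B G] in
theorem uhat_surjective : Function.Surjective (uhat B u v huv) := by
  rintro ⟨z, hz⟩
  obtain ⟨y, rfl⟩ := (huv z).1 hz
  exact ⟨y, rfl⟩

omit [IsNoetherianRing B] [IsLocalRing B] [Module.Finite B E0] [Module.Finite B E1]
  [Module.Finite B G] [Module.Finite B F] in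
include hfu in
theorem exact_f_uhat : Function.Exact f (uhat B u v huv) := by
  intro y
  rw [← hfu y]
  constructor
  · intro h
    exact congrArg Subtype.val h
  · intro h
    exact Subtype.ext h

/-- the kernel of `v` is `A`-flat when `G` is. -/
theorem flat_ker_v [Module.Flat A G] (hv : Function.Surjective v) :
    Module.Flat A (LinearMap.ker v) := by
  haveI : Module.Flat A (LinearMap.ker (v.restrictScalars A)) :=
    Groth.Agent.Lib.Helper71.flat_ker_of_surjective (v.restrictScalars A) hv
  let e : LinearMap.ker (v.restrictScalars A) ≃ₗ[A] LinearMap.ker v :=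
    { toFun := fun x => ⟨x.1, x.2⟩
      invFun := fun x => ⟨x.1, x.2⟩
      map_add' := fun _ _ => rfl
      map_smul' := fun _ _ => rfl
      left_inv := fun _ => rfl
      right_inv := fun _ => rfl }
  exact Module.Flat.of_linearEquiv e.symm

include hf hfu huv hv in
/-- (c): `G` flat implies `F` flat. -/
theorem flat_F_of_flat_G [Module.Flat A G] : Module.Flat A F := by
  haveI := flat_ker_v A B v hv
  haveI : Module.Flat A (LinearMap.ker ((uhat B u v huv).restrictScalars A)) :=
    Groth.Agent.Lib.Helper71.flat_ker_of_surjective ((uhat B u v huv).restrictScalars A)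
      (uhat_surjective B u v huv)
  have hex := exact_f_uhat B f u v hfu huv
  have hker : LinearMap.range (f.restrictScalars A) =
      LinearMap.ker ((uhat B u v huv).restrictScalars A) := by
    ext y
    rw [LinearMap.mem_ker, LinearMap.mem_range]
    exact ((hex y).symm)
  let e : F ≃ₗ[A] LinearMap.ker ((uhat B u v huv).restrictScalars A) :=
    (LinearEquiv.ofInjective (f.restrictScalars A) hf).trans (LinearEquiv.ofEq _ _ hker)
  exact Module.Flat.of_linearEquiv e

include hf hfu huv hv in
/-- Thm B: if `G` is flat, all thickenings of the closed fibre of `F` have depth `≥ 2`. -/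
theorem two_le_idealDepth_F_quot_pow [Module.Flat A G]
    (h0 : 2 ≤ idealDepth J (E0 ⧸ ((IsLocalRing.maximalIdeal A).map (algebraMap A B) •
      (⊤ : Submodule B E0))))
    (h1 : 1 ≤ idealDepth J (E1 ⧸ ((IsLocalRing.maximalIdeal A).map (algebraMap A B) •
      (⊤ : Submodule B E1)))) (n : ℕ) :
    2 ≤ idealDepth J (F ⧸ (((IsLocalRing.maximalIdeal A).map (algebraMap A B)) ^ (n + 1) •
        (⊤ : Submodule B F))) := by
  haveI := flat_ker_v A B v hv
  have hex := exact_f_uhat B f u v hfu huv
  have hsurj := uhat_surjective B u v huv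
  have hpow : ((IsLocalRing.maximalIdeal A) ^ (n + 1)).map (algebraMap A B) =
      ((IsLocalRing.maximalIdeal A).map (algebraMap A B)) ^ (n + 1) := Ideal.map_pow _ _ _
  have hinj : Function.Injective
      (fibMap (((IsLocalRing.maximalIdeal A).map (algebraMap A B)) ^ (n + 1)) f) := by
    apply fibMap_injective
    intro x hx
    rw [← hpow] at hx ⊢
    exact mem_smul_top_of_flat_coker f (uhat B u v huv) hf hex hsurj _ x hx
  have hexn : Function.Exact
      (fibMap (((IsLocalRing.maximalIdeal A).map (algebraMap A B)) ^ (n + 1)) f)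
      (fibMap (((IsLocalRing.maximalIdeal A).map (algebraMap A B)) ^ (n + 1)) u) := by
    apply fibMap_exact _ f u hfu
    intro y hy
    have hy' : (LinearMap.ker v).subtype (uhat B u v huv y) ∈
        ((IsLocalRing.maximalIdeal A) ^ (n + 1)).map (algebraMap A B) •
          (⊤ : Submodule B E1) := by
      rw [hpow]
      exact hy
    have h3 := mem_smul_top_of_flat_coker (LinearMap.ker v).subtype v Subtype.val_injective
      (LinearMap.exact_subtype_ker_map v) hv _ _ hy'
    rw [hpow] at h3
    obtain ⟨y', hy'mem, e⟩ := exists_mem_of_surjective _ (uhat B u v huv) hsurj y h3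
    exact ⟨y', hy'mem, congrArg Subtype.val e⟩
  have hker : LinearMap.range
      (fibMap (((IsLocalRing.maximalIdeal A).map (algebraMap A B)) ^ (n + 1)) f) =
      LinearMap.ker (fibMap (((IsLocalRing.maximalIdeal A).map (algebraMap A B)) ^ (n + 1)) u) :=
    (LinearMap.exact_iff.1 hexn).symm
  let e := (LinearEquiv.ofInjective _ hinj).trans (LinearEquiv.ofEq _ _ hker)
  rw [idealDepth_congr (I := J) e]
  exact two_le_idealDepth_ker J _ (two_le_idealDepth_quot_pow A B J E0 h0 n)
    (one_le_idealDepth_quot_pow A B J E1 h1 n)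

omit [IsNoetherianRing A] [IsNoetherianRing B] [IsLocalRing A] [IsLocalRing B]
  [IsLocalHom (algebraMap A B)] [Module.Finite B E1] [Module.Finite B G] in
/-- `Z_q` is flat when `G_q` is. -/
theorem flat_localized_ker_v (W : Submonoid B) [Module.Flat A (LocalizedModule W G)]
    (hv : Function.Surjective v) : Module.Flat A (LocalizedModule W (LinearMap.ker v)) := by
  let ℓZ := LocalizedModule.mkLinearMap W (LinearMap.ker v)
  let ℓE := LocalizedModule.mkLinearMap W E1
  let ℓG := LocalizedModule.mkLinearMap W G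
  let ιW : LocalizedModule W (LinearMap.ker v) →ₗ[B] LocalizedModule W E1 :=
    IsLocalizedModule.map W ℓZ ℓE (LinearMap.ker v).subtype
  let vW : LocalizedModule W E1 →ₗ[B] LocalizedModule W G := IsLocalizedModule.map W ℓE ℓG v
  have hιW : Function.Injective ιW :=
    IsLocalizedModule.map_injective W ℓZ ℓE _ Subtype.val_injective
  have hvW : Function.Surjective vW := IsLocalizedModule.map_surjective W ℓE ℓG v hv
  have hexW : Function.Exact ιW vW :=
    IsLocalizedModule.map_exact W ℓZ ℓE ℓG _ v (LinearMap.exact_subtype_ker_map v)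
  haveI : Module.Flat A (LocalizedModule W E1) := flat_localizedModule W E1
  haveI : Module.Flat A (LinearMap.ker (vW.restrictScalars A)) :=
    Groth.Agent.Lib.Helper71.flat_ker_of_surjective (vW.restrictScalars A) hvW
  have hker : LinearMap.range (ιW.restrictScalars A) = LinearMap.ker (vW.restrictScalars A) := by
    ext y
    rw [LinearMap.mem_ker, LinearMap.mem_range]
    exact ((hexW y).symm)
  let e : LocalizedModule W (LinearMap.ker v) ≃ₗ[A] LinearMap.ker (vW.restrictScalars A) :=
    (LinearEquiv.ofInjective (ιW.restrictScalars A) hιW).trans (LinearEquiv.ofEq _ _ hker)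
  exact Module.Flat.of_linearEquiv e

include hf hfu huv hv in
/-- Thm A: depth `≥ 2` of the closed fibre of `F` forces `G` to be flat. -/
theorem flat_G_of_two_le_idealDepth
    (hGU : ∀ q : PrimeSpectrum B, ¬ J ≤ q.asIdeal →
      Module.Flat A (LocalizedModule q.asIdeal.primeCompl G))
    (h0 : 2 ≤ idealDepth J (E0 ⧸ ((IsLocalRing.maximalIdeal A).map (algebraMap A B) •
      (⊤ : Submodule B E0))))
    (h2F : 2 ≤ idealDepth J (F ⧸ ((IsLocalRing.maximalIdeal A).map (algebraMap A B) •
      (⊤ : Submodule B F)))) : Module.Flat A G := by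
  have hex := exact_f_uhat B f u v hfu huv
  have hsurj := uhat_surjective B u v huv
  haveI : IsNoetherian B E1 := isNoetherian_of_isNoetherianRing_of_finite B E1
  haveI : Module.Finite B (LinearMap.ker v) := inferInstance
  have h1F : 1 ≤ idealDepth J (F ⧸ ((IsLocalRing.maximalIdeal A).map (algebraMap A B) •
      (⊤ : Submodule B F))) := le_trans (by norm_num) h2F
  have h1E0 : 1 ≤ idealDepth J (E0 ⧸ ((IsLocalRing.maximalIdeal A).map (algebraMap A B) •
      (⊤ : Submodule B E0))) := le_trans (by norm_num) h0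
  -- K1 : `F₀ → E⁰₀` is injective
  have hK1 : ∀ x : F, f x ∈ (IsLocalRing.maximalIdeal A).map (algebraMap A B) •
      (⊤ : Submodule B E0) → x ∈ (IsLocalRing.maximalIdeal A).map (algebraMap A B) •
      (⊤ : Submodule B F) := by
    intro x hx
    rw [← Submodule.Quotient.mk_eq_zero]
    apply eq_zero_of_pow_smul_eq_zero J h1F
    apply exists_pow_smul_eq_zero_of_forall_prime
    intro q hq hJq
    haveI := hGU ⟨q, hq⟩ hJq
    haveI : Module.Flat A (LocalizedModule q.primeCompl (LinearMap.ker v)) :=
      flat_localized_ker_v A B v q.primeCompl hv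
    obtain ⟨w, hw⟩ := exists_smul_mem_of_flat_coker f (uhat B u v huv) q.primeCompl hf hex hsurj
      (IsLocalRing.maximalIdeal A) x hx
    refine ⟨w, w.2, ?_⟩
    rw [← Submodule.Quotient.mk_smul, Submodule.Quotient.mk_eq_zero]
    exact hw
  -- the closed fibre sequence `0 → F₀ → E⁰₀ → Z₀ → 0`
  have hinj0 := fibMap_injective ((IsLocalRing.maximalIdeal A).map (algebraMap A B)) f hK1
  have hex0 := fibMap_exact ((IsLocalRing.maximalIdeal A).map (algebraMap A B)) f
    (uhat B u v huv) hex (exists_mem_of_surjective _ _ hsurj)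
  have hsurj0 := fibMap_surjective ((IsLocalRing.maximalIdeal A).map (algebraMap A B))
    (uhat B u v huv) hsurj
  have h1Z : 1 ≤ idealDepth J ((LinearMap.ker v) ⧸
      ((IsLocalRing.maximalIdeal A).map (algebraMap A B) •
        (⊤ : Submodule B (LinearMap.ker v)))) := by
    have := natCast_le_idealDepth_right J _ _ hinj0 hex0 hsurj0 1
      (by simpa using h1E0) (by simpa using h2F)
    simpa using this
  -- T0 : `Z₀ → E¹₀` is injective
  have hT0 : ∀ z : LinearMap.ker v, (LinearMap.ker v).subtype z ∈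
      (IsLocalRing.maximalIdeal A).map (algebraMap A B) • (⊤ : Submodule B E1) →
      z ∈ (IsLocalRing.maximalIdeal A).map (algebraMap A B) •
        (⊤ : Submodule B (LinearMap.ker v)) := by
    intro z hz
    rw [← Submodule.Quotient.mk_eq_zero]
    apply eq_zero_of_pow_smul_eq_zero J h1Z
    apply exists_pow_smul_eq_zero_of_forall_prime
    intro q hq hJq
    haveI := hGU ⟨q, hq⟩ hJq
    obtain ⟨w, hw⟩ := exists_smul_mem_of_flat_coker (LinearMap.ker v).subtype v q.primeCompl
      Subtype.val_injective (LinearMap.exact_subtype_ker_map v) hv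
      (IsLocalRing.maximalIdeal A) z hz
    refine ⟨w, w.2, ?_⟩
    rw [← Submodule.Quotient.mk_smul, Submodule.Quotient.mk_eq_zero]
    exact hw
  -- injectivity after tensoring with the residue field
  have hinjk : Function.Injective (LinearMap.lTensor (IsLocalRing.ResidueField A)
      ((LinearMap.ker v).subtype.restrictScalars A)) := by
    change Function.Injective (LinearMap.lTensor (A ⧸ IsLocalRing.maximalIdeal A)
      ((LinearMap.ker v).subtype.restrictScalars A))
    rw [LinearMap.lTensor_inj_iff_rTensor_inj, injective_iff_map_eq_zero]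
    intro s hs
    let e := TensorProduct.tensorQuotEquivQuotSMul (LinearMap.ker v) (IsLocalRing.maximalIdeal A)
    obtain ⟨z, hz⟩ := Submodule.Quotient.mk_surjective _ (e s)
    have hs' : s = z ⊗ₜ 1 := by
      rw [← TensorProduct.tensorQuotEquivQuotSMul_symm_mk, hz]
      exact (e.symm_apply_apply s).symm
    rw [hs', LinearMap.rTensor_tmul] at hs
    rw [hs']
    exact (tmul_one_eq_zero_iff (B := B) _ z).2
      (hT0 z ((tmul_one_eq_zero_iff (B := B) _ _).1 hs))
  have hflat := (Groth.Agent.H76.InjFlat.injective_and_flat (S := B)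
    ((LinearMap.ker v).subtype.restrictScalars A) hinjk).2
  have hker : LinearMap.range ((LinearMap.ker v).subtype.restrictScalars A) =
      LinearMap.ker (v.restrictScalars A) := by
    ext y
    simp
  let e : (E1 ⧸ LinearMap.range ((LinearMap.ker v).subtype.restrictScalars A)) ≃ₗ[A] G :=
    (Submodule.quotEquivOfEq _ _ hker).trans
      (LinearMap.quotKerEquivOfSurjective (v.restrictScalars A) hv)
  exact Module.Flat.of_linearEquiv e.symm

end main

end Groth.Agent.Lib.Helper12.FourTermFlat
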