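import Groth.Agent.Lib.Helper45.QCohStalk
import Groth.Prelude.Def_FlatMod2
import Mathlib.AlgebraicGeometry.Modules.Tilde
import Mathlib.RingTheory.Flat.Localization
import Mathlib.RingTheory.Localization.BaseChange
open TensorProduct AlgebraicGeometry CategoryTheory
universe u
set_option linter.style.haveILetI false

namespace Groth.Agent.Lib.Helper12.FlatOver

/-- A localization (over a bigger ring `S`) of an `R`-flat `S`-module is `R`-flat. -/
theorem flat_of_isLocalizedModule {R S : Type*} [CommRing R] [CommRing S] [Algebra R S]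
    (p : Submonoid S) {M Mp : Type*} [AddCommGroup M] [AddCommGroup Mp] [Module R M] [Module S M]
    [IsScalarTower R S M] [Module R Mp] [Module S Mp] [IsScalarTower R S Mp] (f : M →ₗ[S] Mp)
    [IsLocalizedModule p f] [H : Module.Flat R M] : Module.Flat R Mp := by
  rw [Module.Flat.iff_lTensor_injectiveₛ] at H ⊢
  intro P _ _ N
  have h1 := H (P := P) N
  have h2 : Function.Injective (AlgebraTensorModule.lTensor S M N.subtype) := h1
  have h3 := IsLocalizedModule.map_injective p (AlgebraTensorModule.rTensor R N f)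
    (AlgebraTensorModule.rTensor R P f) (AlgebraTensorModule.lTensor S M N.subtype) h2
  rw [IsLocalizedModule.map_lTensor] at h3
  exact h3

variable {X Y : Scheme.{u}}

/-- The `Γ(Y, V)`-module structure on the stalk `F_x`, `x ∈ W ⊆ u⁻¹ V`. -/
noncomputable abbrev stalkModuleBase (u : X ⟶ Y) (F : X.Modules) {V : Y.Opens} {W : X.Opens}
    (e : W ≤ u ⁻¹ᵁ V) (x : W) : Module Γ(Y, V) (F.presheaf.stalk (x : X)) :=
  Module.compHom _ ((algebraMap Γ(X, W) (X.presheaf.stalk (x : X))).comp (u.appLE V W e).hom)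

/-- Flatness of `F_x` over `O_{Y, u x}` is flatness over `Γ(Y, V)` for an affine open `V ∋ u x`. -/
theorem isFlatOverAt_iff_flat_stalk (u : X ⟶ Y) (F : X.Modules) {V : Y.Opens}
    (hV : IsAffineOpen V) {W : X.Opens} (e : W ≤ u ⁻¹ᵁ V) (x : W) :
    FlatMod.IsFlatOverAt u F (x : X) ↔
      (letI := stalkModuleBase u F e x
       Module.Flat Γ(Y, V) (F.presheaf.stalk (x : X))) := by
  have hxV : u.base (x : X) ∈ V := e x.2
  letI modRN : Module Γ(Y, V) (F.presheaf.stalk (x : X)) := stalkModuleBase u F e x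
  unfold FlatMod.IsFlatOverAt
  letI modR'N : Module (Y.presheaf.stalk (u.base (x : X))) (F.presheaf.stalk (x : X)) :=
    FlatMod.moduleStalkOver u F (x : X)
  letI algRR' : Algebra Γ(Y, V) (Y.presheaf.stalk (u.base (x : X))) :=
    TopCat.Presheaf.algebra_section_stalk Y.presheaf (⟨u.base (x : X), hxV⟩ : V)
  haveI hlocY : IsLocalization.AtPrime (Y.presheaf.stalk (u.base (x : X)))
      (hV.primeIdealOf (⟨u.base (x : X), hxV⟩ : V)).asIdeal :=
    hV.isLocalization_stalk (⟨u.base (x : X), hxV⟩ : V)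
  haveI : IsScalarTower Γ(Y, V) (Y.presheaf.stalk (u.base (x : X)))
      (F.presheaf.stalk (x : X)) := by
    refine IsScalarTower.of_algebraMap_smul fun r n => ?_
    change (u.stalkMap (x : X)).hom
        (algebraMap Γ(Y, V) (Y.presheaf.stalk (u.base (x : X))) r) • n =
      ((algebraMap Γ(X, W) (X.presheaf.stalk (x : X))).comp
        (u.appLE V W e).hom) r • n
    congr 1
    change (u.stalkMap (x : X)).hom (Y.presheaf.germ V (u.base (x : X)) hxV r) = _
    rw [Scheme.Hom.germ_stalkMap_apply]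
    simp only [Scheme.Hom.appLE, homOfLE_leOfHom,
      CommRingCat.hom_comp, RingHom.coe_comp, Function.comp_apply]
    change _ = X.presheaf.germ W (x : X) x.2 _
    rw [X.presheaf.germ_res_apply]
  exact Module.flat_iff_of_isLocalization (Y.presheaf.stalk (u.base (x : X)))
    (hV.primeIdealOf (⟨u.base (x : X), hxV⟩ : V)).asIdeal.primeCompl
    (F.presheaf.stalk (x : X))


/-- A quasi-coherent module whose sections over an affine open `W ⊆ u⁻¹ V` are flat over
`Γ(Y, V)` is flat over `Y` at all points of `W`. -/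
theorem isFlatOverAt_of_flat_sections (u : X ⟶ Y) (F : X.Modules) [F.IsQuasicoherent]
    {V : Y.Opens} (hV : IsAffineOpen V) {W : X.Opens} (hW : IsAffineOpen W) (e : W ≤ u ⁻¹ᵁ V)
    (hflat : letI : Module Γ(Y, V) Γ(F, W) := Module.compHom _ (u.appLE V W e).hom
      Module.Flat Γ(Y, V) Γ(F, W)) (x : W) : FlatMod.IsFlatOverAt u F (x : X) := by
  rw [isFlatOverAt_iff_flat_stalk u F hV e x]
  letI algRS : Algebra Γ(Y, V) Γ(X, W) := (u.appLE V W e).hom.toAlgebra
  letI modRM : Module Γ(Y, V) Γ(F, W) := Module.compHom _ (u.appLE V W e).hom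
  haveI : IsScalarTower Γ(Y, V) Γ(X, W) Γ(F, W) := IsScalarTower.of_compHom _ _ _
  letI modSN : Module Γ(X, W) (F.presheaf.stalk (x : X)) :=
    Groth.Agent.Lib.Helper45.stalkModuleSections F x
  letI modRN : Module Γ(Y, V) (F.presheaf.stalk (x : X)) := stalkModuleBase u F e x
  haveI : IsScalarTower Γ(Y, V) Γ(X, W) (F.presheaf.stalk (x : X)) := by
    refine ⟨fun r s n => ?_⟩
    change algebraMap Γ(X, W) (X.presheaf.stalk (x : X)) (r • s) • n =
      ((algebraMap Γ(X, W) (X.presheaf.stalk (x : X))).comp (algebraMap Γ(Y, V) Γ(X, W))) r •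
        (algebraMap Γ(X, W) (X.presheaf.stalk (x : X)) s • n)
    rw [Algebra.smul_def, map_mul, mul_smul]
    rfl
  haveI hloc := Groth.Agent.Lib.Helper45.isLocalizedModule_germₗ hW F x
  exact flat_of_isLocalizedModule (hW.primeIdealOf x).asIdeal.primeCompl
    (Groth.Agent.Lib.Helper45.germₗ F x)


/-- The point of an affine open `W` attached to a prime of `Γ(X, W)`. -/
noncomputable def pointOfPrime {W : X.Opens} (hW : IsAffineOpen W)
    (P : PrimeSpectrum Γ(X, W)) : W := hW.isoSpec.inv P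

theorem primeIdealOf_pointOfPrime {W : X.Opens} (hW : IsAffineOpen W)
    (P : PrimeSpectrum Γ(X, W)) : hW.primeIdealOf (pointOfPrime hW P) = P := by
  unfold pointOfPrime IsAffineOpen.primeIdealOf
  have := Scheme.Hom.comp_apply hW.isoSpec.inv hW.isoSpec.hom P
  rw [Iso.inv_hom_id] at this
  exact this.symm

/-- Conversely, a quasi-coherent module flat over `Y` at all points of an affine open
`W ⊆ u⁻¹ V` has `Γ(Y, V)`-flat sections over `W`. -/
theorem flat_sections_of_isFlatOverAt (u : X ⟶ Y) (F : X.Modules) [F.IsQuasicoherent]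
    {V : Y.Opens} (hV : IsAffineOpen V) {W : X.Opens} (hW : IsAffineOpen W) (e : W ≤ u ⁻¹ᵁ V)
    (h : ∀ x : W, FlatMod.IsFlatOverAt u F (x : X)) :
    letI : Module Γ(Y, V) Γ(F, W) := Module.compHom _ (u.appLE V W e).hom
    Module.Flat Γ(Y, V) Γ(F, W) := by
  letI algRS : Algebra Γ(Y, V) Γ(X, W) := (u.appLE V W e).hom.toAlgebra
  letI modRM : Module Γ(Y, V) Γ(F, W) := Module.compHom _ (u.appLE V W e).hom
  haveI : IsScalarTower Γ(Y, V) Γ(X, W) Γ(F, W) := IsScalarTower.of_compHom _ _ _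
  let pt : ∀ (P : Ideal Γ(X, W)) [P.IsMaximal], W := fun P hP =>
    pointOfPrime hW ⟨P, hP.isPrime⟩
  letI modSN : ∀ (P : Ideal Γ(X, W)) [P.IsMaximal],
      Module Γ(X, W) (F.presheaf.stalk ((pt P : W) : X)) := fun P _ =>
    Groth.Agent.Lib.Helper45.stalkModuleSections F (pt P)
  letI modRN : ∀ (P : Ideal Γ(X, W)) [P.IsMaximal],
      Module Γ(Y, V) (F.presheaf.stalk ((pt P : W) : X)) := fun P _ =>
    stalkModuleBase u F e (pt P)
  haveI tower : ∀ (P : Ideal Γ(X, W)) [P.IsMaximal],
      IsScalarTower Γ(Y, V) Γ(X, W) (F.presheaf.stalk ((pt P : W) : X)) := fun P _ => by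
    refine ⟨fun r s n => ?_⟩
    change algebraMap Γ(X, W) (X.presheaf.stalk ((pt P : W) : X)) (r • s) • n =
      ((algebraMap Γ(X, W) (X.presheaf.stalk ((pt P : W) : X))).comp
        (algebraMap Γ(Y, V) Γ(X, W))) r •
        (algebraMap Γ(X, W) (X.presheaf.stalk ((pt P : W) : X)) s • n)
    rw [Algebra.smul_def, map_mul, mul_smul]
    rfl
  haveI hloc : ∀ (P : Ideal Γ(X, W)) [P.IsMaximal],
      IsLocalizedModule.AtPrime P (Groth.Agent.Lib.Helper45.germₗ F (pt P)) := fun P hP => by
    have h1 := Groth.Agent.Lib.Helper45.isLocalizedModule_germₗ hW F (pt P)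
    rw [primeIdealOf_pointOfPrime hW ⟨P, hP.isPrime⟩] at h1
    exact h1
  refine @Module.flat_of_isLocalized_maximal Γ(Y, V) Γ(X, W) _ _ algRS Γ(F, W) _ modRM _ _
    (fun P _ => F.presheaf.stalk ((pt P : W) : X)) (fun P _ => inferInstance)
    (fun P _ => modRN P) (fun P _ => modSN P) (fun P _ => tower P)
    (fun P _ => Groth.Agent.Lib.Helper45.germₗ F (pt P)) (fun P _ => hloc P) (fun P _ => ?_)
  exact (isFlatOverAt_iff_flat_stalk u F hV e (pt P)).mp (h (pt P))



theorem flat_iff_of_bijective {R R' : Type*} [CommRing R] [CommRing R'] [Algebra R R']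
    (hb : Function.Bijective (algebraMap R R')) (N : Type*) [AddCommGroup N] [Module R N]
    [Module R' N] [IsScalarTower R R' N] : Module.Flat R' N ↔ Module.Flat R N := by
  have : IsLocalization (⊥ : Submonoid R) R' := by
    refine IsLocalization.of_le_isUnit_of_bijective ?_ hb
    rintro _ ⟨x, hx, rfl⟩
    rw [Submonoid.mem_bot.mp hx, map_one]
    exact isUnit_one
  exact Module.flat_iff_of_isLocalization R' (⊥ : Submonoid R) N

/-- `M~` on `Spec S` is flat over `Spec R` iff `M` is flat over `R` (bundled rings). -/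
theorem tilde_isFlatOver_iff' {R S : CommRingCat.{u}} [Algebra R S]
    (M : Type u) [AddCommGroup M] [Module S M] [Module R M] [IsScalarTower R S M] :
    FlatMod.IsFlatOver (Spec.map (CommRingCat.ofHom (algebraMap R S))) (tilde (ModuleCat.of S M)) ↔
      Module.Flat R M := by
  set u : Spec S ⟶ Spec R :=
    Spec.map (CommRingCat.ofHom (algebraMap R S)) with hu
  set F : (Spec S).Modules := tilde (ModuleCat.of S M) with hF
  have hV : IsAffineOpen (⊤ : (Spec R).Opens) := isAffineOpen_top _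
  have hW : IsAffineOpen (⊤ : (Spec S).Opens) := isAffineOpen_top _
  have e : (⊤ : (Spec S).Opens) ≤ u ⁻¹ᵁ ⊤ := le_of_eq rfl
  have h1 : FlatMod.IsFlatOver u F ↔
      ∀ x : (⊤ : (Spec S).Opens), FlatMod.IsFlatOverAt u F (x : _) :=
    ⟨fun h x => h x, fun h x => h ⟨x, trivial⟩⟩
  rw [h1]
  letI modSN : Module Γ(Spec R, ⊤) Γ(F, ⊤) :=
    Module.compHom _ (u.appLE ⊤ ⊤ e).hom
  have h2 : (∀ x : (⊤ : (Spec S).Opens), FlatMod.IsFlatOverAt u F (x : _)) ↔
      Module.Flat Γ(Spec R, ⊤) Γ(F, ⊤) :=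
    ⟨fun h => flat_sections_of_isFlatOverAt u F hV hW e h,
      fun h x => isFlatOverAt_of_flat_sections u F hV hW e h x⟩
  rw [h2]
  letI algA : Algebra R Γ(Spec R, ⊤) :=
    ((Scheme.ΓSpecIso R).inv.hom).toAlgebra
  have hbij : Function.Bijective (algebraMap R Γ(Spec R, ⊤)) :=
    ConcreteCategory.bijective_of_isIso (Scheme.ΓSpecIso R).inv
  letI modAN : Module R Γ(F, ⊤) := Module.compHom _ (algebraMap R S)
  haveI : IsScalarTower R S Γ(F, ⊤) := IsScalarTower.of_compHom _ _ _
  haveI : IsScalarTower R Γ(Spec R, ⊤) Γ(F, ⊤) := by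
    refine IsScalarTower.of_algebraMap_smul fun a n => ?_
    change (u.appLE ⊤ ⊤ e).hom ((Scheme.ΓSpecIso R).inv.hom a) • n =
      (algebraMap R S a) • n
    rw [Scheme.Modules.smul_Spec_def]
    congr 1
    have e1 : u.appLE ⊤ ⊤ e = u.appTop := by
      simp only [Scheme.Hom.appLE, Scheme.Hom.appTop]
      have : (Spec S).presheaf.map (homOfLE e).op = 𝟙 _ := by
        have h4 : (homOfLE e).op = 𝟙 (Opposite.op (u ⁻¹ᵁ ⊤)) := Subsingleton.elim _ _
        rw [h4]
        exact (Spec S).presheaf.map_id _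
      rw [this]
      exact Category.comp_id _
    have e2 : (Spec S).presheaf.map (⊤ : (Spec S).Opens).leTop.op = 𝟙 _ := by
      have : (⊤ : (Spec S).Opens).leTop.op = 𝟙 _ := Subsingleton.elim _ _
      rw [this, CategoryTheory.Functor.map_id]
    have nat := Scheme.ΓSpecIso_inv_naturality (CommRingCat.ofHom (algebraMap R S))
    have h3 := congrArg (fun f => f.hom a) nat
    rw [e1, e2]
    exact h3.symm
  rw [flat_iff_of_bijective hbij]
  let ψ : M ≃ₗ[S] Γ(F, ⊤) := (tilde.isoTop (ModuleCat.of S M)).toLinearEquiv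
  exact ⟨fun h => Module.Flat.of_linearEquiv (ψ.restrictScalars R),
    fun h => Module.Flat.of_linearEquiv (ψ.restrictScalars R).symm⟩

end Groth.Agent.Lib.Helper12.FlatOver
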