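import Mathlib
import Groth.Agent.Lib.Helper45.FiniteType
import Groth.Agent.Lib.Helper22.GoingDownModule
import Groth.Prelude.Def_FDesc
import Groth.Agent.Lib.Helper47.QcClosure

set_option autoImplicit false

namespace Groth.Agent.Lib.Helper12.QuasiFlat

open CategoryTheory AlgebraicGeometry CategoryTheory.Limits Groth.Agent.Lib.Helper45

universe u

/-- A local homomorphism `φ : A → B` of local rings, and a nonzero finite `B`-module `N` that is
flat over `A`: every prime of `A` is the contraction of a prime of `B`. -/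
theorem exists_prime_comap_eq {A B N : Type*} [CommRing A] [CommRing B] [IsLocalRing A]
    [IsLocalRing B] (φ : A →+* B) [IsLocalHom φ] [AddCommGroup N] [Module B N]
    [Module.Finite B N] [Nontrivial N]
    (hflat : letI := Module.compHom N φ; Module.Flat A N) (p : Ideal A) [p.IsPrime] :
    ∃ q : Ideal B, q.IsPrime ∧ q.comap φ = p := by
  let _ := Module.compHom N φ
  let _ : Algebra A B := φ.toAlgebra
  have hflat' : Module.Flat A N := hflat
  have htower : IsScalarTower A B N :=
    ⟨fun a b n => by change (φ a * b) • n = φ a • (b • n); exact mul_smul _ _ _⟩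
  have hres : ((p.map φ) • (⊤ : Submodule B N)).restrictScalars A = p • (⊤ : Submodule A N) := by
    have := Ideal.smul_restrictScalars (R := A) (S := B) p (⊤ : Submodule B N)
    rw [Submodule.restrictScalars_top] at this
    exact this
  rw [← Ideal.comap_map_eq_self_iff_of_isPrime]
  refine le_antisymm ?_ Ideal.le_comap_map
  intro a ha
  by_contra hap
  rw [Ideal.mem_comap] at ha
  -- every element of `N` lies in `p • ⊤`
  have hall : ∀ n : N, n ∈ (p.map φ) • (⊤ : Submodule B N) := by
    intro n
    have h0 : n ∈ p • (⊤ : Submodule A N) := by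
      apply Groth.Agent.Lib.Helper22.mem_smul_top_of_smul_mem_of_flat p hap
      have h1 : φ a • n ∈ (p.map φ) • (⊤ : Submodule B N) :=
        Submodule.smul_mem_smul ha Submodule.mem_top
      rw [← hres]
      exact h1
    rw [← hres] at h0
    exact h0
  have htop : (⊤ : Submodule B N) ≤ (p.map φ) • (⊤ : Submodule B N) := fun n _ => hall n
  have hle : p.map φ ≤ (⊥ : Ideal B).jacobson := by
    rw [IsLocalRing.jacobson_eq_maximalIdeal ⊥ bot_ne_top, Ideal.map_le_iff_le_comap]
    intro x hx
    rw [Ideal.mem_comap, IsLocalRing.mem_maximalIdeal, mem_nonunits_iff]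
    intro hu
    have : IsUnit x := IsLocalHom.map_nonunit x hu
    exact (IsLocalRing.le_maximalIdeal (Ideal.IsPrime.ne_top inferInstance) hx) this
  have := Submodule.eq_bot_of_le_smul_of_le_jacobson_bot (p.map φ) (⊤ : Submodule B N)
    Module.Finite.fg_top htop hle
  exact top_ne_bot this

attribute [local instance] stalkModuleSections

theorem finite_stalk_of_isCoh {X : Scheme.{u}} (F : X.Modules) (hF : Coh.IsCoh F) (x : X) :
    Module.Finite (X.presheaf.stalk x) (F.presheaf.stalk x) := by
  have hq : SheafOfModules.IsQuasicoherent.{u, u, u} F := hF.1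
  obtain ⟨_, ⟨V, hV : IsAffineOpen V, rfl⟩, hxV, -⟩ :=
    X.isBasis_affineOpens.exists_subset_of_mem_open (Set.mem_univ x) isOpen_univ
  obtain ⟨x, rfl⟩ : ∃ x' : V, (x' : X) = x := ⟨⟨x, hxV⟩, rfl⟩
  have : Module.Finite Γ(X, V) Γ(F, V) := finite_sections_of_isCoh hV F hF
  have hlocR := hV.isLocalization_stalk x
  have hlocM := isLocalizedModule_germₗ hV F x
  exact Module.Finite.of_isLocalizedModule (hV.primeIdealOf x).asIdeal.primeCompl (germₗ F x)

theorem generalizingMap_of_isQuasiFlat {X Y : Scheme.{u}} (f : X ⟶ Y) (hf : FDesc.IsQuasiFlat f) :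
    GeneralizingMap f.base := by
  obtain ⟨M, hM, hflat, hnt⟩ := hf
  intro x y' hy'
  have hmem : y' ∈ Set.range (Y.fromSpecStalk (f.base x)).base := by
    rw [Scheme.range_fromSpecStalk]
    exact hy'
  obtain ⟨p', rfl⟩ := hmem
  have hfin := finite_stalk_of_isCoh M hM x
  have := hnt x
  have hloc : IsLocalHom (f.stalkMap x).hom := inferInstance
  have hp' : p'.asIdeal.IsPrime := p'.isPrime
  obtain ⟨q, hq, hqp⟩ := exists_prime_comap_eq (f.stalkMap x).hom (N := M.presheaf.stalk x)
    (hflat x) p'.asIdeal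
  let q' : Spec (X.presheaf.stalk x) := ⟨q, hq⟩
  refine ⟨(X.fromSpecStalk x).base q', ?_, ?_⟩
  · have : (X.fromSpecStalk x).base q' ∈ Set.range (X.fromSpecStalk x).base := ⟨q', rfl⟩
    rw [Scheme.range_fromSpecStalk] at this
    exact this
  · rw [← Scheme.Hom.comp_apply, ← Scheme.SpecMap_stalkMap_fromSpecStalk, Scheme.Hom.comp_apply]
    congr 1
    exact PrimeSpectrum.ext hqp

theorem preimage_closure_eq_of_generalizingMap {X Y Y' : Scheme.{u}} (f : X ⟶ Y)
    (hf : GeneralizingMap f.base) (g : Y' ⟶ Y) [QuasiCompact g] :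
    f.base ⁻¹' closure (Set.range g.base) = closure (f.base ⁻¹' Set.range g.base) := by
  apply subset_antisymm
  · intro x hx
    obtain ⟨y', hy'⟩ := Groth.Agent.Lib.Helper47.exists_specializes_of_mem_closure_range g _ hx
    obtain ⟨x', hx', hfx'⟩ := hf hy'
    have h1 : x ∈ closure {x'} := specializes_iff_mem_closure.mp hx'
    refine closure_mono ?_ h1
    rw [Set.singleton_subset_iff]
    exact ⟨y', hfx'.symm⟩
  · exact closure_minimal (Set.preimage_mono subset_closure)
      (isClosed_closure.preimage f.continuous)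

/-- A surjective, quasi-compact, generalizing morphism is a quotient map. -/
lemma isQuotientMap_of_generalizingMap {X Y : Scheme.{u}} (f : X ⟶ Y)
    (hf : GeneralizingMap f.base) [QuasiCompact f]
    [Surjective f] : Topology.IsQuotientMap f.base := by
  rw [Topology.isQuotientMap_iff]
  refine ⟨.of_isOpen_preimage_iff_isOpen fun s ↦
    ⟨fun hs ↦ ?_, fun hs ↦ hs.preimage f.continuous⟩, f.surjective⟩
  wlog hY : ∃ R, Y = Spec R
  · let 𝒰 := Y.affineCover
    rw [𝒰.isOpenCover_opensRange.isOpen_iff_inter]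
    intro i
    rw [Scheme.Hom.coe_opensRange, ← Set.image_preimage_eq_inter_range]
    apply (𝒰.f i).isOpenEmbedding.isOpenMap
    refine this (f := pullback.fst (𝒰.f i) f) ?_ _ ?_ ⟨_, rfl⟩
    · exact IsZariskiLocalAtTarget.of_isPullback (P := topologically GeneralizingMap)
        (iY := Y.affineCover.f i) (IsPullback.of_hasPullback ..).flip hf
    rw [← Set.preimage_comp, ← TopCat.coe_comp, ← Scheme.Hom.comp_base, pullback.condition,
      Scheme.Hom.comp_base, TopCat.coe_comp, Set.preimage_comp]
    exact hs.preimage (Scheme.Hom.continuous _)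
  obtain ⟨R, rfl⟩ := hY
  wlog hX : ∃ S, X = Spec S
  · have _ : CompactSpace X := QuasiCompact.compactSpace_of_compactSpace f
    let 𝒰 := X.affineCover.finiteSubcover
    let p : ∐ (fun i : 𝒰.I₀ ↦ 𝒰.X i) ⟶ X := Sigma.desc (fun i ↦ 𝒰.f i)
    refine this (f := (∐ (fun i : 𝒰.I₀ ↦ 𝒰.X i)).isoSpec.inv ≫ p ≫ f) _ ?_ _ ?_ ⟨_, rfl⟩
    · have h1 : GeneralizingMap ((∐ (fun i : 𝒰.I₀ ↦ 𝒰.X i)).isoSpec.inv ≫ p).base :=
        Flat.generalizingMap _
      rw [← Category.assoc, Scheme.Hom.comp_base]
      exact h1.comp hf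
    rw [← Category.assoc, Scheme.Hom.comp_base, TopCat.coe_comp, Set.preimage_comp]
    exact hs.preimage (_ ≫ p).continuous
  obtain ⟨S, rfl⟩ := hX
  obtain ⟨φ, rfl⟩ := Spec.map_surjective f
  refine ((PrimeSpectrum.isQuotientMap_of_generalizingMap ?_ ?_).isOpen_preimage).mp hs
  · exact (surjective_iff (Spec.map φ)).mp inferInstance
  · exact hf

end Groth.Agent.Lib.Helper12.QuasiFlat
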