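import Groth.Agent.Lib.Helper12.FlatCxRank
import Groth.Agent.Lib.Helper12.ConstrTop
open CategoryTheory CategoryTheory.Limits MonoidalCategory TensorProduct
universe u
namespace Groth.Agent.Lib.Helper12.FlatCx

section DRank2
variable {A : Type u} [CommRing A] {ι : Type} {c : ComplexShape ι}

lemma exists_fd_le (M : Type u) [AddCommGroup M] [Module A M] [Module.Finite A M] :
    ∃ n : ℕ, ∀ x : PrimeSpectrum A, fd M x ≤ n := by
  obtain ⟨n, f, hf⟩ := Module.Finite.exists_fin' A M
  refine ⟨n, fun x => ?_⟩
  have : Nontrivial A := x.nontrivial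
  have hs : Function.Surjective (f.baseChange x.asIdeal.ResidueField) := by
    rw [LinearMap.baseChange_eq_ltensor]
    exact LinearMap.lTensor_surjective _ hf
  calc fd M x ≤ Module.finrank x.asIdeal.ResidueField
        (x.asIdeal.ResidueField ⊗[A] (Fin n → A)) :=
        LinearMap.finrank_le_finrank_of_surjective hs
    _ = n := by rw [Module.finrank_baseChange, Module.finrank_fin_fun]

lemma exists_dRank_le (P : HomologicalComplex (ModuleCat.{u} A) c)
    (hP : ∀ i, Module.Finite A (P.X i)) (p q : ι) (hpq : c.Rel p q) :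
    ∃ n : ℕ, ∀ x : PrimeSpectrum A, CohIII.dRank P p x ≤ n := by
  have := finite_opcycles P hP p
  have := finite_opcycles P hP q
  obtain ⟨n1, h1⟩ := exists_fd_le (A := A) (P.opcycles p)
  obtain ⟨n2, h2⟩ := exists_fd_le (A := A) (P.opcycles q)
  refine ⟨n1 + n2, fun x => ?_⟩
  have e := dRank_add P hP p q hpq x
  have := h1 x
  have := h2 x
  omega

theorem dRank_constructible [IsNoetherianRing A]
    (P : HomologicalComplex (ModuleCat.{u} A) c)
    (hP : ∀ i, Module.Finite A (P.X i) ∧ Module.Flat A (P.X i)) (p q : ι) (hpq : c.Rel p q) :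
    (Set.range (CohIII.dRank P p)).Finite ∧
      ∀ n : ℕ, Topology.IsConstructible {x : PrimeSpectrum A | CohIII.dRank P p x = n} := by
  constructor
  · obtain ⟨n, hn⟩ := exists_dRank_le P (fun i => (hP i).1) p q hpq
    refine (Set.finite_Iic n).subset ?_
    rintro _ ⟨x, rfl⟩
    exact hn x
  · intro n
    have husc := dRank_upperSemicontinuous P hP p q hpq
    rw [upperSemicontinuous_iff_isOpen_preimage] at husc
    have h1 : IsOpen {x : PrimeSpectrum A | CohIII.dRank P p x < n + 1} := husc (n + 1)
    have h2 : IsClosed {x : PrimeSpectrum A | CohIII.dRank P p x < n}ᶜ := (husc n).isClosed_compl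
    have : {x : PrimeSpectrum A | CohIII.dRank P p x = n} =
        {x : PrimeSpectrum A | CohIII.dRank P p x < n + 1} ∩
          {x : PrimeSpectrum A | CohIII.dRank P p x < n}ᶜ := by
      ext x
      simp only [Set.mem_ofPred_eq, Set.mem_inter_iff, Set.mem_compl_iff]
      omega
    rw [this]
    exact (ConstrTop.isConstructible_of_isOpen h1).inter (ConstrTop.isConstructible_of_isClosed h2)

end DRank2
section BcComp
variable {ι : Type} {c : ComplexShape ι}

/-- Transitivity of base change of complexes. -/
noncomputable def bcCxCompIso {A B C : Type u} [CommRing A] [CommRing B] [CommRing C]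
    (f : A →+* B) (g : B →+* C) (P : HomologicalComplex (ModuleCat.{u} A) c) :
    CohIII.bcCx (g.comp f) P ≅ CohIII.bcCx g (CohIII.bcCx f P) :=
  (NatIso.mapHomologicalComplex (ModuleCat.extendScalarsComp f g) c).app P

lemma finrank_homology_bcCx_field {K L : Type u} [Field K] [Field L] (ψ : K →+* L)
    (Q : HomologicalComplex (ModuleCat.{u} K) c) (p : ι) :
    Module.finrank L ((CohIII.bcCx ψ Q).homology p) = Module.finrank K (Q.homology p) := by
  let _ := ψ.toAlgebra
  have hψ : ψ.Flat := by
    show Module.Flat K L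
    infer_instance
  have e1 := (homologyBcIso ψ hψ Q p).toLinearEquiv.finrank_eq
  rw [e1]
  have e2 := (extendScalarsObjEquiv (R := K) (S := L) (Q.homology p)).finrank_eq
  have : algebraMap K L = ψ := rfl
  rw [this] at e2
  rw [e2, Module.finrank_baseChange]

end BcComp

section DRankBC
variable {ι : Type} {c : ComplexShape ι}

theorem dRank_baseChange {A A' : Type u} [CommRing A] [CommRing A'] [Algebra A A']
    (P : HomologicalComplex (ModuleCat.{u} A) c) (p : ι) (x' : PrimeSpectrum A') :
    CohIII.dRank (CohIII.bcCx (algebraMap A A') P) p x' =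
      CohIII.dRank P p (PrimeSpectrum.comap (algebraMap A A') x') := by
  set x := PrimeSpectrum.comap (algebraMap A A') x'
  let ψ : x.asIdeal.ResidueField →+* x'.asIdeal.ResidueField :=
    Ideal.ResidueField.map x.asIdeal x'.asIdeal (algebraMap A A') rfl
  have hcomp : (algebraMap A' x'.asIdeal.ResidueField).comp (algebraMap A A') =
      ψ.comp (algebraMap A x.asIdeal.ResidueField) := by
    ext a
    exact (Ideal.ResidueField.map_algebraMap x.asIdeal x'.asIdeal (algebraMap A A') rfl a).symm
  have iso : CohIII.bcCx (algebraMap A' x'.asIdeal.ResidueField)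
        (CohIII.bcCx (algebraMap A A') P) ≅
      CohIII.bcCx ψ (CohIII.bcCx (algebraMap A x.asIdeal.ResidueField) P) :=
    (bcCxCompIso _ _ P).symm ≪≫ eqToIso (by rw [hcomp]) ≪≫ bcCxCompIso _ _ P
  have e := ((HomologicalComplex.homologyFunctor _ c p).mapIso iso).toLinearEquiv.finrank_eq
  unfold CohIII.dRank
  exact e.trans (finrank_homology_bcCx_field ψ _ p)

end DRankBC

end Groth.Agent.Lib.Helper12.FlatCx
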