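import Groth.Agent.Lib.Helper12.FlatCx

/-!
# Helper library: the rank function `dRank` of a complex of finite flat modules.
-/
open CategoryTheory CategoryTheory.Limits MonoidalCategory TensorProduct
universe u
namespace Groth.Agent.Lib.Helper12.FlatCx

section Bridge
variable {R S : Type u} [CommRing R] [CommRing S] [Algebra R S]

set_option backward.isDefEq.respectTransparency false in
/-- The carrier of `extendScalars` is the usual base change. -/
noncomputable def extendScalarsObjEquiv (M : ModuleCat.{u} R) :
    ((ModuleCat.extendScalars (algebraMap R S)).obj M) ≃ₗ[S] S ⊗[R] M := by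
  let K' := (ModuleCat.restrictScalars (algebraMap R S)).obj (ModuleCat.of S S)
  let i : K' →ₗ[R] S :=
    { toFun := fun x => x
      map_add' := fun _ _ => rfl
      map_smul' := fun a (x : S) => by
        show algebraMap R S a * x = a • x
        exact (Algebra.smul_def a x).symm }
  let j : S →ₗ[R] K' :=
    { toFun := fun x => x
      map_add' := fun _ _ => rfl
      map_smul' := fun a (x : S) => by
        show a • x = algebraMap R S a * x
        exact (Algebra.smul_def a x) }
  let f : TensorProduct R K' M →ₗ[R] S ⊗[R] M := TensorProduct.map i LinearMap.id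
  let g : S ⊗[R] M →ₗ[R] TensorProduct R K' M := TensorProduct.map j LinearMap.id
  exact
  { toFun := f
    invFun := g
    map_add' := f.map_add
    map_smul' := by
      intro s x
      induction x using TensorProduct.induction_on with
      | zero => simp
      | tmul a m => rfl
      | add x y hx hy => 
        rw [smul_add, map_add, hx, hy, map_add, smul_add]
    left_inv := by
      intro x
      induction x using TensorProduct.induction_on with
      | zero => simp
      | tmul a m => rfl
      | add x y hx hy => rw [map_add, map_add, hx, hy]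
    right_inv := by
      intro x
      induction x using TensorProduct.induction_on with
      | zero => simp
      | tmul a m => rfl
      | add x y hx hy => rw [map_add, map_add, hx, hy] }

end Bridge

section FiberDim
variable {A : Type u} [CommRing A]

/-- `1 ⊗ m` span `K ⊗ M` over `K`. -/
lemma span_range_one_tmul (K : Type*) [CommRing K] [Algebra A K] (M : Type*) [AddCommGroup M]
    [Module A M] :
    Submodule.span K (Set.range fun m : M => (1 : K) ⊗ₜ[A] m) = ⊤ := by
  rw [eq_top_iff]
  rintro x -
  induction x using TensorProduct.induction_on with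
  | zero => exact Submodule.zero_mem _
  | tmul a m =>
    have : a ⊗ₜ[A] m = a • ((1 : K) ⊗ₜ[A] m) := by
      rw [TensorProduct.smul_tmul', smul_eq_mul, mul_one]
    rw [this]
    exact Submodule.smul_mem _ _ (Submodule.subset_span ⟨m, rfl⟩)
  | add x y hx hy => exact Submodule.add_mem _ hx hy

/-- Key exactness: for `g : F → M` with quotient `N = M / range g`, `K ⊗ N = 0` iff `K ⊗ g`
is surjective. -/
lemma subsingleton_tensor_quotient_iff (K : Type*) [CommRing K] [Algebra A K]
    {F M : Type*} [AddCommGroup F] [Module A F] [AddCommGroup M] [Module A M] (g : F →ₗ[A] M) :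
    Subsingleton (K ⊗[A] (M ⧸ LinearMap.range g)) ↔ Function.Surjective (g.baseChange K) := by
  have hex : Function.Exact (g.lTensor K) ((LinearMap.range g).mkQ.lTensor K) :=
    lTensor_exact K (LinearMap.exact_map_mkQ_range g) (Submodule.mkQ_surjective _)
  have hsurj : Function.Surjective ((LinearMap.range g).mkQ.lTensor K) :=
    LinearMap.lTensor_surjective K (Submodule.mkQ_surjective _)
  constructor
  · intro h y
    have : (LinearMap.range g).mkQ.lTensor K y = 0 := Subsingleton.elim _ _
    obtain ⟨z, hz⟩ := (hex y).mp this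
    exact ⟨z, hz⟩
  · intro h
    refine ⟨fun a b => ?_⟩
    obtain ⟨a', rfl⟩ := hsurj a
    obtain ⟨b', rfl⟩ := hsurj b
    obtain ⟨a'', rfl⟩ := h a'
    obtain ⟨b'', rfl⟩ := h b'
    have h1 := (hex (g.lTensor K a'')).mpr ⟨a'', rfl⟩
    have h2 := (hex (g.lTensor K b'')).mpr ⟨b'', rfl⟩
    exact h1.trans h2.symm

/-- The fibre dimension of a finite module is upper semicontinuous. -/
theorem upperSemicontinuous_finrank_fiber (M : Type u) [AddCommGroup M] [Module A M]
    [Module.Finite A M] :
    UpperSemicontinuous fun x : PrimeSpectrum A =>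
      Module.finrank x.asIdeal.ResidueField (x.asIdeal.ResidueField ⊗[A] M) := by
  intro x y hy
  have : Nontrivial A := x.nontrivial
  set κ := x.asIdeal.ResidueField
  obtain ⟨r, hr', w, hw, hspan⟩ : ∃ r : ℕ, r = Module.finrank κ (κ ⊗[A] M) ∧
      ∃ w : Fin r → κ ⊗[A] M, (∀ i, w i ∈ Set.range fun m : M => (1 : κ) ⊗ₜ[A] m) ∧
        Submodule.span κ (Set.range w) = ⊤ := by
    obtain ⟨w, hw, hspan, -⟩ := Submodule.exists_fun_fin_finrank_span_eq κ
      (Set.range fun m : M => (1 : κ) ⊗ₜ[A] m)
    refine ⟨_, ?_, w, hw, hspan.trans (span_range_one_tmul κ M)⟩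
    rw [span_range_one_tmul, finrank_top]
  choose v hv using hw
  let g : (Fin r → A) →ₗ[A] M := Fintype.linearCombination A v
  let N := M ⧸ LinearMap.range g
  have hgsurj : Function.Surjective (g.baseChange κ) := by
    rw [← LinearMap.range_eq_top, eq_top_iff, ← hspan, Submodule.span_le]
    rintro _ ⟨i, rfl⟩
    refine ⟨(1 : κ) ⊗ₜ[A] Pi.single i 1, ?_⟩
    rw [LinearMap.baseChange_tmul, ← hv i]
    congr 1
    simp [g, Fintype.linearCombination_apply_single]
  have hN : x ∉ Module.support A N := by
    rw [Module.mem_support_iff_nontrivial_residueField_tensorProduct, not_nontrivial_iff_subsingleton]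
    exact (subsingleton_tensor_quotient_iff κ g).mpr hgsurj
  have hopen : IsOpen (Module.support A N)ᶜ := (Module.isClosed_support).isOpen_compl
  filter_upwards [hopen.mem_nhds hN] with x' hx'
  refine lt_of_le_of_lt ?_ hy
  have hN' : Subsingleton (x'.asIdeal.ResidueField ⊗[A] N) := by
    rw [← not_nontrivial_iff_subsingleton,
      ← Module.mem_support_iff_nontrivial_residueField_tensorProduct]
    exact hx'
  have hs := (subsingleton_tensor_quotient_iff x'.asIdeal.ResidueField g).mp hN'
  calc Module.finrank x'.asIdeal.ResidueField (x'.asIdeal.ResidueField ⊗[A] M)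
      ≤ Module.finrank x'.asIdeal.ResidueField (x'.asIdeal.ResidueField ⊗[A] (Fin r → A)) :=
        LinearMap.finrank_le_finrank_of_surjective hs
    _ = r := by rw [Module.finrank_baseChange, Module.finrank_fin_fun]
    _ = _ := hr'

end FiberDim

section FourTerm

lemma finrank_four_term {K : Type*} [Field K] {V1 V2 V3 V4 : Type*}
    [AddCommGroup V1] [Module K V1] [AddCommGroup V2] [Module K V2]
    [AddCommGroup V3] [Module K V3] [AddCommGroup V4] [Module K V4]
    [FiniteDimensional K V2] [FiniteDimensional K V3]
    (f1 : V1 →ₗ[K] V2) (f2 : V2 →ₗ[K] V3) (f3 : V3 →ₗ[K] V4)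
    (h1 : Function.Injective f1) (h12 : Function.Exact f1 f2) (h23 : Function.Exact f2 f3)
    (h3 : Function.Surjective f3) :
    Module.finrank K V1 + Module.finrank K V3 = Module.finrank K V2 + Module.finrank K V4 := by
  have e2 := LinearMap.finrank_range_add_finrank_ker f2
  have e3 := LinearMap.finrank_range_add_finrank_ker f3
  rw [h12.linearMap_ker_eq, LinearMap.finrank_range_of_inj h1] at e2
  rw [h23.linearMap_ker_eq, LinearMap.range_eq_top.mpr h3, finrank_top] at e3
  omega

variable {K : Type u} [Field K] {ι : Type} {c : ComplexShape ι}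

lemma finrank_homology_add (Q : HomologicalComplex (ModuleCat.{u} K) c) (p q : ι)
    (hpq : c.Rel p q) [Module.Finite K (Q.X p)] [Module.Finite K (Q.X q)] :
    Module.finrank K (Q.homology p) + Module.finrank K (Q.X q) =
      Module.finrank K (Q.opcycles p) + Module.finrank K (Q.opcycles q) := by
  have hp : c.prev q = p := c.prev_eq' hpq
  have hq : c.next p = q := c.next_eq' hpq
  -- exactness of `H_p → Z'_p → X_q`
  have ex1 : (ShortComplex.mk (Q.homologyι p) (Q.fromOpcycles p q)
      (Q.homologyι_comp_fromOpcycles p q)).Exact :=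
    ShortComplex.exact_of_f_is_kernel _ (Q.homologyIsKernel p q hq)
  -- exactness of `X_p → X_q → Z'_q`
  have ex2' : (ShortComplex.mk (Q.d p q) (Q.pOpcycles q) (Q.d_pOpcycles p q)).Exact :=
    ShortComplex.exact_of_g_is_cokernel _ (Q.opcyclesIsCokernel p q hp)
  have ex2 : (ShortComplex.mk (Q.fromOpcycles p q) (Q.pOpcycles q) (by
      rw [← cancel_epi (Q.pOpcycles p), HomologicalComplex.p_fromOpcycles_assoc,
        HomologicalComplex.d_pOpcycles, comp_zero])).Exact := by
    let φ : ShortComplex.mk (Q.d p q) (Q.pOpcycles q) (Q.d_pOpcycles p q) ⟶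
        ShortComplex.mk (Q.fromOpcycles p q) (Q.pOpcycles q) (by
      rw [← cancel_epi (Q.pOpcycles p), HomologicalComplex.p_fromOpcycles_assoc,
        HomologicalComplex.d_pOpcycles, comp_zero]) :=
      { τ₁ := Q.pOpcycles p
        τ₂ := 𝟙 _
        τ₃ := 𝟙 _
        comm₁₂ := by simp
        comm₂₃ := by simp }
    have : Epi φ.τ₁ := by dsimp [φ]; infer_instance
    have : IsIso φ.τ₂ := by dsimp [φ]; infer_instance
    have : Mono φ.τ₃ := by dsimp [φ]; infer_instance
    exact (ShortComplex.exact_iff_of_epi_of_isIso_of_mono φ).mp ex2'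
  rw [ShortComplex.ShortExact.moduleCat_exact_iff_function_exact] at ex1 ex2
  have : Module.Finite K (Q.opcycles p) :=
    Module.Finite.of_surjective (Q.pOpcycles p).hom
      ((ModuleCat.epi_iff_surjective _).mp inferInstance)
  exact finrank_four_term (Q.homologyι p).hom (Q.fromOpcycles p q).hom (Q.pOpcycles q).hom
    ((ModuleCat.mono_iff_injective _).mp inferInstance) ex1 ex2
    ((ModuleCat.epi_iff_surjective _).mp inferInstance)

end FourTerm

section BcOpcycles
variable {A B : Type u} [CommRing A] [CommRing B] {ι : Type} {c : ComplexShape ι}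

lemma bcCx_X (φ : A →+* B) (P : HomologicalComplex (ModuleCat.{u} A) c) (i : ι) :
    (CohIII.bcCx φ P).X i = (ModuleCat.extendScalars φ).obj (P.X i) := rfl

lemma bcCx_d (φ : A →+* B) (P : HomologicalComplex (ModuleCat.{u} A) c) (i j : ι) :
    (CohIII.bcCx φ P).d i j = (ModuleCat.extendScalars φ).map (P.d i j) := rfl

/-- opcycles commute with extension of scalars. -/
noncomputable def opcyclesBcIso (φ : A →+* B) (P : HomologicalComplex (ModuleCat.{u} A) c) (p : ι) :
    (CohIII.bcCx φ P).opcycles p ≅ (ModuleCat.extendScalars φ).obj (P.opcycles p) :=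
  IsColimit.coconePointUniqueUpToIso
    ((CohIII.bcCx φ P).opcyclesIsCokernel (c.prev p) p rfl)
    (CokernelCofork.mapIsColimit _ (P.opcyclesIsCokernel (c.prev p) p rfl)
      (ModuleCat.extendScalars φ))

/-- homology commutes with flat extension of scalars. -/
noncomputable def homologyBcIso (φ : A →+* B) (hφ : φ.Flat)
    (P : HomologicalComplex (ModuleCat.{u} A) c) (p : ι) :
    (CohIII.bcCx φ P).homology p ≅ (ModuleCat.extendScalars φ).obj (P.homology p) := by
  have := ModuleCat.preservesFiniteLimits_extendScalars_of_flat hφ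
  exact (P.sc p).mapHomologyIso (ModuleCat.extendScalars φ)

end BcOpcycles

section DRank
variable {A : Type u} [CommRing A] {ι : Type} {c : ComplexShape ι}

/-- fibre dimension of a module at a point of `Spec A`. -/
noncomputable def fd (M : Type u) [AddCommGroup M] [Module A M] (x : PrimeSpectrum A) : ℕ :=
  Module.finrank x.asIdeal.ResidueField (x.asIdeal.ResidueField ⊗[A] M)

lemma dRank_add (P : HomologicalComplex (ModuleCat.{u} A) c) (hP : ∀ i, Module.Finite A (P.X i))
    (p q : ι) (hpq : c.Rel p q) (x : PrimeSpectrum A) :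
    CohIII.dRank P p x + fd (P.X q) x = fd (P.opcycles p) x + fd (P.opcycles q) x := by
  set κ := x.asIdeal.ResidueField
  set φ := algebraMap A κ
  set Q := CohIII.bcCx φ P
  have hfin : ∀ i, Module.Finite κ (Q.X i) := fun i => by
    have := hP i
    exact Module.Finite.equiv (extendScalarsObjEquiv (S := κ) (P.X i)).symm
  have := hfin p
  have := hfin q
  have h := finrank_homology_add Q p q hpq
  have e1 : Module.finrank κ (Q.X q) = fd (P.X q) x :=
    (extendScalarsObjEquiv (S := κ) (P.X q)).finrank_eq
  have e2 : ∀ i, Module.finrank κ (Q.opcycles i) = fd (P.opcycles i) x := fun i =>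
    ((opcyclesBcIso φ P i).toLinearEquiv.trans
      (extendScalarsObjEquiv (S := κ) (P.opcycles i))).finrank_eq
  rw [e1, e2, e2] at h
  exact h

lemma fd_eq_rankAtStalk (M : Type u) [AddCommGroup M] [Module A M] [Module.Finite A M]
    [Module.Flat A M] (x : PrimeSpectrum A) : fd M x = Module.rankAtStalk M x :=
  (Module.rankAtStalk_eq x).symm

lemma fd_usc (M : Type u) [AddCommGroup M] [Module A M] [Module.Finite A M] :
    UpperSemicontinuous (fd (A := A) M) :=
  upperSemicontinuous_finrank_fiber M

lemma fd_eventually_le (M : Type u) [AddCommGroup M] [Module A M] [Module.Finite A M]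
    (x : PrimeSpectrum A) : ∀ᶠ x' in nhds x, fd M x' ≤ fd M x := by
  have := fd_usc M x (fd M x + 1) (Nat.lt_succ_self _)
  filter_upwards [this] with x' hx'
  exact Nat.lt_succ_iff.mp hx'

lemma fd_isLocallyConstant [IsNoetherianRing A] (M : Type u) [AddCommGroup M] [Module A M]
    [Module.Finite A M] [Module.Flat A M] : IsLocallyConstant (fd (A := A) M) := by
  have : Module.FinitePresentation A M := Module.finitePresentation_of_finite A M
  have h : fd (A := A) M = Module.rankAtStalk M := funext fun x => fd_eq_rankAtStalk M x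
  rw [h]
  exact Module.isLocallyConstant_rankAtStalk

lemma finite_opcycles (P : HomologicalComplex (ModuleCat.{u} A) c)
    (hP : ∀ i, Module.Finite A (P.X i)) (i : ι) : Module.Finite A (P.opcycles i) := by
  have := hP i
  exact Module.Finite.of_surjective (P.pOpcycles i).hom
    ((ModuleCat.epi_iff_surjective _).mp inferInstance)

/-- `d_p` is upper semicontinuous. -/
theorem dRank_upperSemicontinuous [IsNoetherianRing A]
    (P : HomologicalComplex (ModuleCat.{u} A) c)
    (hP : ∀ i, Module.Finite A (P.X i) ∧ Module.Flat A (P.X i)) (p q : ι) (hpq : c.Rel p q) :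
    UpperSemicontinuous (CohIII.dRank P p) := by
  intro x y hy
  have hPf : ∀ i, Module.Finite A (P.X i) := fun i => (hP i).1
  have := finite_opcycles P hPf p
  have := finite_opcycles P hPf q
  have := (hP q).1
  have := (hP q).2
  have h1 := fd_eventually_le (P.opcycles p) x
  have h2 := fd_eventually_le (P.opcycles q) x
  have h3 := (fd_isLocallyConstant (A := A) (P.X q)).eventually_eq x
  filter_upwards [h1, h2, h3] with x' h1 h2 h3
  have e := dRank_add P hPf p q hpq x
  have e' := dRank_add P hPf p q hpq x'
  show CohIII.dRank P p x' < y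
  have : CohIII.dRank P p x < y := hy
  omega

end DRank
end Groth.Agent.Lib.Helper12.FlatCx
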