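import Groth.Agent.Lib.Helper12.FlatCxArtin
import Groth.Agent.H76.NilFlat
import Groth.Agent.Lib.Helper20.TFun

/-!
# Helper library: `T_p` over an Artinian local ring, arbitrary flat complexes.
-/

open CategoryTheory CategoryTheory.Limits MonoidalCategory TensorProduct
universe u
namespace Groth.Agent.Lib.Helper12.FlatCx

section ArtinGeneral
variable {A : Type u} [CommRing A] [IsLocalRing A] [IsArtinianRing A] {ι : Type}
  {c : ComplexShape ι}

/-- Local criterion over an Artinian local ring: `𝔪 ⊗ W → W` injective implies `W` flat. -/
theorem flat_of_maximalIdeal_rTensor_injective (W : Type u) [AddCommGroup W] [Module A W]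
    (h : Function.Injective ((IsLocalRing.maximalIdeal A).subtype.rTensor W)) :
    Module.Flat A W := by
  have hnil : IsNilpotent (IsLocalRing.maximalIdeal A) := by
    rw [← IsLocalRing.jacobson_eq_maximalIdeal (⊥ : Ideal A) bot_ne_top]
    exact IsArtinianRing.isNilpotent_jacobson_bot
  have : Module.Flat (A ⧸ IsLocalRing.maximalIdeal A)
      ((A ⧸ IsLocalRing.maximalIdeal A) ⊗[A] W) := by
    let _ : Field (A ⧸ IsLocalRing.maximalIdeal A) := Ideal.Quotient.field _
    infer_instance
  exact Groth.Agent.H76.NilFlat.flat_of_nilpotent (IsLocalRing.maximalIdeal A) W h hnil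

/-- Artinian local ring, arbitrary flat complex: `T_p` right exact iff `T_p(A) → T_p(k)` onto. -/
theorem preservesEpi_iff_surjective_residue_artinian
    (P : HomologicalComplex (ModuleCat.{u} A) c)
    (hP : ∀ i, Module.Flat A (P.X i)) (p q : ι) (hpq : c.Rel p q) :
    (CohIII.TFun P p).PreservesEpimorphisms ↔
      Function.Surjective ((CohIII.TFun P p).map (ModuleCat.ofHom
        (Algebra.linearMap A (IsLocalRing.ResidueField A)))).hom := by
  constructor
  · intro h
    have : Epi (ModuleCat.ofHom (Algebra.linearMap A (IsLocalRing.ResidueField A))) :=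
      (ModuleCat.epi_iff_surjective _).mpr IsLocalRing.residue_surjective
    exact (ModuleCat.epi_iff_surjective _).mp (h.preserves _)
  · intro h
    rw [preservesEpi_iff_preservesMono_of_rel P hP p q hpq,
      preservesMono_iff_flat_opcycles P q hP]
    have hT := tensorSC_shortExact P hP (residueSC A) (residueSC_shortExact A)
    have h3 := hT.homology_exact₃ p q hpq
    have h1 := hT.homology_exact₁ p q hpq
    have : Epi (HomologicalComplex.homologyMap (tensorSC P (residueSC A)).g p) :=
      (ModuleCat.epi_iff_surjective _).mpr h
    have hδ : hT.δ p q hpq = 0 := (h3.epi_f_iff).mp this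
    have hm : Mono ((CohIII.TFun P q).map (residueSC A).f) := (h1.mono_g_iff).mpr hδ
    have : Mono (residueSC A).f := (residueSC_shortExact A).mono_f
    have hW := mono_whiskerLeft_opcycles_of_mono_TFun_map P q hP (residueSC A).f hm
    rw [mono_whiskerLeft_iff] at hW
    apply flat_of_maximalIdeal_rTensor_injective
    rw [← LinearMap.lTensor_inj_iff_rTensor_inj]
    exact hW

end ArtinGeneral

section AdditiveLength
variable {A : Type u} [CommRing A] [IsLocalRing A]

open IsLocalRing Module Submodule in
/-- An additive, isomorphism-invariant `ℕ∞`-valued function on modules is `length · ℓ(k)` on modules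
of finite length. -/
theorem additive_eq_length_mul (ℓ : ModuleCat.{u} A → ℕ∞)
    (hiso : ∀ {M N : ModuleCat.{u} A}, (M ≅ N) → ℓ M = ℓ N)
    (h0 : ∀ M : ModuleCat.{u} A, Subsingleton M → ℓ M = 0)
    (hadd : ∀ S : ShortComplex (ModuleCat.{u} A), S.ShortExact → ℓ S.X₂ = ℓ S.X₁ + ℓ S.X₃)
    (M : ModuleCat.{u} A) (hM : IsFiniteLength A M) :
    ℓ M = Module.length A M * ℓ (ModuleCat.of A (ResidueField A)) := by
  obtain ⟨s, hs_bot, hs_top⟩ := isFiniteLength_iff_exists_compositionSeries.mp hM
  rw [← length_compositionSeries s hs_bot hs_top]
  suffices ∀ k, ℓ (ModuleCat.of A (s k)) = k * ℓ (ModuleCat.of A (ResidueField A)) by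
    have h1 := this (Fin.last s.length)
    rw [Fin.val_last] at h1
    rw [← h1]
    have : s (Fin.last s.length) = ⊤ := hs_top
    rw [this]
    exact hiso (Submodule.topEquiv (R := A) (M := M)).toModuleIso.symm
  intro k
  induction k using Fin.induction with
  | zero =>
    have : s 0 = ⊥ := hs_bot
    rw [this]
    simp only [Fin.val_zero, Nat.cast_zero, zero_mul]
    exact h0 _ (by show Subsingleton (⊥ : Submodule A M); infer_instance)
  | succ i hi =>
    have h := s.step i
    let f : s i.castSucc →ₗ[A] s i.succ := inclusion h.le
    have key : IsSimpleModule A (s i.succ ⧸ LinearMap.range f) := by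
      rwa [range_inclusion, ← covBy_iff_quot_is_simple h.le]
    obtain ⟨m, hm, ⟨e⟩⟩ := isSimpleModule_iff_quot_maximal.mp key
    rw [eq_maximalIdeal hm] at e
    let g : s i.succ →ₗ[A] ResidueField A := e.toLinearMap.comp (LinearMap.range f).mkQ
    have hf : Function.Injective f := inclusion_injective _
    have hg : Function.Surjective g := e.surjective.comp (LinearMap.range f).mkQ_surjective
    have hfg : Function.Exact f g :=
      LinearMap.exact_iff.mpr ((e.ker_comp (LinearMap.range f).mkQ).trans (LinearMap.range f).ker_mkQ)
    let S : ShortComplex (ModuleCat.{u} A) :=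
      ShortComplex.mk (ModuleCat.ofHom f) (ModuleCat.ofHom g) (by
        ext x
        exact hfg.apply_apply_eq_zero x)
    have hS : S.ShortExact := ModuleCat.shortComplex_shortExact S hfg hf hg
    have := hadd S hS
    simp only [S] at this
    rw [this, hi]
    simp only [Fin.val_succ, Fin.val_castSucc, Nat.cast_add, Nat.cast_one, add_mul, one_mul]

end AdditiveLength

section ArtinExact
variable {A : Type u} [CommRing A] [IsLocalRing A] [IsArtinianRing A] {ι : Type}
  {c : ComplexShape ι}

omit [IsArtinianRing A] in
lemma length_residueField_eq_one : Module.length A (IsLocalRing.ResidueField A) = 1 := by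
  rw [Module.length_eq_one_iff]
  exact isSimpleModule_iff_quot_maximal.mpr
    ⟨IsLocalRing.maximalIdeal A, inferInstance, ⟨LinearEquiv.refl A _⟩⟩

omit [IsArtinianRing A] in
lemma length_self_eq_maximalIdeal_add_one :
    Module.length A A = Module.length A (IsLocalRing.maximalIdeal A) + 1 := by
  rw [← length_residueField_eq_one (A := A)]
  exact Module.length_eq_add_of_exact (IsLocalRing.maximalIdeal A).subtype
    (Algebra.linearMap A (IsLocalRing.ResidueField A)) (Submodule.subtype_injective _)
    IsLocalRing.residue_surjective (by
      intro x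
      show IsLocalRing.residue A x = 0 ↔ x ∈ Set.range (IsLocalRing.maximalIdeal A).subtype
      rw [IsLocalRing.residue_eq_zero_iff]
      simp)

omit [IsLocalRing A] [IsArtinianRing A] in
/-- For exact `T_p`, lengths of `T_p` are additive on short exact sequences. -/
lemma length_T_additive (P : HomologicalComplex (ModuleCat.{u} A) c)
    (hP : ∀ i, Module.Flat A (P.X i)) (p : ι)
    (hm : (CohIII.TFun P p).PreservesMonomorphisms) (he : (CohIII.TFun P p).PreservesEpimorphisms)
    (S : ShortComplex (ModuleCat.{u} A)) (hS : S.ShortExact) :
    Module.length A (CohIII.T P p S.X₂) =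
      Module.length A (CohIII.T P p S.X₁) + Module.length A (CohIII.T P p S.X₃) := by
  have hT := tensorSC_shortExact P hP S hS
  have h2 := hT.homology_exact₂ p
  rw [ShortComplex.ShortExact.moduleCat_exact_iff_function_exact] at h2
  have := hS.mono_f
  have := hS.epi_g
  have h1 : Mono ((CohIII.TFun P p).map S.f) := hm.preserves S.f
  have h3 : Epi ((CohIII.TFun P p).map S.g) := he.preserves S.g
  exact Module.length_eq_add_of_exact ((CohIII.TFun P p).map S.f).hom
    ((CohIII.TFun P p).map S.g).hom ((ModuleCat.mono_iff_injective _).mp h1)
    ((ModuleCat.epi_iff_surjective _).mp h3) h2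

theorem exact_iff_surjective_residueField_artinian
    (P : HomologicalComplex (ModuleCat.{u} A) c)
    (hP : ∀ i, Module.Flat A (P.X i)) (p q pm : ι) (hqp : c.Rel q p) (hpm : c.Rel p pm) :
    (((CohIII.TFun P p).PreservesMonomorphisms ∧ (CohIII.TFun P p).PreservesEpimorphisms) ↔
      (Function.Surjective ((CohIII.TFun P p).map
          (ModuleCat.ofHom (Algebra.linearMap A (IsLocalRing.ResidueField A)))).hom ∧
        Function.Surjective ((CohIII.TFun P q).map
          (ModuleCat.ofHom (Algebra.linearMap A (IsLocalRing.ResidueField A)))).hom)) ∧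
    (Module.length A (CohIII.T P p (ModuleCat.of A (IsLocalRing.ResidueField A))) ≠ ⊤ →
      (((CohIII.TFun P p).PreservesMonomorphisms ∧ (CohIII.TFun P p).PreservesEpimorphisms) ↔
        ∀ M : ModuleCat.{u} A, Module.length A M ≠ ⊤ →
          Module.length A (CohIII.T P p M) =
            Module.length A (CohIII.T P p (ModuleCat.of A (IsLocalRing.ResidueField A))) *
              Module.length A M)) := by
  have part1 : ((CohIII.TFun P p).PreservesMonomorphisms ∧
      (CohIII.TFun P p).PreservesEpimorphisms) ↔
      (Function.Surjective ((CohIII.TFun P p).map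
          (ModuleCat.ofHom (Algebra.linearMap A (IsLocalRing.ResidueField A)))).hom ∧
        Function.Surjective ((CohIII.TFun P q).map
          (ModuleCat.ofHom (Algebra.linearMap A (IsLocalRing.ResidueField A)))).hom) := by
    rw [← preservesEpi_iff_surjective_residue_artinian P hP p pm hpm,
      ← preservesEpi_iff_surjective_residue_artinian P hP q p hqp,
      preservesEpi_iff_preservesMono_of_rel P hP q p hqp]
    exact and_comm
  refine ⟨part1, fun hd => ?_⟩
  constructor
  · rintro ⟨hm, he⟩ M hM
    have := additive_eq_length_mul (A := A) (fun M => Module.length A (CohIII.T P p M))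
      (fun {M N} e => ((CohIII.TFun P p).mapIso e).toLinearEquiv.length_eq)
      (fun M hM => by
        have hz : IsZero M := ModuleCat.isZero_of_subsingleton M
        have hz' : IsZero ((CohIII.TFun P p).obj M) := (CohIII.TFun P p).map_isZero hz
        have := ModuleCat.subsingleton_of_isZero hz'
        exact Module.length_eq_zero_iff.mpr this)
      (fun S hS => length_T_additive P hP p hm he S hS) M (Module.length_ne_top_iff.mp hM)
    rw [this, mul_comm]
  · intro h
    rw [part1]
    -- notation
    set d := Module.length A (CohIII.T P p (ModuleCat.of A (IsLocalRing.ResidueField A))) with hd_def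
    have hL : Module.length A A ≠ ⊤ := length_self_ne_top
    have hLm := length_self_eq_maximalIdeal_add_one (A := A)
    have hmfin : Module.length A (IsLocalRing.maximalIdeal A) ≠ ⊤ := by
      intro htop
      rw [htop, top_add] at hLm
      exact hL hLm
    have hA := h (ModuleCat.of A A) hL
    have hm' := h (ModuleCat.of A (IsLocalRing.maximalIdeal A)) hmfin
    -- the LES pieces
    have hT := tensorSC_shortExact P hP (residueSC A) (residueSC_shortExact A)
    have h2 := hT.homology_exact₂ p
    rw [ShortComplex.ShortExact.moduleCat_exact_iff_function_exact] at h2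
    let f' := ((CohIII.TFun P p).map (residueSC A).f).hom
    let g' := ((CohIII.TFun P p).map (residueSC A).g).hom
    have hex : Function.Exact f' g' := h2
    -- rank–nullity for g' and f'
    have rn_g := Module.length_eq_add_of_exact (LinearMap.ker g').subtype g'.rangeRestrict
      (Submodule.subtype_injective _) g'.surjective_rangeRestrict
      (LinearMap.exact_iff.mpr (by rw [LinearMap.ker_rangeRestrict, Submodule.range_subtype]))
    have rn_f := Module.length_eq_add_of_exact (LinearMap.ker f').subtype f'.rangeRestrict
      (Submodule.subtype_injective _) f'.surjective_rangeRestrict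
      (LinearMap.exact_iff.mpr (by rw [LinearMap.ker_rangeRestrict, Submodule.range_subtype]))
    rw [hex.linearMap_ker_eq] at rn_g
    have le_g : Module.length A (LinearMap.range g') ≤ d :=
      Module.length_le_of_injective (LinearMap.range g').subtype (Submodule.subtype_injective _)
    have hA' : Module.length A (CohIII.T P p (ModuleCat.of A A)) =
        d * Module.length A (IsLocalRing.maximalIdeal A) + d := by
      rw [hA, hLm, mul_add, mul_one]
    have hA'' : Module.length A (LinearMap.range f') + Module.length A (LinearMap.range g') =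
        d * Module.length A (IsLocalRing.maximalIdeal A) + d := by
      rw [← hA']; exact rn_g.symm
    have hm'' : Module.length A (LinearMap.ker f') + Module.length A (LinearMap.range f') =
        d * Module.length A (IsLocalRing.maximalIdeal A) := by
      rw [← hm']; exact rn_f.symm
    -- pass to naturals
    obtain ⟨dn, hdn⟩ := ENat.ne_top_iff_exists.mp hd
    obtain ⟨mn, hmn⟩ := ENat.ne_top_iff_exists.mp hmfin
    rw [← hdn, ← hmn] at hA'' hm''
    rw [← hdn] at le_g
    have hgfin : Module.length A (LinearMap.range g') ≠ ⊤ :=
      ne_top_of_le_ne_top (ENat.natCast_ne_top dn) le_g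
    obtain ⟨gn, hgn⟩ := ENat.ne_top_iff_exists.mp hgfin
    have hffin : Module.length A (LinearMap.range f') ≠ ⊤ := by
      intro htop
      rw [htop, top_add] at hA''
      exact ENat.natCast_ne_top _ (by exact_mod_cast hA''.symm)
    obtain ⟨fn, hfn⟩ := ENat.ne_top_iff_exists.mp hffin
    have hkfin : Module.length A (LinearMap.ker f') ≠ ⊤ := by
      intro htop
      rw [htop, top_add] at hm''
      exact ENat.natCast_ne_top _ (by exact_mod_cast hm''.symm)
    obtain ⟨kn, hkn⟩ := ENat.ne_top_iff_exists.mp hkfin
    rw [← hgn, ← hfn] at hA''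
    rw [← hkn, ← hfn] at hm''
    rw [← hgn] at le_g
    norm_cast at hA'' hm'' le_g
    have hk0 : kn = 0 := by omega
    have hgd : gn = dn := by omega
    -- g' surjective
    have hsurj : Function.Surjective g' := by
      rw [← LinearMap.range_eq_top]
      by_contra hne
      have hfl : IsFiniteLength A ((CohIII.TFun P p).obj (residueSC A).X₃) :=
        Module.length_ne_top_iff.mp hd
      obtain ⟨hN, hAr⟩ := isFiniteLength_iff_isNoetherian_isArtinian.mp hfl
      have hlt : Module.length A (LinearMap.range g') <
          Module.length A ((CohIII.TFun P p).obj (residueSC A).X₃) := Submodule.length_lt hne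
      have e : Module.length A ((CohIII.TFun P p).obj (residueSC A).X₃) = d := rfl
      rw [e, ← hgn, ← hdn, hgd] at hlt
      exact lt_irrefl _ hlt
    -- f' injective
    have hinj : Function.Injective f' := by
      rw [← LinearMap.ker_eq_bot, ← Submodule.subsingleton_iff_eq_bot,
        ← Module.length_eq_zero_iff (R := A), ← hkn, hk0]
      rfl
    refine ⟨hsurj, ?_⟩
    -- δ = 0 hence `T_q(A) → T_q(k)` onto
    have e1 := hT.homology_exact₁ q p hqp
    have e3 := hT.homology_exact₃ q p hqp
    have hmono : Mono (HomologicalComplex.homologyMap (tensorSC P (residueSC A)).f p) :=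
      (ModuleCat.mono_iff_injective _).mpr hinj
    have hδ : hT.δ q p hqp = 0 := (e1.mono_g_iff).mp hmono
    have hepi : Epi (HomologicalComplex.homologyMap (tensorSC P (residueSC A)).g q) :=
      (e3.epi_f_iff).mpr hδ
    exact (ModuleCat.epi_iff_surjective _).mp hepi

end ArtinExact
end Groth.Agent.Lib.Helper12.FlatCx
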