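import Mathlib
import Groth.Agent.Lib.Helper12.FlatCxArtin2

set_option autoImplicit false

namespace Groth.Agent.Lib.Helper12.LengthTensor

open IsLocalRing LinearMap Module Submodule TensorProduct AlgebraTensorModule CategoryTheory

universe u

variable {A B : Type u} [CommRing A] [CommRing B] [Algebra A B]
variable (N : Type u) [AddCommGroup N] [Module B N] [Module A N] [IsScalarTower A B N]

/-- the image of `N ⊗ p` in `N ⊗ M`, as a `B`-submodule. -/
noncomputable def tensorSub {M : Type u} [AddCommGroup M] [Module A M] (p : Submodule A M) :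
    Submodule B (N ⊗[A] M) :=
  LinearMap.range (AlgebraTensorModule.lTensor B N p.subtype)

lemma tensorSub_mono {M : Type u} [AddCommGroup M] [Module A M] {p q : Submodule A M}
    (h : p ≤ q) : tensorSub (B := B) N p ≤ tensorSub (B := B) N q := by
  rintro _ ⟨z, rfl⟩
  refine ⟨AlgebraTensorModule.lTensor B N (Submodule.inclusion h) z, ?_⟩
  rw [← LinearMap.comp_apply, ← AlgebraTensorModule.lTensor_comp]
  rfl

lemma tensorSub_le_iff [Module.FaithfullyFlat A N] {M : Type u} [AddCommGroup M] [Module A M]
    {p q : Submodule A M} : tensorSub (B := B) N p ≤ tensorSub (B := B) N q ↔ p ≤ q := by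
  refine ⟨fun h => ?_, tensorSub_mono N⟩
  rw [← q.ker_mkQ, LinearMap.le_ker_iff_comp_subtype_eq_zero,
    Module.FaithfullyFlat.zero_iff_lTensor_zero A N, LinearMap.lTensor_comp]
  apply TensorProduct.ext'
  intro n x
  show (q.mkQ.lTensor N) ((p.subtype.lTensor N) (n ⊗ₜ x)) = 0
  have hx : (p.subtype.lTensor N) (n ⊗ₜ x) ∈ tensorSub (B := B) N q :=
    h ⟨n ⊗ₜ x, rfl⟩
  obtain ⟨z, hz⟩ := hx
  have hz' : (q.subtype.lTensor N) z = (p.subtype.lTensor N) (n ⊗ₜ x) := hz
  rw [← hz', ← LinearMap.comp_apply, ← LinearMap.lTensor_comp]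
  have : q.mkQ ∘ₗ q.subtype = 0 := by
    ext y
    simp
  rw [this, LinearMap.lTensor_zero, LinearMap.zero_apply]

/-- order embedding of submodule lattices induced by a faithfully flat module. -/
noncomputable def tensorSubEmbedding [Module.FaithfullyFlat A N] (M : Type u) [AddCommGroup M]
    [Module A M] : Submodule A M ↪o Submodule B (N ⊗[A] M) where
  toFun := tensorSub N
  inj' p q h := le_antisymm ((tensorSub_le_iff N).mp h.le) ((tensorSub_le_iff N).mp h.ge)
  map_rel_iff' := tensorSub_le_iff N

lemma isFiniteLength_of_tensor [Module.FaithfullyFlat A N] (M : Type u) [AddCommGroup M]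
    [Module A M] (h : IsFiniteLength B (N ⊗[A] M)) : IsFiniteLength A M := by
  rw [isFiniteLength_iff_isNoetherian_isArtinian] at h ⊢
  refine ⟨?_, ?_⟩
  · have h1 := h.1
    rw [isNoetherian_iff'] at h1 ⊢
    exact (tensorSubEmbedding (B := B) N M).wellFoundedGT
  · have h2 := h.2
    exact (tensorSubEmbedding (B := B) N M).wellFoundedLT

/-- `n ↦ n ⊗ 1` as a `B`-linear map `N → N ⊗ A/I`. -/
noncomputable def toTensorQuot (I : Ideal A) : N →ₗ[B] N ⊗[A] (A ⧸ I) where
  toFun n := n ⊗ₜ 1
  map_add' x y := TensorProduct.add_tmul x y 1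
  map_smul' b x := rfl

lemma toTensorQuot_surjective (I : Ideal A) : Function.Surjective (toTensorQuot (B := B) N I) := by
  intro z
  induction z using TensorProduct.induction_on with
  | zero => exact ⟨0, map_zero _⟩
  | tmul n c =>
    obtain ⟨a, rfl⟩ := Ideal.Quotient.mk_surjective c
    refine ⟨a • n, ?_⟩
    show (a • n) ⊗ₜ[A] (1 : A ⧸ I) = n ⊗ₜ[A] (Ideal.Quotient.mk I a)
    rw [TensorProduct.smul_tmul]
    congr 1
    rw [Algebra.smul_def, mul_one]
    rfl
  | add x y hx hy =>
    obtain ⟨a, rfl⟩ := hx
    obtain ⟨b, rfl⟩ := hy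
    exact ⟨a + b, map_add _ _ _⟩

lemma smul_top_coe (I : Ideal A) :
    ((I.map (algebraMap A B) • (⊤ : Submodule B N) : Submodule B N) : Set N) =
      ((I • (⊤ : Submodule A N) : Submodule A N) : Set N) := by
  ext n
  simp only [SetLike.mem_coe]
  constructor
  · intro hn
    refine Submodule.smul_induction_on hn ?_ ?_
    · intro b hb x _
      refine Submodule.span_induction (p := fun b _ => ∀ x : N, b • x ∈ (I • (⊤ : Submodule A N)))
        ?_ ?_ ?_ ?_ hb x
      · rintro _ ⟨a, ha, rfl⟩ x
        rw [algebraMap_smul]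
        exact Submodule.smul_mem_smul ha trivial
      · intro x
        rw [zero_smul]
        exact zero_mem _
      · intro b c _ _ hb hc x
        rw [add_smul]
        exact add_mem (hb x) (hc x)
      · intro b c _ hc x
        rw [smul_eq_mul, mul_smul]
        have := hc x
        refine Submodule.smul_induction_on this ?_ ?_
        · intro a ha y _
          rw [smul_comm]
          exact Submodule.smul_mem_smul ha trivial
        · intro y z hy hz
          rw [smul_add]
          exact add_mem hy hz
    · intro x y hx hy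
      exact add_mem hx hy
  · intro hn
    refine Submodule.smul_induction_on hn ?_ ?_
    · intro a ha x _
      rw [← algebraMap_smul B a x]
      exact Submodule.smul_mem_smul (Ideal.mem_map_of_mem _ ha) trivial
    · intro x y hx hy
      exact add_mem hx hy

lemma ker_toTensorQuot (I : Ideal A) :
    LinearMap.ker (toTensorQuot (B := B) N I) = I.map (algebraMap A B) • (⊤ : Submodule B N) := by
  ext n
  rw [LinearMap.mem_ker, ← SetLike.mem_coe, smul_top_coe, SetLike.mem_coe]
  have h1 : (TensorProduct.tensorQuotEquivQuotSMul N I) (n ⊗ₜ[A] (1 : A ⧸ I)) =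
      Submodule.Quotient.mk n := by
    have := TensorProduct.tensorQuotEquivQuotSMul_tmul_mk (M := N) I n 1
    simpa using this
  constructor
  · intro h
    have h2 : n ⊗ₜ[A] (1 : A ⧸ I) = 0 := h
    rw [h2, map_zero] at h1
    exact (Submodule.Quotient.mk_eq_zero _).mp h1.symm
  · intro h
    apply (TensorProduct.tensorQuotEquivQuotSMul N I).injective
    show (TensorProduct.tensorQuotEquivQuotSMul N I) (n ⊗ₜ[A] (1 : A ⧸ I)) = _
    rw [h1, map_zero]
    exact (Submodule.Quotient.mk_eq_zero _).mpr h

/-- `N ⊗ A/I ≃ N / IN`, `B`-linearly. -/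
noncomputable def tensorQuotEquiv (I : Ideal A) :
    (N ⊗[A] (A ⧸ I)) ≃ₗ[B] N ⧸ (I.map (algebraMap A B) • (⊤ : Submodule B N)) :=
  (LinearMap.quotKerEquivOfSurjective _ (toTensorQuot_surjective N I)).symm ≪≫ₗ
    Submodule.quotEquivOfEq _ _ (ker_toTensorQuot N I)

open Groth.Agent.Lib.Helper12.FlatCx in
theorem length_tensor [IsLocalRing A] [IsLocalRing B] [IsLocalHom (algebraMap A B)]
    [Module.FaithfullyFlat A N] (M : Type u) [AddCommGroup M] [Module A M] :
    Module.length B (N ⊗[A] M) =
      Module.length A M * Module.length B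
        (N ⧸ ((maximalIdeal A).map (algebraMap A B) • (⊤ : Submodule B N))) := by
  by_cases h : IsFiniteLength A M
  · have key := additive_eq_length_mul (A := A)
      (fun M : ModuleCat.{u} A => Module.length B (N ⊗[A] M))
      (fun {M M'} e => (AlgebraTensorModule.congr (LinearEquiv.refl B N)
        e.toLinearEquiv).length_eq)
      (fun M hM => Module.length_eq_zero)
      (fun S hS => by
        have hf : Function.Injective S.f.hom := (ModuleCat.mono_iff_injective _).mp hS.mono_f
        have hg : Function.Surjective S.g.hom := (ModuleCat.epi_iff_surjective _).mp hS.epi_g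
        have hex : Function.Exact S.f.hom S.g.hom :=
          (ShortComplex.ShortExact.moduleCat_exact_iff_function_exact S).mp hS.exact
        exact Module.length_eq_add_of_exact (AlgebraTensorModule.lTensor B N S.f.hom)
          (AlgebraTensorModule.lTensor B N S.g.hom)
          (Module.Flat.lTensor_preserves_injective_linearMap (M := N) S.f.hom hf)
          (LinearMap.lTensor_surjective N hg)
          (lTensor_exact N hex hg))
      (ModuleCat.of A M) h
    have e2 : Module.length B (N ⊗[A] ResidueField A) = Module.length B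
        (N ⧸ ((maximalIdeal A).map (algebraMap A B) • (⊤ : Submodule B N))) :=
      (tensorQuotEquiv (B := B) N (maximalIdeal A)).length_eq
    rw [← e2]
    exact key
  · have h' : ¬ IsFiniteLength B (N ⊗[A] M) := fun h' => h (isFiniteLength_of_tensor N M h')
    rw [← Module.length_ne_top_iff, not_ne_iff] at h h'
    have ne : Module.length B
        (N ⧸ ((maximalIdeal A).map (algebraMap A B) • (⊤ : Submodule B N))) ≠ 0 := by
      rw [← pos_iff_ne_zero, Module.length_pos_iff, Submodule.Quotient.nontrivial_iff]
      intro htop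
      apply Module.FaithfullyFlat.submodule_ne_top (R := A) (M := N)
        (inferInstance : (maximalIdeal A).IsMaximal)
      apply SetLike.coe_injective
      rw [← smul_top_coe (B := B), htop]
      rfl
    rw [h, h', ENat.top_mul ne]

end Groth.Agent.Lib.Helper12.LengthTensor
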