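import Groth.Agent.Lib.Helper29.DepthLoc2
import Groth.Agent.Lib.Helper29.FlatAscent
import Groth.Agent.Lib.Helper29.DepthSelf
import Groth.Agent.Lib.Helper93.DepthFlat
import Groth.Agent.Lib.Helper93.Depth
import Groth.Prelude.Def_EGA4b

/-!
# From depth of the fibre stalks to depth along a closed subset (helper12)

For `A → B` Noetherian, `M` a finite `B`-module flat over `A`: if at every prime `q ⊇ J` the fibre
stalk `M_q / p M_q` has depth `≥ n` over the fibre local ring, then `depth_J M ≥ n`.
Also the ring version for flat `A → B`.
-/

set_option autoImplicit false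
universe u

namespace Groth.Agent.Lib.Helper12.FibreDepth

open IsLocalRing RingTheory.Sequence TensorProduct
open scoped Pointwise

section loc
variable {A B : Type*} [CommRing A] [CommRing B] [Algebra A B] (W : Submonoid B)

/-- A localization (over a bigger ring) of a flat module is flat. -/
theorem flat_of_isLocalizedModule {M Mp : Type*} [AddCommGroup M] [AddCommGroup Mp] [Module A M]
    [Module B M] [IsScalarTower A B M] [Module A Mp] [Module B Mp] [IsScalarTower A B Mp]
    (f : M →ₗ[B] Mp) [IsLocalizedModule W f] [H : Module.Flat A M] : Module.Flat A Mp := by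
  rw [Module.Flat.iff_lTensor_injectiveₛ] at H ⊢
  intro P _ _ N
  have h1 := H (P := P) N
  have h2 : Function.Injective (AlgebraTensorModule.lTensor B M N.subtype) := h1
  have h3 := IsLocalizedModule.map_injective W (AlgebraTensorModule.rTensor A N f)
    (AlgebraTensorModule.rTensor A P f) (AlgebraTensorModule.lTensor B M N.subtype) h2
  rw [IsLocalizedModule.map_lTensor] at h3
  exact h3

theorem flat_localizedModule (E : Type*) [AddCommGroup E] [Module A E] [Module B E]
    [IsScalarTower A B E] [Module.Flat A E] : Module.Flat A (LocalizedModule W E) :=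
  flat_of_isLocalizedModule W (LocalizedModule.mkLinearMap W E)

end loc

section Surj

variable {R R' : Type*} [CommRing R] [CommRing R'] [Algebra R R']
  (M : Type*) [AddCommGroup M] [Module R M] [Module R' M] [IsScalarTower R R' M]

/-- Depth over a quotient ring is bounded by depth over the ring. -/
theorem le_idealDepth_of_surjective (hs : Function.Surjective (algebraMap R R')) (I : Ideal R)
    (n : ℕ) (h : (n : ℕ∞) ≤ LocCoh.idealDepth (I.map (algebraMap R R')) M) :
    (n : ℕ∞) ≤ LocCoh.idealDepth I M := by
  rw [Groth.Agent.Lib.Helper93.Depth.natCast_le_idealDepth_iff] at h ⊢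
  rcases h with h | ⟨rs', hlen, hmem, hreg⟩
  · left
    rw [eq_top_iff]
    intro x _
    have hx : x ∈ (I.map (algebraMap R R')) • (⊤ : Submodule R' M) := by rw [h]; trivial
    exact (Groth.Agent.Lib.Helper93.DepthFlat.mem_map_smul_top_iff (S := R') (N := M) I x).mp hx
  · right
    have hlift : ∀ rs' : List R', (∀ r ∈ rs', r ∈ I.map (algebraMap R R')) →
        ∃ rs : List R, rs.map (algebraMap R R') = rs' ∧ ∀ r ∈ rs, r ∈ I := by
      intro rs'
      induction rs' with
      | nil => intro _; exact ⟨[], rfl, by simp⟩
      | cons a l ih =>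
        intro hm
        obtain ⟨rs, h1, h2⟩ := ih (fun r hr => hm r (List.mem_cons_of_mem _ hr))
        have ha := hm a (List.mem_cons_self ..)
        rw [Ideal.mem_map_iff_of_surjective _ hs] at ha
        obtain ⟨b, hb, rfl⟩ := ha
        refine ⟨b :: rs, by simp [h1], ?_⟩
        intro r hr
        rcases List.mem_cons.mp hr with rfl | hr
        · exact hb
        · exact h2 r hr
    obtain ⟨rs, h1, h2⟩ := hlift rs' hmem
    refine ⟨rs, ?_, h2, ?_⟩
    · rw [← hlen, ← h1, List.length_map]
    · rw [← h1] at hreg
      exact (isWeaklyRegular_map_algebraMap_iff R' M rs).mp hreg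

end Surj

section Prime

variable (A B : Type u) [CommRing A] [CommRing B] [IsNoetherianRing A] [IsNoetherianRing B]
  [Algebra A B] (q : Ideal B) [q.IsPrime]

/-- Core: for a finite `B_q`-module `N` flat over `A`, `depth N ≥ depth (N / p N)`. -/
theorem le_depth_of_le_depth_quotient
    (N : Type u) [AddCommGroup N] [Module (Localization.AtPrime q) N] [Module A N]
    [IsScalarTower A (Localization.AtPrime q) N]
    [Module.Finite (Localization.AtPrime q) N] [Module.Flat A N] (n : ℕ)
    (h1 : (n : ℕ∞) ≤ LocCoh.depth (Localization.AtPrime q)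
      (N ⧸ ((q.comap (algebraMap A B)).map (algebraMap A (Localization.AtPrime q))) •
        (⊤ : Submodule (Localization.AtPrime q) N))) :
    (n : ℕ∞) ≤ LocCoh.depth (Localization.AtPrime q) N := by
  set p : Ideal A := q.comap (algebraMap A B) with hp
  haveI hlies : q.LiesOver p := ⟨rfl⟩
  letI := Localization.AtPrime.algebraOfLiesOver p q
  have hNp : IsNoetherianRing (Localization.AtPrime p) :=
    IsLocalization.isNoetherianRing p.primeCompl _ inferInstance
  have hNq : IsNoetherianRing (Localization.AtPrime q) :=
    IsLocalization.isNoetherianRing q.primeCompl _ inferInstance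
  have hloc : IsLocalHom (algebraMap (Localization.AtPrime p) (Localization.AtPrime q)) := by
    rw [Localization.AtPrime.IsLiesOverAlgebra.algebraMap_eq]
    exact Localization.isLocalHom_localRingHom _ _ _ _
  have hmap : (maximalIdeal (Localization.AtPrime p)).map
      (algebraMap (Localization.AtPrime p) (Localization.AtPrime q)) =
      p.map (algebraMap A (Localization.AtPrime q)) := by
    rw [← Localization.AtPrime.map_eq_maximalIdeal, Ideal.map_map,
      ← IsScalarTower.algebraMap_eq]
  -- the `A_p`-module structure on `N`
  letI modR : Module (Localization.AtPrime p) N :=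
    Module.compHom _ (algebraMap (Localization.AtPrime p) (Localization.AtPrime q))
  haveI tRS : IsScalarTower (Localization.AtPrime p) (Localization.AtPrime q) N :=
    IsScalarTower.of_algebraMap_smul fun _ _ => rfl
  haveI tAR : IsScalarTower A (Localization.AtPrime p) N := by
    refine ⟨fun a r x => ?_⟩
    change algebraMap (Localization.AtPrime p) (Localization.AtPrime q) (a • r) • x =
      a • (algebraMap (Localization.AtPrime p) (Localization.AtPrime q) r • x)
    rw [Algebra.smul_def, map_mul, ← IsScalarTower.algebraMap_apply, mul_smul,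
      algebraMap_smul]
  haveI hflatR : Module.Flat (Localization.AtPrime p) N :=
    (Module.flat_iff_of_isLocalization (Localization.AtPrime p) p.primeCompl _).mpr inferInstance
  have h2 : (n : ℕ∞) ≤ LocCoh.depth (Localization.AtPrime q)
      (N ⧸ ((maximalIdeal (Localization.AtPrime p)).map
          (algebraMap (Localization.AtPrime p) (Localization.AtPrime q))) •
          (⊤ : Submodule (Localization.AtPrime q) N)) := by
    have e := Submodule.quotEquivOfEq
      (((maximalIdeal (Localization.AtPrime p)).map
          (algebraMap (Localization.AtPrime p) (Localization.AtPrime q))) •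
          (⊤ : Submodule (Localization.AtPrime q) N))
      ((p.map (algebraMap A (Localization.AtPrime q))) •
          (⊤ : Submodule (Localization.AtPrime q) N))
      (by rw [hmap])
    unfold LocCoh.depth
    rw [Groth.Agent.Lib.Helper29.idealDepth_congr _ e]
    exact h1
  have h3 := Groth.Agent.Lib.Helper93.DepthFlat.depth_tensor_of_flat
    (R := Localization.AtPrime p) (S := Localization.AtPrime q) (Localization.AtPrime p) N
  have h4 : LocCoh.depth (Localization.AtPrime q)
      (N ⊗[Localization.AtPrime p] Localization.AtPrime p) =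
      LocCoh.depth (Localization.AtPrime q) N :=
    Groth.Agent.Lib.Helper29.idealDepth_congr _
      (TensorProduct.AlgebraTensorModule.rid (Localization.AtPrime p) (Localization.AtPrime q) N)
  rw [← h4, h3]
  exact h2.trans le_add_self

theorem map_fibLocRing_eq :
    q.map (algebraMap B (EGA4.FibLocRing A B q)) =
      (maximalIdeal (Localization.AtPrime q)).map
        (algebraMap (Localization.AtPrime q) (EGA4.FibLocRing A B q)) := by
  rw [← Localization.AtPrime.map_eq_maximalIdeal, Ideal.map_map,
    ← IsScalarTower.algebraMap_eq]

/-- Module version at a prime: fibre stalk depth bounds the depth of the stalk. -/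
theorem le_depth_localizedModule_of_fibLocMod
    (M : Type u) [AddCommGroup M] [Module B M] [Module A M] [IsScalarTower A B M]
    [Module.Finite B M] [Module.Flat A M] (n : ℕ)
    (h : (n : ℕ∞) ≤ LocCoh.idealDepth (q.map (algebraMap B (EGA4.FibLocRing A B q)))
      (EGA4.FibLocMod A B q M)) :
    (n : ℕ∞) ≤ LocCoh.depth (Localization.AtPrime q) (LocalizedModule q.primeCompl M) := by
  haveI hflatA : Module.Flat A (LocalizedModule q.primeCompl M) :=
    flat_localizedModule q.primeCompl M
  rw [map_fibLocRing_eq] at h
  have h1 := le_idealDepth_of_surjective (R := Localization.AtPrime q)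
    (R' := EGA4.FibLocRing A B q) (EGA4.FibLocMod A B q M) Ideal.Quotient.mk_surjective
    (maximalIdeal (Localization.AtPrime q)) n h
  exact le_depth_of_le_depth_quotient A B q (LocalizedModule q.primeCompl M) n h1

/-- Ring version at a prime. -/
theorem le_depth_localization_of_fibLocRing [Module.Flat A B] (n : ℕ)
    (h : (n : ℕ∞) ≤ LocCoh.idealDepth (q.map (algebraMap B (EGA4.FibLocRing A B q)))
      (EGA4.FibLocRing A B q)) :
    (n : ℕ∞) ≤ LocCoh.depth (Localization.AtPrime q) (Localization.AtPrime q) := by
  rw [map_fibLocRing_eq] at h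
  have h1 := le_idealDepth_of_surjective (R := Localization.AtPrime q)
    (R' := EGA4.FibLocRing A B q) (EGA4.FibLocRing A B q) Ideal.Quotient.mk_surjective
    (maximalIdeal (Localization.AtPrime q)) n h
  refine le_depth_of_le_depth_quotient A B q (Localization.AtPrime q) n ?_
  have heq : ((q.comap (algebraMap A B)).map (algebraMap A (Localization.AtPrime q))) •
      (⊤ : Submodule (Localization.AtPrime q) (Localization.AtPrime q)) =
      (q.comap (algebraMap A B)).map (algebraMap A (Localization.AtPrime q)) := by
    rw [smul_eq_mul, Ideal.mul_top]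
  unfold LocCoh.depth
  rw [Groth.Agent.Lib.Helper29.idealDepth_congr _ (Submodule.quotEquivOfEq _ _ heq)]
  exact h1

end Prime

section Global

variable (A B : Type u) [CommRing A] [CommRing B] [IsNoetherianRing A] [IsNoetherianRing B]
  [Algebra A B] (J : Ideal B)

/-- If all fibre stalks of the `A`-flat finite `B`-module `M` at primes of `V(J)` have depth `≥ n`
then `depth_J M ≥ n`. -/
theorem le_idealDepth_of_fibLocMod
    (M : Type u) [AddCommGroup M] [Module B M] [Module A M] [IsScalarTower A B M]
    [Module.Finite B M] [Module.Flat A M] (n : ℕ)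
    (h : ∀ q : PrimeSpectrum B, J ≤ q.asIdeal →
      (n : ℕ∞) ≤ LocCoh.idealDepth (q.asIdeal.map (algebraMap B (EGA4.FibLocRing A B q.asIdeal)))
        (EGA4.FibLocMod A B q.asIdeal M)) :
    (n : ℕ∞) ≤ LocCoh.idealDepth J M := by
  rw [Groth.Agent.Lib.Helper29.idealDepth_eq_iInf_depth_localization]
  exact le_iInf₂ fun q hq => le_depth_localizedModule_of_fibLocMod A B q.asIdeal M n (h q hq)

/-- Ring version: for flat `A → B`, fibre local rings of depth `≥ n` along `V(J)` give
`depth_J B ≥ n`. -/
theorem le_idealDepth_self_of_fibLocRing [Module.Flat A B] (n : ℕ)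
    (h : ∀ q : PrimeSpectrum B, J ≤ q.asIdeal →
      (n : ℕ∞) ≤ LocCoh.idealDepth (q.asIdeal.map (algebraMap B (EGA4.FibLocRing A B q.asIdeal)))
        (EGA4.FibLocRing A B q.asIdeal)) :
    (n : ℕ∞) ≤ LocCoh.idealDepth J B := by
  rw [Groth.Agent.Lib.Helper29.idealDepth_eq_iInf_depth_localization]
  refine le_iInf₂ fun q hq => ?_
  rw [Groth.Agent.Lib.Helper29.depth_localizedModule_self]
  exact le_depth_localization_of_fibLocRing A B q.asIdeal n (h q hq)

end Global

end Groth.Agent.Lib.Helper12.FibreDepth
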