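import Mathlib
import Groth.Agent.Lib.Helper12.FibreDepth

/-!
# Flatness at primes along ring maps (helper12)

`R → S → S'` ring maps, `N` an `S'`-module.
* `flat_localizedModule_of_comap`: if `N_q` is `R`-flat for `q = Q ∩ S`, then `N_Q` is `R`-flat.
* `flat_localizedModule_of_forall_comap_eq`: if `S → S'` is integral and `N_Q` is `R`-flat for all
  primes `Q` of `S'` over `q`, then `N_q` is `R`-flat.
-/

set_option autoImplicit false
universe u

namespace Groth.Agent.Lib.Helper12.FlatAtFinite

open Groth.Agent.Lib.Helper12.FibreDepth

section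
variable {R S S' : Type u} [CommRing R] [CommRing S] [CommRing S'] [Algebra R S] [Algebra S S']
  [Algebra R S'] [IsScalarTower R S S']
  (N : Type u) [AddCommGroup N] [Module S' N] [Module S N] [Module R N] [IsScalarTower S S' N]
  [IsScalarTower R S' N] [IsScalarTower R S N]

/-- The `S'`-localization of `N` at the image of `q.primeCompl` is, as an `R`-module, the
`S`-localization at `q`. -/
noncomputable def locEquiv (q : Ideal S) [q.IsPrime] :
    LocalizedModule (Algebra.algebraMapSubmonoid S' q.primeCompl) N ≃ₗ[R]
      LocalizedModule q.primeCompl N := by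
  haveI : IsLocalizedModule q.primeCompl
      ((LocalizedModule.mkLinearMap (Algebra.algebraMapSubmonoid S' q.primeCompl) N).restrictScalars S) :=
    IsLocalizedModule.restrictScalars q.primeCompl
      (LocalizedModule.mkLinearMap (Algebra.algebraMapSubmonoid S' q.primeCompl) N)
  exact ((IsLocalizedModule.iso q.primeCompl
      ((LocalizedModule.mkLinearMap (Algebra.algebraMapSubmonoid S' q.primeCompl) N).restrictScalars S)).symm).restrictScalars R

theorem flat_localizedModule_of_comap (Q : Ideal S') [Q.IsPrime]
    (h : Module.Flat R (LocalizedModule (Q.comap (algebraMap S S')).primeCompl N)) :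
    Module.Flat R (LocalizedModule Q.primeCompl N) := by
  set q := Q.comap (algebraMap S S') with hq
  set T := Algebra.algebraMapSubmonoid S' q.primeCompl with hT
  have hle : T ≤ Q.primeCompl := by
    rintro _ ⟨s, hs, rfl⟩
    exact hs
  haveI : Module.Flat R (LocalizedModule T N) :=
    Module.Flat.of_linearEquiv (locEquiv (R := R) N q)
  exact flat_of_isLocalizedModule (A := R) (B := S') Q.primeCompl
    (LocalizedModule.liftOfLE T Q.primeCompl hle)

/-- two-stage localization of a module: `(T⁻¹N)_𝔐 ≃ N_Q` for `Q` the contraction of `𝔐`. -/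
theorem isLocalizedModule_comp (T : Submonoid S') (𝔐 : Ideal (Localization T)) [𝔐.IsPrime] :
    IsLocalizedModule (𝔐.comap (algebraMap S' (Localization T))).primeCompl
      (((LocalizedModule.mkLinearMap 𝔐.primeCompl (LocalizedModule T N)).restrictScalars S').comp
        (LocalizedModule.mkLinearMap T N)) := by
  have hf₁ : IsBaseChange (Localization T) (LocalizedModule.mkLinearMap T N) :=
    IsLocalizedModule.isBaseChange T (Localization T) _
  have hf₂ : IsBaseChange (Localization.AtPrime 𝔐)
      (LocalizedModule.mkLinearMap 𝔐.primeCompl (LocalizedModule T N)) :=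
    IsLocalizedModule.isBaseChange 𝔐.primeCompl (Localization.AtPrime 𝔐) _
  have hcomp := hf₁.comp hf₂
  exact (isLocalizedModule_iff_isBaseChange
    (𝔐.comap (algebraMap S' (Localization T))).primeCompl (Localization.AtPrime 𝔐) _).mpr hcomp

theorem flat_localizedModule_of_forall_comap_eq [Algebra.IsIntegral S S'] (q : Ideal S) [q.IsPrime]
    (h : ∀ (Q : Ideal S') [Q.IsPrime], Q.comap (algebraMap S S') = q →
      Module.Flat R (LocalizedModule Q.primeCompl N)) :
    Module.Flat R (LocalizedModule q.primeCompl N) := by
  set T := Algebra.algebraMapSubmonoid S' q.primeCompl with hT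
  suffices hX : Module.Flat R (LocalizedModule T N) from
    Module.Flat.of_linearEquiv (locEquiv (R := R) (S := S) (S' := S') N q).symm
  refine Module.flat_of_isLocalized_maximal (Localization T) (LocalizedModule T N)
    (fun 𝔐 _ => LocalizedModule 𝔐.primeCompl (LocalizedModule T N))
    (fun 𝔐 _ => LocalizedModule.mkLinearMap 𝔐.primeCompl (LocalizedModule T N)) ?_
  intro 𝔐 h𝔐
  set Q := 𝔐.comap (algebraMap S' (Localization T)) with hQ
  have hQq : Q.comap (algebraMap S S') = q := by
    let ψ : Localization.AtPrime q →+* Localization T :=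
      IsLocalization.map (Localization T) (algebraMap S S')
        (show q.primeCompl ≤ (Algebra.algebraMapSubmonoid S' q.primeCompl).comap _ from
          q.primeCompl.le_comap_map)
    have hψ : ψ.IsIntegral := isIntegral_localization
    haveI hmax : (𝔐.comap ψ).IsMaximal :=
      Ideal.isMaximal_comap_of_isIntegral_of_isMaximal' ψ hψ 𝔐
    have h1 : 𝔐.comap ψ = IsLocalRing.maximalIdeal (Localization.AtPrime q) :=
      IsLocalRing.eq_maximalIdeal hmax
    have h2 : ψ.comp (algebraMap S (Localization.AtPrime q)) =
        (algebraMap S' (Localization T)).comp (algebraMap S S') :=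
      IsLocalization.map_comp _
    rw [hQ, Ideal.comap_comap, ← h2, ← Ideal.comap_comap, h1]
    exact Localization.AtPrime.comap_maximalIdeal
  have hfl := h Q hQq
  haveI := isLocalizedModule_comp N T 𝔐
  let e := IsLocalizedModule.iso Q.primeCompl
    (((LocalizedModule.mkLinearMap 𝔐.primeCompl (LocalizedModule T N)).restrictScalars S').comp
        (LocalizedModule.mkLinearMap T N))
  exact Module.Flat.of_linearEquiv (e.restrictScalars R).symm

end

section core
variable {A' B' C' : Type u} [CommRing A'] [CommRing B'] [CommRing C'] [Algebra A' B']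
  [Algebra B' C'] [Algebra A' C'] [IsScalarTower A' B' C']
  (M' N' : Type u) [AddCommGroup M'] [Module B' M'] [Module A' M'] [IsScalarTower A' B' M']
  [AddCommGroup N'] [Module C' N'] [Module B' N'] [Module A' N'] [IsScalarTower B' C' N']
  [IsScalarTower A' C' N'] [IsScalarTower A' B' N']

/-- localization of a linear equivalence, linear over a base ring. -/
noncomputable def locCongr (e : M' ≃ₗ[B'] N') (q : Ideal B') [q.IsPrime] :
    LocalizedModule q.primeCompl M' ≃ₗ[A'] LocalizedModule q.primeCompl N' :=
  (IsLocalizedModule.iso q.primeCompl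
    ((LocalizedModule.mkLinearMap q.primeCompl N').comp e.toLinearMap)).restrictScalars A'

theorem forall_flatAt_iff_of_integral [Algebra.IsIntegral B' C'] (e : M' ≃ₗ[B'] N')
    (IB : Ideal B') (IC : Ideal C')
    (h1 : IB.map (algebraMap B' C') ≤ IC)
    (h2 : ∀ (Q : Ideal C') [Q.IsPrime], IB.map (algebraMap B' C') ≤ Q → IC ≤ Q) :
    (∀ (q : Ideal B') [q.IsPrime], IB ≤ q → Module.Flat A' (LocalizedModule q.primeCompl M')) ↔
    (∀ (Q : Ideal C') [Q.IsPrime], IC ≤ Q →
      Module.Flat A' (LocalizedModule Q.primeCompl N')) := by
  constructor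
  · intro h Q _ hQ
    have hq : IB ≤ Q.comap (algebraMap B' C') := by
      rw [← Ideal.map_le_iff_le_comap]
      exact h1.trans hQ
    have hfl := h (Q.comap (algebraMap B' C')) hq
    have hfl' : Module.Flat A' (LocalizedModule (Q.comap (algebraMap B' C')).primeCompl N') :=
      Module.Flat.of_linearEquiv (locCongr (A' := A') M' N' e _).symm
    exact flat_localizedModule_of_comap (R := A') (S := B') (S' := C') N' Q hfl'
  · intro h q _ hq
    have hfl' : Module.Flat A' (LocalizedModule q.primeCompl N') := by
      apply flat_localizedModule_of_forall_comap_eq (R := A') (S := B') (S' := C') N' q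
      intro Q _ hQq
      apply h Q
      apply h2 Q
      rw [Ideal.map_le_iff_le_comap, hQq]
      exact hq
    exact Module.Flat.of_linearEquiv (locCongr (A' := A') M' N' e q)

end core

end Groth.Agent.Lib.Helper12.FlatAtFinite
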