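import Mathlib
import Groth.Agent.Lib.Helper12.FlatAtFinite

/-!
# Flatness over a base and flat base change of the middle ring (helper12)

`A → S → S'` ring maps, `X` an `S`-module.
* `flat_tensor`: `S'` flat over `S`, `X` flat over `A` ⇒ `S' ⊗[S] X` flat over `A`.
* `flat_of_flat_tensor`: `S'` faithfully flat over `S`, `S' ⊗[S] X` flat over `A` ⇒ `X` flat over `A`.
* `IsBaseChange` versions, and the version at primes `flatAt_iff_of_flat`.
-/

set_option autoImplicit false
universe u

namespace Groth.Agent.Lib.Helper12.FlatAtFlat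

open TensorProduct

section F2
variable {A S S' : Type u} [CommRing A] [CommRing S] [CommRing S'] [Algebra A S] [Algebra S S']
  [Algebra A S'] [IsScalarTower A S S']
  (X : Type u) [AddCommGroup X] [Module S X] [Module A X] [IsScalarTower A S X]

theorem lTensor_eq {K L : Type u} [AddCommGroup K] [AddCommGroup L] [Module A K] [Module A L]
    (u : K →ₗ[A] L) :
    LinearMap.lTensor S' (AlgebraTensorModule.lTensor S X u) =
      (AlgebraTensorModule.assoc A S S S' X L).toLinearMap ∘ₗ
        (AlgebraTensorModule.lTensor S (S' ⊗[S] X) u) ∘ₗ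
          (AlgebraTensorModule.assoc A S S S' X K).symm.toLinearMap := by
  ext
  simp

theorem flat_tensor [Module.Flat S S'] [Module.Flat A X] : Module.Flat A (S' ⊗[S] X) := by
  rw [Module.Flat.iff_lTensor_preserves_injective_linearMap]
  intro K L _ _ _ _ f hf
  have h1 : Function.Injective (AlgebraTensorModule.lTensor S X f) :=
    Module.Flat.lTensor_preserves_injective_linearMap (M := X) f hf
  have h2 : Function.Injective
      (LinearMap.lTensor S' (AlgebraTensorModule.lTensor S X f)) :=
    Module.Flat.lTensor_preserves_injective_linearMap _ h1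
  rw [lTensor_eq] at h2
  have h3 : Function.Injective (AlgebraTensorModule.lTensor S (S' ⊗[S] X) f) := by
    intro z w hzw
    have := @h2 ((AlgebraTensorModule.assoc A S S S' X K) z)
      ((AlgebraTensorModule.assoc A S S S' X K) w) (by
        simp only [LinearMap.coe_comp, LinearEquiv.coe_coe, Function.comp_apply,
          LinearEquiv.symm_apply_apply]
        exact congrArg _ hzw)
    exact (AlgebraTensorModule.assoc A S S S' X K).injective this
  exact h3

theorem flat_of_flat_tensor [Module.FaithfullyFlat S S'] [Module.Flat A (S' ⊗[S] X)] :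
    Module.Flat A X := by
  rw [Module.Flat.iff_lTensor_preserves_injective_linearMap]
  intro K L _ _ _ _ f hf
  have h3 : Function.Injective (AlgebraTensorModule.lTensor S (S' ⊗[S] X) f) :=
    Module.Flat.lTensor_preserves_injective_linearMap (M := S' ⊗[S] X) f hf
  have h2 : Function.Injective
      (LinearMap.lTensor S' (AlgebraTensorModule.lTensor S X f)) := by
    rw [lTensor_eq]
    simp only [LinearMap.coe_comp, LinearEquiv.coe_coe]
    exact (AlgebraTensorModule.assoc A S S S' X L).injective.comp
      (h3.comp (AlgebraTensorModule.assoc A S S S' X K).symm.injective)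
  have h1 : Function.Injective (AlgebraTensorModule.lTensor S X f) :=
    (Module.FaithfullyFlat.lTensor_injective_iff_injective S S' _).mp h2
  exact h1

variable {X}
variable {Y : Type u} [AddCommGroup Y] [Module S' Y] [Module S Y] [Module A Y]
  [IsScalarTower S S' Y] [IsScalarTower A S' Y]

theorem flat_of_isBaseChange [Module.Flat S S'] [Module.Flat A X] {k : X →ₗ[S] Y}
    (hk : IsBaseChange S' k) : Module.Flat A Y := by
  haveI := flat_tensor (A := A) (S := S) (S' := S') X
  exact Module.Flat.of_linearEquiv (hk.equiv.restrictScalars A).symm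

theorem flat_of_isBaseChange_of_faithfullyFlat [Module.FaithfullyFlat S S'] [Module.Flat A Y]
    {k : X →ₗ[S] Y} (hk : IsBaseChange S' k) : Module.Flat A X := by
  haveI : Module.Flat A (S' ⊗[S] X) := Module.Flat.of_linearEquiv (hk.equiv.restrictScalars A)
  exact flat_of_flat_tensor (A := A) (S := S) (S' := S') X

end F2

section D
variable {A' B' C' : Type u} [CommRing A'] [CommRing B'] [CommRing C'] [Algebra A' B']
  [Algebra B' C'] [Algebra A' C'] [IsScalarTower A' B' C']
  {M' N' : Type u} [AddCommGroup M'] [Module B' M'] [Module A' M'] [IsScalarTower A' B' M']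
  [AddCommGroup N'] [Module C' N'] [Module B' N'] [Module A' N'] [IsScalarTower B' C' N']
  [IsScalarTower A' C' N'] [IsScalarTower A' B' N']

/-- For `B' → C'` flat, `N' = C' ⊗ M'`, `Q` a prime of `C'` over `q`: `M'_q` is `A'`-flat iff
`N'_Q` is `A'`-flat. -/
theorem flatAt_iff_of_flat [Module.Flat B' C'] {h : M' →ₗ[B'] N'} (hh : IsBaseChange C' h)
    (Q : Ideal C') [Q.IsPrime] (q : Ideal B') [q.IsPrime] [Q.LiesOver q] :
    Module.Flat A' (LocalizedModule q.primeCompl M') ↔
      Module.Flat A' (LocalizedModule Q.primeCompl N') := by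
  letI := Localization.AtPrime.algebraOfLiesOver q Q
  haveI : IsLocalHom (algebraMap (Localization.AtPrime q) (Localization.AtPrime Q)) := by
    rw [RingHom.algebraMap_toAlgebra]
    exact Localization.isLocalHom_localRingHom q Q (algebraMap B' C') Ideal.LiesOver.over
  haveI : Module.FaithfullyFlat (Localization.AtPrime q) (Localization.AtPrime Q) :=
    Module.FaithfullyFlat.of_flat_of_isLocalHom
  letI : Module (Localization.AtPrime q) (LocalizedModule Q.primeCompl N') :=
    Module.compHom _ (algebraMap (Localization.AtPrime q) (Localization.AtPrime Q))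
  haveI : IsScalarTower (Localization.AtPrime q) (Localization.AtPrime Q)
      (LocalizedModule Q.primeCompl N') := ⟨fun b c n => by
    change (b • c) • n = algebraMap _ (Localization.AtPrime Q) b • (c • n)
    rw [Algebra.smul_def, mul_smul]⟩
  haveI : IsScalarTower B' (Localization.AtPrime q) (LocalizedModule Q.primeCompl N') :=
    IsScalarTower.of_algebraMap_smul (fun b y => by
      change algebraMap (Localization.AtPrime q) (Localization.AtPrime Q)
        (algebraMap B' (Localization.AtPrime q) b) • y = b • y
      rw [← IsScalarTower.algebraMap_apply B' (Localization.AtPrime q) (Localization.AtPrime Q),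
        algebraMap_smul])
  haveI : IsScalarTower A' (Localization.AtPrime q) (LocalizedModule Q.primeCompl N') :=
    IsScalarTower.of_algebraMap_smul (fun b y => by
      change algebraMap (Localization.AtPrime q) (Localization.AtPrime Q)
        (algebraMap A' (Localization.AtPrime q) b) • y = b • y
      rw [← IsScalarTower.algebraMap_apply A' (Localization.AtPrime q) (Localization.AtPrime Q),
        algebraMap_smul])
  have hf₁ : IsBaseChange (Localization.AtPrime q) (LocalizedModule.mkLinearMap q.primeCompl M') :=
    IsLocalizedModule.isBaseChange q.primeCompl (Localization.AtPrime q) _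
  have hf₂ : IsBaseChange (Localization.AtPrime Q) (LocalizedModule.mkLinearMap Q.primeCompl N') :=
    IsLocalizedModule.isBaseChange Q.primeCompl (Localization.AtPrime Q) _
  have hcomp := hh.comp hf₂
  let h' : LocalizedModule q.primeCompl M' →ₗ[Localization.AtPrime q]
      LocalizedModule Q.primeCompl N' :=
    hf₁.lift (((LocalizedModule.mkLinearMap Q.primeCompl N').restrictScalars B').comp h)
  have hh' : IsBaseChange (Localization.AtPrime Q) h' := by
    apply IsBaseChange.of_comp hf₁
    rw [hf₁.lift_comp]
    exact hcomp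
  constructor
  · intro hfl
    exact flat_of_isBaseChange (A := A') (S := Localization.AtPrime q)
      (S' := Localization.AtPrime Q) hh'
  · intro hfl
    exact flat_of_isBaseChange_of_faithfullyFlat (A := A') (S := Localization.AtPrime q)
      (S' := Localization.AtPrime Q) hh'

end D

section core
variable {A' B' C' : Type u} [CommRing A'] [CommRing B'] [CommRing C'] [Algebra A' B']
  [Algebra B' C'] [Algebra A' C'] [IsScalarTower A' B' C']
  {M' N' : Type u} [AddCommGroup M'] [Module B' M'] [Module A' M'] [IsScalarTower A' B' M']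
  [AddCommGroup N'] [Module C' N'] [Module B' N'] [Module A' N'] [IsScalarTower B' C' N']
  [IsScalarTower A' C' N'] [IsScalarTower A' B' N']

theorem forall_flatAt_iff_of_flat [Module.Flat B' C'] {h : M' →ₗ[B'] N'}
    (hh : IsBaseChange C' h) (IB : Ideal B') (IC : Ideal C')
    (h1 : IB.map (algebraMap B' C') ≤ IC)
    (h2 : ∀ (q : Ideal B') [q.IsPrime], IB ≤ q →
      ∃ (Q : Ideal C'), Q.IsPrime ∧ IC ≤ Q ∧ Q.comap (algebraMap B' C') = q) :
    (∀ (q : Ideal B') [q.IsPrime], IB ≤ q → Module.Flat A' (LocalizedModule q.primeCompl M')) ↔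
    (∀ (Q : Ideal C') [Q.IsPrime], IC ≤ Q →
      Module.Flat A' (LocalizedModule Q.primeCompl N')) := by
  constructor
  · intro H Q _ hQ
    have hq : IB ≤ Q.comap (algebraMap B' C') := by
      rw [← Ideal.map_le_iff_le_comap]
      exact h1.trans hQ
    haveI : Q.LiesOver (Q.comap (algebraMap B' C')) := ⟨rfl⟩
    exact (flatAt_iff_of_flat (A' := A') hh Q (Q.comap (algebraMap B' C'))).mp (H _ hq)
  · intro H q _ hq
    obtain ⟨Q, hQp, hQ, hQq⟩ := h2 q hq
    haveI : Q.LiesOver q := ⟨hQq.symm⟩
    exact (flatAt_iff_of_flat (A' := A') hh Q q).mpr (H Q hQ)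

end core

section primes
open IsLocalRing

variable {B C B' C' : Type u} [CommRing B] [IsLocalRing B] [CommRing C] [IsLocalRing C]
  [Algebra B C] [IsLocalHom (algebraMap B C)]
  [CommRing B'] [CommRing C'] [Algebra B B'] [Algebra B C'] [Algebra C C'] [Algebra B' C']
  [IsScalarTower B C C'] [IsScalarTower B B' C'] [Algebra.IsPushout B C B' C']

theorem exists_prime_over (q : Ideal B') [q.IsPrime]
    (hq : (maximalIdeal B).map (algebraMap B B') ≤ q) :
    ∃ Q : Ideal C', Q.IsPrime ∧ (maximalIdeal C).map (algebraMap C C') ≤ Q ∧
      Q.comap (algebraMap B' C') = q := by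
  -- the residue field κ(q) as a `B`-algebra and as a `k_B`-algebra
  have hker : ∀ b ∈ maximalIdeal B, algebraMap B q.ResidueField b = 0 := by
    intro b hb
    rw [IsScalarTower.algebraMap_apply B B' q.ResidueField,
      Ideal.algebraMap_residueField_eq_zero]
    exact hq (Ideal.mem_map_of_mem _ hb)
  letI algkκ : Algebra (ResidueField B) q.ResidueField :=
    (Ideal.Quotient.lift (maximalIdeal B) (algebraMap B q.ResidueField) hker).toAlgebra
  haveI : IsScalarTower B (ResidueField B) q.ResidueField := IsScalarTower.of_algebraMap_eq' rfl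
  -- nontriviality of the tensor product over `B`
  haveI : Nontrivial (ResidueField C ⊗[ResidueField B] q.ResidueField) :=
    (Module.FaithfullyFlat.nontrivial_tensorProduct_iff_right (ResidueField B)
      (ResidueField C)).mpr inferInstance
  have hne : (1 : ResidueField C ⊗[B] q.ResidueField) ≠ 0 := by
    intro h0
    have := congrArg (TensorProduct.mapOfCompatibleSMul (ResidueField B) B B (ResidueField C)
      q.ResidueField) h0
    rw [Algebra.TensorProduct.one_def, TensorProduct.mapOfCompatibleSMul_tmul, map_zero] at this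
    exact one_ne_zero (α := ResidueField C ⊗[ResidueField B] q.ResidueField) this
  haveI : Nontrivial (ResidueField C ⊗[B] q.ResidueField) := ⟨⟨1, 0, hne⟩⟩
  obtain ⟨𝔓, h𝔓⟩ := Ideal.exists_maximal (ResidueField C ⊗[B] q.ResidueField)
  let f : C →ₐ[B] ResidueField C ⊗[B] q.ResidueField :=
    (Algebra.TensorProduct.includeLeft).comp (IsScalarTower.toAlgHom B C (ResidueField C))
  let g : B' →ₐ[B] ResidueField C ⊗[B] q.ResidueField :=
    (Algebra.TensorProduct.includeRight).comp (IsScalarTower.toAlgHom B B' q.ResidueField)
  let ψ : C' →ₐ[B] ResidueField C ⊗[B] q.ResidueField :=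
    Algebra.pushoutDesc C' f g (fun x y => mul_comm _ _)
  have hψl : ∀ c, ψ (algebraMap C C' c) = f c := fun c => Algebra.pushoutDesc_left C' f g _ c
  have hψr : ∀ b, ψ (algebraMap B' C' b) = g b := fun b => Algebra.pushoutDesc_right C' f g _ b
  refine ⟨𝔓.comap ψ.toRingHom, inferInstance, ?_, ?_⟩
  · rw [Ideal.map_le_iff_le_comap]
    intro c hc
    rw [Ideal.mem_comap, Ideal.mem_comap]
    change ψ (algebraMap C C' c) ∈ 𝔓
    rw [hψl]
    have : f c = 0 := by
      change (algebraMap C (ResidueField C) c) ⊗ₜ[B] (1 : q.ResidueField) = 0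
      rw [show algebraMap C (ResidueField C) c = 0 from (residue_eq_zero_iff c).mpr hc,
        TensorProduct.zero_tmul]
    rw [this]
    exact 𝔓.zero_mem
  · ext b
    rw [Ideal.mem_comap, Ideal.mem_comap]
    change ψ (algebraMap B' C' b) ∈ 𝔓 ↔ b ∈ q
    rw [hψr]
    have hg : g b = (1 : ResidueField C) ⊗ₜ[B] (algebraMap B' q.ResidueField b) := rfl
    constructor
    · intro hmem
      by_contra hb
      have hunit : IsUnit (algebraMap B' q.ResidueField b) := by
        rw [isUnit_iff_ne_zero, Ne, Ideal.algebraMap_residueField_eq_zero]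
        exact hb
      have hu : IsUnit (g b) := by
        rw [hg]
        exact hunit.map (Algebra.TensorProduct.includeRight :
          q.ResidueField →ₐ[B] ResidueField C ⊗[B] q.ResidueField)
      exact h𝔓.ne_top (Ideal.eq_top_of_isUnit_mem _ hmem hu)
    · intro hb
      rw [hg, (Ideal.algebraMap_residueField_eq_zero).mpr hb, TensorProduct.tmul_zero]
      exact 𝔓.zero_mem

end primes

end Groth.Agent.Lib.Helper12.FlatAtFlat
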