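import Groth.Agent.Lib.Helper12.FlatCxBaseChange
import Groth.Agent.Lib.Helper78.DVRDominate
open CategoryTheory CategoryTheory.Limits MonoidalCategory TensorProduct
universe u
namespace Groth.Agent.Lib.Helper12.FlatCx

section FdLe
variable {A : Type u} [CommRing A]

/-- Over a reduced ring, a finite module whose fibre dimension is constant along
specialisations is flat. -/
theorem flat_of_fd_eq_of_le [IsReduced A] (M : Type u) [AddCommGroup M] [Module A M]
    [Module.Finite A M] (h : ∀ x y : PrimeSpectrum A, x ≤ y → fd M x = fd M y) :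
    Module.Flat A M := by
  apply Module.flat_of_localized_maximal
  intro P hP
  let Ap := Localization.AtPrime P
  let Mp := LocalizedModule P.primeCompl M
  have hfd : ∀ q' : PrimeSpectrum Ap,
      fd Mp q' = fd M (PrimeSpectrum.comap (algebraMap A Ap) q') := fun q' => by
    rw [fd_congr (LocalizedModule.equivTensorProduct P.primeCompl M) q', fd_baseChange]
  have hfree : Module.Free Ap Mp := by
    apply free_of_fd_eq
    intro q' _
    rw [hfd, hfd]
    apply h
    exact Ideal.comap_mono (f := algebraMap A Ap) (IsLocalRing.le_maximalIdeal q'.2.ne_top)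
  exact Module.Flat.trans A Ap Mp

end FdLe

section DVR

open IsLocalRing in
/-- A Noetherian local domain which is not a field is dominated by a discrete valuation ring
(abstract form of `Helper78.exists_dvr_dominating`). -/
theorem exists_dvr_of_localDomain (R : Type u) [CommRing R] [IsDomain R] [IsNoetherianRing R]
    [IsLocalRing R] (hR : ¬ IsField R) :
    ∃ (B : Type u) (_ : CommRing B) (_ : IsDomain B) (_ : IsDiscreteValuationRing B)
      (_ : Algebra R B), Function.Injective (algebraMap R B) ∧
        (maximalIdeal B).comap (algebraMap R B) = maximalIdeal R := by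
  classical
  have hfg : (⊤ : IntermediateField (FractionRing R) (FractionRing R)).FG :=
    IntermediateField.fg_top _ _
  obtain ⟨V, hV, hmem, hlt⟩ := Groth.Agent.Lib.Helper78.exists_dvr_dominating
    R hR (FractionRing R) (FractionRing R) hfg
  have hφmem : ∀ a, algebraMap R (FractionRing R) a ∈ V.toSubring := fun a => hmem _
  let ψ : R →+* V := (algebraMap R (FractionRing R)).codRestrict V.toSubring hφmem
  let _ : Algebra R V := ψ.toAlgebra
  have hinjRK : Function.Injective (algebraMap R (FractionRing R)) :=
    IsFractionRing.injective _ _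
  refine ⟨V, inferInstance, inferInstance, hV, inferInstance, ?_, ?_⟩
  · intro b b' hb
    have h1 : algebraMap R (FractionRing R) b = algebraMap R (FractionRing R) b' :=
      congrArg Subtype.val hb
    exact hinjRK h1
  · ext b
    change algebraMap R V b ∈ maximalIdeal V ↔ b ∈ maximalIdeal R
    rw [V.valuation_lt_one_iff]
    change V.valuation (algebraMap R (FractionRing R) b) < 1 ↔ _
    constructor
    · intro hb
      by_contra hby
      -- b is a unit
      have hu : IsUnit b := by
        by_contra hnu
        exact hby hnu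
      obtain ⟨c, hc⟩ := hu.exists_right_inv
      have h3 : algebraMap R (FractionRing R) b * algebraMap R (FractionRing R) c = 1 := by
        rw [← map_mul, hc, map_one]
      have h4 : V.valuation (algebraMap R (FractionRing R) b) *
          V.valuation (algebraMap R (FractionRing R) c) = 1 := by
        rw [← map_mul, h3, map_one]
      have h5 : V.valuation (algebraMap R (FractionRing R) c) ≤ 1 :=
        (V.valuation_le_one_iff _).mpr (hmem c)
      have h6 : V.valuation (algebraMap R (FractionRing R) b) *
          V.valuation (algebraMap R (FractionRing R) c) < 1 := by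
        calc _ ≤ V.valuation (algebraMap R (FractionRing R) b) * 1 := by gcongr
          _ = V.valuation (algebraMap R (FractionRing R) b) := mul_one _
          _ < 1 := hb
      exact absurd h4 h6.ne
    · intro hb
      exact hlt b hb

open IsLocalRing in
/-- A nonzero prime of a Noetherian domain is the centre of a discrete valuation ring. -/
theorem exists_dvr_of_prime_ne_bot (D : Type u) [CommRing D] [IsDomain D] [IsNoetherianRing D]
    (𝔮 : Ideal D) [h𝔮 : 𝔮.IsPrime] (hne : 𝔮 ≠ ⊥) :
    ∃ (B : Type u) (_ : CommRing B) (_ : IsDomain B) (_ : IsDiscreteValuationRing B)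
      (_ : Algebra D B), Function.Injective (algebraMap D B) ∧
        (maximalIdeal B).comap (algebraMap D B) = 𝔮 := by
  classical
  have hinjDR : Function.Injective (algebraMap D (Localization.AtPrime 𝔮)) :=
    IsLocalization.injective _ 𝔮.primeCompl_le_nonZeroDivisors
  have : IsDomain (Localization.AtPrime 𝔮) :=
    IsLocalization.isDomain_localization 𝔮.primeCompl_le_nonZeroDivisors
  -- R is not a field
  obtain ⟨a, ha𝔮, ha0⟩ : ∃ a, a ∈ 𝔮 ∧ a ≠ 0 := by
    by_contra hcon
    push Not at hcon
    exact hne ((Submodule.eq_bot_iff _).mpr hcon)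
  have hR : ¬ IsField (Localization.AtPrime 𝔮) := by
    intro hf
    have hm := (IsLocalRing.isField_iff_maximalIdeal_eq).mp hf
    have h1 : algebraMap D (Localization.AtPrime 𝔮) a ∈ maximalIdeal (Localization.AtPrime 𝔮) := by
      rw [← Localization.AtPrime.map_eq_maximalIdeal]
      exact Ideal.mem_map_of_mem _ ha𝔮
    rw [hm, Ideal.mem_bot] at h1
    exact ha0 (hinjDR (h1.trans (map_zero _).symm))
  obtain ⟨B, _, _, hB, _, hinj, hmax⟩ := exists_dvr_of_localDomain (Localization.AtPrime 𝔮) hR
  let _ : Algebra D B := ((algebraMap (Localization.AtPrime 𝔮) B).comp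
    (algebraMap D (Localization.AtPrime 𝔮))).toAlgebra
  refine ⟨B, inferInstance, inferInstance, hB, inferInstance, ?_, ?_⟩
  · exact hinj.comp hinjDR
  · change ((maximalIdeal B).comap (algebraMap (Localization.AtPrime 𝔮) B)).comap
      (algebraMap D (Localization.AtPrime 𝔮)) = 𝔮
    rw [hmax]
    exact IsLocalization.AtPrime.under_maximalIdeal (Localization.AtPrime 𝔮) 𝔮

variable {A : Type u} [CommRing A]

open IsLocalRing in
theorem exists_dvr_of_lt [IsNoetherianRing A] (x y : PrimeSpectrum A) (hxy : x < y) :
    ∃ (B : Type u) (_ : CommRing B) (_ : IsDomain B) (_ : IsDiscreteValuationRing B)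
      (_ : Algebra A B),
      PrimeSpectrum.comap (algebraMap A B) ⊥ = x ∧
        PrimeSpectrum.comap (algebraMap A B) (closedPoint B) = y := by
  classical
  have hle : x.asIdeal ≤ y.asIdeal := hxy.le
  have h𝔮 : (y.asIdeal.map (Ideal.Quotient.mk x.asIdeal)).IsPrime := by
    apply Ideal.map_isPrime_of_surjective Ideal.Quotient.mk_surjective
    rw [Ideal.mk_ker]
    exact hle
  have hcomap𝔮 : (y.asIdeal.map (Ideal.Quotient.mk x.asIdeal)).comap
      (Ideal.Quotient.mk x.asIdeal) = y.asIdeal := by
    rw [Ideal.comap_map_of_surjective _ Ideal.Quotient.mk_surjective, ← RingHom.ker_eq_comap_bot,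
      Ideal.mk_ker, sup_eq_left.mpr hle]
  obtain ⟨a, hay, hax⟩ : ∃ a, a ∈ y.asIdeal ∧ a ∉ x.asIdeal := by
    by_contra hcon
    push Not at hcon
    exact hxy.ne (PrimeSpectrum.ext (le_antisymm hle hcon))
  have hne : y.asIdeal.map (Ideal.Quotient.mk x.asIdeal) ≠ ⊥ := by
    intro h0
    have h1 : Ideal.Quotient.mk x.asIdeal a ∈ y.asIdeal.map (Ideal.Quotient.mk x.asIdeal) :=
      Ideal.mem_map_of_mem _ hay
    rw [h0, Ideal.mem_bot] at h1
    exact hax (Ideal.Quotient.eq_zero_iff_mem.mp h1)
  obtain ⟨B, _, _, hB, _, hinj, hmax⟩ := exists_dvr_of_prime_ne_bot (A ⧸ x.asIdeal)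
    (y.asIdeal.map (Ideal.Quotient.mk x.asIdeal)) hne
  let _ : Algebra A B := ((algebraMap (A ⧸ x.asIdeal) B).comp (Ideal.Quotient.mk x.asIdeal)).toAlgebra
  refine ⟨B, inferInstance, inferInstance, hB, inferInstance, ?_, ?_⟩
  · apply PrimeSpectrum.ext
    ext b
    change algebraMap (A ⧸ x.asIdeal) B (Ideal.Quotient.mk x.asIdeal b) ∈ (⊥ : Ideal B) ↔
      b ∈ x.asIdeal
    rw [Ideal.mem_bot, ← Ideal.Quotient.eq_zero_iff_mem]
    exact ⟨fun h => hinj (h.trans (map_zero _).symm), fun h => by rw [h, map_zero]⟩
  · apply PrimeSpectrum.ext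
    ext b
    change algebraMap (A ⧸ x.asIdeal) B (Ideal.Quotient.mk x.asIdeal b) ∈ maximalIdeal B ↔
      b ∈ y.asIdeal
    rw [← Ideal.mem_comap, hmax, ← Ideal.mem_comap, hcomap𝔮]

end DVR

section Crit
variable {A : Type u} [CommRing A]

/-- Over a reduced Noetherian ring, a finite module is flat as soon as all its base changes to
discrete valuation rings are flat. -/
theorem flat_of_forall_dvr [IsNoetherianRing A] [IsReduced A] (W : Type u) [AddCommGroup W]
    [Module A W] [Module.Finite A W]
    (h : ∀ (B : Type u) [CommRing B] [IsDomain B] [IsDiscreteValuationRing B] [Algebra A B],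
      Module.Flat B (B ⊗[A] W)) : Module.Flat A W := by
  apply flat_of_fd_eq_of_le
  intro x y hxy
  rcases hxy.eq_or_lt with rfl | hlt
  · rfl
  obtain ⟨B, _, _, _, _, h0, h1⟩ := exists_dvr_of_lt x y hlt
  have := h B
  have hlc := fd_isLocallyConstant (A := B) (B ⊗[A] W)
  have hsp : (⊥ : PrimeSpectrum B) ⤳ IsLocalRing.closedPoint B :=
    (PrimeSpectrum.le_iff_specializes _ _).mp bot_le
  have heq := IsLocallyConstant.eq_of_specializes hlc hsp
  rw [fd_baseChange, fd_baseChange, h0, h1] at heq
  exact heq

variable {ι : Type} {c : ComplexShape ι}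

theorem preservesEpi_iff_forall_dvr [IsNoetherianRing A] [IsReduced A]
    (P : HomologicalComplex (ModuleCat.{u} A) c)
    (hP : ∀ i, Module.Finite A (P.X i) ∧ Module.Flat A (P.X i)) (p q : ι) (hpq : c.Rel p q) :
    (CohIII.TFun P p).PreservesEpimorphisms ↔
      ∀ (B : Type u) [CommRing B] [IsDomain B] [IsDiscreteValuationRing B] [Algebra A B],
        (CohIII.TFun (CohIII.bcCx (algebraMap A B) P) p).PreservesEpimorphisms := by
  have hPf : ∀ i, Module.Finite A (P.X i) := fun i => (hP i).1
  have hPfl : ∀ i, Module.Flat A (P.X i) := fun i => (hP i).2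
  constructor
  · intro h B _ _ _ _
    exact (preservesEpi_mono_bcCx_of_base (B := B) P hPfl p q hpq).1 h
  · intro h
    rw [preservesEpi_iff_preservesMono_of_rel P hPfl p q hpq,
      preservesMono_iff_flat_opcycles P q hPfl]
    have := finite_opcycles P hPf q
    apply flat_of_forall_dvr
    intro B _ _ _ _
    exact (preservesEpi_bcCx_iff (B := B) P hPfl p q hpq).mp (h B)

end Crit


end Groth.Agent.Lib.Helper12.FlatCx
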