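import Mathlib
import Groth.Agent.H76.FlatGlue
import Groth.Agent.H76.PowFlat
import Groth.Agent.Lib.Helper12.FibreDepth

/-!
# Auxiliary lemmas for the valuative criterion of flatness (helper12)

* `flat_baseChange_localizedModule`: `R' ⊗[C] E` flat over `R'` ⇒ `R' ⊗[C] E_W` flat over `R'`
  (`W` a submonoid of a `C`-algebra acting on `E`).
* `flat_generic`: `Q ⊗[A] M` flat over `Q` ⇒ `R' ⊗[C] ((C ⊗[A] B) ⊗[B] M)` flat over `R'`
  for any `R'` which is both a `C`-algebra and a `Q`-algebra (over `A`).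
* `flat_dvr`: `R' ⊗[A] M` flat over `R'` ⇒ `(R' ⊗[C] S) ⊗[S] (S ⊗[B] M)` flat over `R'`,
  `S = C ⊗[A] B`.
-/

set_option autoImplicit false
universe u
open TensorProduct

namespace Groth.Agent.Lib.Helper12.ValFlatA

attribute [local instance] Algebra.TensorProduct.rightAlgebra

section B
variable {C R' S : Type u} [CommRing C] [CommRing R'] [CommRing S] [Algebra C R'] [Algebra C S]
  (W : Submonoid S) (E : Type u) [AddCommGroup E] [Module S E] [Module C E] [IsScalarTower C S E]

theorem flat_baseChange_localizedModule [Module.Flat R' (R' ⊗[C] E)] :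
    Module.Flat R' (R' ⊗[C] LocalizedModule W E) := by
  rw [Module.Flat.iff_rTensor_injective']
  intro 𝔞
  apply Groth.Agent.H76.PowFlat.rTensor_baseChange_injective (R := C)
  have h0 : Function.Injective ((𝔞.subtype.restrictScalars C).rTensor E) :=
    Groth.Agent.H76.FlatGlue.rTensor_injective_of_flat_baseChange E 𝔞.subtype
      Subtype.val_injective
  rw [← LinearMap.lTensor_inj_iff_rTensor_inj] at h0 ⊢
  have h2 : Function.Injective
      (AlgebraTensorModule.lTensor S E (𝔞.subtype.restrictScalars C)) := h0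
  have h3 := IsLocalizedModule.map_injective W
    (AlgebraTensorModule.rTensor C 𝔞 (LocalizedModule.mkLinearMap W E))
    (AlgebraTensorModule.rTensor C R' (LocalizedModule.mkLinearMap W E))
    (AlgebraTensorModule.lTensor S E (𝔞.subtype.restrictScalars C)) h2
  rw [IsLocalizedModule.map_lTensor] at h3
  exact h3

end B

section G
variable {A C Q R' B : Type u} [CommRing A] [CommRing C] [CommRing Q] [CommRing R'] [CommRing B]
  [Algebra A C] [Algebra A Q] [Algebra A R'] [Algebra C R'] [Algebra Q R'] [Algebra A B]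
  [IsScalarTower A C R'] [IsScalarTower A Q R']
  (M : Type u) [AddCommGroup M] [Module A M] [Module B M] [IsScalarTower A B M]

theorem flat_generic [Module.Flat Q (Q ⊗[A] M)] :
    Module.Flat R' (R' ⊗[C] ((C ⊗[A] B) ⊗[B] M)) := by
  let e₁ : (C ⊗[A] B) ⊗[B] M ≃ₗ[C] C ⊗[A] M :=
    Algebra.IsPushout.cancelBaseChange A C B (C ⊗[A] B) M
  let e₂ : R' ⊗[C] (C ⊗[A] M) ≃ₗ[R'] R' ⊗[A] M := AlgebraTensorModule.cancelBaseChange A C R' R' M
  let e₃ : R' ⊗[Q] (Q ⊗[A] M) ≃ₗ[R'] R' ⊗[A] M := AlgebraTensorModule.cancelBaseChange A Q R' R' M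
  let e : R' ⊗[C] ((C ⊗[A] B) ⊗[B] M) ≃ₗ[R'] R' ⊗[Q] (Q ⊗[A] M) :=
    (AlgebraTensorModule.congr (LinearEquiv.refl R' R') e₁) ≪≫ₗ e₂ ≪≫ₗ e₃.symm
  exact Module.Flat.of_linearEquiv e

end G

end Groth.Agent.Lib.Helper12.ValFlatA
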