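import Mathlib
import Groth.Agent.Lib.Helper12.ValFlatA
import Groth.Agent.Lib.Helper12.FlatCxDVRCrit
import Groth.Agent.H76.SquareFlat
import Groth.Agent.S6925
import Groth.Agent.S6926

/-!
# Valuative criterion of flatness: the complete local core (helper12)

`A` a ring, `B` a finite type `A`-algebra, `M` a finite `B`-module whose base changes to all
discrete valuation rings are flat.  Let `C` be a complete Noetherian local `A`-algebra which
embeds into a `C`-algebra `R''` over which `M` becomes flat for a "generic" reason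
(`R''` is an algebra over an `A`-algebra `Q` with `Q ⊗ M` flat over `Q`).  Then
`(C ⊗ M)` is `C`-flat at all primes of `C ⊗ B` over the closed point of `C`.

Proof: flattening ideal `I` of `C` (H34, S6925/S6926); every non-maximal prime `P` of `C` is the
kernel of a local homomorphism `C → R'` to a discrete valuation ring, hence `I ⊆ P`; so `I` is
nilpotent, and Stacks 0520 (H76) concludes.
-/

set_option autoImplicit false
universe u
open TensorProduct

namespace Groth.Agent.Lib.Helper12.ValFlatB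

attribute [local instance] Algebra.TensorProduct.rightAlgebra

section Aux
variable {R S : Type u} [CommRing R] [IsLocalRing R] [IsNoetherianRing R]
  [IsAdicComplete (IsLocalRing.maximalIdeal R) R] [CommRing S] [IsNoetherianRing S] [Algebra R S]
  (N : Type u) [AddCommGroup N] [Module S N] [Module R N] [IsScalarTower R S N] [Module.Finite S N]
  (R' : Type u) [CommRing R'] [IsLocalRing R'] [IsNoetherianRing R'] [Algebra R R']
  [IsLocalHom (algebraMap R R')]

/-- Universality of the flattening ideal (S6926), with the base change written as a tensor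
product. -/
theorem le_ker_of_flat_aux [Module.Flat R' (R' ⊗[R] N)]
    (I : Ideal R) (hIm : I ≤ IsLocalRing.maximalIdeal R)
    (hI : ∀ (q : Ideal S) [q.IsPrime], q.comap (algebraMap R S) = IsLocalRing.maximalIdeal R →
      Module.Flat (R ⧸ I) ((R ⧸ I) ⊗[R] LocalizedModule q.primeCompl N))
    (hmin : ∀ J : Ideal R, (∀ (q : Ideal S) [q.IsPrime],
      q.comap (algebraMap R S) = IsLocalRing.maximalIdeal R →
        Module.Flat (R ⧸ J) ((R ⧸ J) ⊗[R] LocalizedModule q.primeCompl N)) → I ≤ J) :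
    I ≤ RingHom.ker (algebraMap R R') := by
  let e₀ : (R' ⊗[R] S) ⊗[S] N ≃ₗ[R'] R' ⊗[R] N :=
    Algebra.IsPushout.cancelBaseChange R R' S (R' ⊗[R] S) N
  haveI hfl : Module.Flat R' ((R' ⊗[R] S) ⊗[S] N) := Module.Flat.of_linearEquiv e₀
  refine (Groth.Agent.S6926.result (R := R) (S := S) (R' := R')
    (S' := R' ⊗[R] S) (M := N) (M' := (R' ⊗[R] S) ⊗[S] N)
    (TensorProduct.mk S (R' ⊗[R] S) N 1)
    (TensorProduct.isBaseChange S N (R' ⊗[R] S))
    I hIm hI hmin).mp ?_
  intro q' _ _
  exact Groth.Agent.Lib.Helper12.FibreDepth.flat_localizedModule q'.primeCompl _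

end Aux

section Dvr
variable {A B C R' : Type u} [CommRing A] [CommRing B] [CommRing C] [CommRing R'] [Algebra A B]
  [Algebra A C] [Algebra C R'] [Algebra A R'] [IsScalarTower A C R']
  (M : Type u) [AddCommGroup M] [Module A M] [Module B M] [IsScalarTower A B M]

theorem flat_dvr [Module.Flat R' (R' ⊗[A] M)] :
    Module.Flat R' (R' ⊗[C] ((C ⊗[A] B) ⊗[B] M)) := by
  let e₁ : (C ⊗[A] B) ⊗[B] M ≃ₗ[C] C ⊗[A] M :=
    Algebra.IsPushout.cancelBaseChange A C B (C ⊗[A] B) M
  let e₂ : R' ⊗[C] (C ⊗[A] M) ≃ₗ[R'] R' ⊗[A] M := AlgebraTensorModule.cancelBaseChange A C R' R' M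
  exact Module.Flat.of_linearEquiv
    ((AlgebraTensorModule.congr (LinearEquiv.refl R' R') e₁) ≪≫ₗ e₂)

end Dvr

section Core
variable (A : Type u) [CommRing A] (B : Type u) [CommRing B] [Algebra A B]
  (M : Type u) [AddCommGroup M] [Module A M] [Module B M] [IsScalarTower A B M]
  (C : Type u) [CommRing C] [IsLocalRing C] [IsNoetherianRing C]
  [IsAdicComplete (IsLocalRing.maximalIdeal C) C] [Algebra A C]

/-- The property defining the flattening ideal of `C ⊗ M`. -/
def FlProp (J : Ideal C) : Prop :=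
  ∀ (q : Ideal (C ⊗[A] B)) [q.IsPrime],
    q.comap (algebraMap C (C ⊗[A] B)) = IsLocalRing.maximalIdeal C →
      Module.Flat (C ⧸ J) ((C ⧸ J) ⊗[C] LocalizedModule q.primeCompl ((C ⊗[A] B) ⊗[B] M))

variable [IsNoetherianRing (C ⊗[A] B)] [Module.Finite (C ⊗[A] B) ((C ⊗[A] B) ⊗[B] M)]

theorem le_ker_of_flat (R' : Type u) [CommRing R'] [IsLocalRing R'] [IsNoetherianRing R']
    [Algebra C R'] [IsLocalHom (algebraMap C R')] [Algebra A R'] [IsScalarTower A C R']
    [Module.Flat R' (R' ⊗[A] M)]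
    (I : Ideal C) (hIm : I ≤ IsLocalRing.maximalIdeal C) (hI : FlProp A B M C I)
    (hmin : ∀ J : Ideal C, FlProp A B M C J → I ≤ J) :
    I ≤ RingHom.ker (algebraMap C R') := by
  haveI := flat_dvr (A := A) (B := B) (C := C) (R' := R') M
  exact le_ker_of_flat_aux (R := C) (S := C ⊗[A] B) ((C ⊗[A] B) ⊗[B] M) R' I hIm hI hmin

/-- The flattening ideal of `C ⊗ M` is contained in every prime of `C`. -/
theorem le_prime
    (H : ∀ (R : Type u) [CommRing R] [IsDomain R] [IsDiscreteValuationRing R] [Algebra A R],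
      Module.Flat R (R ⊗[A] M))
    (I : Ideal C) (hIm : I ≤ IsLocalRing.maximalIdeal C) (hI : FlProp A B M C I)
    (hmin : ∀ J : Ideal C, FlProp A B M C J → I ≤ J) (P : Ideal C) [P.IsPrime] : I ≤ P := by
  by_cases hPm : P = IsLocalRing.maximalIdeal C
  · rw [hPm]; exact hIm
  have hnf : ¬ IsField (C ⧸ P) := by
    intro hf
    exact hPm (IsLocalRing.eq_maximalIdeal (Ideal.Quotient.maximal_of_isField P hf))
  haveI hlq : IsLocalHom (Ideal.Quotient.mk P) :=
    IsLocalHom.of_surjective _ Ideal.Quotient.mk_surjective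
  haveI : IsLocalRing (C ⧸ P) :=
    IsLocalRing.of_surjective' (Ideal.Quotient.mk P) Ideal.Quotient.mk_surjective
  obtain ⟨R', _, _, _, _, hinjD, hmaxD⟩ :=
    Groth.Agent.Lib.Helper12.FlatCx.exists_dvr_of_localDomain (C ⧸ P) hnf
  letI algCR : Algebra C R' := ((algebraMap (C ⧸ P) R').comp (Ideal.Quotient.mk P)).toAlgebra
  letI algAR : Algebra A R' := ((algebraMap C R').comp (algebraMap A C)).toAlgebra
  haveI : IsScalarTower A C R' := IsScalarTower.of_algebraMap_eq (fun _ => rfl)
  have hker : RingHom.ker (algebraMap C R') = P := by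
    change RingHom.ker ((algebraMap (C ⧸ P) R').comp (Ideal.Quotient.mk P)) = P
    rw [RingHom.ker_comp_of_injective _ hinjD, Ideal.mk_ker]
  have hcm : (IsLocalRing.maximalIdeal (C ⧸ P)).comap (Ideal.Quotient.mk P) =
      IsLocalRing.maximalIdeal C :=
    ((IsLocalRing.local_hom_TFAE (Ideal.Quotient.mk P)).out 0 4).mp hlq
  haveI : IsLocalHom (algebraMap C R') := by
    apply ((IsLocalRing.local_hom_TFAE (algebraMap C R')).out 0 4).mpr
    change Ideal.comap ((algebraMap (C ⧸ P) R').comp (Ideal.Quotient.mk P)) _ = _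
    rw [← Ideal.comap_comap, hmaxD]
    exact hcm
  haveI := H R'
  have key := le_ker_of_flat A B M C R' I hIm hI hmin
  rw [hker] at key
  exact key

variable (Q R'' : Type u) [CommRing Q] [CommRing R''] [Algebra A Q] [Algebra A R''] [Algebra C R'']
  [Algebra Q R''] [IsScalarTower A C R''] [IsScalarTower A Q R'']

/-- **Core**: flatness over the complete local ring `C` at the primes over its closed point. -/
theorem flat_localized_complete
    (H : ∀ (R : Type u) [CommRing R] [IsDomain R] [IsDiscreteValuationRing R] [Algebra A R],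
      Module.Flat R (R ⊗[A] M))
    (hQ : Module.Flat Q (Q ⊗[A] M)) (hinj : Function.Injective (algebraMap C R''))
    (q : Ideal (C ⊗[A] B)) [q.IsPrime]
    (hq : q.comap (algebraMap C (C ⊗[A] B)) = IsLocalRing.maximalIdeal C) :
    Module.Flat C (LocalizedModule q.primeCompl ((C ⊗[A] B) ⊗[B] M)) := by
  obtain ⟨I, hIm, hI, hmin⟩ := Groth.Agent.S6925.result C (C ⊗[A] B) ((C ⊗[A] B) ⊗[B] M)
  have hle : I ≤ nilradical C := by
    rw [nilradical_eq_sInf]
    refine le_sInf (fun P hP => ?_)
    haveI : P.IsPrime := hP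
    exact le_prime A B M C H I hIm hI hmin P
  have hnil : IsNilpotent I := by
    obtain ⟨n, hn⟩ := IsNoetherianRing.isNilpotent_nilradical C
    refine ⟨n, ?_⟩
    rw [Ideal.zero_eq_bot, eq_bot_iff, ← Ideal.zero_eq_bot, ← hn]
    exact Ideal.pow_right_mono hle n
  haveI := hI q hq
  haveI : Module.Flat R'' (R'' ⊗[C] ((C ⊗[A] B) ⊗[B] M)) :=
    Groth.Agent.Lib.Helper12.ValFlatA.flat_generic (Q := Q) M
  haveI : Module.Flat R'' (R'' ⊗[C] LocalizedModule q.primeCompl ((C ⊗[A] B) ⊗[B] M)) :=
    Groth.Agent.Lib.Helper12.ValFlatA.flat_baseChange_localizedModule q.primeCompl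
      ((C ⊗[A] B) ⊗[B] M)
  exact Groth.Agent.H76.SquareFlat.flat_of_injective_of_nilpotent I
    (LocalizedModule q.primeCompl ((C ⊗[A] B) ⊗[B] M)) hinj hnil

omit [IsNoetherianRing (C ⊗[A] B)] [Module.Finite (C ⊗[A] B) ((C ⊗[A] B) ⊗[B] M)] in
theorem isScalarTower_aux (A₁ : Type u) [CommRing A₁] [Algebra A A₁] [Algebra A₁ C]
    [IsScalarTower A A₁ C] (Q : Type u) [CommRing Q] [Algebra A₁ Q] [Algebra A Q]
    [IsScalarTower A A₁ Q] : IsScalarTower A Q (C ⊗[A₁] Q) := by
  apply IsScalarTower.of_algebraMap_eq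
  intro a
  change (algebraMap A C a) ⊗ₜ[A₁] (1 : Q) = (1 : C) ⊗ₜ[A₁] (algebraMap A Q a)
  rw [IsScalarTower.algebraMap_apply A A₁ C, IsScalarTower.algebraMap_apply A A₁ Q]
  generalize algebraMap A A₁ a = r
  rw [Algebra.algebraMap_eq_smul_one (R := A₁) (A := C) r,
    Algebra.algebraMap_eq_smul_one (R := A₁) (A := Q) r, TensorProduct.smul_tmul]

/-- **Core**, with `R'' = C ⊗[A₁] Q` for an intermediate ring `A → A₁ → C` (`C` flat over `A₁`)
and an `A₁`-algebra `Q` with `A₁ → Q` injective. -/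
theorem flat_localized_complete' (A₁ : Type u) [CommRing A₁] [Algebra A A₁] [Algebra A₁ C]
    [IsScalarTower A A₁ C] [Module.Flat A₁ C] (Q : Type u) [CommRing Q] [Algebra A₁ Q] [Algebra A Q]
    [IsScalarTower A A₁ Q]
    (H : ∀ (R : Type u) [CommRing R] [IsDomain R] [IsDiscreteValuationRing R] [Algebra A R],
      Module.Flat R (R ⊗[A] M))
    (hQ : Module.Flat Q (Q ⊗[A] M)) (hinj : Function.Injective (algebraMap A₁ Q))
    (q : Ideal (C ⊗[A] B)) [q.IsPrime]
    (hq : q.comap (algebraMap C (C ⊗[A] B)) = IsLocalRing.maximalIdeal C) :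
    Module.Flat C (LocalizedModule q.primeCompl ((C ⊗[A] B) ⊗[B] M)) := by
  haveI := isScalarTower_aux A C A₁ Q
  have hinj' : Function.Injective (algebraMap C (C ⊗[A₁] Q)) := by
    have h0 : Function.Injective (Algebra.TensorProduct.includeLeft : C →ₐ[A₁] C ⊗[A₁] Q) :=
      Algebra.TensorProduct.includeLeft_injective hinj
    intro x y hxy
    exact h0 hxy
  exact flat_localized_complete A B M C Q (C ⊗[A₁] Q) H hQ hinj' q hq

end Core

end Groth.Agent.Lib.Helper12.ValFlatB
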