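import Mathlib
import Groth.Agent.Lib.Helper12.ValFlatB
import Groth.Agent.Lib.Helper12.FlatAtFlat
import Groth.Agent.Lib.Helper29.AdicLocal
import Groth.Agent.S0543

/-!
# Valuative criterion of flatness (EGA IV 11.8.1, affine form) (helper12)

`A` reduced Noetherian, `B` a finite type `A`-algebra, `M` a finite `B`-module.  If `R ⊗[A] M` is
`R`-flat for every discrete valuation ring `R` over `A`, then `M` is `A`-flat.
-/

set_option autoImplicit false
universe u
open TensorProduct

namespace Groth.Agent.Lib.Helper12.ValFlatC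

attribute [local instance] Algebra.TensorProduct.rightAlgebra

section Generic
variable (R : Type u) [CommRing R] [IsNoetherianRing R] [IsReduced R]

/-- A reduced Noetherian ring embeds into a semisimple ring (the product of the residue fields at
its minimal primes). -/
theorem exists_generic_algebra :
    ∃ (Q : Type u) (_ : CommRing Q) (_ : Algebra R Q),
      Function.Injective (algebraMap R Q) ∧ IsSemisimpleRing Q := by
  classical
  haveI hfin : Finite (minimalPrimes R) := (minimalPrimes.finite_of_isNoetherianRing R).to_subtype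
  haveI : ∀ P : minimalPrimes R, P.1.IsPrime := fun P => P.2.1.1
  refine ⟨∀ P : minimalPrimes R, FractionRing (R ⧸ P.1), inferInstance, inferInstance, ?_,
    inferInstance⟩
  rw [injective_iff_map_eq_zero]
  intro a ha
  have h1 : ∀ P : minimalPrimes R, a ∈ P.1 := fun P => by
    have h := congrFun ha P
    rw [Pi.algebraMap_apply, Pi.zero_apply,
      IsScalarTower.algebraMap_apply R (R ⧸ P.1) (FractionRing (R ⧸ P.1)),
      map_eq_zero_iff _ (IsFractionRing.injective _ _)] at h
    exact Ideal.Quotient.eq_zero_iff_mem.mp h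
  have h2 : a ∈ sInf (minimalPrimes R) := Ideal.mem_sInf.mpr (fun {P} hP => h1 ⟨P, hP⟩)
  rw [minimalPrimes, Ideal.sInf_minimalPrimes] at h2
  have h3 : a ∈ nilradical R := h2
  rw [nilradical_eq_zero] at h3
  exact h3

end Generic

section Prime
variable {A B C K : Type u} [CommRing A] [CommRing B] [CommRing C] [Field K] [Algebra A B]
  [Algebra A C] [Algebra A K]

/-- The kernel of `C ⊗ B → K`. -/
theorem exists_prime_of_algHoms (ψ : C →ₐ[A] K) (β : B →ₐ[A] K) :
    ∃ (Q' : Ideal (C ⊗[A] B)) (_ : Q'.IsPrime),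
      Q'.comap (algebraMap C (C ⊗[A] B)) = RingHom.ker ψ.toRingHom ∧
      Q'.comap (algebraMap B (C ⊗[A] B)) = RingHom.ker β.toRingHom := by
  let φ : C ⊗[A] B →ₐ[A] K := Algebra.TensorProduct.lift ψ β (fun _ _ => Commute.all _ _)
  refine ⟨RingHom.ker φ.toRingHom, RingHom.ker_isPrime _, ?_, ?_⟩
  · ext c
    rw [Ideal.mem_comap, RingHom.mem_ker, RingHom.mem_ker]
    change φ (c ⊗ₜ 1) = 0 ↔ ψ c = 0
    rw [Algebra.TensorProduct.lift_tmul, map_one, mul_one]
  · ext b
    rw [Ideal.mem_comap, RingHom.mem_ker, RingHom.mem_ker]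
    change φ (1 ⊗ₜ b) = 0 ↔ β b = 0
    rw [Algebra.TensorProduct.lift_tmul, map_one, one_mul]

end Prime

section Concrete
variable (A : Type u) [CommRing A] [IsNoetherianRing A] (B : Type u) [CommRing B] [Algebra A B]
  (q : Ideal B) [q.IsPrime]

local notation "A₁" => Localization.AtPrime (q.under A)
local notation "𝔪" => IsLocalRing.maximalIdeal (Localization.AtPrime (q.under A))
local notation "C" => AdicCompletion (IsLocalRing.maximalIdeal (Localization.AtPrime (q.under A)))
  (Localization.AtPrime (q.under A))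

/-- A prime of `Â_p ⊗ B` over `q` and over the closed point of `Â_p`, `p = q ∩ A`. -/
theorem exists_prime_over :
    ∃ (Q' : Ideal (C ⊗[A] B)) (_ : Q'.IsPrime),
      Q'.comap (algebraMap C (C ⊗[A] B)) = IsLocalRing.maximalIdeal C ∧
      Q'.comap (algebraMap B (C ⊗[A] B)) = q := by
  have hzero : ∀ a : A, algebraMap A q.ResidueField a = 0 ↔ a ∈ q.under A := fun a => by
    rw [IsScalarTower.algebraMap_apply A B q.ResidueField, Ideal.algebraMap_residueField_eq_zero,
      Ideal.under_def, Ideal.mem_comap]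
  have hunit : ∀ y : (q.under A).primeCompl, IsUnit ((Algebra.ofId A q.ResidueField) y) := by
    intro y
    rw [isUnit_iff_ne_zero]
    intro h
    exact y.2 ((hzero y.1).mp h)
  let ψ₁ : A₁ →ₐ[A] q.ResidueField :=
    IsLocalization.liftAlgHom (M := (q.under A).primeCompl) (S := A₁)
      (f := Algebra.ofId A q.ResidueField) hunit
  have hm : ∀ x ∈ 𝔪, ψ₁ x = 0 := by
    intro x hx
    rw [← Localization.AtPrime.map_eq_maximalIdeal] at hx
    have hle : (q.under A).map (algebraMap A A₁) ≤ RingHom.ker ψ₁.toRingHom := by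
      rw [Ideal.map_le_iff_le_comap]
      intro a ha
      rw [Ideal.mem_comap, RingHom.mem_ker]
      change ψ₁ (algebraMap A A₁ a) = 0
      rw [AlgHom.commutes]
      exact (hzero a).mpr ha
    exact hle hx
  let ψ₂ : (A₁ ⧸ 𝔪) →ₐ[A] q.ResidueField := Ideal.Quotient.liftₐ 𝔪 ψ₁ hm
  let ψ : C →ₐ[A] q.ResidueField := ψ₂.comp ((AdicCompletion.evalOneₐ 𝔪).restrictScalars A)
  let β : B →ₐ[A] q.ResidueField := IsScalarTower.toAlgHom A B q.ResidueField
  obtain ⟨Q', hQ', h1, h2⟩ := exists_prime_of_algHoms ψ β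
  refine ⟨Q', hQ', ?_, ?_⟩
  · rw [h1]
    letI := Ideal.Quotient.field 𝔪
    have hinj2 : Function.Injective ψ₂ := ψ₂.toRingHom.injective
    have hker : RingHom.ker ψ.toRingHom = RingHom.ker (AdicCompletion.evalOneₐ 𝔪).toRingHom := by
      ext c
      rw [RingHom.mem_ker, RingHom.mem_ker]
      change ψ₂ (AdicCompletion.evalOneₐ 𝔪 c) = 0 ↔ AdicCompletion.evalOneₐ 𝔪 c = 0
      exact map_eq_zero_iff ψ₂ hinj2
    rw [hker]
    have hmax : (RingHom.ker (AdicCompletion.evalOneₐ 𝔪).toRingHom).IsMaximal :=
      RingHom.ker_isMaximal_of_surjective _ (AdicCompletion.evalOneₐ_surjective 𝔪)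
    exact IsLocalRing.eq_maximalIdeal hmax
  · rw [h2]
    exact Ideal.ker_algebraMap_residueField q

end Concrete

section Main
variable (A : Type u) [CommRing A] [IsNoetherianRing A] [IsReduced A] (B : Type u) [CommRing B]
  [Algebra A B] [Algebra.FiniteType A B]
  (M : Type u) [AddCommGroup M] [Module A M] [Module B M] [IsScalarTower A B M] [Module.Finite B M]

theorem flat_right (C : Type u) [CommRing C] [Algebra A C] [Module.Flat A C] :
    Module.Flat B (C ⊗[A] B) :=
  Module.Flat.of_linearEquiv (Algebra.IsPushout.equiv A B C (C ⊗[A] B)).toLinearEquiv.symm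

variable (q : Ideal B) [q.IsPrime]

local notation "A₁" => Localization.AtPrime (Ideal.under A q)
local notation "𝔪" => IsLocalRing.maximalIdeal (Localization.AtPrime (Ideal.under A q))
local notation "C" => AdicCompletion (IsLocalRing.maximalIdeal (Localization.AtPrime (Ideal.under A q)))
  (Localization.AtPrime (Ideal.under A q))

theorem flat_localizedModule_of_forall_dvr
    (H : ∀ (R : Type u) [CommRing R] [IsDomain R] [IsDiscreteValuationRing R] [Algebra A R],
      Module.Flat R (R ⊗[A] M)) : Module.Flat A (LocalizedModule q.primeCompl M) := by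
  have hm : 𝔪 ≠ ⊤ := Ideal.IsPrime.ne_top inferInstance
  haveI hN : IsNoetherianRing C := Groth.Agent.S0543.result A₁ 𝔪
  have hmax := Groth.Agent.Lib.Helper29.maximalIdeal_adicCompletion_eq_map A₁ 𝔪 hm
  haveI hcomp : IsAdicComplete (IsLocalRing.maximalIdeal C) C := by
    rw [hmax]
    exact AdicCompletion.isAdicComplete_self _ (IsNoetherian.noetherian _)
  obtain ⟨Q, _, _, hQinj, hQss⟩ := exists_generic_algebra A₁
  letI : Algebra A Q := ((algebraMap A₁ Q).comp (algebraMap A A₁)).toAlgebra
  haveI : IsScalarTower A A₁ Q := IsScalarTower.of_algebraMap_eq (fun _ => rfl)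
  haveI hQflat : Module.Flat Q (Q ⊗[A] M) := by
    haveI := Module.projective_of_isSemisimpleRing Q (Q ⊗[A] M)
    infer_instance
  haveI : IsNoetherianRing (C ⊗[A] B) := Algebra.FiniteType.isNoetherianRing C (C ⊗[A] B)
  obtain ⟨Q', hQ', hQ'C, hQ'B⟩ := exists_prime_over A B q
  have hflatC := Groth.Agent.Lib.Helper12.ValFlatB.flat_localized_complete' A B M C A₁ Q
    H hQflat hQinj Q' hQ'C
  haveI : Module.Flat A C := Module.Flat.trans A A₁ C
  have hflatA : Module.Flat A (LocalizedModule Q'.primeCompl ((C ⊗[A] B) ⊗[B] M)) :=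
    Module.Flat.trans A C _
  haveI : Q'.LiesOver q := ⟨hQ'B.symm⟩
  haveI : Module.Flat B (C ⊗[A] B) := flat_right A B C
  exact (Groth.Agent.Lib.Helper12.FlatAtFlat.flatAt_iff_of_flat (A' := A) (B' := B)
    (C' := C ⊗[A] B) (h := TensorProduct.mk B (C ⊗[A] B) M 1)
    (TensorProduct.isBaseChange B M (C ⊗[A] B)) Q' q).mpr hflatA

end Main

/-- **Valuative criterion of flatness** (EGA IV 11.8.1, affine form). -/
theorem flat_of_forall_dvr (A : Type u) [CommRing A] [IsNoetherianRing A] [IsReduced A]
    (B : Type u) [CommRing B] [Algebra A B] [Algebra.FiniteType A B]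
    (M : Type u) [AddCommGroup M] [Module A M] [Module B M] [IsScalarTower A B M]
    [Module.Finite B M]
    (H : ∀ (R : Type u) [CommRing R] [IsDomain R] [IsDiscreteValuationRing R] [Algebra A R],
      Module.Flat R (R ⊗[A] M)) : Module.Flat A M :=
  Module.flat_of_isLocalized_maximal B M (fun q _ => LocalizedModule q.primeCompl M)
    (fun q _ => LocalizedModule.mkLinearMap q.primeCompl M)
    (fun q _ => flat_localizedModule_of_forall_dvr A B M q H)

end Groth.Agent.Lib.Helper12.ValFlatC
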