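import Mathlib
import Groth.Agent.Lib.Helper12.Koszul
import Groth.Agent.Lib.Helper12.KoszulLES
import Groth.Agent.Lib.Helper12.KoszulTop
import Groth.Agent.S14433
import Groth.Prelude.Def_CAlg

set_option autoImplicit false

namespace Groth.Agent.Lib.Helper12.KoszulDepth

open CategoryTheory CategoryTheory.Limits CochainComplex HomComplex CohIII Pointwise
open Groth.Agent.Lib.Helper12.Koszul Groth.Agent.Lib.Helper12.KoszulLES
  Groth.Agent.Lib.Helper12.KoszulTop

universe u
variable {A : Type u} [CommRing A]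

section LES

variable (M : Type u) [AddCommGroup M] [Module A M] (xs : List A)

lemma homologyMap_smul_eq_zero (y : A) (hy : y ∈ Ideal.span {x | x ∈ xs}) (j : ℤ) :
    HomologicalComplex.homologyMap (y • 𝟙 (koszulCx (ModuleCat.of A M) xs)) j = 0 := by
  obtain ⟨h⟩ := Groth.Agent.S14433.result M xs y hy
  rw [h.homologyMap_eq, HomologicalComplex.homologyMap_zero]

/-- consequences of the long exact Koszul sequence for `0 → M --y--> M → M/yM → 0`, `y ∈ (xs)`. -/
lemma koszul_les (y : A) (hy : y ∈ Ideal.span {x | x ∈ xs}) (hreg : IsSMulRegular M y) (j : ℤ) :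
    (IsZero ((koszulCx (ModuleCat.of A (QuotSMulTop y M)) xs).homology j) →
      IsZero ((koszulCx (ModuleCat.of A M) xs).homology j) ∧
        IsZero ((koszulCx (ModuleCat.of A M) xs).homology (j + 1))) ∧
    (IsZero ((koszulCx (ModuleCat.of A M) xs).homology j) →
      (IsZero ((koszulCx (ModuleCat.of A (QuotSMulTop y M)) xs).homology j) ↔
        IsZero ((koszulCx (ModuleCat.of A M) xs).homology (j + 1)))) := by
  have h := kMap_shortExact (smulSC M y) (smulSC_shortExact M y hreg) xs
  have e : kMap (smulSC M y).f xs = y • 𝟙 (koszulCx (ModuleCat.of A M) xs) := by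
    change kMap (y • 𝟙 (ModuleCat.of A M)) xs = _
    rw [kMap_smul, kMap_id]
  simp only [e] at h
  have e2 := h.homology_exact₂ j
  have e3 := h.homology_exact₃ j (j + 1) rfl
  have e1 := h.homology_exact₁ j (j + 1) rfl
  have z1 := homologyMap_smul_eq_zero M xs y hy j
  have z2 := homologyMap_smul_eq_zero M xs y hy (j + 1)
  have hmono : Mono (HomologicalComplex.homologyMap (kMap (smulSC M y).g xs) j) :=
    e2.mono_g_iff.mpr z1
  have hepi : Epi (h.δ j (j + 1) rfl) := e1.epi_f_iff.mpr z2
  constructor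
  · intro hz
    exact ⟨@IsZero.of_mono _ _ _ _ _ (HomologicalComplex.homologyMap (kMap (smulSC M y).g xs) j)
      hmono hz, @IsZero.of_epi _ _ _ _ _ (h.δ j (j + 1) rfl) hepi hz⟩
  · intro hz
    have hmono' : Mono (h.δ j (j + 1) rfl) := e3.mono_g_iff.mpr (hz.eq_of_src _ _)
    have : IsIso (h.δ j (j + 1) rfl) := isIso_of_mono_of_epi _
    exact (asIso (h.δ j (j + 1) rfl)).isZero_iff

end LES

section Iso

/-- the Koszul complex is functorial for isomorphisms. -/
noncomputable def kIso {M N : ModuleCat.{u} A} (e : M ≅ N) (xs : List A) :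
    koszulCx M xs ≅ koszulCx N xs where
  hom := kMap e.hom xs
  inv := kMap e.inv xs
  hom_inv_id := by rw [← kMap_comp, e.hom_inv_id, kMap_id]
  inv_hom_id := by rw [← kMap_comp, e.inv_hom_id, kMap_id]

lemma isZero_homology_iff_of_linearEquiv {M N : Type u} [AddCommGroup M] [Module A M]
    [AddCommGroup N] [Module A N] (e : M ≃ₗ[A] N) (xs : List A) (j : ℤ) :
    IsZero ((koszulCx (ModuleCat.of A M) xs).homology j) ↔
      IsZero ((koszulCx (ModuleCat.of A N) xs).homology j) :=
  ((HomologicalComplex.homologyFunctor _ _ j).mapIso (kIso e.toModuleIso xs)).isZero_iff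

end Iso

section RegSeq

variable (xs : List A)

theorem regular_sequence_koszul (rs : List A) :
    ∀ (M : Type u) [AddCommGroup M] [Module A M], RingTheory.Sequence.IsWeaklyRegular M rs →
      (∀ r ∈ rs, r ∈ Ideal.span {x | x ∈ xs}) →
      (∀ j : ℤ, j < -(xs.length : ℤ) + rs.length →
        IsZero ((koszulCx (ModuleCat.of A M) xs).homology j)) ∧
      (IsZero ((koszulCx (ModuleCat.of A M) xs).homology (-(xs.length : ℤ) + rs.length)) ↔
        IsZero ((koszulCx (ModuleCat.of A (M ⧸ (Ideal.ofList rs • (⊤ : Submodule A M)))) xs).homology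
          (-(xs.length : ℤ)))) := by
  induction rs with
  | nil =>
    intro M _ _ _ _
    constructor
    · intro j hj
      apply isZero_homology_koszulCx_of_lt
      simpa using hj
    · have e : (-(xs.length : ℤ) + (([] : List A).length : ℤ)) = -(xs.length : ℤ) := by simp
      rw [e]
      exact isZero_homology_iff_of_linearEquiv
        (Submodule.quotEquivOfEqBot _ (by rw [Ideal.ofList_nil, Submodule.bot_smul])).symm xs _
  | cons y rs ih =>
    intro M _ _ hreg hmem
    rw [RingTheory.Sequence.isWeaklyRegular_cons_iff] at hreg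
    have hy : y ∈ Ideal.span {x | x ∈ xs} := hmem y (List.mem_cons_self)
    obtain ⟨ih1, ih2⟩ := ih (QuotSMulTop y M) hreg.2 (fun r hr => hmem r (List.mem_cons_of_mem _ hr))
    have first : ∀ j : ℤ, j < -(xs.length : ℤ) + ((y :: rs).length : ℤ) →
        IsZero ((koszulCx (ModuleCat.of A M) xs).homology j) := by
      intro j hj
      have h1 := ((koszul_les M xs y hy hreg.1 (j - 1)).1 (ih1 (j - 1) (by
        simp only [List.length_cons, Nat.cast_add, Nat.cast_one] at hj
        lia))).2
      rwa [sub_add_cancel] at h1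
    refine ⟨first, ?_⟩
    have e : (-(xs.length : ℤ) + ((y :: rs).length : ℤ)) = (-(xs.length : ℤ) + (rs.length : ℤ)) + 1 := by
      simp only [List.length_cons, Nat.cast_add, Nat.cast_one]
      ring
    rw [e]
    have hz := first (-(xs.length : ℤ) + (rs.length : ℤ)) (by
      simp only [List.length_cons, Nat.cast_add, Nat.cast_one]
      lia)
    rw [← (koszul_les M xs y hy hreg.1 (-(xs.length : ℤ) + (rs.length : ℤ))).2 hz, ih2]
    exact (isZero_homology_iff_of_linearEquiv
      (Submodule.quotOfListConsSMulTopEquivQuotSMulTopInner M y rs) xs _).symm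

end RegSeq

section Bottom

/-- connecting map of a cone in module terms. -/
lemma exists_delta {K L : CochainComplex (ModuleCat.{u} A) ℤ} (φ : K ⟶ L) (m m' : ℤ)
    (hm : m + 1 = m') (hz : IsZero (L.homology m)) :
    ∃ δ : (mappingCone φ).homology m →ₗ[A] K.homology m', Function.Injective δ ∧
      ∀ h : K.homology m', h ∈ Set.range δ ↔ (HomologicalComplex.homologyMap φ m').hom h = 0 := by
  subst hm
  obtain ⟨δ, w₃, w₁, h3, h1⟩ := cone_exact₃₁ φ m
  have hmono : Mono δ := h3.mono_g_iff.mpr (hz.eq_of_src _ _)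
  refine ⟨δ.hom, (ModuleCat.mono_iff_injective δ).mp hmono, fun h => ?_⟩
  rw [ShortComplex.ShortExact.moduleCat_exact_iff_function_exact] at h1
  exact (h1 h).symm

theorem bottom (xs : List A) (N : Type u) [AddCommGroup N] [Module A N] :
    ∃ ι : ((koszulCx (ModuleCat.of A N) xs).homology (-(xs.length : ℤ))) →ₗ[A] N,
      Function.Injective ι ∧ ∀ x : N, x ∈ Set.range ι ↔ ∀ f ∈ xs, f • x = 0 := by
  induction xs with
  | nil =>
    have e0 : -((([] : List A).length : ℕ) : ℤ) = 0 := by simp
    rw [e0]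
    let i := HomologicalComplex.singleObjHomologySelfIso (ComplexShape.up ℤ) 0 (ModuleCat.of A N)
    refine ⟨i.hom.hom, i.toLinearEquiv.injective, fun x => ?_⟩
    simp only [List.not_mem_nil, false_imp_iff, implies_true, iff_true]
    exact i.toLinearEquiv.surjective x
  | cons f fs ih =>
    obtain ⟨ι, hι, hr⟩ := ih
    have hm : -(((f :: fs).length : ℕ) : ℤ) + 1 = -(fs.length : ℤ) := by
      simp only [List.length_cons, Nat.cast_add, Nat.cast_one]
      ring
    obtain ⟨δ, hδ, hrδ⟩ := exists_delta (f • 𝟙 (koszulCx (ModuleCat.of A N) fs))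
      (-(((f :: fs).length : ℕ) : ℤ)) (-(fs.length : ℤ)) hm
      (isZero_homology_koszulCx_of_lt _ fs _ (by
        simp only [List.length_cons, Nat.cast_add, Nat.cast_one]
        lia))
    have hf : ∀ h : (koszulCx (ModuleCat.of A N) fs).homology (-(fs.length : ℤ)),
        (HomologicalComplex.homologyMap (f • 𝟙 (koszulCx (ModuleCat.of A N) fs))
          (-(fs.length : ℤ))).hom h = f • h := by
      intro h
      rw [homologyMap_smul', HomologicalComplex.homologyMap_id]
      rfl
    refine ⟨ι ∘ₗ δ, hι.comp hδ, fun x => ?_⟩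
    constructor
    · rintro ⟨c, rfl⟩
      intro g hg
      rw [List.mem_cons] at hg
      rcases hg with rfl | hg
      · have h1 := (hrδ (δ c)).mp ⟨c, rfl⟩
        rw [hf] at h1
        show g • ι (δ c) = 0
        rw [← map_smul, h1, map_zero]
      · exact (hr (ι (δ c))).mp ⟨δ c, rfl⟩ g hg
    · intro hx
      obtain ⟨h, rfl⟩ := (hr x).mpr (fun g hg => hx g (List.mem_cons_of_mem _ hg))
      have h1 : f • h = 0 := by
        apply hι
        rw [map_smul, map_zero]
        exact hx f List.mem_cons_self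
      obtain ⟨c, rfl⟩ := (hrδ h).mpr ((hf h).trans h1)
      exact ⟨c, rfl⟩

end Bottom

section ZeroDiv

/-- if every element of `a` is a zero divisor on a nonzero finite module over a Noetherian ring,
some nonzero element is killed by `a`. -/
lemma exists_ne_zero_smul_eq_zero [IsNoetherianRing A] (N : Type u) [AddCommGroup N] [Module A N]
    [Module.Finite A N] (a : Ideal A) (h : ∀ y ∈ a, ¬ IsSMulRegular N y) :
    ∃ x : N, x ≠ 0 ∧ ∀ y ∈ a, y • x = 0 := by
  have hsub : (a : Set A) ⊆ ⋃ p ∈ ((associatedPrimes.finite A N).toFinset : Set (Ideal A)),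
      ((id p : Ideal A) : Set A) := by
    intro y hy
    have : y ∈ {r | IsSMulRegular N r}ᶜ := h y hy
    rw [← biUnion_associatedPrimes_eq_compl_regular] at this
    simpa using this
  rw [Ideal.subset_union_prime (⊥ : Ideal A) ⊥ (fun p hp _ _ => by
    have : p ∈ associatedPrimes A N := by simpa using hp
    exact this.isPrime)] at hsub
  obtain ⟨p, hp, hap⟩ := hsub
  have hp' : IsAssociatedPrime p N := by
    have : p ∈ associatedPrimes A N := by simpa using hp
    exact this
  obtain ⟨hprime, f, hf⟩ := (isAssociatedPrime_iff_exists_injective_linearMap p N).mp hp'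
  refine ⟨f 1, ?_, fun y hy => ?_⟩
  · intro h0
    have h1 : (1 : A ⧸ p) = 0 := hf (h0.trans (map_zero f).symm)
    have : (1 : A) ∈ p := Ideal.Quotient.eq_zero_iff_mem.mp h1
    exact hprime.ne_top ((Ideal.eq_top_iff_one p).mpr this)
  · rw [← map_smul]
    have : y • (1 : A ⧸ p) = 0 := by
      rw [Algebra.smul_def, mul_one]
      exact Ideal.Quotient.eq_zero_iff_mem.mpr (hap hy)
    rw [this, map_zero]

end ZeroDiv

section Main

variable [IsNoetherianRing A] [IsLocalRing A]

omit [IsNoetherianRing A] in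
lemma smul_top_ne_top (N : Type u) [AddCommGroup N] [Module A N] [Module.Finite A N] [Nontrivial N]
    (I : Ideal A) (hI : I ≤ IsLocalRing.maximalIdeal A) : I • (⊤ : Submodule A N) ≠ ⊤ := by
  have hann : Module.annihilator A N ≠ ⊤ := by
    rw [Ne, Module.annihilator_eq_top_iff]
    exact not_subsingleton N
  have := Submodule.top_ne_ideal_smul_of_le_jacobson_annihilator (M := N) (I := I)
    (by rw [IsLocalRing.jacobson_eq_maximalIdeal _ hann]; exact hI)
  exact this.symm

variable (M : Type u) [AddCommGroup M] [Module A M] [Module.Finite A M] [Nontrivial M]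
  (xs : List A) (hxs : ∀ x ∈ xs, x ∈ IsLocalRing.maximalIdeal A)

include hxs in
omit [IsNoetherianRing A] [Module.Finite A M] [Nontrivial M] in
lemma span_le_maximalIdeal : Ideal.span {x | x ∈ xs} ≤ IsLocalRing.maximalIdeal A :=
  Ideal.span_le.mpr hxs

omit [IsNoetherianRing A] [IsLocalRing A] [Module.Finite A M] [Nontrivial M] in
lemma isZero_koszulH_of_lt (rs : List A) (hreg : RingTheory.Sequence.IsWeaklyRegular M rs)
    (hmem : ∀ r ∈ rs, r ∈ Ideal.span {x | x ∈ xs}) (p : ℕ) (hp : p < rs.length) :
    IsZero (koszulH xs (ModuleCat.of A M) p) := by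
  apply (regular_sequence_koszul xs rs M hreg hmem).1
  have : (p : ℤ) < rs.length := by exact_mod_cast hp
  lia

include hxs in
omit [IsNoetherianRing A] in
lemma length_le_of_isWeaklyRegular (rs : List A) (hreg : RingTheory.Sequence.IsWeaklyRegular M rs)
    (hmem : ∀ r ∈ rs, r ∈ Ideal.span {x | x ∈ xs}) : rs.length ≤ xs.length := by
  by_contra hlt
  push_neg at hlt
  have hz := isZero_koszulH_of_lt M xs rs hreg hmem xs.length hlt
  have hz' : IsZero ((koszulCx (ModuleCat.of A M) xs).homology
      (((xs.length : ℕ) : ℤ) - (xs.length : ℤ))) := hz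
  rw [sub_self] at hz'
  obtain ⟨e⟩ := nonempty_top_equiv xs M
  have hsub : Subsingleton ((koszulCx (ModuleCat.of A M) xs).homology 0) :=
    ModuleCat.subsingleton_of_isZero hz'
  have : Subsingleton (M ⧸ (Ideal.ofList xs • (⊤ : Submodule A M))) := e.symm.toEquiv.subsingleton
  rw [Submodule.Quotient.subsingleton_iff] at this
  exact smul_top_ne_top M _ (span_le_maximalIdeal xs hxs) this

include hxs in
theorem koszul_depth :
    LocCoh.idealDepth (Ideal.span {x | x ∈ xs}) M ≤ xs.length ∧
      (∀ p : ℕ, (p : ℕ∞) < LocCoh.idealDepth (Ideal.span {x | x ∈ xs}) M →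
        IsZero (koszulH xs (ModuleCat.of A M) p)) ∧
      (∀ r : ℕ, LocCoh.idealDepth (Ideal.span {x | x ∈ xs}) M = r →
        ¬ IsZero (koszulH xs (ModuleCat.of A M) r)) := by
  have hale := span_le_maximalIdeal xs hxs
  have hne : Ideal.span {x | x ∈ xs} • (⊤ : Submodule A M) ≠ ⊤ := smul_top_ne_top M _ hale
  have hD : LocCoh.idealDepth (Ideal.span {x | x ∈ xs}) M =
      ⨆ (rs : List A) (_ : RingTheory.Sequence.IsWeaklyRegular M rs ∧
        ∀ r ∈ rs, r ∈ Ideal.span {x | x ∈ xs}), (rs.length : ℕ∞) := by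
    unfold LocCoh.idealDepth
    rw [if_neg hne]
  rw [hD]
  have hle : ∀ (rs : List A) (h : RingTheory.Sequence.IsWeaklyRegular M rs ∧
      ∀ r ∈ rs, r ∈ Ideal.span {x | x ∈ xs}), (rs.length : ℕ∞) ≤ xs.length := fun rs h =>
    Nat.cast_le.mpr (length_le_of_isWeaklyRegular M xs hxs rs h.1 h.2)
  refine ⟨iSup₂_le hle, ?_, ?_⟩
  · intro p hp
    rw [lt_iSup_iff] at hp
    obtain ⟨rs, hp⟩ := hp
    rw [lt_iSup_iff] at hp
    obtain ⟨h, hp⟩ := hp
    exact isZero_koszulH_of_lt M xs rs h.1 h.2 p (by exact_mod_cast hp)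
  · intro r hr
    -- a regular sequence of length exactly `r`
    obtain ⟨rs, hreg, hmem, hlen⟩ : ∃ rs : List A, RingTheory.Sequence.IsWeaklyRegular M rs ∧
        (∀ r ∈ rs, r ∈ Ideal.span {x | x ∈ xs}) ∧ rs.length = r := by
      rcases Nat.eq_zero_or_pos r with rfl | hpos
      · exact ⟨[], RingTheory.Sequence.IsWeaklyRegular.nil A M, by simp, rfl⟩
      · have hlt : ((r - 1 : ℕ) : ℕ∞) < ⨆ (rs : List A)
            (_ : RingTheory.Sequence.IsWeaklyRegular M rs ∧
              ∀ r ∈ rs, r ∈ Ideal.span {x | x ∈ xs}), (rs.length : ℕ∞) := by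
          rw [hr]
          exact_mod_cast Nat.sub_lt hpos Nat.one_pos
        rw [lt_iSup_iff] at hlt
        obtain ⟨rs, hlt⟩ := hlt
        rw [lt_iSup_iff] at hlt
        obtain ⟨h, hlt⟩ := hlt
        have h1 : r - 1 < rs.length := by exact_mod_cast hlt
        have h2 : (rs.length : ℕ∞) ≤ r := by
          rw [← hr]
          exact le_iSup₂ (f := fun (rs : List A) (_ : RingTheory.Sequence.IsWeaklyRegular M rs ∧
            ∀ r ∈ rs, r ∈ Ideal.span {x | x ∈ xs}) => (rs.length : ℕ∞)) rs h
        have h3 : rs.length ≤ r := by exact_mod_cast h2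
        exact ⟨rs, h.1, h.2, by omega⟩
    -- maximality
    set N := M ⧸ (Ideal.ofList rs • (⊤ : Submodule A M)) with hN
    have hrsle : Ideal.ofList rs ≤ IsLocalRing.maximalIdeal A :=
      Ideal.span_le.mpr (fun x hx => hale (hmem x hx))
    have hNnt : Nontrivial N := by
      rw [hN, Submodule.Quotient.nontrivial_iff]
      exact smul_top_ne_top M _ hrsle
    have hzd : ∀ y ∈ Ideal.span {x | x ∈ xs}, ¬ IsSMulRegular N y := by
      intro y hy hyreg
      have hreg' : RingTheory.Sequence.IsWeaklyRegular M (rs ++ [y]) := by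
        rw [RingTheory.Sequence.isWeaklyRegular_append_iff,
          RingTheory.Sequence.isWeaklyRegular_singleton_iff]
        exact ⟨hreg, hyreg⟩
      have hmem' : ∀ r ∈ rs ++ [y], r ∈ Ideal.span {x | x ∈ xs} := by
        intro r hr
        rw [List.mem_append, List.mem_singleton] at hr
        rcases hr with hr | rfl
        · exact hmem r hr
        · exact hy
      have h2 : ((rs ++ [y]).length : ℕ∞) ≤ r := by
        rw [← hr]
        exact le_iSup₂ (f := fun (rs : List A) (_ : RingTheory.Sequence.IsWeaklyRegular M rs ∧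
          ∀ r ∈ rs, r ∈ Ideal.span {x | x ∈ xs}) => (rs.length : ℕ∞)) (rs ++ [y]) ⟨hreg', hmem'⟩
      have h3 : (rs ++ [y]).length ≤ r := by exact_mod_cast h2
      rw [List.length_append, List.length_singleton] at h3
      omega
    obtain ⟨x, hx0, hx⟩ := exists_ne_zero_smul_eq_zero N _ hzd
    obtain ⟨ι, hι, hrange⟩ := bottom xs N
    obtain ⟨c, hc⟩ := (hrange x).mpr (fun f hf => hx f (Ideal.subset_span hf))
    have hnz : ¬ IsZero ((koszulCx (ModuleCat.of A N) xs).homology (-(xs.length : ℤ))) := by
      intro hz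
      have : Subsingleton ((koszulCx (ModuleCat.of A N) xs).homology (-(xs.length : ℤ))) :=
        ModuleCat.subsingleton_of_isZero hz
      apply hx0
      rw [← hc, Subsingleton.elim c 0, map_zero]
    have key := (regular_sequence_koszul xs rs M hreg hmem).2
    intro hz
    apply hnz
    rw [← key]
    have e : (-(xs.length : ℤ) + (rs.length : ℤ)) = (r : ℤ) - (xs.length : ℤ) := by
      rw [hlen]
      ring
    rw [e]
    exact hz

end Main

end Groth.Agent.Lib.Helper12.KoszulDepth
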