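import Mathlib

/-!
# Regularity of a parameter from reducedness of the fibre and non-minimality (helper12)

`B` Noetherian, `t` in the Jacobson radical.  If `B/tB` is reduced and every minimal prime over `t`
contains a prime not containing `t`, then `t` is a nonzerodivisor (EGA IV 15.2.2, ring-level core).
Consequently `B` is flat over any discrete valuation ring `A → B` with uniformizer mapping to `t`.
-/

namespace Groth.Agent.Lib.Helper12.RegOfOpenFibre

variable {B : Type*} [CommRing B] [IsNoetherianRing B]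

theorem eq_zero_of_pow_mul_eq_zero (t : B) (ht : t ∈ Ideal.jacobson (⊥ : Ideal B))
    (hred : IsReduced (B ⧸ Ideal.span {t}))
    (hmin : ∀ p ∈ (Ideal.span {t}).minimalPrimes, ∃ q : Ideal B, q.IsPrime ∧ q ≤ p ∧ t ∉ q)
    {b : B} {n : ℕ} (hb : t ^ n * b = 0) : b = 0 := by
  -- the `t`-power torsion ideal
  let N : Ideal B :=
    { carrier := {b | ∃ n : ℕ, t ^ n * b = 0}
      add_mem' := by
        rintro a b ⟨n, hn⟩ ⟨m, hm⟩
        refine ⟨n + m, ?_⟩
        rw [mul_add, pow_add, mul_assoc, mul_comm (t ^ m) a, ← mul_assoc, hn, zero_mul, zero_add,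
          mul_assoc, hm, mul_zero]
      zero_mem' := ⟨0, by simp⟩
      smul_mem' := by
        rintro c b ⟨n, hn⟩
        refine ⟨n, ?_⟩
        rw [smul_eq_mul, mul_left_comm, hn, mul_zero] }
  have hN : ∀ b, b ∈ N ↔ ∃ n : ℕ, t ^ n * b = 0 := fun b => Iff.rfl
  have hrad : (Ideal.span {t}).radical = Ideal.span {t} := by
    apply le_antisymm _ Ideal.le_radical
    intro x hx
    obtain ⟨k, hk⟩ := hx
    have h1 : IsNilpotent (Ideal.Quotient.mk (Ideal.span {t}) x) :=
      ⟨k, by rw [← map_pow]; exact Ideal.Quotient.eq_zero_iff_mem.mpr hk⟩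
    have h2 := hred.eq_zero _ h1
    exact Ideal.Quotient.eq_zero_iff_mem.mp h2
  have hNle : N ≤ Ideal.span {t} • N := by
    intro b hb
    obtain ⟨n, hn⟩ := (hN b).mp hb
    have hbt : b ∈ Ideal.span {t} := by
      rw [← hrad, ← Ideal.sInf_minimalPrimes, Ideal.mem_sInf]
      intro p hp
      obtain ⟨q, hq, hqp, htq⟩ := hmin p hp
      have h0 : t ^ n * b ∈ q := by rw [hn]; exact q.zero_mem
      rcases hq.mem_or_mem h0 with h1 | h1
      · exact absurd (hq.mem_of_pow_mem n h1) htq
      · exact hqp h1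
    obtain ⟨b₁, rfl⟩ := Ideal.mem_span_singleton'.mp hbt
    have hb₁ : b₁ ∈ N := ⟨n + 1, by rw [pow_succ, mul_assoc, mul_comm t b₁]; exact hn⟩
    rw [mul_comm, ← smul_eq_mul]
    exact Submodule.smul_mem_smul (Ideal.mem_span_singleton_self t) hb₁
  have hNbot : N = ⊥ := by
    apply Submodule.eq_bot_of_le_smul_of_le_jacobson_bot (Ideal.span {t}) N
      (IsNoetherian.noetherian N) hNle
    rw [Ideal.span_le, Set.singleton_subset_iff]
    exact ht
  have : b ∈ N := ⟨n, hb⟩
  rw [hNbot] at this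
  exact this

/-- Flatness over a discrete valuation ring from reducedness of the closed fibre and
non-minimality of its generic points. -/
theorem flat_of_dvr {A : Type*} [CommRing A] [IsDomain A] [IsDiscreteValuationRing A]
    [Algebra A B] (ϖ : A) (hϖ : Irreducible ϖ)
    (ht : algebraMap A B ϖ ∈ Ideal.jacobson (⊥ : Ideal B))
    (hred : IsReduced (B ⧸ Ideal.span {algebraMap A B ϖ}))
    (hmin : ∀ p ∈ (Ideal.span {algebraMap A B ϖ}).minimalPrimes,
      ∃ q : Ideal B, q.IsPrime ∧ q ≤ p ∧ algebraMap A B ϖ ∉ q) : Module.Flat A B := by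
  rw [Module.Flat.flat_iff_torsion_eq_bot_of_isBezout, eq_bot_iff]
  intro x hx
  rw [Submodule.mem_torsion_iff] at hx
  obtain ⟨⟨a, ha⟩, hax⟩ := hx
  have ha0 : a ≠ 0 := nonZeroDivisors.ne_zero ha
  obtain ⟨n, u, rfl⟩ := IsDiscreteValuationRing.eq_unit_mul_pow_irreducible ha0 hϖ
  rw [Submodule.mem_bot]
  have h1 : algebraMap A B ϖ ^ n * x = 0 := by
    have h2 : (u : A) • (algebraMap A B ϖ ^ n * x) = 0 := by
      have h3 : ((u : A) * ϖ ^ n) • x = 0 := hax
      rw [Algebra.smul_def] at h3 ⊢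
      rw [map_mul, map_pow, mul_assoc] at h3
      exact h3
    have h4 := congrArg (fun y => ((u⁻¹ : Aˣ) : A) • y) h2
    simp only [smul_smul, Units.inv_mul, one_smul, smul_zero] at h4
    exact h4
  exact eq_zero_of_pow_mul_eq_zero _ ht hred hmin h1

end Groth.Agent.Lib.Helper12.RegOfOpenFibre
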