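import Mathlib
import Groth.Prelude.Def_EGA43
import Groth.Agent.Lib.Helper12.RegOfOpenFibre
import Groth.Agent.Lib.Helper12.FlatOverSections
import Groth.Agent.Lib.Helper24.FibreStalkQuot

/-!
# Flatness over a discrete valuation ring from openness at the generic points of the closed fibre
(helper12; EGA IV 15.2.2 in scheme form)
-/

set_option autoImplicit false
set_option linter.style.haveILetI false
universe u

open AlgebraicGeometry CategoryTheory IsLocalRing

namespace Groth.Agent.Lib.Helper12.DVRFlatSch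

variable {A' : Type u} [CommRing A'] {X' : Scheme.{u}} (p' : X' ⟶ Spec (CommRingCat.of A'))

/-- the ring map `A' → O_{X', x'}` -/
noncomputable def toStalk (x' : X') : A' →+* X'.presheaf.stalk x' :=
  (X'.presheaf.germ ⊤ x' trivial).hom.comp
    ((p'.appTop).hom.comp (Scheme.ΓSpecIso (CommRingCat.of A')).inv.hom)

theorem toStalk_eq (x' : X') :
    toStalk p' x' = (p'.stalkMap x').hom.comp
      (((Spec (CommRingCat.of A')).presheaf.germ ⊤ (p'.base x') trivial).hom.comp
        (Scheme.ΓSpecIso (CommRingCat.of A')).inv.hom) := by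
  have h := Scheme.Hom.germ_stalkMap p' ⊤ x' trivial
  have h' := congrArg CommRingCat.Hom.hom h
  rw [CommRingCat.hom_comp, CommRingCat.hom_comp] at h'
  exact RingHom.ext fun a =>
    (DFunLike.congr_fun h' ((Scheme.ΓSpecIso (CommRingCat.of A')).inv.hom a)).symm

theorem flat_stalkMap_of_flat (x' : X')
    (h : letI := (toStalk p' x').toAlgebra
      Module.Flat A' (X'.presheaf.stalk x')) : (p'.stalkMap x').hom.Flat := by
  let T := Spec (CommRingCat.of A')
  let s := p'.base x'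
  letI algA'B : Algebra A' (X'.presheaf.stalk x') := (toStalk p' x').toAlgebra
  letI algA₁A'' : Algebra Γ(T, ⊤) (T.presheaf.stalk s) :=
    (T.presheaf.germ ⊤ s trivial).hom.toAlgebra
  letI algA''B : Algebra (T.presheaf.stalk s) (X'.presheaf.stalk x') :=
    (p'.stalkMap x').hom.toAlgebra
  letI algA'A₁ : Algebra A' Γ(T, ⊤) := (Scheme.ΓSpecIso (CommRingCat.of A')).inv.hom.toAlgebra
  letI algA₁B : Algebra Γ(T, ⊤) (X'.presheaf.stalk x') :=
    ((p'.stalkMap x').hom.comp (T.presheaf.germ ⊤ s trivial).hom).toAlgebra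
  haveI tow1 : IsScalarTower Γ(T, ⊤) (T.presheaf.stalk s) (X'.presheaf.stalk x') :=
    IsScalarTower.of_algebraMap_eq' rfl
  haveI tow2 : IsScalarTower A' Γ(T, ⊤) (X'.presheaf.stalk x') :=
    IsScalarTower.of_algebraMap_eq' (by
      change toStalk p' x' = _
      rw [toStalk_eq]
      exact (RingHom.comp_assoc _ _ _).symm)
  haveI loc : IsLocalization.AtPrime (T.presheaf.stalk s)
      ((isAffineOpen_top T).primeIdealOf ⟨s, trivial⟩).asIdeal :=
    (isAffineOpen_top T).isLocalization_stalk ⟨s, trivial⟩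
  have hbij : Function.Bijective (algebraMap A' Γ(T, ⊤)) :=
    (ConcreteCategory.bijective_of_isIso (Scheme.ΓSpecIso (CommRingCat.of A')).inv)
  have h1 : Module.Flat Γ(T, ⊤) (X'.presheaf.stalk x') :=
    (Groth.Agent.Lib.Helper12.FlatOver.flat_iff_of_bijective hbij _).mpr h
  exact (Module.flat_iff_of_isLocalization (T.presheaf.stalk s)
    ((isAffineOpen_top T).primeIdealOf ⟨s, trivial⟩).asIdeal.primeCompl _).mpr h1

theorem isUnit_toStalk_iff (x' : X') (r : A') :
    IsUnit (toStalk p' x' r) ↔ r ∉ (p'.base x').asIdeal := by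
  have h1 : toStalk p' x' r = X'.presheaf.germ ⊤ x' trivial
      (p'.appTop.hom ((Scheme.ΓSpecIso (CommRingCat.of A')).inv.hom r)) := rfl
  rw [h1, ← Scheme.mem_basicOpen_top, ← Scheme.preimage_basicOpen_top, basicOpen_eq_of_affine]
  exact Iff.rfl

/-- the map `A' → O_{Spec A', s}` -/
noncomputable def toStalkBase (s : Spec (CommRingCat.of A')) :
    CommRingCat.of A' ⟶ (Spec (CommRingCat.of A')).presheaf.stalk s :=
  (Scheme.ΓSpecIso (CommRingCat.of A')).inv ≫
    (Spec (CommRingCat.of A')).presheaf.germ ⊤ s trivial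

theorem toStalk_eq' (x' : X') :
    toStalk p' x' = (p'.stalkMap x').hom.comp (toStalkBase (p'.base x')).hom :=
  toStalk_eq p' x'

theorem isIso_toStalkBase [IsLocalRing A'] (s : Spec (CommRingCat.of A'))
    (hs : s = closedPoint A') : IsIso (toStalkBase s) := by
  subst hs
  have h1 : toStalkBase (closedPoint A') = (stalkClosedPointIso (CommRingCat.of A')).inv := by
    unfold toStalkBase
    rw [← ΓSpecIso_hom_stalkClosedPointIso_inv, Iso.inv_hom_id_assoc]
  rw [h1]
  infer_instance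

theorem map_maximalIdeal_eq_span [IsLocalRing A'] (x' : X') (hx' : p'.base x' = closedPoint A')
    (ϖ : A') (hϖ : maximalIdeal A' = Ideal.span {ϖ}) :
    (maximalIdeal ((Spec (CommRingCat.of A')).presheaf.stalk (p'.base x'))).map
      (p'.stalkMap x').hom = Ideal.span {toStalk p' x' ϖ} := by
  haveI := isIso_toStalkBase (p'.base x') hx'
  have hbij : Function.Bijective (toStalkBase (p'.base x')).hom :=
    ConcreteCategory.bijective_of_isIso (toStalkBase (p'.base x'))
  have h1 : maximalIdeal ((Spec (CommRingCat.of A')).presheaf.stalk (p'.base x')) =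
      (maximalIdeal A').map (toStalkBase (p'.base x')).hom := by
    apply le_antisymm
    · intro a ha
      obtain ⟨b, rfl⟩ := hbij.2 a
      refine Ideal.mem_map_of_mem _ ?_
      rw [mem_maximalIdeal, mem_nonunits_iff] at ha ⊢
      intro hb
      exact ha (hb.map _)
    · rw [Ideal.map_le_iff_le_comap]
      intro b hb
      rw [Ideal.mem_comap, mem_maximalIdeal, mem_nonunits_iff]
      rw [mem_maximalIdeal, mem_nonunits_iff] at hb
      intro hu
      apply hb
      obtain ⟨c, hc⟩ := hu.exists_right_inv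
      obtain ⟨d, rfl⟩ := hbij.2 c
      rw [← map_mul, ← map_one (toStalkBase (p'.base x')).hom] at hc
      exact IsUnit.of_mul_eq_one _ (hbij.1 hc)
  rw [h1, Ideal.map_map, hϖ, Ideal.map_span, Set.image_singleton, ← toStalk_eq']

theorem stalkSpecializes_toStalk {z x' : X'} (h : z ⤳ x') (r : A') :
    (X'.presheaf.stalkSpecializes h).hom (toStalk p' x' r) = toStalk p' z r := by
  have h1 := TopCat.Presheaf.germ_stalkSpecializes X'.presheaf (U := ⊤) (y := x') trivial h
  exact DFunLike.congr_fun (congrArg CommRingCat.Hom.hom h1) _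

/-- the prime of `O_{X', x'}` corresponding to a generization -/
theorem asIdeal_eq_comap_of_fromSpecStalk (x' : X') (P : PrimeSpectrum (X'.presheaf.stalk x'))
    (h : (X'.fromSpecStalk x') P ⤳ x') :
    P.asIdeal = (maximalIdeal (X'.presheaf.stalk ((X'.fromSpecStalk x') P))).comap
      (X'.presheaf.stalkSpecializes h).hom := by
  have h1 := Scheme.SpecMap_stalkSpecializes_fromSpecStalk h
  have h2 := congrArg (fun k => k.base (closedPoint _)) h1
  simp only [Scheme.Hom.comp_base, TopCat.comp_app, Scheme.fromSpecStalk_closedPoint] at h2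
  have hinj : Function.Injective (X'.fromSpecStalk x').base :=
    (X'.fromSpecStalk x').isEmbedding.injective
  have h3 := hinj h2
  exact (congrArg PrimeSpectrum.asIdeal h3).symm

theorem mem_asIdeal_iff_of_fromSpecStalk (x' : X') (P : PrimeSpectrum (X'.presheaf.stalk x'))
    (r : A') :
    toStalk p' x' r ∈ P.asIdeal ↔ r ∈ (p'.base ((X'.fromSpecStalk x') P)).asIdeal := by
  have h : (X'.fromSpecStalk x') P ⤳ x' := by
    have : (X'.fromSpecStalk x') P ∈ Set.range (X'.fromSpecStalk x') := ⟨P, rfl⟩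
    rwa [Scheme.range_fromSpecStalk] at this
  rw [asIdeal_eq_comap_of_fromSpecStalk x' P h, Ideal.mem_comap, stalkSpecializes_toStalk,
    mem_maximalIdeal, mem_nonunits_iff, isUnit_toStalk_iff, not_not]

/-- If `p'` is open at `z'` over the closed point of the local domain `A'`, no nonzero element of
`A'` becomes nilpotent in `O_{X', z'}`. -/
theorem not_isNilpotent_toStalk_of_isOpenAt [IsDomain A'] [IsLocalRing A'] (z' : X')
    (hz' : p'.base z' = closedPoint A') (hopen : EGA43.IsOpenAt p'.base z') (r : A') (hr : r ≠ 0) :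
    ¬ IsNilpotent (toStalk p' z' r) := by
  rintro ⟨n, hn⟩
  let τ : Γ(X', ⊤) := p'.appTop.hom ((Scheme.ΓSpecIso (CommRingCat.of A')).inv.hom r)
  have h1 : X'.presheaf.germ ⊤ z' trivial (τ ^ n) = X'.presheaf.germ ⊤ z' trivial 0 := by
    rw [map_pow, map_zero]
    exact hn
  obtain ⟨W, hzW, iU, iV, hW⟩ := TopCat.Presheaf.germ_eq X'.presheaf (U := ⊤) (V := ⊤) z'
    (show z' ∈ (⊤ : X'.Opens) from trivial) (show z' ∈ (⊤ : X'.Opens) from trivial) _ _ h1
  have hWn : (W : Set X') ∈ nhds z' := W.isOpen.mem_nhds hzW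
  have h2 := hopen _ hWn
  rw [hz', mem_nhds_iff] at h2
  obtain ⟨O, hOW, hO, hcO⟩ := h2
  have hOtop : (⟨O, hO⟩ : TopologicalSpace.Opens (PrimeSpectrum A')) = ⊤ :=
    (IsLocalRing.closedPoint_mem_iff _).mp hcO
  let η : PrimeSpectrum A' := ⟨⊥, Ideal.isPrime_bot⟩
  have hη : η ∈ O := by
    have : η ∈ (⟨O, hO⟩ : TopologicalSpace.Opens (PrimeSpectrum A')) := by rw [hOtop]; trivial
    exact this
  obtain ⟨ξ, hξW, hξ⟩ := hOW hη
  have hunit : IsUnit (toStalk p' ξ r) := by
    rw [isUnit_toStalk_iff, hξ]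
    exact fun h => hr ((Submodule.mem_bot A').mp h)
  have hzero : toStalk p' ξ r ^ n = 0 := by
    have h3 : toStalk p' ξ r ^ n = X'.presheaf.germ ⊤ ξ trivial (τ ^ n) := by
      rw [map_pow]
      rfl
    rw [h3, ← X'.presheaf.germ_res_apply iU ξ hξW, hW, map_zero, map_zero]
  have h0 : IsUnit (0 : X'.presheaf.stalk ξ) := by
    rw [← hzero]
    exact hunit.pow n
  exact not_isUnit_zero h0

theorem eq_closedPoint_of_mem [IsLocalRing A'] (ϖ : A') (hϖ : maximalIdeal A' = Ideal.span {ϖ})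
    (s : PrimeSpectrum A') : ϖ ∈ s.asIdeal ↔ s = closedPoint A' := by
  constructor
  · intro h
    apply PrimeSpectrum.ext
    change s.asIdeal = maximalIdeal A'
    apply le_antisymm (IsLocalRing.le_maximalIdeal s.2.ne_top)
    rw [hϖ, Ideal.span_le, Set.singleton_subset_iff]
    exact h
  · rintro rfl
    change ϖ ∈ maximalIdeal A'
    rw [hϖ]
    exact Ideal.mem_span_singleton_self ϖ

theorem exists_prime_le_of_isOpenAt [IsDomain A'] [IsLocalRing A'] (x' : X')
    (ϖ : A') (hϖ0 : ϖ ≠ 0) (hϖ : maximalIdeal A' = Ideal.span {ϖ})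
    (hopen : ∀ z' : X', z' ⤳ x' → p'.base z' = closedPoint A' →
      (∀ z'' : X', z'' ⤳ z' → p'.base z'' = closedPoint A' → z'' = z') →
        EGA43.IsOpenAt p'.base z')
    (𝔭 : Ideal (X'.presheaf.stalk x'))
    (h𝔭 : 𝔭 ∈ (Ideal.span {toStalk p' x' ϖ}).minimalPrimes) :
    ∃ 𝔮 : Ideal (X'.presheaf.stalk x'), 𝔮.IsPrime ∧ 𝔮 ≤ 𝔭 ∧ toStalk p' x' ϖ ∉ 𝔮 := by
  haveI h𝔭prime : 𝔭.IsPrime := h𝔭.1.1
  let P : PrimeSpectrum (X'.presheaf.stalk x') := ⟨𝔭, h𝔭prime⟩
  have hrange : ∀ Q : PrimeSpectrum (X'.presheaf.stalk x'), (X'.fromSpecStalk x') Q ⤳ x' := by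
    intro Q
    have : (X'.fromSpecStalk x') Q ∈ Set.range (X'.fromSpecStalk x') := ⟨Q, rfl⟩
    rwa [Scheme.range_fromSpecStalk] at this
  set z' : X' := (X'.fromSpecStalk x') P with hz'def
  have hz' : z' ⤳ x' := hrange P
  have ht𝔭 : toStalk p' x' ϖ ∈ P.asIdeal := h𝔭.1.2 (Ideal.subset_span rfl)
  have hz'c : p'.base z' = closedPoint A' :=
    (eq_closedPoint_of_mem ϖ hϖ _).mp ((mem_asIdeal_iff_of_fromSpecStalk p' x' P ϖ).mp ht𝔭)
  have hmax : ∀ z'' : X', z'' ⤳ z' → p'.base z'' = closedPoint A' → z'' = z' := by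
    intro z'' hz'' hz''c
    have h1 : z'' ∈ Set.range (X'.fromSpecStalk x') := by
      rw [Scheme.range_fromSpecStalk]
      exact hz''.trans hz'
    obtain ⟨P'', rfl⟩ := h1
    have h2 : P'' ⤳ P :=
      ((X'.fromSpecStalk x').isEmbedding.isInducing.specializes_iff).mp hz''
    have h3 : P''.asIdeal ≤ 𝔭 := (PrimeSpectrum.le_iff_specializes P'' P).mpr h2
    have h4 : toStalk p' x' ϖ ∈ P''.asIdeal :=
      (mem_asIdeal_iff_of_fromSpecStalk p' x' P'' ϖ).mpr
        ((eq_closedPoint_of_mem ϖ hϖ _).mpr hz''c)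
    have h5 : 𝔭 ≤ P''.asIdeal := h𝔭.2 ⟨P''.2, by
      rw [Ideal.span_le, Set.singleton_subset_iff]; exact h4⟩ h3
    have h6 : P'' = P := PrimeSpectrum.ext (le_antisymm h3 h5)
    rw [h6]
  have hop := hopen z' hz' hz'c hmax
  have hnn := not_isNilpotent_toStalk_of_isOpenAt p' z' hz'c hop ϖ hϖ0
  -- a prime of the stalk at `z'` avoiding `ϖ`
  have h7 : toStalk p' z' ϖ ∉ nilradical (X'.presheaf.stalk z') := fun h => hnn (mem_nilradical.mp h)
  rw [nilradical_eq_sInf, Ideal.mem_sInf] at h7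
  push Not at h7
  obtain ⟨𝔮₀, h𝔮₀, hnot⟩ := h7
  haveI : 𝔮₀.IsPrime := h𝔮₀
  refine ⟨𝔮₀.comap (X'.presheaf.stalkSpecializes hz').hom, Ideal.comap_isPrime _ _, ?_, ?_⟩
  · have h8 : 𝔭 = (maximalIdeal (X'.presheaf.stalk z')).comap
        (X'.presheaf.stalkSpecializes hz').hom := asIdeal_eq_comap_of_fromSpecStalk x' P hz'
    rw [h8]
    exact Ideal.comap_mono (IsLocalRing.le_maximalIdeal h𝔮₀.ne_top)
  · rw [Ideal.mem_comap, stalkSpecializes_toStalk]
    exact hnot

/-- **EGA IV 15.2.2, scheme form over a discrete valuation ring.** -/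
theorem flat_stalkMap_of_isOpenAt [IsDomain A'] [IsDiscreteValuationRing A']
    [LocallyOfFiniteType p'] (x' : X') (hx' : p'.base x' = closedPoint A')
    (hred : IsReduced ((p'.fiber (p'.base x')).presheaf.stalk (p'.asFiber x')))
    (hopen : ∀ z' : X', z' ⤳ x' → p'.base z' = closedPoint A' →
      (∀ z'' : X', z'' ⤳ z' → p'.base z'' = closedPoint A' → z'' = z') →
        EGA43.IsOpenAt p'.base z') :
    (p'.stalkMap x').hom.Flat := by
  apply flat_stalkMap_of_flat
  letI algA'B : Algebra A' (X'.presheaf.stalk x') := (toStalk p' x').toAlgebra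
  obtain ⟨ϖ, hϖ⟩ := IsDiscreteValuationRing.exists_irreducible A'
  have hmaxϖ : maximalIdeal A' = Ideal.span {ϖ} := hϖ.maximalIdeal_eq
  haveI : IsLocallyNoetherian X' := LocallyOfFiniteType.isLocallyNoetherian p'
  haveI : IsNoetherianRing (X'.presheaf.stalk x') := inferInstance
  refine Groth.Agent.Lib.Helper12.RegOfOpenFibre.flat_of_dvr ϖ hϖ ?_ ?_ ?_
  · -- in the Jacobson radical
    rw [IsLocalRing.jacobson_eq_maximalIdeal ⊥ bot_ne_top, mem_maximalIdeal, mem_nonunits_iff]
    change ¬ IsUnit (toStalk p' x' ϖ)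
    rw [isUnit_toStalk_iff, not_not, hx']
    exact (eq_closedPoint_of_mem ϖ hmaxϖ _).mpr rfl
  · obtain ⟨e⟩ := Groth.Agent.Lib.Helper24.nonempty_fibre_stalk_ringEquiv_quotient p' x'
    rw [map_maximalIdeal_eq_span p' x' hx' ϖ hmaxϖ] at e
    exact isReduced_of_injective e.symm.toRingHom e.symm.injective
  · exact fun 𝔭 h𝔭 => exists_prime_le_of_isOpenAt p' x' ϖ hϖ.ne_zero hmaxϖ hopen 𝔭 h𝔭

end Groth.Agent.Lib.Helper12.DVRFlatSch
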