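import Mathlib
import Groth.Prelude.Def_EGA43
import Groth.Prelude.Def_FDesc

/-!
# Points of the fibres of a base change (helper12)

For a pullback square `P = X ×_Y T`, the fibre of `P → T` over `s` is the base change of the fibre
of `X → Y` over `g s` along `κ(g s) → κ(s)`.  We derive

* `isReduced_fibre_stalk_of_geomReducedAt`: if the fibre of `f` is geometrically reduced at a point, the
  local rings of the fibres of the base change at the points over it are reduced;
* `exists_fibre_point`: maximal points of the fibre of the base change map to maximal points of the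
  fibre of `f`.
-/

set_option autoImplicit false
set_option linter.style.haveILetI false
universe u

open AlgebraicGeometry CategoryTheory Limits

namespace Groth.Agent.Lib.Helper12.FibrePullbackPts

variable {P X Y T : Scheme.{u}} {fst : P ⟶ X} {snd : P ⟶ T} {f : X ⟶ Y} {g : T ⟶ Y}

/-- the comparison map between fibres -/
noncomputable def fibreMap (H : IsPullback fst snd f g) (s : T) :
    snd.fiber s ⟶ f.fiber (g.base s) :=
  pullback.map _ _ _ _ fst (Spec.map (g.residueFieldMap s)) g H.w.symm (by simp)

theorem fibreMap_fiberι (H : IsPullback fst snd f g) (s : T) :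
    fibreMap H s ≫ f.fiberι (g.base s) = snd.fiberι s ≫ fst := by
  unfold fibreMap Scheme.Hom.fiberι
  exact pullback.lift_fst _ _ _

theorem isPullback_fibreMap (H : IsPullback fst snd f g) (s : T) :
    IsPullback (fibreMap H s) (snd.fiberToSpecResidueField s)
      (f.fiberToSpecResidueField (g.base s)) (Spec.map (g.residueFieldMap s)) :=
  isPullback_fiberToSpecResidueField_of_isPullback H s

theorem fibreMap_asFiber (H : IsPullback fst snd f g) (x' : P) (z : f.fiber (g.base (snd.base x')))
    (hz : (f.fiberι (g.base (snd.base x'))).base z = fst.base x') :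
    (fibreMap H (snd.base x')).base (snd.asFiber x') = z := by
  apply (f.fiberι (g.base (snd.base x'))).isEmbedding.injective
  rw [hz]
  have h1 := congrArg (fun φ => φ.base (snd.asFiber x')) (fibreMap_fiberι H (snd.base x'))
  simp only [Scheme.Hom.comp_base, TopCat.hom_comp, ContinuousMap.comp_apply] at h1
  rw [h1]
  exact congrArg fst.base (snd.fiberι_asFiber x')

instance flat_fibreMap (H : IsPullback fst snd f g) (s : T) : Flat (fibreMap H s) := by
  have hf : Flat (Spec.map (g.residueFieldMap s)) := by
    rw [Flat.SpecMap_iff]
    letI : Algebra (Y.residueField (g.base s)) (T.residueField s) :=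
      (g.residueFieldMap s).hom.toAlgebra
    exact (inferInstance : Module.Flat (Y.residueField (g.base s)) (T.residueField s))
  exact MorphismProperty.of_isPullback (isPullback_fibreMap H s).flip hf

/-- **Lemma (A).** -/
theorem isReduced_fibre_stalk_of_geomReducedAt (H : IsPullback fst snd f g) (x' : P) (y : Y)
    (hy : g.base (snd.base x') = y) (z : f.fiber y) (hz : (f.fiberι y).base z = fst.base x')
    (hred : FBase.IsGeomReducedAt (f.fiberToSpecResidueField y) z) :
    IsReduced ((snd.fiber (snd.base x')).presheaf.stalk (snd.asFiber x')) := by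
  subst hy
  letI algK : Algebra (IsLocalRing.ResidueField (Y.presheaf.stalk (g.base (snd.base x'))))
      (T.residueField (snd.base x')) :=
    (g.residueFieldMap (snd.base x')).hom.toAlgebra
  have sq : IsPullback (fibreMap H (snd.base x')) (snd.fiberToSpecResidueField (snd.base x'))
      (f.fiberToSpecResidueField (g.base (snd.base x')))
      (Spec.map (CommRingCat.ofHom (algebraMap
        (IsLocalRing.ResidueField (Y.presheaf.stalk (g.base (snd.base x'))))
        (T.residueField (snd.base x'))))) := isPullback_fibreMap H (snd.base x')
  let e : snd.fiber (snd.base x') ≅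
      FBase.bc (f.fiberToSpecResidueField (g.base (snd.base x'))) (T.residueField (snd.base x')) :=
    sq.isoPullback
  have h2 : e.hom ≫ FBase.bcπ (f.fiberToSpecResidueField (g.base (snd.base x')))
      (T.residueField (snd.base x')) = fibreMap H (snd.base x') := sq.isoPullback_hom_fst
  have h1 : (FBase.bcπ (f.fiberToSpecResidueField (g.base (snd.base x')))
      (T.residueField (snd.base x'))).base (e.hom.base (snd.asFiber x')) = z := by
    have h3 := congrArg (fun φ => φ.base (snd.asFiber x')) h2
    simp only [Scheme.Hom.comp_base, TopCat.hom_comp, ContinuousMap.comp_apply] at h3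
    exact h3.trans (fibreMap_asFiber H x' z hz)
  have h4 := hred (T.residueField (snd.base x')) (e.hom.base (snd.asFiber x')) h1
  haveI : IsIso (e.hom.stalkMap (snd.asFiber x')) := inferInstance
  exact isReduced_of_injective (inv (e.hom.stalkMap (snd.asFiber x'))).hom
    ((ConcreteCategory.bijective_of_isIso (inv (e.hom.stalkMap (snd.asFiber x')))).injective)

/-- **Lemma (B).** -/
theorem exists_fibre_point (H : IsPullback fst snd f g) (z' : P) (y : Y)
    (hy : g.base (snd.base z') = y) :
    ∃ ζ : f.fiber y, (f.fiberι y).base ζ = fst.base z' ∧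
      ((∀ z'' : P, z'' ⤳ z' → snd.base z'' = snd.base z' → z'' = z') →
        ∀ ζ₁ : f.fiber y, ζ₁ ⤳ ζ → ζ₁ = ζ) := by
  subst hy
  set s := snd.base z' with hs
  refine ⟨(fibreMap H s).base (snd.asFiber z'), ?_, ?_⟩
  · have h1 := congrArg (fun φ => φ.base (snd.asFiber z')) (fibreMap_fiberι H s)
    simp only [Scheme.Hom.comp_base, TopCat.hom_comp, ContinuousMap.comp_apply] at h1
    rw [h1]
    exact congrArg fst.base (snd.fiberι_asFiber z')
  · intro hmax ζ₁ hζ₁
    obtain ⟨ζ₁', hζ₁', rfl⟩ := Flat.generalizingMap (fibreMap H s) hζ₁
    have h2 : (snd.fiberι s).base ζ₁' ⤳ z' := by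
      have := hζ₁'.map (snd.fiberι s).base.hom.continuous
      rwa [show (snd.fiberι s).base.hom (snd.asFiber z') = z' from snd.fiberι_asFiber z'] at this
    have h3 : snd.base ((snd.fiberι s).base ζ₁') = s := by
      have : (snd.fiberι s).base ζ₁' ∈ Set.range (snd.fiberι s).base := ⟨_, rfl⟩
      rw [Scheme.Hom.range_fiberι] at this
      exact this
    have h4 := hmax _ h2 h3
    have h5 : ζ₁' = snd.asFiber z' := by
      apply (snd.fiberι s).isEmbedding.injective
      rw [h4]
      exact (snd.fiberι_asFiber z').symm
    rw [h5]

end Groth.Agent.Lib.Helper12.FibrePullbackPts
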