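import Mathlib
import Groth.Prelude.Def_FDesc
import Groth.Agent.Lib.Helper12.FibrePullbackPts
import Groth.Agent.Lib.Helper54.GeomReducedBC
import Groth.Agent.Lib.Helper54.GeomReduced

/-!
# Invariance of "the fibre is geometrically reduced at the point" (helper12)

* `geomReducedAt_fibre_iff_of_isPullback`: invariance under arbitrary base change of the target;
* `geomReducedAt_fibre_iff_of_etale`: invariance under étale maps (e.g. open immersions, isomorphisms)
  to the source.
-/

set_option autoImplicit false
set_option linter.style.haveILetI false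
universe u

open AlgebraicGeometry CategoryTheory Limits

namespace Groth.Agent.Lib.Helper12.GeomRedFibreInv

open Groth.Agent.Lib.Helper12.FibrePullbackPts

variable {P X Y T : Scheme.{u}} {fst : P ⟶ X} {snd : P ⟶ T} {f : X ⟶ Y} {g : T ⟶ Y}

/-- **Base change invariance** (points of the fibres version). -/
theorem geomReducedAt_fibre_iff_of_isPullback' (H : IsPullback fst snd f g) (s : T)
    (a : snd.fiber s) :
    FBase.IsGeomReducedAt (snd.fiberToSpecResidueField s) a ↔
      FBase.IsGeomReducedAt (f.fiberToSpecResidueField (g.base s)) ((fibreMap H s).base a) := by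
  letI algK : Algebra (IsLocalRing.ResidueField (Y.presheaf.stalk (g.base s)))
      (T.residueField s) := (g.residueFieldMap s).hom.toAlgebra
  have sq : IsPullback (fibreMap H s) (snd.fiberToSpecResidueField s)
      (f.fiberToSpecResidueField (g.base s))
      (Spec.map (CommRingCat.ofHom (algebraMap
        (IsLocalRing.ResidueField (Y.presheaf.stalk (g.base s)))
        (T.residueField s)))) := isPullback_fibreMap H s
  let e : snd.fiber s ≅
      FBase.bc (f.fiberToSpecResidueField (g.base s)) (T.residueField s) :=
    sq.isoPullback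
  have h1 : e.hom ≫ FBase.bcπ (f.fiberToSpecResidueField (g.base s))
      (T.residueField s) = fibreMap H s := sq.isoPullback_hom_fst
  have h2 : e.hom ≫ FBase.bcStr (f.fiberToSpecResidueField (g.base s))
      (T.residueField s) = snd.fiberToSpecResidueField s := sq.isoPullback_hom_snd
  have h3 : (FBase.bcπ (f.fiberToSpecResidueField (g.base s))
      (T.residueField s)).base (e.hom.base a) = (fibreMap H s).base a := by
    have := congrArg (fun φ => φ.base a) h1
    simp only [Scheme.Hom.comp_base, TopCat.hom_comp, ContinuousMap.comp_apply] at this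
    exact this
  rw [← h3, Groth.Agent.Lib.Helper54.isGeomReducedAt_bc_iff,
    ← Groth.Agent.Lib.Helper54.isGeomReducedAt_iff_of_etale e.hom, h2]
  exact Iff.rfl

/-- **Base change invariance.** -/
theorem geomReducedAt_fibre_iff_of_isPullback (H : IsPullback fst snd f g) (x' : P) (y : Y)
    (hy : g.base (snd.base x') = y) (z : f.fiber y) (hz : (f.fiberι y).base z = fst.base x') :
    FBase.IsGeomReducedAt (snd.fiberToSpecResidueField (snd.base x')) (snd.asFiber x') ↔
      FBase.IsGeomReducedAt (f.fiberToSpecResidueField y) z := by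
  subst hy
  rw [geomReducedAt_fibre_iff_of_isPullback' H, fibreMap_asFiber H x' z hz]

/-- **Étale invariance on the source** (points of the fibres version). -/
theorem geomReducedAt_fibre_iff_of_etale' {U : Scheme.{u}} (j : U ⟶ X) [Etale j] (f : X ⟶ Y)
    (y : Y) (a : (j ≫ f).fiber y) :
    ∃ z : f.fiber y, (f.fiberι y).base z = j.base (((j ≫ f).fiberι y).base a) ∧
      (FBase.IsGeomReducedAt ((j ≫ f).fiberToSpecResidueField y) a ↔
        FBase.IsGeomReducedAt (f.fiberToSpecResidueField y) z) := by
  obtain ⟨ψ, sq, hψ⟩ := Groth.Agent.Lib.Helper54.exists_baseChange_map j f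
    (Y.fromSpecResidueField y)
  haveI : Etale ψ := MorphismProperty.of_isPullback sq ‹Etale j›
  refine ⟨ψ.base a, ?_, ?_⟩
  · have := congrArg (fun φ => φ.base a) sq.w
    simp only [Scheme.Hom.comp_base, TopCat.hom_comp, ContinuousMap.comp_apply] at this
    exact this.symm
  · have h1 : (j ≫ f).fiberToSpecResidueField y = ψ ≫ f.fiberToSpecResidueField y := hψ.symm
    rw [h1]
    exact Groth.Agent.Lib.Helper54.isGeomReducedAt_iff_of_etale ψ _ a

/-- **Étale invariance on the source.** -/
theorem geomReducedAt_fibre_iff_of_etale {U : Scheme.{u}} (j : U ⟶ X) [Etale j] (f : X ⟶ Y)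
    (u : U) (y : Y) (hy : (j ≫ f).base u = y) (z : f.fiber y)
    (hz : (f.fiberι y).base z = j.base u) :
    FBase.IsGeomReducedAt ((j ≫ f).fiberToSpecResidueField ((j ≫ f).base u)) ((j ≫ f).asFiber u) ↔
      FBase.IsGeomReducedAt (f.fiberToSpecResidueField y) z := by
  subst hy
  obtain ⟨z', hz', h⟩ := geomReducedAt_fibre_iff_of_etale' j f ((j ≫ f).base u) ((j ≫ f).asFiber u)
  have : z' = z := by
    apply (f.fiberι ((j ≫ f).base u)).isEmbedding.injective
    rw [hz', hz]
    exact congrArg j.base ((j ≫ f).fiberι_asFiber u)
  rw [← this]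
  exact h

end Groth.Agent.Lib.Helper12.GeomRedFibreInv
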