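import Mathlib

/-!
# Noetherian models of a base change containing prescribed elements (helper12)

Let `S = A ⊗_{R₀} S₀` with `R₀` of finite type over `ℤ`, `S₀` flat of finite type over `R₀` and `A`
reduced.  For finitely many elements of `S` there is a Noetherian reduced subring `R₁ ⊆ A` (finitely
generated over the image of `R₀`) such that, with `S₁ = R₁ ⊗_{R₀} S₀` (flat of finite type over `R₁`),
`S = A ⊗_{R₁} S₁`, `S₁ → S` is injective and the given elements come from `S₁`.
-/

set_option autoImplicit false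
universe u

open TensorProduct

namespace Groth.Agent.Lib.Helper12.NoethModelElt

attribute [local instance] Algebra.TensorProduct.rightAlgebra

variable {R₀ A S₀ S : Type u} [CommRing R₀] [CommRing A] [CommRing S₀] [CommRing S]
  [Algebra R₀ A] [Algebra R₀ S₀] [Algebra S₀ S] [Algebra R₀ S] [Algebra A S]
  [IsScalarTower R₀ A S] [IsScalarTower R₀ S₀ S]

/-- every element of a base change is a finite combination of images -/
theorem exists_list_repr (hpo : Algebra.IsPushout R₀ A S₀ S) (x : S) :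
    ∃ l : List (A × S₀), x = (l.map fun p => p.1 • algebraMap S₀ S p.2).sum := by
  refine hpo.out.inductionOn x (fun x => ∃ l : List (A × S₀),
    x = (l.map fun p => p.1 • algebraMap S₀ S p.2).sum) ⟨[], by simp⟩ ?_ ?_ ?_
  · intro m
    exact ⟨[(1, m)], by simp⟩
  · rintro a _ ⟨l, rfl⟩
    refine ⟨l.map fun p => (a * p.1, p.2), ?_⟩
    rw [List.smul_sum, List.map_map, List.map_map]
    congr 1
    apply List.map_congr_left
    intro p _
    simp [mul_smul]
  · rintro _ _ ⟨l₁, rfl⟩ ⟨l₂, rfl⟩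
    exact ⟨l₁ ++ l₂, by rw [List.map_append, List.sum_append]⟩

section Model

variable (R₁ : Subalgebra R₀ A)

/-- the comparison map `R₁ ⊗_{R₀} S₀ → S` -/
noncomputable def ι : (R₁ ⊗[R₀] S₀) →ₐ[R₁] S :=
  Algebra.TensorProduct.lift (Algebra.ofId R₁ S) (IsScalarTower.toAlgHom R₀ S₀ S)
    (fun _ _ => Commute.all _ _)

theorem ι_tmul (r : R₁) (t : S₀) :
    ι (S₀ := S₀) (S := S) R₁ (r ⊗ₜ[R₀] t) = (r : A) • algebraMap S₀ S t := by
  unfold ι
  rw [Algebra.TensorProduct.lift_tmul, Algebra.smul_def]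
  rfl

theorem ι_injective [Module.Flat R₀ S₀] (hpo : Algebra.IsPushout R₀ A S₀ S) :
    Function.Injective (ι (S₀ := S₀) (S := S) R₁) := by
  have h1 : Function.Injective ((R₁.val.toLinearMap).rTensor S₀) :=
    Module.Flat.rTensor_preserves_injective_linearMap _ Subtype.val_injective
  have h2 : ((ι (S₀ := S₀) (S := S) R₁).toLinearMap.restrictScalars R₀) =
      (hpo.out.equiv.toLinearMap.restrictScalars R₀) ∘ₗ ((R₁.val.toLinearMap).rTensor S₀) := by
    apply TensorProduct.ext'
    intro r t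
    simp only [LinearMap.coe_restrictScalars, AlgHom.toLinearMap_apply, LinearMap.coe_comp,
      Function.comp_apply, LinearMap.rTensor_tmul, LinearEquiv.coe_coe]
    rw [ι_tmul, IsBaseChange.equiv_tmul]
    rfl
  have h3 : Function.Injective ((ι (S₀ := S₀) (S := S) R₁).toLinearMap.restrictScalars R₀) := by
    rw [h2]
    exact hpo.out.equiv.injective.comp h1
  exact h3

theorem mem_range_ι (l : List (A × S₀)) (hl : ∀ p ∈ l, p.1 ∈ R₁) :
    (l.map fun p => p.1 • algebraMap S₀ S p.2).sum ∈ (ι (S₀ := S₀) (S := S) R₁).range := by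
  induction l with
  | nil => simp
  | cons p l ih =>
    rw [List.map_cons, List.sum_cons]
    refine add_mem ?_ (ih fun q hq => hl q (List.mem_cons_of_mem _ hq))
    exact ⟨(⟨p.1, hl p List.mem_cons_self⟩ : R₁) ⊗ₜ p.2, ι_tmul R₁ _ _⟩

end Model

/-- **Noetherian model containing two given elements.** -/
theorem exists_noeth_model [IsReduced A] [Algebra.FiniteType ℤ R₀] [Algebra.FiniteType R₀ S₀]
    [Module.Flat R₀ S₀] (hpo : Algebra.IsPushout R₀ A S₀ S) (s u : S) :
    ∃ (R₁ : Type u) (_ : CommRing R₁) (_ : IsNoetherianRing R₁) (_ : IsReduced R₁)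
      (_ : Algebra R₁ A) (S₁ : Type u) (_ : CommRing S₁) (_ : Algebra R₁ S₁) (_ : Algebra S₁ S)
      (_ : Algebra R₁ S) (_ : IsScalarTower R₁ A S) (_ : IsScalarTower R₁ S₁ S),
      Module.Flat R₁ S₁ ∧ Algebra.FiniteType R₁ S₁ ∧ Algebra.IsPushout R₁ S₁ A S ∧
        Function.Injective (algebraMap S₁ S) ∧ s ∈ Set.range (algebraMap S₁ S) ∧
        u ∈ Set.range (algebraMap S₁ S) := by
  classical
  obtain ⟨ls, hls⟩ := exists_list_repr hpo s
  obtain ⟨lu, hlu⟩ := exists_list_repr hpo u
  let F : Finset A := (ls.map Prod.fst ++ lu.map Prod.fst).toFinset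
  let R₁ : Subalgebra R₀ A := Algebra.adjoin R₀ (F : Set A)
  have hFs : ∀ p ∈ ls, p.1 ∈ R₁ := fun p hp => Algebra.subset_adjoin (by
    simp only [F, List.coe_toFinset, List.mem_append, List.mem_map, Set.mem_ofPred_eq]
    exact Or.inl ⟨p, hp, rfl⟩)
  have hFu : ∀ p ∈ lu, p.1 ∈ R₁ := fun p hp => Algebra.subset_adjoin (by
    simp only [F, List.coe_toFinset, List.mem_append, List.mem_map, Set.mem_ofPred_eq]
    exact Or.inr ⟨p, hp, rfl⟩)
  haveI hft1 : Algebra.FiniteType R₀ R₁ :=
    (Subalgebra.fg_iff_finiteType R₁).mp (Subalgebra.fg_adjoin_finset F)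
  haveI hftZ : Algebra.FiniteType ℤ R₁ := Algebra.FiniteType.trans (S := R₀) inferInstance hft1
  haveI hnoeth : IsNoetherianRing R₁ := Algebra.FiniteType.isNoetherianRing ℤ R₁
  haveI hred : IsReduced R₁ := isReduced_of_injective (algebraMap R₁ A) Subtype.val_injective
  letI algS₁S : Algebra (R₁ ⊗[R₀] S₀) S := (ι (S₀ := S₀) (S := S) R₁).toRingHom.toAlgebra
  haveI tow1 : IsScalarTower R₁ (R₁ ⊗[R₀] S₀) S := ⟨fun r x s => by
    change algebraMap (R₁ ⊗[R₀] S₀) S (r • x) * s = (r : A) • (algebraMap (R₁ ⊗[R₀] S₀) S x * s)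
    rw [Algebra.smul_def r x, map_mul, mul_assoc, Algebra.smul_def (r : A)]
    congr 1
    exact (ι (S₀ := S₀) (S := S) R₁).commutes r⟩
  have hpo1 : Algebra.IsPushout R₁ A (R₁ ⊗[R₀] S₀) S := by
    rw [Algebra.isPushout_iff]
    refine IsBaseChange.of_equiv
      ((TensorProduct.AlgebraTensorModule.cancelBaseChange R₀ R₁ A A S₀) ≪≫ₗ hpo.out.equiv) ?_
    intro x
    induction x using TensorProduct.induction_on with
    | zero => simp
    | tmul r t =>
      rw [LinearEquiv.trans_apply, TensorProduct.AlgebraTensorModule.cancelBaseChange_tmul,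
        IsBaseChange.equiv_tmul]
      change (r • (1 : A)) • algebraMap S₀ S t = ι (S₀ := S₀) (S := S) R₁ (r ⊗ₜ t)
      rw [ι_tmul]
      congr 1
      rw [Algebra.smul_def, mul_one]
      rfl
    | add x y hx hy =>
      rw [TensorProduct.tmul_add, map_add, hx, hy, map_add]
  refine ⟨R₁, inferInstance, hnoeth, hred, inferInstance, R₁ ⊗[R₀] S₀, inferInstance, inferInstance,
    algS₁S, inferInstance, inferInstance, tow1, inferInstance, inferInstance, hpo1.symm,
    ι_injective R₁ hpo, ?_, ?_⟩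
  · rw [hls]
    exact mem_range_ι R₁ ls hFs
  · rw [hlu]
    exact mem_range_ι R₁ lu hFu

end Groth.Agent.Lib.Helper12.NoethModelElt
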