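import Mathlib

set_option autoImplicit false

namespace Groth.Agent.Lib.Helper12.ReducedFlat

universe u

variable {R S : Type u} [CommRing R] [CommRing S] [Algebra R S]

/-- If `p` is a minimal prime and `R_p` is reduced, every element of `p` is killed by an element
outside `p`. -/
lemma exists_notMem_mul_eq_zero {p : Ideal R} [p.IsPrime] (hp : p ∈ minimalPrimes R)
    (hred : IsReduced (Localization.AtPrime p)) {a : R} (ha : a ∈ p) : ∃ t ∉ p, t * a = 0 := by
  have h1 := IsLocalization.AtPrime.radical_map_of_mem_minimalPrimes (A := Localization.AtPrime p)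
    p ⊥ hp
  rw [Ideal.map_bot] at h1
  have h2 : (⊥ : Ideal (Localization.AtPrime p)).radical = ⊥ := by
    have := nilradical_eq_zero (Localization.AtPrime p)
    rwa [nilradical] at this
  rw [h2] at h1
  have h3 : algebraMap R (Localization.AtPrime p) a = 0 := by
    have : algebraMap R (Localization.AtPrime p) a ∈ p.map (algebraMap R (Localization.AtPrime p)) :=
      Ideal.mem_map_of_mem _ ha
    rw [← h1] at this
    exact this
  obtain ⟨t, ht⟩ := (IsLocalization.map_eq_zero_iff p.primeCompl _ _).mp h3
  exact ⟨t.1, t.2, ht⟩

/-- An element avoiding all minimal primes below `p` is regular on the reduced ring `R_p`. -/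
lemma isRegular_algebraMap_of_notMem_minimalPrimes {p : Ideal R} [p.IsPrime]
    (hred : IsReduced (Localization.AtPrime p)) {a : R}
    (ha : ∀ q ∈ minimalPrimes R, q ≤ p → a ∉ q) :
    IsRegular (algebraMap R (Localization.AtPrime p) a) := by
  rw [isRegular_iff_mem_nonZeroDivisors, mem_nonZeroDivisors_iff_right]
  intro x hx
  obtain ⟨r, t, rfl⟩ := IsLocalization.exists_mk'_eq p.primeCompl x
  -- `r / t * a = 0`
  have h1 : algebraMap R (Localization.AtPrime p) (r * a) = 0 := by
    have := congrArg (fun z => z * algebraMap R (Localization.AtPrime p) t.1) hx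
    simp only [zero_mul] at this
    rw [mul_assoc, mul_comm _ (algebraMap R _ t.1), ← mul_assoc, IsLocalization.mk'_spec] at this
    rw [map_mul]
    exact this
  obtain ⟨u, hu⟩ := (IsLocalization.map_eq_zero_iff p.primeCompl _ _).mp h1
  -- `r / 1` lies in every prime of `R_p`
  have h2 : algebraMap R (Localization.AtPrime p) r = 0 := by
    have hnil : algebraMap R (Localization.AtPrime p) r ∈ nilradical (Localization.AtPrime p) := by
      rw [nilradical_eq_sInf, Ideal.mem_sInf]
      intro J hJ
      have hJ' : J.IsPrime := hJ
      have hcomap : (J.comap (algebraMap R (Localization.AtPrime p))).IsPrime := inferInstance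
      have hle : J.comap (algebraMap R (Localization.AtPrime p)) ≤ p := by
        intro z hz
        by_contra hzp
        have : IsUnit (algebraMap R (Localization.AtPrime p) z) :=
          IsLocalization.map_units _ (⟨z, hzp⟩ : p.primeCompl)
        exact hJ'.ne_top (Ideal.eq_top_of_isUnit_mem _ hz this)
      obtain ⟨q, hq, hqle⟩ := Ideal.exists_minimalPrimes_le
        (bot_le : (⊥ : Ideal R) ≤ J.comap (algebraMap R (Localization.AtPrime p)))
      have hqp : q ≤ p := hqle.trans hle
      have hq' : q.IsPrime := hq.1.1
      have hmem : u.1 * (r * a) ∈ q := by rw [hu]; exact zero_mem _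
      have hu' : u.1 ∉ q := fun h => u.2 (hqp h)
      have hra : r * a ∈ q := (hq'.mem_or_mem hmem).resolve_left hu'
      have hr : r ∈ q := (hq'.mem_or_mem hra).resolve_right (ha q hq hqp)
      exact hqle hr
    have := nilradical_eq_zero (Localization.AtPrime p)
    rw [this] at hnil
    exact hnil
  rw [← IsLocalization.mk'_spec (Localization.AtPrime p) r t] at h2
  have hunit : IsUnit (algebraMap R (Localization.AtPrime p) t.1) := IsLocalization.map_units _ t
  exact (hunit.mul_left_eq_zero).mp h2

/-- Key local step: `S_P` is reduced if `P ∩ R` is minimal, `R_p` is reduced and there is a reduced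
"fibre-like" ring. -/
lemma isReduced_localization_of_minimal (P : Ideal S) [P.IsPrime]
    (hmin : P.under R ∈ minimalPrimes R)
    (h1 : IsReduced (Localization.AtPrime (P.under R)))
    (h2 : ∃ (T : Type u) (_ : CommRing T) (_ : IsReduced T) (ψ : S →+* T),
        (∀ s ∉ P, IsUnit (ψ s)) ∧
          ∀ b : S, ψ b = 0 → ∃ s ∉ P, s * b ∈ (P.under R).map (algebraMap R S)) :
    IsReduced (Localization.AtPrime P) := by
  obtain ⟨T, _, hT, ψ, hunit, hker⟩ := h2
  constructor
  intro c hc
  obtain ⟨β, σ, rfl⟩ := IsLocalization.exists_mk'_eq P.primeCompl c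
  -- β / 1 is nilpotent
  have hβ : IsNilpotent (algebraMap S (Localization.AtPrime P) β) := by
    rw [← IsLocalization.mk'_spec (Localization.AtPrime P) β σ]
    exact (Commute.all _ _).isNilpotent_mul_right hc
  obtain ⟨k, hk⟩ := hβ
  rw [← map_pow] at hk
  obtain ⟨s, hs⟩ := (IsLocalization.map_eq_zero_iff P.primeCompl _ _).mp hk
  have h3 : ψ β ^ k = 0 := by
    have := congrArg ψ hs
    rw [map_mul, map_zero, map_pow] at this
    exact ((hunit s.1 s.2).mul_right_eq_zero).mp this
  have h4 : ψ β = 0 := IsReduced.eq_zero _ ⟨k, h3⟩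
  obtain ⟨s', hs'P, hs'⟩ := hker β h4
  -- elements of `pS` vanish in `S_P`
  have h5 : ∀ x ∈ (P.under R).map (algebraMap R S), algebraMap S (Localization.AtPrime P) x = 0 := by
    intro x hx
    refine Submodule.span_induction (p := fun x _ => algebraMap S (Localization.AtPrime P) x = 0)
      ?_ ?_ ?_ ?_ hx
    · rintro _ ⟨a, ha, rfl⟩
      obtain ⟨t, htp, hta⟩ := exists_notMem_mul_eq_zero hmin h1 ha
      have htP : algebraMap R S t ∉ P := fun h => htp h
      have hu : IsUnit (algebraMap S (Localization.AtPrime P) (algebraMap R S t)) :=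
        IsLocalization.map_units _ (⟨_, htP⟩ : P.primeCompl)
      have : algebraMap S (Localization.AtPrime P) (algebraMap R S t) *
          algebraMap S (Localization.AtPrime P) (algebraMap R S a) = 0 := by
        rw [← map_mul, ← map_mul, hta, map_zero, map_zero]
      exact (hu.mul_right_eq_zero).mp this
    · simp
    · intro x y _ _ hx hy
      rw [map_add, hx, hy, add_zero]
    · intro a x _ hx
      rw [smul_eq_mul, map_mul, hx, mul_zero]
  have h6 := h5 _ hs'
  rw [map_mul] at h6
  have hu : IsUnit (algebraMap S (Localization.AtPrime P) s') :=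
    IsLocalization.map_units _ (⟨s', hs'P⟩ : P.primeCompl)
  have h7 : algebraMap S (Localization.AtPrime P) β = 0 := (hu.mul_right_eq_zero).mp h6
  rw [IsLocalization.mk'_eq_zero_iff]
  exact (IsLocalization.map_eq_zero_iff P.primeCompl _ _).mp h7


/-- Prime avoidance: a non-minimal prime `p` of a Noetherian ring contains an element avoiding all
minimal primes below it. -/
lemma exists_mem_notMem_minimalPrimes [IsNoetherianRing R] {p : Ideal R} [p.IsPrime]
    (hp : p ∉ minimalPrimes R) : ∃ a ∈ p, ∀ q ∈ minimalPrimes R, q ≤ p → a ∉ q := by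
  classical
  have hfinite : {q ∈ minimalPrimes R | q ≤ p}.Finite :=
    (minimalPrimes.finite_of_isNoetherianRing R).subset (fun q hq => hq.1)
  by_contra hcon
  push Not at hcon
  have hsub : (p : Set R) ⊆ ⋃ q ∈ (hfinite.toFinset : Set (Ideal R)), ((fun q => q) q : Set R) := by
    intro a ha
    obtain ⟨q, hq, hqp, haq⟩ := hcon a ha
    simp only [Set.mem_iUnion]
    exact ⟨q, by simpa using ⟨hq, hqp⟩, haq⟩
  rw [Ideal.subset_union_prime (R := R) (f := fun q => q) ⊥ ⊥] at hsub
  · obtain ⟨q, hq, hpq⟩ := hsub
    have hq' : q ∈ minimalPrimes R ∧ q ≤ p := by simpa using hq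
    have : p = q := le_antisymm hpq hq'.2
    exact hp (this ▸ hq'.1)
  · intro q hq _ _
    have hq' : q ∈ minimalPrimes R ∧ q ≤ p := by simpa using hq
    exact hq'.1.1.1

/-- Inductive step. -/
lemma isReduced_localization_step [IsNoetherianRing R] [Module.Flat R S]
    (h1 : ∀ (P : Ideal S) [P.IsPrime], IsReduced (Localization.AtPrime (P.under R)))
    (P : Ideal S) [P.IsPrime] (hmin : P.under R ∉ minimalPrimes R)
    (ih : ∀ (P' : Ideal S) [P'.IsPrime], (P'.under R).height < (P.under R).height →
      IsReduced (Localization.AtPrime P')) :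
    IsReduced (Localization.AtPrime P) := by
  obtain ⟨a, hap, ha⟩ := exists_mem_notMem_minimalPrimes hmin
  have hreg := isRegular_algebraMap_of_notMem_minimalPrimes (h1 P) ha
  let _ := Localization.AtPrime.algebraOfLiesOver (P.under R) P
  have hflat : Module.Flat (Localization.AtPrime (P.under R)) (Localization.AtPrime P) :=
    inferInstance
  have hreg' : IsSMulRegular (Localization.AtPrime P)
      (algebraMap R (Localization.AtPrime (P.under R)) a) :=
    Module.Flat.isSMulRegular_of_isRegular hreg
  set α : Localization.AtPrime P := algebraMap S (Localization.AtPrime P) (algebraMap R S a)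
    with hα
  have hαreg : IsSMulRegular (Localization.AtPrime P) α := by
    intro x y hxy
    apply hreg'
    have e : ∀ z : Localization.AtPrime P,
        (algebraMap R (Localization.AtPrime (P.under R)) a) • z = α * z := by
      intro z
      rw [Algebra.smul_def, Localization.AtPrime.IsLiesOverAlgebra.algebraMap_eq,
        Localization.localRingHom_to_map]
    simp only [e]
    exact hxy
  constructor
  intro c hc
  let J : Ideal (Localization.AtPrime P) :=
    LinearMap.ker (LinearMap.toSpanSingleton (Localization.AtPrime P) (Localization.AtPrime P) c)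
  have hJ : ∀ x, x ∈ J ↔ x * c = 0 := by
    intro x
    simp [J, LinearMap.mem_ker, LinearMap.toSpanSingleton_apply]
  have hrad : α ∈ J.radical := by
    by_contra hnot
    rw [Ideal.radical_eq_sInf, Ideal.mem_sInf] at hnot
    push Not at hnot
    obtain ⟨Q, ⟨hJQ, hQ⟩, hαQ⟩ := hnot
    have hQ' : Q.IsPrime := hQ
    let P' : Ideal S := Q.comap (algebraMap S (Localization.AtPrime P))
    have hP' : P'.IsPrime := inferInstance
    have hle : P' ≤ P := by
      intro z hz
      by_contra hzp
      have : IsUnit (algebraMap S (Localization.AtPrime P) z) :=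
        IsLocalization.map_units _ (⟨z, hzp⟩ : P.primeCompl)
      exact hQ'.ne_top (Ideal.eq_top_of_isUnit_mem _ hz this)
    have haP' : algebraMap R S a ∉ P' := hαQ
    have hlt : P'.under R < P.under R := by
      refine lt_of_le_of_ne (Ideal.comap_mono hle) ?_
      intro heq
      apply haP'
      have : a ∈ P'.under R := by rw [heq]; exact hap
      exact this
    have hht : (P'.under R).height < (P.under R).height :=
      Ideal.height_strict_mono_of_isPrime hlt
    have hred' := ih P' hht
    -- the comparison map
    let θ : Localization.AtPrime P →+* Localization.AtPrime P' :=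
      IsLocalization.lift (M := P.primeCompl) (g := algebraMap S (Localization.AtPrime P'))
        (fun y => IsLocalization.map_units _ (⟨y.1, fun h => y.2 (hle h)⟩ : P'.primeCompl))
    have hθc : θ c = 0 := IsReduced.eq_zero _ (hc.map θ)
    obtain ⟨β, σ, hβσ⟩ := IsLocalization.exists_mk'_eq P.primeCompl c
    have h3 : algebraMap S (Localization.AtPrime P) β = c * algebraMap S _ σ.1 := by
      rw [← hβσ, IsLocalization.mk'_spec]
    have h4 : algebraMap S (Localization.AtPrime P') β = 0 := by
      have := congrArg θ h3
      rw [IsLocalization.lift_eq, map_mul, hθc, zero_mul] at this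
      exact this
    obtain ⟨s, hs⟩ := (IsLocalization.map_eq_zero_iff P'.primeCompl _ _).mp h4
    have h5 : algebraMap S (Localization.AtPrime P) s.1 ∈ J := by
      rw [hJ]
      have hu : IsUnit (algebraMap S (Localization.AtPrime P) σ.1) := IsLocalization.map_units _ σ
      apply (hu.mul_left_eq_zero).mp
      rw [mul_assoc, ← h3, ← map_mul, hs, map_zero]
    exact s.2 (hJQ h5)
  obtain ⟨k, hk⟩ := hrad
  rw [hJ] at hk
  have hreg_k : IsSMulRegular (Localization.AtPrime P) (α ^ k) := hαreg.pow k
  apply hreg_k
  simp only [smul_eq_mul, mul_zero]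
  exact hk

/-- Flat ascent of reducedness, in local form: `R → S` flat with `R` Noetherian; the local rings
`R_p` (`p = P ∩ R`) are reduced, and at the primes `P` over minimal primes of `R` there is a
reduced "local fibre ring". Then all `S_P` are reduced. -/
theorem isReduced_localization_of_flat [IsNoetherianRing R] [Module.Flat R S]
    (h1 : ∀ (P : Ideal S) [P.IsPrime], IsReduced (Localization.AtPrime (P.under R)))
    (h2 : ∀ (P : Ideal S) [P.IsPrime], P.under R ∈ minimalPrimes R →
        ∃ (T : Type u) (_ : CommRing T) (_ : IsReduced T) (ψ : S →+* T),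
        (∀ s ∉ P, IsUnit (ψ s)) ∧
          ∀ b : S, ψ b = 0 → ∃ s ∉ P, s * b ∈ (P.under R).map (algebraMap R S))
    (P : Ideal S) [P.IsPrime] : IsReduced (Localization.AtPrime P) := by
  suffices H : ∀ n : ℕ, ∀ (P : Ideal S) [P.IsPrime], (P.under R).height = n →
      IsReduced (Localization.AtPrime P) by
    have hfin : (P.under R).height ≠ ⊤ := Ideal.height_ne_top_of_isPrime
    exact H (P.under R).height.toNat P (ENat.natCast_toNat hfin).symm
  intro n
  induction n using Nat.strong_induction_on with
  | _ n ih =>
    intro P _ hP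
    by_cases hmin : P.under R ∈ minimalPrimes R
    · exact isReduced_localization_of_minimal P hmin (h1 P) (h2 P hmin)
    · refine isReduced_localization_step h1 P hmin ?_
      intro P' _ hlt
      have hfin : (P'.under R).height ≠ ⊤ := Ideal.height_ne_top_of_isPrime
      refine ih (P'.under R).height.toNat ?_ P' (ENat.natCast_toNat hfin).symm
      rw [hP, ← ENat.natCast_toNat hfin] at hlt
      exact_mod_cast hlt

end Groth.Agent.Lib.Helper12.ReducedFlat
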