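import Mathlib
import Groth.Agent.Lib.Helper12.ReducedFlat

/-!
# Reducedness from a regular parameter with reduced quotient, and flat ascent of reducedness
(helper12)

* `isReduced_of_isSMulRegular_of_isReduced_quotient`: `B` Noetherian, `t` in the Jacobson radical, a
  nonzerodivisor with `B/tB` reduced; then `B` is reduced.
* `isReduced_of_flat_dvr`: a Noetherian local ring, flat over a discrete valuation ring, whose closed
  fibre is reduced, is reduced.
* `isReduced_of_flat_of_forall_minimal`: flat ascent of reducedness over a reduced Noetherian ring,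
  testing only the primes above minimal primes of the base.
-/

set_option autoImplicit false
universe u

namespace Groth.Agent.Lib.Helper12.ReducedDVR

theorem isReduced_of_isSMulRegular_of_isReduced_quotient {B : Type*} [CommRing B]
    [IsNoetherianRing B] (t : B) (ht : t ∈ Ideal.jacobson (⊥ : Ideal B))
    (hreg : IsSMulRegular B t) (hred : IsReduced (B ⧸ Ideal.span {t})) : IsReduced B := by
  have hle : nilradical B ≤ Ideal.span {t} • nilradical B := by
    intro n hn
    have hn' : IsNilpotent n := mem_nilradical.mp hn
    have h1 : IsNilpotent (Ideal.Quotient.mk (Ideal.span {t}) n) := hn'.map _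
    have h2 := hred.eq_zero _ h1
    obtain ⟨m, rfl⟩ := Ideal.mem_span_singleton'.mp (Ideal.Quotient.eq_zero_iff_mem.mp h2)
    have hm : m ∈ nilradical B := by
      rw [mem_nilradical]
      obtain ⟨k, hk⟩ := hn'
      refine ⟨k, ?_⟩
      rw [mul_pow, mul_comm] at hk
      have : t ^ k • m ^ k = t ^ k • (0 : B) := by rw [smul_eq_mul, hk, smul_zero]
      exact (hreg.pow k) this
    rw [mul_comm, ← smul_eq_mul]
    exact Submodule.smul_mem_smul (Ideal.mem_span_singleton_self t) hm
  have hbot : nilradical B = ⊥ := by
    apply Submodule.eq_bot_of_le_smul_of_le_jacobson_bot (Ideal.span {t}) (nilradical B)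
      (IsNoetherian.noetherian _) hle
    rw [Ideal.span_le, Set.singleton_subset_iff]
    exact ht
  exact nilradical_eq_bot_iff.mp hbot

/-- A Noetherian local ring flat over a discrete valuation ring (via a local homomorphism) with reduced
closed fibre is reduced. -/
theorem isReduced_of_flat_dvr {O B : Type*} [CommRing O] [IsDomain O] [CommRing B]
    [IsNoetherianRing B] [IsLocalRing B] [Algebra O B] [Module.Flat O B] (ϖ : O) (hϖ : ϖ ≠ 0)
    (hmem : algebraMap O B ϖ ∈ IsLocalRing.maximalIdeal B)
    (hred : IsReduced (B ⧸ Ideal.span {algebraMap O B ϖ})) : IsReduced B := by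
  refine isReduced_of_isSMulRegular_of_isReduced_quotient (algebraMap O B ϖ) ?_ ?_ hred
  · rwa [IsLocalRing.jacobson_eq_maximalIdeal ⊥ bot_ne_top]
  · apply IsSMulRegular.of_flat
    exact (IsRegular.of_ne_zero hϖ).left.isSMulRegular

/-- Flat ascent of reducedness over a reduced Noetherian ring: it suffices to test the primes lying over
minimal primes of the base. -/
theorem isReduced_of_flat_of_forall_minimal {A B : Type u} [CommRing A] [CommRing B] [Algebra A B]
    [IsNoetherianRing A] [Module.Flat A B] [IsReduced A]
    (h : ∀ (P : Ideal B) [P.IsPrime], P.under A ∈ minimalPrimes A →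
        ∃ (T : Type u) (_ : CommRing T) (_ : IsReduced T) (ψ : B →+* T),
        (∀ s ∉ P, IsUnit (ψ s)) ∧
          ∀ b : B, ψ b = 0 → ∃ s ∉ P, s * b ∈ (P.under A).map (algebraMap A B)) :
    IsReduced B := by
  apply isReduced_ofLocalizationMaximal
  intro J hJ
  haveI : J.IsPrime := hJ.isPrime
  exact Groth.Agent.Lib.Helper12.ReducedFlat.isReduced_localization_of_flat
    (fun P _ => inferInstance) (fun P _ hP => h P hP) J

end Groth.Agent.Lib.Helper12.ReducedDVR
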