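import Mathlib
import Groth.Prelude.Def_FDesc
import Groth.Agent.Lib.Helper12.ReducedDVR
import Groth.Agent.Lib.Helper12.DVRFlatSch
import Groth.Agent.Lib.Helper12.FibrePullbackPts
import Groth.Agent.Lib.Helper12.FlatCxDVRCrit
import Groth.Agent.Lib.Helper14.FlatBaseChangeStalk
import Groth.Agent.Lib.Helper24.FibreStalkQuot
import Groth.Agent.Lib.Helper50.GeomReducedOpen

/-!
# Reducedness of the total space of a flat family with geometrically reduced fibre (Noetherian case)
(helper12; EGA IV 11.3.? / Stacks 0C21-type statement)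
-/

set_option autoImplicit false
set_option linter.style.haveILetI false
universe u

open AlgebraicGeometry CategoryTheory IsLocalRing Limits

namespace Groth.Agent.Lib.Helper12.ReducedFibreSch

open Groth.Agent.Lib.Helper12.DVRFlatSch

/-- **Scheme form of the DVR lemma**: flat over a discrete valuation ring at `x'` in the closed fibre,
with the closed fibre reduced at `x'`; then `X'` is reduced at `x'`. -/
theorem isReduced_stalk_of_flat_dvr {A' : Type u} [CommRing A'] [IsDomain A']
    [IsDiscreteValuationRing A'] {X' : Scheme.{u}} (p' : X' ⟶ Spec (CommRingCat.of A'))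
    [LocallyOfFiniteType p'] (x' : X') (hx' : p'.base x' = closedPoint A')
    (hflat : (p'.stalkMap x').hom.Flat)
    (hred : IsReduced ((p'.fiber (p'.base x')).presheaf.stalk (p'.asFiber x'))) :
    IsReduced (X'.presheaf.stalk x') := by
  letI algA'B : Algebra A' (X'.presheaf.stalk x') := (toStalk p' x').toAlgebra
  obtain ⟨ϖ, hϖ⟩ := IsDiscreteValuationRing.exists_irreducible A'
  have hmaxϖ : maximalIdeal A' = Ideal.span {ϖ} := hϖ.maximalIdeal_eq
  haveI : IsLocallyNoetherian X' := LocallyOfFiniteType.isLocallyNoetherian p'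
  haveI : IsNoetherianRing (X'.presheaf.stalk x') := inferInstance
  haveI hfl : Module.Flat A' (X'.presheaf.stalk x') := by
    have h1 : (toStalk p' x').Flat := by
      rw [toStalk_eq']
      haveI := isIso_toStalkBase (p'.base x') hx'
      exact RingHom.Flat.comp
        (RingHom.Flat.of_bijective (ConcreteCategory.bijective_of_isIso (toStalkBase (p'.base x'))))
        hflat
    exact h1
  refine Groth.Agent.Lib.Helper12.ReducedDVR.isReduced_of_flat_dvr ϖ hϖ.ne_zero ?_ ?_
  · rw [mem_maximalIdeal, mem_nonunits_iff]
    change ¬ IsUnit (toStalk p' x' ϖ)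
    rw [isUnit_toStalk_iff, not_not, hx']
    exact (eq_closedPoint_of_mem ϖ hmaxϖ _).mpr rfl
  · obtain ⟨e⟩ := Groth.Agent.Lib.Helper24.nonempty_fibre_stalk_ringEquiv_quotient p' x'
    rw [map_maximalIdeal_eq_span p' x' hx' ϖ hmaxϖ] at e
    exact isReduced_of_injective e.symm.toRingHom e.symm.injective

/-- The local ring at the point corresponding to a minimal prime of a reduced local ring `O_{Y,y}` is a
field. -/
theorem isField_stalk_of_minimal {Y : Scheme.{u}} (y : Y) [IsReduced (Y.presheaf.stalk y)]
    (𝔭 : PrimeSpectrum (Y.presheaf.stalk y))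
    (hmin : 𝔭.asIdeal ∈ minimalPrimes (Y.presheaf.stalk y)) :
    IsField (Y.presheaf.stalk ((Y.fromSpecStalk y).base 𝔭)) := by
  have hη : (Y.fromSpecStalk y).base 𝔭 ⤳ y := by
    have : (Y.fromSpecStalk y).base 𝔭 ∈ Set.range (Y.fromSpecStalk y).base := ⟨𝔭, rfl⟩
    rwa [Scheme.range_fromSpecStalk] at this
  have h𝔭 := asIdeal_eq_comap_of_fromSpecStalk y 𝔭 hη
  letI := (Y.presheaf.stalkSpecializes hη).hom.toAlgebra
  obtain ⟨M, hM⟩ := Groth.Agent.Lib.Helper50.exists_isLocalization_stalkSpecializes hη
  rw [IsLocalRing.isField_iff_maximalIdeal_eq, eq_bot_iff]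
  intro u hu
  obtain ⟨⟨a, m⟩, ham⟩ := IsLocalization.surj M u
  simp only at ham
  have hψa : algebraMap (Y.presheaf.stalk y) _ a ∈
      maximalIdeal (Y.presheaf.stalk ((Y.fromSpecStalk y).base 𝔭)) := by
    rw [← ham]
    exact Ideal.mul_mem_right _ _ hu
  have ha : a ∈ 𝔭.asIdeal := by
    rw [h𝔭, Ideal.mem_comap]
    exact hψa
  obtain ⟨t, ht𝔭, hta⟩ := Groth.Agent.Lib.Helper12.ReducedFlat.exists_notMem_mul_eq_zero hmin
    inferInstance ha
  have htu : IsUnit (algebraMap (Y.presheaf.stalk y)
      (Y.presheaf.stalk ((Y.fromSpecStalk y).base 𝔭)) t) := by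
    by_contra hnu
    apply ht𝔭
    rw [h𝔭, Ideal.mem_comap]
    exact hnu
  have h0 : algebraMap (Y.presheaf.stalk y) (Y.presheaf.stalk ((Y.fromSpecStalk y).base 𝔭)) a = 0 := by
    have := congrArg (algebraMap (Y.presheaf.stalk y)
      (Y.presheaf.stalk ((Y.fromSpecStalk y).base 𝔭))) hta
    rw [map_mul, map_zero] at this
    exact (htu.mul_right_eq_zero).mp this
  rw [h0] at ham
  exact ((IsLocalization.map_units _ m).mul_left_eq_zero).mp ham

/-- A ring homomorphism out of a field is flat. -/
theorem ringHom_flat_of_isField {R S : Type*} [CommRing R] [CommRing S] (φ : R →+* S)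
    (hR : IsField R) : φ.Flat := by
  letI := hR.toField
  letI := φ.toAlgebra
  change Module.Flat R S
  infer_instance

/-- **Key step.** `f` flat and of finite type over a locally Noetherian base, fibre geometrically reduced
at `x`; `ξ` a proper generization of `x` (given by a prime `P` of `O_{X,x}`) lying over a point at
which the local ring of `Y` is a field.  Then `O_{X,ξ}` is reduced. -/
theorem isReduced_stalk_generization {X Y : Scheme.{u}} [IsLocallyNoetherian Y] (f : X ⟶ Y)
    [LocallyOfFiniteType f] [Flat f] (x : X)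
    (hx : FBase.IsGeomReducedAt (f.fiberToSpecResidueField (f.base x)) (f.asFiber x))
    (P : PrimeSpectrum (X.presheaf.stalk x)) (hP : P ≠ closedPoint (X.presheaf.stalk x))
    (hfield : IsField (Y.presheaf.stalk (f.base ((X.fromSpecStalk x).base P)))) :
    IsReduced (X.presheaf.stalk ((X.fromSpecStalk x).base P)) := by
  haveI : IsLocallyNoetherian X := LocallyOfFiniteType.isLocallyNoetherian f
  haveI : IsNoetherianRing (X.presheaf.stalk x) := inferInstance
  have hlt : P < closedPoint (X.presheaf.stalk x) := by
    refine lt_of_le_of_ne ?_ hP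
    exact IsLocalRing.le_maximalIdeal P.2.ne_top
  obtain ⟨O, _, _, _, algBO, h0, h1⟩ :=
    Groth.Agent.Lib.Helper12.FlatCx.exists_dvr_of_lt P (closedPoint _) hlt
  let h : Spec (CommRingCat.of O) ⟶ X :=
    Spec.map (CommRingCat.ofHom (algebraMap (X.presheaf.stalk x) O)) ≫ X.fromSpecStalk x
  let g : Spec (CommRingCat.of O) ⟶ Y := h ≫ f
  have H : IsPullback (pullback.fst f g) (pullback.snd f g) f g := IsPullback.of_hasPullback f g
  let σ : Spec (CommRingCat.of O) ⟶ pullback f g := pullback.lift h (𝟙 _) (by simp [g])
  have hσ1 : σ ≫ pullback.fst f g = h := pullback.lift_fst _ _ _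
  have hσ2 : σ ≫ pullback.snd f g = 𝟙 _ := pullback.lift_snd _ _ _
  let bot : Spec (CommRingCat.of O) := (⊥ : PrimeSpectrum O)
  -- the two points
  have hfst_cl : (pullback.fst f g).base (σ.base (closedPoint O)) = x := by
    have := congrArg (fun φ => φ.base (closedPoint O)) hσ1
    simp only [Scheme.Hom.comp_base, TopCat.hom_comp, ContinuousMap.comp_apply] at this
    rw [this]
    change (X.fromSpecStalk x).base (PrimeSpectrum.comap (algebraMap (X.presheaf.stalk x) O)
      (closedPoint O)) = x
    rw [h1]
    exact Scheme.fromSpecStalk_closedPoint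
  have hsnd : ∀ t, (pullback.snd f g).base (σ.base t) = t := by
    intro t
    have := congrArg (fun φ => φ.base t) hσ2
    simp only [Scheme.Hom.comp_base, TopCat.hom_comp, ContinuousMap.comp_apply] at this
    exact this
  have hfst_bot : (pullback.fst f g).base (σ.base bot) = (X.fromSpecStalk x).base P := by
    have := congrArg (fun φ => φ.base bot) hσ1
    simp only [Scheme.Hom.comp_base, TopCat.hom_comp, ContinuousMap.comp_apply] at this
    rw [this]
    change (X.fromSpecStalk x).base (PrimeSpectrum.comap (algebraMap (X.presheaf.stalk x) O) ⊥) = _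
    rw [h0]
  have hspec : σ.base bot ⤳ σ.base (closedPoint O) := by
    have : bot ⤳ closedPoint O := (PrimeSpectrum.le_iff_specializes _ _).mp bot_le
    exact this.map σ.base.hom.continuous
  -- reducedness at the closed point
  have hredfib : IsReduced (((pullback.snd f g).fiber ((pullback.snd f g).base
      (σ.base (closedPoint O)))).presheaf.stalk ((pullback.snd f g).asFiber
        (σ.base (closedPoint O)))) := by
    refine Groth.Agent.Lib.Helper12.FibrePullbackPts.isReduced_fibre_stalk_of_geomReducedAt H
      (σ.base (closedPoint O)) (f.base x) ?_ (f.asFiber x) ?_ hx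
    · have hw := congrArg (fun φ => φ.base (σ.base (closedPoint O))) H.w
      simp only [Scheme.Hom.comp_base, TopCat.hom_comp, ContinuousMap.comp_apply] at hw
      rw [← hw, hfst_cl]
    · rw [hfst_cl]; exact f.fiberι_asFiber x
  have hred1 : IsReduced ((pullback f g).presheaf.stalk (σ.base (closedPoint O))) :=
    isReduced_stalk_of_flat_dvr (pullback.snd f g) (σ.base (closedPoint O)) (hsnd _)
      (Flat.stalkMap _ _) hredfib
  -- reducedness at the generic point
  have hred2 : IsReduced ((pullback f g).presheaf.stalk (σ.base bot)) := by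
    letI := ((pullback f g).presheaf.stalkSpecializes hspec).hom.toAlgebra
    obtain ⟨M, hM⟩ := Groth.Agent.Lib.Helper50.exists_isLocalization_stalkSpecializes hspec
    exact isReduced_localizationPreserves M _ hred1
  -- descent along the flat local homomorphism
  have hfl : ((pullback.fst f g).stalkMap (σ.base bot)).hom.Flat := by
    refine Groth.Agent.Lib.Helper14.flat_stalkMap_fst_of_isPullback H (σ.base bot) ?_
    apply ringHom_flat_of_isField
    have hw := congrArg (fun φ => φ.base (σ.base bot)) H.w
    simp only [Scheme.Hom.comp_base, TopCat.hom_comp, ContinuousMap.comp_apply] at hw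
    rw [← hw, hfst_bot]
    exact hfield
  have hred3 : IsReduced (X.presheaf.stalk ((pullback.fst f g).base (σ.base bot))) := by
    letI := ((pullback.fst f g).stalkMap (σ.base bot)).hom.toAlgebra
    haveI : Module.Flat (X.presheaf.stalk ((pullback.fst f g).base (σ.base bot)))
        ((pullback f g).presheaf.stalk (σ.base bot)) := hfl
    haveI : IsLocalHom (algebraMap (X.presheaf.stalk ((pullback.fst f g).base (σ.base bot)))
        ((pullback f g).presheaf.stalk (σ.base bot))) :=
      inferInstanceAs (IsLocalHom ((pullback.fst f g).stalkMap (σ.base bot)).hom)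
    haveI := Module.FaithfullyFlat.of_flat_of_isLocalHom
      (A := X.presheaf.stalk ((pullback.fst f g).base (σ.base bot)))
      (B := (pullback f g).presheaf.stalk (σ.base bot))
    exact isReduced_of_injective (algebraMap _ _)
      (FaithfulSMul.algebraMap_injective (X.presheaf.stalk ((pullback.fst f g).base (σ.base bot)))
        ((pullback f g).presheaf.stalk (σ.base bot)))
  rw [hfst_bot] at hred3
  exact hred3

/-- The case of the closed point: if the maximal ideal of `O_{Y,y}` is a minimal prime (and `O_{Y,y}`
is reduced), then `O_{X,x}` is the local ring of the fibre. -/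
theorem isReduced_stalk_of_maximalIdeal_minimal {X Y : Scheme.{u}} (f : X ⟶ Y) (x : X)
    [IsReduced (Y.presheaf.stalk (f.base x))]
    (hmin : maximalIdeal (Y.presheaf.stalk (f.base x)) ∈ minimalPrimes (Y.presheaf.stalk (f.base x)))
    (hx : FBase.IsGeomReducedAt (f.fiberToSpecResidueField (f.base x)) (f.asFiber x)) :
    IsReduced (X.presheaf.stalk x) := by
  have hbot : maximalIdeal (Y.presheaf.stalk (f.base x)) = ⊥ := by
    rw [eq_bot_iff]
    intro a ha
    obtain ⟨t, ht, hta⟩ := Groth.Agent.Lib.Helper12.ReducedFlat.exists_notMem_mul_eq_zero hmin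
      inferInstance ha
    have htu : IsUnit t := by
      by_contra hnu
      exact ht ((mem_maximalIdeal t).mpr hnu)
    exact (htu.mul_right_eq_zero).mp hta
  obtain ⟨e⟩ := Groth.Agent.Lib.Helper24.nonempty_fibre_stalk_ringEquiv_quotient f x
  rw [hbot, Ideal.map_bot] at e
  have hfib : IsReduced ((f.fiber (f.base x)).presheaf.stalk (f.asFiber x)) :=
    Groth.Agent.Lib.Helper50.isReduced_stalk_of_fbase_isGeomReducedAt _ hx
  refine isReduced_of_injective (e.symm.toRingHom.comp (Ideal.Quotient.mk ⊥)) ?_
  intro a b hab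
  have := e.symm.injective hab
  rw [Ideal.Quotient.eq, Ideal.mem_bot, sub_eq_zero] at this
  exact this

/-- **Noetherian case of EGA IV 11.3.? (reduced morphisms)**: `Y` locally Noetherian, `f` flat and locally
of finite type, `O_{Y,f x}` reduced and the fibre geometrically reduced at `x`; then `O_{X,x}` is
reduced. -/
theorem isReduced_stalk_of_flat_of_geomReducedAt {X Y : Scheme.{u}} [IsLocallyNoetherian Y]
    (f : X ⟶ Y) [LocallyOfFiniteType f] [Flat f] (x : X)
    (hy : IsReduced (Y.presheaf.stalk (f.base x)))
    (hx : FBase.IsGeomReducedAt (f.fiberToSpecResidueField (f.base x)) (f.asFiber x)) :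
    IsReduced (X.presheaf.stalk x) := by
  letI alg : Algebra (Y.presheaf.stalk (f.base x)) (X.presheaf.stalk x) :=
    (f.stalkMap x).hom.toAlgebra
  haveI : Module.Flat (Y.presheaf.stalk (f.base x)) (X.presheaf.stalk x) := Flat.stalkMap f x
  haveI : IsNoetherianRing (Y.presheaf.stalk (f.base x)) := inferInstance
  haveI := hy
  refine Groth.Agent.Lib.Helper12.ReducedDVR.isReduced_of_flat_of_forall_minimal
    (A := Y.presheaf.stalk (f.base x)) (B := X.presheaf.stalk x) ?_
  intro P hPprime hPmin
  let Ps : PrimeSpectrum (X.presheaf.stalk x) := ⟨P, hPprime⟩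
  have hξ : (X.fromSpecStalk x).base Ps ⤳ x := by
    have : (X.fromSpecStalk x).base Ps ∈ Set.range (X.fromSpecStalk x).base := ⟨Ps, rfl⟩
    rwa [Scheme.range_fromSpecStalk] at this
  have hPeq := asIdeal_eq_comap_of_fromSpecStalk x Ps hξ
  -- the image point in `Y`
  have hpt : f.base ((X.fromSpecStalk x).base Ps) =
      (Y.fromSpecStalk (f.base x)).base ((Spec.map (f.stalkMap x)).base Ps) := by
    have := congrArg (fun φ => φ.base Ps) (Scheme.SpecMap_stalkMap_fromSpecStalk (f := f) (x := x))
    simp only [Scheme.Hom.comp_base, TopCat.hom_comp, ContinuousMap.comp_apply] at this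
    exact this.symm
  have hred : IsReduced (X.presheaf.stalk ((X.fromSpecStalk x).base Ps)) := by
    by_cases hcl : Ps = closedPoint (X.presheaf.stalk x)
    · have hmin' : maximalIdeal (Y.presheaf.stalk (f.base x)) ∈
          minimalPrimes (Y.presheaf.stalk (f.base x)) := by
        have h1 : P.under (Y.presheaf.stalk (f.base x)) =
            maximalIdeal (Y.presheaf.stalk (f.base x)) := by
          have h2 : P = maximalIdeal (X.presheaf.stalk x) := congrArg PrimeSpectrum.asIdeal hcl
          rw [h2]
          exact IsLocalRing.maximalIdeal_comap (f.stalkMap x).hom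
        rwa [h1] at hPmin
      have h3 := isReduced_stalk_of_maximalIdeal_minimal f x hmin' hx
      have key : ∀ ξ' : X, ξ' = x → IsReduced (X.presheaf.stalk ξ') := by
        rintro _ rfl; exact h3
      exact key _ (by rw [hcl]; exact Scheme.fromSpecStalk_closedPoint)
    · refine isReduced_stalk_generization f x hx Ps hcl ?_
      rw [hpt]
      exact isField_stalk_of_minimal (f.base x) _ hPmin
  refine ⟨X.presheaf.stalk ((X.fromSpecStalk x).base Ps), inferInstance, hred,
    (X.presheaf.stalkSpecializes hξ).hom, ?_, ?_⟩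
  · intro s hs
    by_contra hnu
    apply hs
    change s ∈ Ps.asIdeal
    rw [hPeq, Ideal.mem_comap]
    exact hnu
  · intro b hb
    letI := (X.presheaf.stalkSpecializes hξ).hom.toAlgebra
    obtain ⟨M, hM⟩ := Groth.Agent.Lib.Helper50.exists_isLocalization_stalkSpecializes hξ
    obtain ⟨m, hm⟩ := (IsLocalization.map_eq_zero_iff M _ b).mp hb
    refine ⟨m.1, ?_, ?_⟩
    · intro hmP
      have hmP' : (m.1 : X.presheaf.stalk x) ∈ Ps.asIdeal := hmP
      rw [hPeq, Ideal.mem_comap] at hmP'
      exact hmP' (IsLocalization.map_units _ m)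
    · rw [hm]
      exact Ideal.zero_mem _

end Groth.Agent.Lib.Helper12.ReducedFibreSch
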