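import Mathlib
import Groth.Prelude.Def_FDesc
import Groth.Agent.Lib.Helper12.ReducedFibreSch
import Groth.Agent.Lib.Helper12.GeomRedFibreInv
import Groth.Agent.Lib.Helper12.NoethModelElt
import Groth.Agent.Lib.Helper58.FlatAlgModel

/-!
# Reducedness of a flat finitely presented family over a reduced (non-Noetherian) affine base
(helper12)
-/

set_option autoImplicit false
set_option linter.style.haveILetI false
universe u

open AlgebraicGeometry CategoryTheory IsLocalRing Limits

namespace Groth.Agent.Lib.Helper12.ReducedFibreAff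

theorem iso_inv_hom_apply {A B : CommRingCat.{u}} (e : A ≅ B) (a : A) :
    e.inv.hom (e.hom.hom a) = a := by
  rw [← RingHom.comp_apply, ← CommRingCat.hom_comp, Iso.hom_inv_id]
  rfl

theorem iso_hom_inv_apply {A B : CommRingCat.{u}} (e : A ≅ B) (b : B) :
    e.hom.hom (e.inv.hom b) = b := by
  rw [← RingHom.comp_apply, ← CommRingCat.hom_comp, Iso.inv_hom_id]
  rfl

section Germ

variable (R : Type u) [CommRing R] (p : Spec (CommRingCat.of R))

/-- the canonical map `R → O_{Spec R, p}` -/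
noncomputable def γ : R →+* (Spec (CommRingCat.of R)).presheaf.stalk p :=
  ((Spec (CommRingCat.of R)).presheaf.germ ⊤ p trivial).hom.comp
    (Scheme.ΓSpecIso (CommRingCat.of R)).inv.hom

theorem isReduced_stalk_of_forall_γ
    (h : ∀ s : R, IsNilpotent (γ R p s) → γ R p s = 0) :
    IsReduced ((Spec (CommRingCat.of R)).presheaf.stalk p) := by
  let X := Spec (CommRingCat.of R)
  letI alg : Algebra Γ(X, ⊤) (X.presheaf.stalk p) :=
    TopCat.Presheaf.algebra_section_stalk X.presheaf (U := ⊤) ⟨p, trivial⟩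
  haveI loc : IsLocalization.AtPrime (X.presheaf.stalk p)
      ((isAffineOpen_top X).primeIdealOf ⟨p, show p ∈ (⊤ : X.Opens) from trivial⟩).asIdeal :=
    (isAffineOpen_top X).isLocalization_stalk ⟨p, show p ∈ (⊤ : X.Opens) from trivial⟩
  constructor
  intro b hb
  obtain ⟨⟨σ, m⟩, hσ⟩ := IsLocalization.surj
    ((isAffineOpen_top X).primeIdealOf (⟨p, trivial⟩ : (⊤ : X.Opens))).asIdeal.primeCompl b
  simp only at hσ
  have h1 : algebraMap Γ(X, ⊤) (X.presheaf.stalk p) σ =
      γ R p ((Scheme.ΓSpecIso (CommRingCat.of R)).hom.hom σ) := by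
    change _ = (X.presheaf.germ ⊤ p trivial).hom ((Scheme.ΓSpecIso (CommRingCat.of R)).inv.hom
      ((Scheme.ΓSpecIso (CommRingCat.of R)).hom.hom σ))
    rw [iso_inv_hom_apply]
    rfl
  have h2 : IsNilpotent (algebraMap Γ(X, ⊤) (X.presheaf.stalk p) σ) := by
    rw [← hσ]
    exact (Commute.all _ _).isNilpotent_mul_right hb
  rw [h1] at h2
  have h3 := h _ h2
  rw [← h1] at h3
  rw [h3] at hσ
  exact ((IsLocalization.map_units _ m).mul_left_eq_zero).mp hσ

theorem exists_of_isNilpotent_γ (s : R) (h : IsNilpotent (γ R p s)) :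
    ∃ (u : R) (n : ℕ), IsUnit (γ R p u) ∧ u * s ^ n = 0 := by
  let X := Spec (CommRingCat.of R)
  letI alg : Algebra Γ(X, ⊤) (X.presheaf.stalk p) :=
    TopCat.Presheaf.algebra_section_stalk X.presheaf (U := ⊤) ⟨p, trivial⟩
  haveI loc : IsLocalization.AtPrime (X.presheaf.stalk p)
      ((isAffineOpen_top X).primeIdealOf ⟨p, show p ∈ (⊤ : X.Opens) from trivial⟩).asIdeal :=
    (isAffineOpen_top X).isLocalization_stalk ⟨p, show p ∈ (⊤ : X.Opens) from trivial⟩
  obtain ⟨n, hn⟩ := h
  rw [← map_pow] at hn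
  have h1 : algebraMap Γ(X, ⊤) (X.presheaf.stalk p)
      ((Scheme.ΓSpecIso (CommRingCat.of R)).inv.hom (s ^ n)) = 0 := hn
  obtain ⟨m, hm⟩ := (IsLocalization.map_eq_zero_iff
    ((isAffineOpen_top X).primeIdealOf (⟨p, trivial⟩ : (⊤ : X.Opens))).asIdeal.primeCompl _ _).mp h1
  refine ⟨(Scheme.ΓSpecIso (CommRingCat.of R)).hom.hom m.1, n, ?_, ?_⟩
  · have h2 : γ R p ((Scheme.ΓSpecIso (CommRingCat.of R)).hom.hom m.1) =
        algebraMap Γ(X, ⊤) (X.presheaf.stalk p) m.1 := by
      change (X.presheaf.germ ⊤ p trivial).hom ((Scheme.ΓSpecIso (CommRingCat.of R)).inv.hom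
        ((Scheme.ΓSpecIso (CommRingCat.of R)).hom.hom m.1)) = _
      rw [iso_inv_hom_apply]
      rfl
    rw [h2]
    exact IsLocalization.map_units _ m
  · have h3 := congrArg (Scheme.ΓSpecIso (CommRingCat.of R)).hom.hom hm
    rw [map_mul, map_zero, iso_hom_inv_apply] at h3
    exact h3

end Germ

/-- naturality of `γ` -/
theorem stalkMap_γ {R R' : Type u} [CommRing R] [CommRing R'] (φ : R →+* R')
    (p' : Spec (CommRingCat.of R')) (r : R) :
    ((Spec.map (CommRingCat.ofHom φ)).stalkMap p').hom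
      (γ R ((Spec.map (CommRingCat.ofHom φ)).base p') r) = γ R' p' (φ r) := by
  have h1 := Scheme.Hom.germ_stalkMap (Spec.map (CommRingCat.ofHom φ)) ⊤ p' trivial
  have h2 := Scheme.ΓSpecIso_inv_naturality (CommRingCat.ofHom φ)
  have h1' := congrArg (fun k => k.hom ((Scheme.ΓSpecIso (CommRingCat.of R)).inv.hom r)) h1
  have h2' := congrArg (fun k => k.hom r) h2
  simp only [CommRingCat.hom_comp, RingHom.comp_apply] at h1' h2'
  unfold γ
  simp only [RingHom.comp_apply]
  rw [h1']
  exact congrArg (fun z => ((Spec (CommRingCat.of R')).presheaf.germ ⊤ p' trivial).hom z) h2'.symm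

/-- **Affine case over a reduced base** (no Noetherian hypothesis): `S` flat of finite presentation over a
reduced ring `A`, the fibre of `Spec S → Spec A` through `w` geometrically reduced at `w`; then
`O_{Spec S, w}` is reduced. -/
theorem isReduced_stalk_Spec_of_flat_fp {A S : Type u} [CommRing A] [CommRing S] [Algebra A S]
    [IsReduced A] [Module.Flat A S] [Algebra.FinitePresentation A S]
    (w : Spec (CommRingCat.of S))
    (hGR : FBase.IsGeomReducedAt
      ((Spec.map (CommRingCat.ofHom (algebraMap A S))).fiberToSpecResidueField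
        ((Spec.map (CommRingCat.ofHom (algebraMap A S))).base w))
      ((Spec.map (CommRingCat.ofHom (algebraMap A S))).asFiber w)) :
    IsReduced ((Spec (CommRingCat.of S)).presheaf.stalk w) := by
  obtain ⟨R₀, _, _, S₀, _, _, _, _, _, _, hft0, hft1, hfl0, hpo⟩ :=
    Groth.Agent.Lib.Helper58.FlatAlgModel.exists_flat_algebra_model A S
  apply isReduced_stalk_of_forall_γ
  intro s hs
  obtain ⟨u, n, hu, hus⟩ := exists_of_isNilpotent_γ S w s hs
  obtain ⟨R₁, _, _, _, _, S₁, _, _, _, _, _, _, hfl1, hft, hpo1, hinj, ⟨s₁, hs₁⟩, ⟨u₁, hu₁⟩⟩ :=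
    Groth.Agent.Lib.Helper12.NoethModelElt.exists_noeth_model hpo s u
  -- the morphisms
  let f : Spec (CommRingCat.of S) ⟶ Spec (CommRingCat.of A) :=
    Spec.map (CommRingCat.ofHom (algebraMap A S))
  let f₁ : Spec (CommRingCat.of S₁) ⟶ Spec (CommRingCat.of R₁) :=
    Spec.map (CommRingCat.ofHom (algebraMap R₁ S₁))
  let g : Spec (CommRingCat.of A) ⟶ Spec (CommRingCat.of R₁) :=
    Spec.map (CommRingCat.ofHom (algebraMap R₁ A))
  let π : Spec (CommRingCat.of S) ⟶ Spec (CommRingCat.of S₁) :=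
    Spec.map (CommRingCat.ofHom (algebraMap S₁ S))
  have H : IsPullback π f f₁ g :=
    isPullback_SpecMap_of_isPushout _ _ _ _
      ((CommRingCat.isPushout_iff_isPushout (R := R₁) (R' := S₁) (S := A) (S' := S)).mpr hpo1)
  haveI : Flat f₁ := Flat.SpecMap_iff.mpr (RingHom.flat_algebraMap_iff.mpr hfl1)
  haveI : LocallyOfFiniteType f₁ :=
    (HasRingHomProperty.Spec_iff (P := @LocallyOfFiniteType)).mpr
      ((RingHom.finiteType_algebraMap (A := R₁) (B := S₁)).mpr hft)
  -- geometric reducedness descends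
  have hGR₁ : FBase.IsGeomReducedAt (f₁.fiberToSpecResidueField (f₁.base (π.base w)))
      (f₁.asFiber (π.base w)) := by
    refine (Groth.Agent.Lib.Helper12.GeomRedFibreInv.geomReducedAt_fibre_iff_of_isPullback H w
      (f₁.base (π.base w)) ?_ (f₁.asFiber (π.base w)) (f₁.fiberι_asFiber _)).mp hGR
    have := congrArg (fun φ => φ.base w) H.w
    simp only [Scheme.Hom.comp_base, TopCat.hom_comp, ContinuousMap.comp_apply] at this
    exact this.symm
  have hred₁ : IsReduced ((Spec (CommRingCat.of S₁)).presheaf.stalk (π.base w)) :=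
    Groth.Agent.Lib.Helper12.ReducedFibreSch.isReduced_stalk_of_flat_of_geomReducedAt f₁ (π.base w)
      inferInstance hGR₁
  -- the elementwise argument
  have h1 : u₁ * s₁ ^ n = 0 := by
    apply hinj
    rw [map_mul, map_pow, hs₁, hu₁, hus, map_zero]
  have h2 : (π.stalkMap w).hom (γ S₁ (π.base w) u₁) = γ S w u := by
    rw [← hu₁]; exact stalkMap_γ (algebraMap S₁ S) w u₁
  have h3 : (π.stalkMap w).hom (γ S₁ (π.base w) s₁) = γ S w s := by
    rw [← hs₁]; exact stalkMap_γ (algebraMap S₁ S) w s₁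
  have hu₁unit : IsUnit (γ S₁ (π.base w) u₁) := by
    have : IsUnit ((π.stalkMap w).hom (γ S₁ (π.base w) u₁)) := by rw [h2]; exact hu
    exact isUnit_of_map_unit (π.stalkMap w).hom _ this
  have h4 : γ S₁ (π.base w) s₁ = 0 := by
    apply hred₁.eq_zero
    refine ⟨n, ?_⟩
    have := congrArg (γ S₁ (π.base w)) h1
    rw [map_mul, map_pow, map_zero] at this
    exact (hu₁unit.mul_right_eq_zero).mp this
  rw [← h3, h4, map_zero]

end Groth.Agent.Lib.Helper12.ReducedFibreAff
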