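import Mathlib
import Groth.Prelude.Def_FDesc
import Groth.Agent.Lib.Helper12.ReducedFibreAff
import Groth.Agent.Lib.Helper54.GenericPt
import Groth.Agent.Lib.Helper62.PerfectReducedSch

/-!
# EGA IV 11.3.? / 15.?: reduced morphisms have reduced total space over a reduced base (helper12)

`f` flat and locally of finite presentation, `O_{Y,f x}` reduced, the fibre geometrically reduced at `x`;
then `O_{X,x}` is reduced.  No Noetherian hypothesis.
-/

set_option autoImplicit false
set_option linter.style.haveILetI false
universe u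

open AlgebraicGeometry CategoryTheory IsLocalRing Limits

namespace Groth.Agent.Lib.Helper12.ReducedFibreGen

/-- Affine source given as `Spec S ⟶ Spec A` through an arbitrary morphism. -/
theorem isReduced_stalk_Spec_of_flat_lfp {A S : CommRingCat.{u}} [IsReduced A]
    (h : Spec S ⟶ Spec A) [Flat h] [LocallyOfFinitePresentation h] (w : Spec S)
    (hGR : FBase.IsGeomReducedAt (h.fiberToSpecResidueField (h.base w)) (h.asFiber w)) :
    IsReduced ((Spec S).presheaf.stalk w) := by
  obtain ⟨ρ, rfl⟩ : ∃ ρ : A ⟶ S, Spec.map ρ = h := ⟨Spec.preimage h, Spec.map_preimage h⟩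
  letI alg : Algebra A S := ρ.hom.toAlgebra
  haveI : Module.Flat A S := by
    have : ρ.hom.Flat := Flat.SpecMap_iff.mp inferInstance
    exact this
  haveI : Algebra.FinitePresentation A S := by
    have : ρ.hom.FinitePresentation :=
      (HasRingHomProperty.Spec_iff (P := @LocallyOfFinitePresentation)).mp inferInstance
    exact RingHom.finitePresentation_algebraMap.mp this
  exact Groth.Agent.Lib.Helper12.ReducedFibreAff.isReduced_stalk_Spec_of_flat_fp (A := A) (S := S)
    w hGR

/-- **The general case.** -/
theorem isReduced_stalk_of_flat_lfp_of_geomReducedAt {X Y : Scheme.{u}} (f : X ⟶ Y) [Flat f]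
    [LocallyOfFinitePresentation f] (x : X) (hy : IsReduced (Y.presheaf.stalk (f.base x)))
    (hx : FBase.IsGeomReducedAt (f.fiberToSpecResidueField (f.base x)) (f.asFiber x)) :
    IsReduced (X.presheaf.stalk x) := by
  haveI := hy
  haveI : Flat (Y.fromSpecStalk (f.base x)) :=
    Groth.Agent.Lib.Helper54.flat_fromSpecStalk Y (f.base x)
  have H : IsPullback (pullback.fst f (Y.fromSpecStalk (f.base x)))
      (pullback.snd f (Y.fromSpecStalk (f.base x))) f (Y.fromSpecStalk (f.base x)) :=
    IsPullback.of_hasPullback _ _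
  obtain ⟨xP, hxP1, hxP2⟩ := Scheme.Pullback.exists_preimage_pullback (f := f)
    (g := Y.fromSpecStalk (f.base x)) x (closedPoint (Y.presheaf.stalk (f.base x)))
    (by rw [Scheme.fromSpecStalk_closedPoint])
  -- geometric reducedness for the base change
  have hGRP : FBase.IsGeomReducedAt
      ((pullback.snd f (Y.fromSpecStalk (f.base x))).fiberToSpecResidueField
        ((pullback.snd f (Y.fromSpecStalk (f.base x))).base xP))
      ((pullback.snd f (Y.fromSpecStalk (f.base x))).asFiber xP) := by
    refine (Groth.Agent.Lib.Helper12.GeomRedFibreInv.geomReducedAt_fibre_iff_of_isPullback H xP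
      (f.base x) ?_ (f.asFiber x) ?_).mpr hx
    · rw [hxP2]; exact Scheme.fromSpecStalk_closedPoint
    · rw [hxP1]; exact f.fiberι_asFiber x
  -- an affine neighbourhood
  obtain ⟨_, ⟨W, hW, rfl⟩, hxW, -⟩ :=
    (pullback f (Y.fromSpecStalk (f.base x))).isBasis_affineOpens.exists_subset_of_mem_open
      (Set.mem_univ xP) isOpen_univ
  obtain ⟨w, hw⟩ : ∃ w, hW.fromSpec.base w = xP := by
    have : xP ∈ Set.range hW.fromSpec.base := by rw [hW.range_fromSpec]; exact hxW
    exact this
  have hGRW : FBase.IsGeomReducedAt
      ((hW.fromSpec ≫ pullback.snd f (Y.fromSpecStalk (f.base x))).fiberToSpecResidueField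
        ((hW.fromSpec ≫ pullback.snd f (Y.fromSpecStalk (f.base x))).base w))
      ((hW.fromSpec ≫ pullback.snd f (Y.fromSpecStalk (f.base x))).asFiber w) := by
    refine (Groth.Agent.Lib.Helper12.GeomRedFibreInv.geomReducedAt_fibre_iff_of_etale hW.fromSpec
      (pullback.snd f (Y.fromSpecStalk (f.base x))) w
      ((pullback.snd f (Y.fromSpecStalk (f.base x))).base xP) ?_
      ((pullback.snd f (Y.fromSpecStalk (f.base x))).asFiber xP) ?_).mpr hGRP
    · change (pullback.snd f (Y.fromSpecStalk (f.base x))).base (hW.fromSpec.base w) = _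
      rw [hw]
    · rw [hw]; exact (pullback.snd f (Y.fromSpecStalk (f.base x))).fiberι_asFiber xP
  have hredW : IsReduced ((Spec Γ(pullback f (Y.fromSpecStalk (f.base x)), W)).presheaf.stalk w) :=
    isReduced_stalk_Spec_of_flat_lfp
      (hW.fromSpec ≫ pullback.snd f (Y.fromSpecStalk (f.base x))) w hGRW
  -- descend reducedness
  have hredP : IsReduced ((pullback f (Y.fromSpecStalk (f.base x))).presheaf.stalk xP) := by
    have := Groth.Agent.Lib.Helper62.isReduced_stalk_of_flat hW.fromSpec w
    rwa [hw] at this
  have := Groth.Agent.Lib.Helper62.isReduced_stalk_of_flat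
    (pullback.fst f (Y.fromSpecStalk (f.base x))) xP
  rwa [hxP1] at this

end Groth.Agent.Lib.Helper12.ReducedFibreGen
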