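import Mathlib
import Groth.Prelude.Def_FDesc
import Groth.Agent.Lib.Helper12.ReducedFibreGen

/-!
# Geometric reducedness of the fibres of a flat morphism is stable under generization (helper12)

`f` flat and locally of finite presentation, the fibre through `x` geometrically reduced at `x`, `ξ ⤳ x`;
then the fibre through `ξ` is geometrically reduced at `ξ` (EGA IV 12.1.1, generization step).  The proof
base changes to a valuation ring through `ξ ⤳ x` and uses reducedness of the total space.
-/

set_option autoImplicit false
set_option linter.style.haveILetI false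
universe u

open AlgebraicGeometry CategoryTheory IsLocalRing Limits

namespace Groth.Agent.Lib.Helper12.GeomRedGeneralize

/-- a flat preimmersion induces injective (indeed bijective) maps on stalks; reducedness ascends -/
theorem isReduced_stalk_of_flat_of_isPreimmersion {P W : Scheme.{u}} (u : P ⟶ W) [Flat u]
    [IsPreimmersion u] (p : P) (h : IsReduced (W.presheaf.stalk (u.base p))) :
    IsReduced (P.presheaf.stalk p) := by
  have hsurj : Function.Surjective (u.stalkMap p).hom := u.stalkMap_surjective p
  constructor
  intro b hb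
  obtain ⟨a, rfl⟩ := hsurj b
  obtain ⟨n, hn⟩ := hb
  rw [← map_pow] at hn
  -- injectivity from faithful flatness
  letI := (u.stalkMap p).hom.toAlgebra
  haveI : Module.Flat (W.presheaf.stalk (u.base p)) (P.presheaf.stalk p) := Flat.stalkMap u p
  haveI : IsLocalHom (algebraMap (W.presheaf.stalk (u.base p)) (P.presheaf.stalk p)) :=
    inferInstanceAs (IsLocalHom (u.stalkMap p).hom)
  haveI := Module.FaithfullyFlat.of_flat_of_isLocalHom (A := W.presheaf.stalk (u.base p))
    (B := P.presheaf.stalk p)
  have hinj : Function.Injective (u.stalkMap p).hom :=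
    FaithfulSMul.algebraMap_injective (W.presheaf.stalk (u.base p)) (P.presheaf.stalk p)
  have h0 : a ^ n = 0 := hinj (by rw [hn, map_zero])
  rw [h.eq_zero a ⟨n, h0⟩, map_zero]

/-- **Flexible form of the generization step.** -/
theorem isReduced_stalk_of_isPullback_of_specializes {X Y : Scheme.{u}} (f : X ⟶ Y) [Flat f]
    [LocallyOfFinitePresentation f] (x : X)
    (hx : FBase.IsGeomReducedAt (f.fiberToSpecResidueField (f.base x)) (f.asFiber x))
    {K : Type u} [Field K] (s : Spec (CommRingCat.of K) ⟶ Y) {Z : Scheme.{u}} (fst : Z ⟶ X)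
    (snd : Z ⟶ Spec (CommRingCat.of K)) (H : IsPullback fst snd f s) (z : Z)
    (hz : fst.base z ⤳ x) : IsReduced (Z.presheaf.stalk z) := by
  -- the residue field and the valuation ring
  let ψ : X.presheaf.stalk x ⟶ Z.residueField z :=
    X.presheaf.stalkSpecializes hz ≫ fst.stalkMap z ≫ Z.residue z
  obtain ⟨V, hV, hloc⟩ := IsLocalRing.exists_factor_valuationRing ψ.hom
  let ψV : X.presheaf.stalk x →+* V := ψ.hom.codRestrict V.toSubring hV
  let a : Spec (Z.residueField z) ⟶ Z := Z.fromSpecResidueField z
  let jL : Spec (Z.residueField z) ⟶ Spec (CommRingCat.of V) :=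
    Spec.map (CommRingCat.ofHom (algebraMap V (Z.residueField z)))
  let hV' : Spec (CommRingCat.of V) ⟶ X := Spec.map (CommRingCat.ofHom ψV) ≫ X.fromSpecStalk x
  -- (C1)
  have C1 : jL ≫ hV' = a ≫ fst := by
    have h1 : CommRingCat.ofHom ψV ≫ CommRingCat.ofHom (algebraMap V (Z.residueField z)) = ψ := by
      ext r; rfl
    change Spec.map (CommRingCat.ofHom (algebraMap V (Z.residueField z))) ≫
      Spec.map (CommRingCat.ofHom ψV) ≫
      X.fromSpecStalk x = (Spec.map (Z.residue z) ≫ Z.fromSpecStalk z) ≫ fst
    rw [← Category.assoc, ← Spec.map_comp, h1, Category.assoc,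
      ← Scheme.SpecMap_stalkMap_fromSpecStalk, ← Scheme.SpecMap_stalkSpecializes_fromSpecStalk hz]
    simp only [ψ, Spec.map_comp, Category.assoc]
  -- the base change to `V`
  let gV : Spec (CommRingCat.of V) ⟶ Y := hV' ≫ f
  have HV : IsPullback (pullback.fst f gV) (pullback.snd f gV) f gV := IsPullback.of_hasPullback f gV
  let σ : Spec (CommRingCat.of V) ⟶ pullback f gV := pullback.lift hV' (𝟙 _) (by simp [gV])
  have hσ1 : σ ≫ pullback.fst f gV = hV' := pullback.lift_fst _ _ _
  have hσ2 : σ ≫ pullback.snd f gV = 𝟙 _ := pullback.lift_snd _ _ _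
  have hsnd : ∀ t, (pullback.snd f gV).base (σ.base t) = t := by
    intro t
    have := congrArg (fun φ => φ.base t) hσ2
    simp only [Scheme.Hom.comp_base, TopCat.hom_comp, ContinuousMap.comp_apply] at this
    exact this
  have hfst_cl : (pullback.fst f gV).base (σ.base (closedPoint V)) = x := by
    have := congrArg (fun φ => φ.base (closedPoint V)) hσ1
    simp only [Scheme.Hom.comp_base, TopCat.hom_comp, ContinuousMap.comp_apply] at this
    rw [this]
    change (X.fromSpecStalk x).base (PrimeSpectrum.comap ψV (closedPoint V)) = x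
    rw [IsLocalRing.comap_closedPoint ψV]
    exact Scheme.fromSpecStalk_closedPoint
  -- reducedness at the closed point of the section
  have hGRV : FBase.IsGeomReducedAt
      ((pullback.snd f gV).fiberToSpecResidueField ((pullback.snd f gV).base (σ.base (closedPoint V))))
      ((pullback.snd f gV).asFiber (σ.base (closedPoint V))) := by
    refine (Groth.Agent.Lib.Helper12.GeomRedFibreInv.geomReducedAt_fibre_iff_of_isPullback HV
      (σ.base (closedPoint V)) (f.base x) ?_ (f.asFiber x) ?_).mpr hx
    · have hw := congrArg (fun φ => φ.base (σ.base (closedPoint V))) HV.w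
      simp only [Scheme.Hom.comp_base, TopCat.hom_comp, ContinuousMap.comp_apply] at hw
      rw [← hw, hfst_cl]
    · rw [hfst_cl]; exact f.fiberι_asFiber x
  have hred1 : IsReduced ((pullback f gV).presheaf.stalk (σ.base (closedPoint V))) :=
    Groth.Agent.Lib.Helper12.ReducedFibreGen.isReduced_stalk_of_flat_lfp_of_geomReducedAt
      (pullback.snd f gV) (σ.base (closedPoint V)) inferInstance hGRV
  -- the `L`-point of the base change
  let τ : Spec (Z.residueField z) ⟶ pullback f gV := jL ≫ σ
  let pt : Spec (Z.residueField z) := closedPoint (Z.residueField z)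
  have hspec : τ.base pt ⤳ σ.base (closedPoint V) := by
    have : jL.base pt ⤳ closedPoint V := IsLocalRing.specializes_closedPoint _
    exact this.map σ.base.hom.continuous
  have hred2 : IsReduced ((pullback f gV).presheaf.stalk (τ.base pt)) := by
    letI := ((pullback f gV).presheaf.stalkSpecializes hspec).hom.toAlgebra
    obtain ⟨M, hM⟩ := Groth.Agent.Lib.Helper50.exists_isLocalization_stalkSpecializes hspec
    exact isReduced_localizationPreserves M _ hred1
  -- the generic fibre
  haveI : Flat jL := by
    rw [Flat.SpecMap_iff]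
    change (algebraMap V (Z.residueField z)).Flat
    rw [RingHom.flat_algebraMap_iff]
    exact IsLocalization.flat (Z.residueField z) (nonZeroDivisors V)
  haveI : IsPreimmersion jL :=
    IsPreimmersion.of_isLocalization (R := V) (S := Z.residueField z) (nonZeroDivisors V)
  let b : Spec (Z.residueField z) ⟶ pullback (pullback.snd f gV) jL :=
    pullback.lift τ (𝟙 _) (by
      simp only [τ, Category.assoc, hσ2, Category.comp_id, Category.id_comp])
  have hb1 : b ≫ pullback.fst (pullback.snd f gV) jL = τ := pullback.lift_fst _ _ _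
  have hb2 : b ≫ pullback.snd (pullback.snd f gV) jL = 𝟙 _ := pullback.lift_snd _ _ _
  have hred3 : IsReduced ((pullback (pullback.snd f gV) jL).presheaf.stalk (b.base pt)) := by
    apply isReduced_stalk_of_flat_of_isPreimmersion (pullback.fst (pullback.snd f gV) jL)
    have := congrArg (fun φ => φ.base pt) hb1
    simp only [Scheme.Hom.comp_base, TopCat.hom_comp, ContinuousMap.comp_apply] at this
    rw [this]
    exact hred2
  -- the flat map to `Z`
  have hcompat : (pullback.fst (pullback.snd f gV) jL ≫ pullback.fst f gV) ≫ f =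
      (pullback.snd (pullback.snd f gV) jL ≫ (a ≫ snd)) ≫ s := by
    rw [Category.assoc, pullback.condition, ← Category.assoc, pullback.condition, Category.assoc,
      Category.assoc, Category.assoc]
    congr 1
    change jL ≫ hV' ≫ f = a ≫ snd ≫ s
    rw [← Category.assoc, C1, Category.assoc, H.w]
  let θ : pullback (pullback.snd f gV) jL ⟶ Z :=
    H.lift (pullback.fst (pullback.snd f gV) jL ≫ pullback.fst f gV)
      (pullback.snd (pullback.snd f gV) jL ≫ (a ≫ snd)) hcompat
  have hθ1 : θ ≫ fst = pullback.fst (pullback.snd f gV) jL ≫ pullback.fst f gV := H.lift_fst _ _ _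
  have hθ2 : θ ≫ snd = pullback.snd (pullback.snd f gV) jL ≫ (a ≫ snd) := H.lift_snd _ _ _
  -- `θ` is a base change of a morphism of spectra of fields
  have hbig : IsPullback (pullback.fst (pullback.snd f gV) jL ≫ pullback.fst f gV)
      (pullback.snd (pullback.snd f gV) jL) f (jL ≫ gV) :=
    (IsPullback.of_hasPullback (pullback.snd f gV) jL).paste_horiz HV
  have hbig' : IsPullback (θ ≫ fst) (pullback.snd (pullback.snd f gV) jL) f ((a ≫ snd) ≫ s) := by
    rw [hθ1]
    have : jL ≫ gV = (a ≫ snd) ≫ s := by
      change jL ≫ hV' ≫ f = (a ≫ snd) ≫ s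
      rw [← Category.assoc, C1, Category.assoc, H.w, Category.assoc]
    rw [← this]
    exact hbig
  have hleft : IsPullback θ (pullback.snd (pullback.snd f gV) jL) snd (a ≫ snd) :=
    IsPullback.of_right hbig' hθ2 H
  haveI : Flat (a ≫ snd) := by
    obtain ⟨ρ, hρ⟩ : ∃ ρ : CommRingCat.of K ⟶ Z.residueField z, Spec.map ρ = a ≫ snd :=
      ⟨Spec.preimage (a ≫ snd), Spec.map_preimage _⟩
    rw [← hρ, Flat.SpecMap_iff]
    exact Groth.Agent.Lib.Helper12.ReducedFibreSch.ringHom_flat_of_isField ρ.hom
      (Field.toIsField K)
  haveI : Flat θ := MorphismProperty.of_isPullback hleft.flip inferInstance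
  -- the image of the point
  have hθb : b ≫ θ = a := by
    apply H.hom_ext
    · rw [Category.assoc, hθ1, ← Category.assoc, hb1]
      change (jL ≫ σ) ≫ pullback.fst f gV = a ≫ fst
      rw [Category.assoc, hσ1, C1]
    · rw [Category.assoc, hθ2, ← Category.assoc, hb2, Category.id_comp]
  have hpt : θ.base (b.base pt) = z := by
    have := congrArg (fun φ => φ.base pt) hθb
    simp only [Scheme.Hom.comp_base, TopCat.hom_comp, ContinuousMap.comp_apply] at this
    rw [this]
    exact Z.fromSpecResidueField_apply z pt
  have := Groth.Agent.Lib.Helper62.isReduced_stalk_of_flat θ (b.base pt)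
  rwa [hpt] at this

/-- **Generization.** For `f` flat and locally of finite presentation, the set of points at which the
fibre is geometrically reduced is stable under generization. -/
theorem geomReducedAt_fibre_of_specializes {X Y : Scheme.{u}} (f : X ⟶ Y) [Flat f]
    [LocallyOfFinitePresentation f] {x ξ : X} (h : ξ ⤳ x)
    (hx : FBase.IsGeomReducedAt (f.fiberToSpecResidueField (f.base x)) (f.asFiber x)) :
    FBase.IsGeomReducedAt (f.fiberToSpecResidueField (f.base ξ)) (f.asFiber ξ) := by
  intro K _ _ x' hx'
  have s1 : IsPullback (FBase.bcπ (f.fiberToSpecResidueField (f.base ξ)) K)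
      (FBase.bcStr (f.fiberToSpecResidueField (f.base ξ)) K)
      (f.fiberToSpecResidueField (f.base ξ))
      (Spec.map (CommRingCat.ofHom (algebraMap _ K))) := IsPullback.of_hasPullback _ _
  have s2 : IsPullback (f.fiberι (f.base ξ)) (f.fiberToSpecResidueField (f.base ξ)) f
      (Y.fromSpecResidueField (f.base ξ)) := IsPullback.of_hasPullback _ _
  have s := s1.paste_horiz s2
  refine isReduced_stalk_of_isPullback_of_specializes f x hx _ _ _ s x' ?_
  change (f.fiberι (f.base ξ)).base
    ((FBase.bcπ (f.fiberToSpecResidueField (f.base ξ)) K).base x') ⤳ x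
  rw [hx', show (f.fiberι (f.base ξ)).base (f.asFiber ξ) = ξ from f.fiberι_asFiber ξ]
  exact h

end Groth.Agent.Lib.Helper12.GeomRedGeneralize
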