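import Mathlib
import Groth.Prelude.Def_FDesc
import Groth.Agent.Lib.Helper12.GeomRedGeneralize

/-!
# The locus where the fibres of a morphism are geometrically reduced (helper12)

`locus f = {x | the fibre of f through x is geometrically reduced at x}`.

* `locus_of_isPullback`: compatibility with base change of the target;
* `locus_comp_of_etale`: compatibility with étale maps to the source;
* `locus_comp_of_mono`: post-composition with a monomorphism;
* translation between Mathlib's `GeometricallyReduced` and the pointwise `FBase.IsGeomReducedAt`.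
-/

set_option autoImplicit false
set_option linter.style.haveILetI false
universe u

open AlgebraicGeometry CategoryTheory Limits

namespace Groth.Agent.Lib.Helper12.GeomRedLocus

open Groth.Agent.Lib.Helper12.GeomRedFibreInv

/-- the set of points at which the fibre through the point is geometrically reduced -/
def locus {X Y : Scheme.{u}} (f : X ⟶ Y) : Set X :=
  {x : X | FBase.IsGeomReducedAt (f.fiberToSpecResidueField (f.base x)) (f.asFiber x)}

theorem mem_locus {X Y : Scheme.{u}} (f : X ⟶ Y) (x : X) :
    x ∈ locus f ↔ FBase.IsGeomReducedAt (f.fiberToSpecResidueField (f.base x)) (f.asFiber x) :=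
  Iff.rfl

/-- base change -/
theorem locus_of_isPullback {P X Y T : Scheme.{u}} {fst : P ⟶ X} {snd : P ⟶ T} {f : X ⟶ Y}
    {g : T ⟶ Y} (H : IsPullback fst snd f g) : locus snd = fst.base ⁻¹' locus f := by
  ext x'
  refine geomReducedAt_fibre_iff_of_isPullback H x' (f.base (fst.base x')) ?_
    (f.asFiber (fst.base x')) (f.fiberι_asFiber _)
  have := congrArg (fun φ => φ.base x') H.w
  simp only [Scheme.Hom.comp_base, TopCat.hom_comp, ContinuousMap.comp_apply] at this
  exact this.symm

/-- étale maps to the source -/
theorem locus_comp_of_etale {U X Y : Scheme.{u}} (j : U ⟶ X) [Etale j] (f : X ⟶ Y) :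
    locus (j ≫ f) = j.base ⁻¹' locus f := by
  ext u
  refine geomReducedAt_fibre_iff_of_etale j f u (f.base (j.base u)) ?_ (f.asFiber (j.base u))
    (f.fiberι_asFiber _)
  simp only [Scheme.Hom.comp_base, TopCat.hom_comp, ContinuousMap.comp_apply]

/-- the square exhibiting post-composition with a monomorphism as a base change -/
theorem isPullback_of_mono {U V Y : Scheme.{u}} (g : U ⟶ V) (i : V ⟶ Y) [Mono i] :
    IsPullback (𝟙 U) g (g ≫ i) i := by
  refine IsPullback.of_isLimit' ⟨by simp⟩ ?_
  refine PullbackCone.IsLimit.mk _ (fun s => s.fst) (fun s => by simp) (fun s => ?_)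
    (fun s m h1 _ => by simpa using h1)
  rw [← cancel_mono i]
  simpa using s.condition

/-- post-composition with a monomorphism -/
theorem locus_comp_of_mono {U V Y : Scheme.{u}} (g : U ⟶ V) (i : V ⟶ Y) [Mono i] :
    locus (g ≫ i) = locus g := by
  have := locus_of_isPullback (isPullback_of_mono g i)
  rw [this]
  ext x
  simp

/-- **Translation 1.** -/
theorem geometricallyReduced_of_forall_geomReducedAt {W : Scheme.{u}} {k : Type u} [Field k]
    (g : W ⟶ Spec (CommRingCat.of k)) (h : ∀ w, FBase.IsGeomReducedAt g w) :
    GeometricallyReduced g := by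
  rw [geometricallyReduced_iff]
  intro K _ y Z fst snd hpb
  obtain ⟨φ, rfl⟩ := Spec.map_surjective y
  letI : Algebra k K := φ.hom.toAlgebra
  have hred : AlgebraicGeometry.IsReduced (FBase.bc g K) := by
    haveI : ∀ x' : FBase.bc g K, _root_.IsReduced ((FBase.bc g K).presheaf.stalk x') :=
      fun x' => h _ K x' rfl
    exact isReduced_of_isReduced_stalk _
  let e : Z ≅ FBase.bc g K := hpb.isoPullback
  exact isReduced_of_isOpenImmersion e.hom

/-- **Translation 2.** -/
theorem geomReducedAt_of_geometricallyReduced {W : Scheme.{u}} {k : Type u} [Field k]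
    (g : W ⟶ Spec (CommRingCat.of k)) (hg : GeometricallyReduced g) (w : W) :
    FBase.IsGeomReducedAt g w := by
  intro K _ _ x' _
  haveI : AlgebraicGeometry.IsReduced (FBase.bc g K) :=
    pullback_of_geometrically hg.geometrically_isReduced K _
  infer_instance

end Groth.Agent.Lib.Helper12.GeomRedLocus
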