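import Mathlib
import Groth.Prelude.Def_FDesc
import Groth.Agent.Lib.Helper12.GeomRedLocus
import Groth.Agent.Lib.Helper12.ConstrTop
import Groth.Agent.Lib.Helper58.FlatAlgModel
import Groth.Agent.S1301
import Groth.Agent.S2522

/-!
# Openness of the locus where the fibres of a flat morphism are geometrically reduced (helper12)

EGA IV 12.1.1 (vii): for `f` flat and locally of finite presentation, the set of `x` such that the
fibre through `x` is geometrically reduced at `x` is open.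
-/

set_option autoImplicit false
set_option linter.style.haveILetI false
universe u

open AlgebraicGeometry CategoryTheory Limits

namespace Groth.Agent.Lib.Helper12.GeomRedOpen

open Groth.Agent.Lib.Helper12.GeomRedLocus Groth.Agent.Lib.Helper12.GeomRedFibreInv
open Groth.Agent.Lib.Helper12

/-- **Noetherian case.** -/
theorem isOpen_locus_of_isNoetherian {X Y : Scheme.{u}} (f : X ⟶ Y) [Flat f]
    [LocallyOfFinitePresentation f] [IsNoetherian X] [IsNoetherian Y] : IsOpen (locus f) := by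
  rw [ConstrTop.isOpen_iff_forall_irreducible_closed]
  rintro Z hZc hZi ⟨x, hxE, hxZ⟩
  have hζ : IsGenericPoint hZi.genericPoint Z := hZi.isGenericPoint_genericPoint hZc
  set ζ := hZi.genericPoint with hζdef
  have hζx : ζ ⤳ x := hζ.specializes hxZ
  have hζE : ζ ∈ locus f :=
    Groth.Agent.Lib.Helper12.GeomRedGeneralize.geomReducedAt_fibre_of_specializes f hζx hxE
  -- step (a): openness in the fibre through `ζ`
  haveI : LocallyOfFiniteType (f.fiberToSpecResidueField (f.base ζ)) :=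
    inferInstanceAs (LocallyOfFiniteType (pullback.snd f (Y.fromSpecResidueField (f.base ζ))))
  haveI : IsLocallyNoetherian (f.fiber (f.base ζ)) :=
    LocallyOfFiniteType.isLocallyNoetherian (f.fiberToSpecResidueField (f.base ζ))
  have hopen : IsOpen {z : f.fiber (f.base ζ) |
      FBase.IsGeomReducedAt (f.fiberToSpecResidueField (f.base ζ)) z} :=
    Groth.Agent.S2522.result _
  obtain ⟨U₁, hU₁, hU₁eq⟩ := (f.fiberι (f.base ζ)).isEmbedding.isInducing.isOpen_iff.mp hopen
  have hζU₁ : ζ ∈ U₁ := by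
    have h1 : f.asFiber ζ ∈ (f.fiberι (f.base ζ)).base ⁻¹' U₁ := by
      rw [hU₁eq]; exact hζE
    have h2 : (f.fiberι (f.base ζ)).base (f.asFiber ζ) = ζ := f.fiberι_asFiber ζ
    rw [Set.mem_preimage, h2] at h1
    exact h1
  obtain ⟨_, ⟨U', hUaff', rfl⟩, hζU', hUU₁'⟩ :=
    X.isBasis_affineOpens.exists_subset_of_mem_open hζU₁ hU₁
  obtain ⟨U, hUaff, hζU, hUU₁⟩ : ∃ U : X.Opens, IsAffineOpen U ∧ ζ ∈ U ∧ (U : Set X) ⊆ U₁ :=
    ⟨U', hUaff', hζU', hUU₁'⟩
  clear hUaff' hζU' hUU₁' U'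
  haveI : IsAffine (U : Scheme.{u}) := hUaff
  let f₁ : (U : Scheme.{u}) ⟶ Y := U.ι ≫ f
  -- the fibre of `f₁` through `η` is geometrically reduced
  have hC : GeometricallyReduced (f₁.fiberToSpecResidueField (f.base ζ)) := by
    apply geometricallyReduced_of_forall_geomReducedAt
    intro w
    obtain ⟨z, hz, hiff⟩ := geomReducedAt_fibre_iff_of_etale' U.ι f (f.base ζ) w
    rw [hiff]
    have h1 : z ∈ (f.fiberι (f.base ζ)).base ⁻¹' U₁ := by
      rw [Set.mem_preimage, hz]
      exact hUU₁ (((U.ι ≫ f).fiberι (f.base ζ)).base w).2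
    rw [hU₁eq] at h1
    exact h1
  -- step (b): constructibility of the locus of geometrically reduced fibres
  have hcons : Topology.IsConstructible {y : Y | GeometricallyReduced (f₁.fiberToSpecResidueField y)} :=
    (Groth.Agent.S1301.result f₁).isConstructible
  have hirr : IsIrreducible (closure {f.base ζ} : Set Y) := isIrreducible_singleton.closure
  have hmem : ∀ V : Set Y, IsOpen V → (V ∩ closure {f.base ζ}).Nonempty → f.base ζ ∈ V := by
    rintro V hV ⟨y, hyV, hy⟩
    exact (specializes_iff_mem_closure.mpr hy).mem_open hV hyV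
  rcases ConstrTop.dichotomy hcons hirr with ⟨V, hV, hVne, hVsub⟩ | ⟨V, hV, hVne, hVsub⟩
  · have hηV : f.base ζ ∈ V := hmem V hV hVne
    refine ⟨(U : Set X) ∩ f.base ⁻¹' V, U.2.inter (hV.preimage f.continuous),
      ⟨ζ, ⟨hζU, hηV⟩, hζ.mem⟩, ?_⟩
    rintro x' ⟨⟨hx'U, hx'V⟩, hx'Z⟩
    have hsp : ζ ⤳ x' := hζ.specializes hx'Z
    have hfx' : f.base x' ∈ closure {f.base ζ} :=
      specializes_iff_mem_closure.mp (hsp.map f.continuous)
    have hGR : GeometricallyReduced (f₁.fiberToSpecResidueField (f.base x')) :=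
      hVsub ⟨hx'V, hfx'⟩
    have key : ∀ (y : Y) (u : (U : Scheme.{u})), f₁.base u = y →
        GeometricallyReduced (f₁.fiberToSpecResidueField y) → U.ι.base u ∈ locus f := by
      rintro y u rfl hy
      have h1 : u ∈ locus (U.ι ≫ f) :=
        geomReducedAt_of_geometricallyReduced _ hy _
      rw [locus_comp_of_etale] at h1
      exact h1
    exact key (f.base x') ⟨x', hx'U⟩ (by
      simp only [f₁, Scheme.Hom.comp_base, TopCat.hom_comp, ContinuousMap.comp_apply]
      rfl) hGR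
  · exfalso
    exact hVsub ⟨hmem V hV hVne, subset_closure rfl⟩ hC

/-- **Affine case, ring form**: Noetherian approximation. -/
theorem isOpen_locus_Spec (A S : Type u) [CommRing A] [CommRing S] [Algebra A S] [Module.Flat A S]
    [Algebra.FinitePresentation A S] :
    IsOpen (locus (Spec.map (CommRingCat.ofHom (algebraMap A S)))) := by
  obtain ⟨R₀, _, _, S₀, _, _, _, _, _, _, hft0, hft1, hfl0, hpo⟩ :=
    Groth.Agent.Lib.Helper58.FlatAlgModel.exists_flat_algebra_model A S
  let f : Spec (CommRingCat.of S) ⟶ Spec (CommRingCat.of A) :=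
    Spec.map (CommRingCat.ofHom (algebraMap A S))
  let f₀ : Spec (CommRingCat.of S₀) ⟶ Spec (CommRingCat.of R₀) :=
    Spec.map (CommRingCat.ofHom (algebraMap R₀ S₀))
  let g : Spec (CommRingCat.of A) ⟶ Spec (CommRingCat.of R₀) :=
    Spec.map (CommRingCat.ofHom (algebraMap R₀ A))
  let π : Spec (CommRingCat.of S) ⟶ Spec (CommRingCat.of S₀) :=
    Spec.map (CommRingCat.ofHom (algebraMap S₀ S))
  have H : IsPullback π f f₀ g :=
    isPullback_SpecMap_of_isPushout _ _ _ _
      ((CommRingCat.isPushout_iff_isPushout (R := R₀) (R' := S₀) (S := A) (S' := S)).mpr hpo.symm)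
  haveI : IsNoetherianRing R₀ := Algebra.FiniteType.isNoetherianRing ℤ R₀
  haveI : IsNoetherianRing S₀ := Algebra.FiniteType.isNoetherianRing R₀ S₀
  haveI : Algebra.FinitePresentation R₀ S₀ := Algebra.FinitePresentation.of_finiteType.mp hft1
  haveI : Flat f₀ := Flat.SpecMap_iff.mpr (RingHom.flat_algebraMap_iff.mpr hfl0)
  haveI : LocallyOfFinitePresentation f₀ :=
    (HasRingHomProperty.Spec_iff (P := @LocallyOfFinitePresentation)).mpr
      ((RingHom.finitePresentation_algebraMap (A := R₀) (B := S₀)).mpr inferInstance)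
  change IsOpen (locus f)
  rw [locus_of_isPullback H]
  exact (isOpen_locus_of_isNoetherian f₀).preimage π.continuous

/-- **Affine case.** -/
theorem isOpen_locus_of_isAffine {X Y : Scheme.{u}} (f : X ⟶ Y) [Flat f]
    [LocallyOfFinitePresentation f] [IsAffine X] [IsAffine Y] : IsOpen (locus f) := by
  letI : Algebra Γ(Y, ⊤) Γ(X, ⊤) := f.appTop.hom.toAlgebra
  have hsq : IsPullback X.isoSpec.hom f (Spec.map f.appTop) Y.isoSpec.hom :=
    IsPullback.of_horiz_isIso ⟨Scheme.isoSpec_hom_naturality f⟩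
  rw [locus_of_isPullback hsq]
  haveI : Module.Flat Γ(Y, ⊤) Γ(X, ⊤) :=
    (HasRingHomProperty.iff_of_isAffine (P := @Flat)).mp ‹Flat f›
  haveI : Algebra.FinitePresentation Γ(Y, ⊤) Γ(X, ⊤) :=
    (HasRingHomProperty.iff_of_isAffine (P := @LocallyOfFinitePresentation)).mp
      ‹LocallyOfFinitePresentation f›
  exact (isOpen_locus_Spec Γ(Y, ⊤) Γ(X, ⊤)).preimage X.isoSpec.hom.continuous

/-- **EGA IV 12.1.1 (vii)**: the locus where the fibres of a flat morphism locally of finite
presentation are geometrically reduced is open. -/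
theorem isOpen_locus {X Y : Scheme.{u}} (f : X ⟶ Y) [Flat f] [LocallyOfFinitePresentation f] :
    IsOpen (locus f) := by
  rw [isOpen_iff_forall_mem_open]
  intro x₀ hx₀
  obtain ⟨V, hV, hx₀V⟩ : ∃ V : Y.Opens, IsAffineOpen V ∧ f.base x₀ ∈ V := by
    obtain ⟨_, ⟨V, hV, rfl⟩, hx₀V, -⟩ :=
      Y.isBasis_affineOpens.exists_subset_of_mem_open (Set.mem_univ (f.base x₀)) isOpen_univ
    exact ⟨V, hV, hx₀V⟩
  obtain ⟨U, hU, hx₀U, e⟩ : ∃ U : X.Opens, IsAffineOpen U ∧ x₀ ∈ U ∧ U ≤ f ⁻¹ᵁ V := by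
    obtain ⟨_, ⟨U, hU, rfl⟩, hx₀U, hUV⟩ :=
      X.isBasis_affineOpens.exists_subset_of_mem_open (show x₀ ∈ f ⁻¹ᵁ V from hx₀V) (f ⁻¹ᵁ V).2
    exact ⟨U, hU, hx₀U, hUV⟩
  haveI : IsAffine (U : Scheme.{u}) := hU
  haveI : IsAffine (V : Scheme.{u}) := hV
  haveI : Flat (f.resLE V U e) := IsZariskiLocalAtSource.resLE e ‹Flat f›
  haveI : LocallyOfFinitePresentation (f.resLE V U e) :=
    IsZariskiLocalAtSource.resLE e ‹LocallyOfFinitePresentation f›
  have hg : IsOpen (locus (f.resLE V U e)) := isOpen_locus_of_isAffine _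
  have h1 : locus (f.resLE V U e) = U.ι.base ⁻¹' locus f := by
    rw [← locus_comp_of_mono (f.resLE V U e) V.ι, Scheme.Hom.resLE_comp_ι, locus_comp_of_etale]
  refine ⟨U.ι.base '' locus (f.resLE V U e), ?_, U.ι.isOpenEmbedding.isOpenMap _ hg,
    ⟨⟨x₀, hx₀U⟩, ?_, rfl⟩⟩
  · rintro _ ⟨u, hu, rfl⟩
    rw [h1] at hu
    exact hu
  · rw [h1]
    exact hx₀

end Groth.Agent.Lib.Helper12.GeomRedOpen
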