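import Mathlib
import Groth.Prelude.Def_FDesc
import Groth.Agent.Lib.Helper12.GeomRedOpen
import Groth.Agent.S0386

/-!
# The locus where a morphism is flat with geometrically reduced fibre is open (helper12)

EGA IV 12.1.6 for reducedness: `f` locally of finite presentation; the set of `x` such that `f` is flat
at `x` and the fibre through `x` is geometrically reduced at `x` is open.
-/

set_option autoImplicit false
set_option linter.style.haveILetI false
universe u

open AlgebraicGeometry CategoryTheory Limits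

namespace Groth.Agent.Lib.Helper12.GeomRedFlatLocus

open Groth.Agent.Lib.Helper12.GeomRedLocus Groth.Agent.Lib.Helper12.GeomRedOpen

/-- the restriction of `f` to an open subset of its flat locus is flat -/
theorem flat_ι_comp_of_forall {X Y : Scheme.{u}} (f : X ⟶ Y) (W : X.Opens)
    (hW : ∀ x ∈ W, (f.stalkMap x).hom.Flat) : Flat (W.ι ≫ f) := by
  rw [Flat.iff_flat_stalkMap]
  intro w
  rw [Scheme.Hom.stalkMap_comp]
  have h1 : (f.stalkMap (W.ι.base w)).hom.Flat := hW _ w.2
  have h2 : (W.ι.stalkMap w).hom.Flat :=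
    RingHom.Flat.of_bijective (ConcreteCategory.bijective_of_isIso (W.ι.stalkMap w))
  exact RingHom.Flat.comp h1 h2

/-- flat locus ∩ geometrically reduced locus is open -/
theorem isOpen_flat_inter_locus {X Y : Scheme.{u}} (f : X ⟶ Y) [LocallyOfFinitePresentation f] :
    IsOpen {x : X | (f.stalkMap x).hom.Flat ∧ x ∈ locus f} := by
  let W : X.Opens := ⟨{x : X | (f.stalkMap x).hom.Flat}, Groth.Agent.S0386.result f⟩
  haveI : Flat (W.ι ≫ f) := flat_ι_comp_of_forall f W (fun x hx => hx)
  have hopen : IsOpen (locus (W.ι ≫ f)) := isOpen_locus _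
  rw [locus_comp_of_etale] at hopen
  have : {x : X | (f.stalkMap x).hom.Flat ∧ x ∈ locus f} = W.ι.base '' (W.ι.base ⁻¹' locus f) := by
    ext x
    constructor
    · rintro ⟨h1, h2⟩
      exact ⟨⟨x, h1⟩, h2, rfl⟩
    · rintro ⟨w, hw, rfl⟩
      exact ⟨w.2, hw⟩
  rw [this]
  exact W.ι.isOpenEmbedding.isOpenMap _ hopen

end Groth.Agent.Lib.Helper12.GeomRedFlatLocus
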