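import Mathlib
import Groth.Prelude.Def_FDesc
import Groth.Prelude.Def_EGA43
import Groth.Agent.Lib.Helper12.GeomRedFlatLocus
import Groth.Agent.Lib.Helper12.DVRFlatSch
import Groth.Agent.Lib.Helper12.FibrePullbackPts
import Groth.Agent.S2562

/-!
# Universally open at the generic points of the fibre + geometrically reduced fibre (helper12)

EGA IV 15.6.? : `Y` locally Noetherian, `f` locally of finite type, universally open at the generic
points of the components of the fibre through `x`, fibre geometrically reduced at `x`.  Then on a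
neighbourhood of `x`, `f` is universally open with geometrically reduced fibres.
-/

set_option autoImplicit false
set_option linter.style.haveILetI false
universe u

open AlgebraicGeometry CategoryTheory Limits IsLocalRing

namespace Groth.Agent.Lib.Helper12.UnivOpenGR

open Groth.Agent.Lib.Helper12.GeomRedLocus

/-- **Discrete valuation ring test** (EGA IV 15.2.2 + base change), for an arbitrary trait mapping
its closed point to `f x`. -/
theorem flat_stalkMap_snd_of_dvr {X Y : Scheme.{u}} (f : X ⟶ Y) [LocallyOfFiniteType f] (x : X)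
    (hopen : ∀ z : ↥(f.fiber (f.base x)), f.asFiber x ∈ closure {z} →
      (∀ z' : ↥(f.fiber (f.base x)), z ∈ closure {z'} → z' = z) →
      EGA43.IsUnivOpenAt f ((f.fiberι (f.base x)).base z))
    (hred : FBase.IsGeomReducedAt (f.fiberToSpecResidueField (f.base x)) (f.asFiber x))
    (A' : Type u) [CommRing A'] [IsDomain A'] [IsDiscreteValuationRing A']
    (s : Spec (CommRingCat.of A') ⟶ Y) (hcl : s.base (closedPoint A') = f.base x)
    (x' : ↥(pullback f s)) (hfst : (pullback.fst f s).base x' = x)
    (hsnd : (pullback.snd f s).base x' = closedPoint A') :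
    ((pullback.snd f s).stalkMap x').hom.Flat := by
  classical
  have H : IsPullback (pullback.fst f s) (pullback.snd f s) f s := IsPullback.of_hasPullback _ _
  refine Groth.Agent.Lib.Helper12.DVRFlatSch.flat_stalkMap_of_isOpenAt
    (pullback.snd f s) x' hsnd ?_ ?_
  · refine Groth.Agent.Lib.Helper12.FibrePullbackPts.isReduced_fibre_stalk_of_geomReducedAt H x'
      (f.base x) ?_ (f.asFiber x) ?_ hred
    · rw [hsnd]; exact hcl
    · rw [hfst]; exact f.fiberι_asFiber x
  · intro z' hz'x' hz'cl hmax
    obtain ⟨ζ, hζ, hζmax⟩ := Groth.Agent.Lib.Helper12.FibrePullbackPts.exists_fibre_point H z'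
      (f.base x) (by rw [hz'cl]; exact hcl)
    have hmax' : ∀ ζ₁ : ↥(f.fiber (f.base x)), ζ₁ ⤳ ζ → ζ₁ = ζ := by
      apply hζmax
      intro z'' hz'' hsnd''
      exact hmax z'' hz'' (hsnd''.trans hz'cl)
    have h1 : f.asFiber x ∈ closure {ζ} := by
      rw [← specializes_iff_mem_closure,
        ← (f.fiberι (f.base x)).isEmbedding.toIsInducing.specializes_iff, hζ]
      have := hz'x'.map (pullback.fst f s).base.hom.continuous
      rw [hfst] at this
      rw [show (f.fiberι (f.base x)).base (f.asFiber x) = x from f.fiberι_asFiber x]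
      exact this
    have h2 : ∀ z₁ : ↥(f.fiber (f.base x)), ζ ∈ closure {z₁} → z₁ = ζ := by
      intro z₁ hz₁
      exact hmax' z₁ (specializes_iff_mem_closure.mpr hz₁)
    have h3 := hopen ζ h1 h2
    exact h3 _ _ z' hζ.symm

/-- a surjective closed immersion is an open map -/
theorem isOpenMap_of_isClosedImmersion_of_surjective {T₀ T : Scheme.{u}} (q : T₀ ⟶ T)
    [IsClosedImmersion q] [Surjective q] : IsOpenMap q.base :=
  (q.isClosedEmbedding.toIsEmbedding.toHomeomorphOfSurjective q.surjective).isOpenMap

/-- **Universal openness descends along a surjective closed immersion** (e.g. the reduction). -/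
theorem universallyOpen_of_pullback_snd {X Y Y₀ : Scheme.{u}} (g : X ⟶ Y) (i : Y₀ ⟶ Y)
    [IsClosedImmersion i] [Surjective i] (h : UniversallyOpen (pullback.snd g i)) :
    UniversallyOpen g := by
  rw [UniversallyOpen.eq]
  apply MorphismProperty.universally_mk'
  intro T t _
  change IsOpenMap (pullback.fst t g).base
  let q : pullback t i ⟶ T := pullback.fst t i
  let r : pullback t i ⟶ Y₀ := pullback.snd t i
  let a : pullback (pullback.fst t g) q ⟶ pullback t g := pullback.fst _ _
  let b : pullback (pullback.fst t g) q ⟶ pullback t i := pullback.snd _ _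
  have hab : a ≫ pullback.fst t g = b ≫ q := pullback.condition
  have hqr : q ≫ t = r ≫ i := pullback.condition
  have hcomm : (a ≫ pullback.snd t g) ≫ g = (b ≫ r) ≫ i := by
    rw [Category.assoc, ← pullback.condition, ← Category.assoc, hab, Category.assoc, hqr,
      Category.assoc]
  let c : pullback (pullback.fst t g) q ⟶ pullback g i :=
    pullback.lift (a ≫ pullback.snd t g) (b ≫ r) hcomm
  have hc1 : c ≫ pullback.fst g i = a ≫ pullback.snd t g := pullback.lift_fst _ _ _
  have hc2 : c ≫ pullback.snd g i = b ≫ r := pullback.lift_snd _ _ _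
  have hbig : IsPullback (a ≫ pullback.snd t g) b g (q ≫ t) :=
    (IsPullback.of_hasPullback (pullback.fst t g) q).paste_horiz
      (IsPullback.of_hasPullback t g).flip
  have hsq : IsPullback c b (pullback.snd g i) r := by
    refine IsPullback.of_right ?_ hc2 (IsPullback.of_hasPullback g i)
    rw [hc1, ← hqr]
    exact hbig
  haveI : UniversallyOpen b := MorphismProperty.of_isPullback hsq h
  have hb : IsOpenMap b.base := b.isOpenMap
  have hq : IsOpenMap q.base := isOpenMap_of_isClosedImmersion_of_surjective q
  have ha : Function.Surjective a.base := a.surjective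
  intro O hO
  have : (pullback.fst t g).base '' O = q.base '' (b.base '' (a.base ⁻¹' O)) := by
    have hpt : ∀ w, (pullback.fst t g).base (a.base w) = q.base (b.base w) := by
      intro w
      have := congrArg (fun φ => φ.base w) hab
      simp only [Scheme.Hom.comp_base, TopCat.hom_comp, ContinuousMap.comp_apply] at this
      exact this
    ext z
    constructor
    · rintro ⟨o, ho, rfl⟩
      obtain ⟨w, rfl⟩ := ha o
      exact ⟨b.base w, ⟨w, ho, rfl⟩, (hpt w).symm⟩
    · rintro ⟨_, ⟨w, hw, rfl⟩, rfl⟩
      exact ⟨a.base w, hw, hpt w⟩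
  rw [this]
  exact hq _ (hb _ (hO.preimage a.continuous))

/-- `j` an open immersion, `f` flat at the points of the range of `j`: `j ≫ f` is flat -/
theorem flat_comp_of_forall {U X Y : Scheme.{u}} (j : U ⟶ X) [IsOpenImmersion j] (f : X ⟶ Y)
    (hW : ∀ t : U, (f.stalkMap (j.base t)).hom.Flat) : Flat (j ≫ f) := by
  rw [Flat.iff_flat_stalkMap]
  intro w
  rw [Scheme.Hom.stalkMap_comp]
  have h2 : (j.stalkMap w).hom.Flat :=
    RingHom.Flat.of_bijective (ConcreteCategory.bijective_of_isIso (j.stalkMap w))
  exact RingHom.Flat.comp (hW w) h2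

/-- transfer of flatness of stalk maps along an open immersion on the source -/
theorem flat_stalkMap_of_comp_eq {U X Y : Scheme.{u}} (j : U ⟶ X) [IsOpenImmersion j] (f : X ⟶ Y)
    (c : U ⟶ Y) (h : j ≫ f = c) (w : U) (hf : (f.stalkMap (j.base w)).hom.Flat) :
    (c.stalkMap w).hom.Flat := by
  subst h
  rw [Scheme.Hom.stalkMap_comp]
  exact RingHom.Flat.comp hf
    (RingHom.Flat.of_bijective (ConcreteCategory.bijective_of_isIso (j.stalkMap w)))

/-- The closed subscheme defined by the vanishing ideal of a closed subset is reduced. -/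
theorem isReduced_subscheme_vanishingIdeal {X : Scheme.{u}} (C : TopologicalSpace.Closeds X) :
    IsReduced (Scheme.IdealSheafData.vanishingIdeal C).subscheme := by
  set I := Scheme.IdealSheafData.vanishingIdeal C with hI
  have : ∀ U : I.subschemeCover.openCover.I₀, IsReduced (I.subschemeCover.openCover.X U) := by
    intro (U : X.affineOpens)
    change IsReduced (Spec (.of <| Γ(X, U) ⧸ I.ideal U))
    have hrad : (I.ideal U).IsRadical := by
      rw [hI, Scheme.IdealSheafData.vanishingIdeal_ideal]
      exact PrimeSpectrum.isRadical_vanishingIdeal _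
    have : _root_.IsReduced (Γ(X, U) ⧸ I.ideal U) :=
      (Ideal.isRadical_iff_quotient_reduced _).mp hrad
    infer_instance
  exact IsReduced.of_openCover _ I.subschemeCover.openCover

/-- **EGA IV 15.6 (universally open + geometrically reduced at a point, neighbourhood form).** -/
theorem exists_univOpen_nbhd {X Y : Scheme.{u}} [IsLocallyNoetherian Y] (f : X ⟶ Y)
    [LocallyOfFiniteType f] (x : X)
    (hopen : ∀ z : ↥(f.fiber (f.base x)), f.asFiber x ∈ closure {z} →
      (∀ z' : ↥(f.fiber (f.base x)), z ∈ closure {z'} → z' = z) →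
      EGA43.IsUnivOpenAt f ((f.fiberι (f.base x)).base z))
    (hred : FBase.IsGeomReducedAt (f.fiberToSpecResidueField (f.base x)) (f.asFiber x)) :
    ∃ U : X.Opens, x ∈ U ∧ UniversallyOpen (U.ι ≫ f) ∧ ∀ x' : X, x' ∈ U → x' ∈ locus f := by
  classical
  haveI : LocallyOfFinitePresentation f := inferInstance
  -- the reduction of `Y`
  set I := Scheme.IdealSheafData.vanishingIdeal (⊤ : TopologicalSpace.Closeds Y) with hI
  set i : I.subscheme ⟶ Y := I.subschemeι with hi
  have hrange : Set.range i.base = Set.univ := by
    rw [hi, Scheme.IdealSheafData.range_subschemeι, Scheme.IdealSheafData.coe_support_vanishingIdeal]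
    rfl
  haveI : Surjective i := ⟨Set.range_eq_univ.mp hrange⟩
  haveI : IsReduced I.subscheme := isReduced_subscheme_vanishingIdeal _
  haveI : IsLocallyNoetherian I.subscheme := LocallyOfFiniteType.isLocallyNoetherian i
  set p : pullback f i ⟶ X := pullback.fst f i with hp
  set f₀ : pullback f i ⟶ I.subscheme := pullback.snd f i with hf₀
  have H : IsPullback p f₀ f i := IsPullback.of_hasPullback f i
  haveI : LocallyOfFinitePresentation f₀ := by rw [hf₀]; infer_instance
  obtain ⟨x₀, hx₀⟩ : ∃ x₀, p.base x₀ = x := p.surjective x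
  have hpt : ∀ w, i.base (f₀.base w) = f.base (p.base w) := by
    intro w
    have := congrArg (fun φ => φ.base w) H.w
    simp only [Scheme.Hom.comp_base, TopCat.hom_comp, ContinuousMap.comp_apply] at this
    exact this.symm
  -- the fibre is geometrically reduced at `x₀`
  have hGR₀ : x₀ ∈ locus f₀ := by
    rw [locus_of_isPullback H]
    change p.base x₀ ∈ locus f
    rw [hx₀]
    exact hred
  -- `f₀` is flat at `x₀`
  have hflat₀ : (f₀.stalkMap x₀).hom.Flat := by
    haveI : IsNoetherianRing (I.subscheme.presheaf.stalk (f₀.base x₀)) := inferInstance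
    haveI : _root_.IsReduced (I.subscheme.presheaf.stalk (f₀.base x₀)) := inferInstance
    refine (Groth.Agent.S2562.result f₀ x₀).mpr ?_
    intro A' _ _ _ φ _
    set s₀ : Spec (CommRingCat.of A') ⟶ I.subscheme :=
      Spec.map (CommRingCat.ofHom φ) ≫ I.subscheme.fromSpecStalk (f₀.base x₀) with hs₀
    intro x' hfst hsnd
    let e : pullback f₀ s₀ ≅ pullback f (s₀ ≫ i) := pullbackLeftPullbackSndIso f i s₀
    have he2 : e.hom ≫ pullback.snd f (s₀ ≫ i) = pullback.snd f₀ s₀ :=
      pullbackLeftPullbackSndIso_hom_snd f i s₀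
    have he1 : e.hom ≫ pullback.fst f (s₀ ≫ i) = pullback.fst f₀ s₀ ≫ p :=
      pullbackLeftPullbackSndIso_hom_fst f i s₀
    have hcl : (s₀ ≫ i).base (closedPoint A') = f.base x := by
      have h1 : (Spec.map (CommRingCat.ofHom φ)).base (closedPoint A') =
          closedPoint (I.subscheme.presheaf.stalk (f₀.base x₀)) :=
        IsLocalRing.comap_closedPoint φ
      have h2 : s₀.base (closedPoint A') = f₀.base x₀ := by
        change (I.subscheme.fromSpecStalk (f₀.base x₀)).base
          ((Spec.map (CommRingCat.ofHom φ)).base (closedPoint A')) = f₀.base x₀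
        rw [h1]
        exact Scheme.fromSpecStalk_closedPoint
      change i.base (s₀.base (closedPoint A')) = f.base x
      rw [h2, hpt, hx₀]
    have hfst' : (pullback.fst f (s₀ ≫ i)).base (e.hom.base x') = x := by
      have := congrArg (fun φ => φ.base x') he1
      simp only [Scheme.Hom.comp_base, TopCat.hom_comp, ContinuousMap.comp_apply] at this
      rw [this, hfst, hx₀]
    have hsnd' : (pullback.snd f (s₀ ≫ i)).base (e.hom.base x') = closedPoint A' := by
      have := congrArg (fun φ => φ.base x') he2
      simp only [Scheme.Hom.comp_base, TopCat.hom_comp, ContinuousMap.comp_apply] at this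
      rw [this, hsnd]
    have key := flat_stalkMap_snd_of_dvr f x hopen hred A' (s₀ ≫ i) hcl (e.hom.base x') hfst' hsnd'
    exact flat_stalkMap_of_comp_eq e.hom (pullback.snd f (s₀ ≫ i)) (pullback.snd f₀ s₀) he2 x' key
  -- the good locus upstairs
  have hW₀ : IsOpen {w : ↥(pullback f i) | (f₀.stalkMap w).hom.Flat ∧ w ∈ locus f₀} :=
    Groth.Agent.Lib.Helper12.GeomRedFlatLocus.isOpen_flat_inter_locus f₀
  have hpo : IsOpenMap p.base := isOpenMap_of_isClosedImmersion_of_surjective p
  have hpinj : Function.Injective p.base := p.isClosedEmbedding.injective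
  let U : X.Opens := ⟨p.base '' {w : ↥(pullback f i) | (f₀.stalkMap w).hom.Flat ∧ w ∈ locus f₀},
    hpo _ hW₀⟩
  refine ⟨U, ⟨x₀, ⟨hflat₀, hGR₀⟩, hx₀⟩, ?_, ?_⟩
  · apply universallyOpen_of_pullback_snd (U.ι ≫ f) i
    obtain ⟨ψ, sq, hψ⟩ := Groth.Agent.Lib.Helper54.exists_baseChange_map U.ι f i
    haveI : IsOpenImmersion ψ := MorphismProperty.of_isPullback sq inferInstance
    haveI : Flat (ψ ≫ f₀) := by
      refine flat_comp_of_forall ψ f₀ (fun t => ?_)
      have h1 : p.base (ψ.base t) = U.ι.base ((pullback.fst (U.ι ≫ f) i).base t) := by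
        have := congrArg (fun φ => φ.base t) sq.w
        simp only [Scheme.Hom.comp_base, TopCat.hom_comp, ContinuousMap.comp_apply] at this
        exact this.symm
      obtain ⟨w, hw, hw'⟩ := ((pullback.fst (U.ι ≫ f) i).base t).2
      have : w = ψ.base t := hpinj (hw'.trans h1.symm)
      rw [← this]
      exact hw.1
    rw [← hψ]
    infer_instance
  · rintro x' ⟨w, ⟨-, hw⟩, rfl⟩
    rw [locus_of_isPullback H] at hw
    exact hw

end Groth.Agent.Lib.Helper12.UnivOpenGR
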