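import Mathlib
import Groth.Agent.Lib.Helper12.UnivOpenGR
import Groth.Agent.Lib.Helper55.EquidimCriterion
import Groth.Agent.Lib.Helper55.ValuationEquidim
import Groth.Agent.Lib.Helper55.FiberBaseChange
import Groth.Agent.Lib.Helper55.UnivOpenEquidimComponent
import Groth.Agent.Lib.Helper55.NoethStalkReduce
import Groth.Agent.Lib.Helper55.Equidim
import Groth.Agent.Lib.Helper78.DVRScheme
import Groth.Agent.S10837

/-!
# EGA IV 15.2.3: universally open at the generic points of the fibre + geometrically reduced +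
fibre equidimensional at `x` ⇒ equidimensional at `x`  (helper12)

* `maximalIdeal_mem_minimalPrimes_span`: key ring lemma (`O` Noetherian local, `π` regular, `O/π`
  reduced, `𝔭` minimal prime, `m` minimal over `𝔭 + πO` ⇒ `m` minimal over `πO`).
* `eq_of_specializes_of_maximal_inter`: geometric form over a discrete valuation ring.
* `flat_and_isReduced_of_dvr`: DVR test at generizations.
* `le_fibreDimAt_of_specializes`: the local fibre dimension at generizations of `x` is `≥ e`.
* `isEquidimAt_of_univOpen_geomReduced`: the theorem.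
-/

set_option autoImplicit false
set_option linter.style.haveILetI false
universe u
open IsLocalRing AlgebraicGeometry CategoryTheory Limits

namespace Groth.Agent.Lib.Helper12.EquidimKey

/-- **Key lemma.** `O` Noetherian local, `π` a regular element of the maximal ideal with `O/πO`
reduced, `𝔭` a minimal prime of `O`.  If the maximal ideal is minimal over `𝔭 + πO`, it is minimal
over `πO`. -/
theorem maximalIdeal_mem_minimalPrimes_span {O : Type u} [CommRing O] [IsLocalRing O]
    [IsNoetherianRing O] (π : O) (hπm : π ∈ maximalIdeal O) (hπ : π ∈ nonZeroDivisors O)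
    (hred : (Ideal.span {π}).IsRadical) (𝔭 : Ideal O) (h𝔭 : 𝔭 ∈ minimalPrimes O)
    (hm : maximalIdeal O ∈ (𝔭 ⊔ Ideal.span {π}).minimalPrimes) :
    maximalIdeal O ∈ (Ideal.span {π}).minimalPrimes := by
  by_contra hnot
  -- an element killed by `𝔭`
  have hass : 𝔭 ∈ associatedPrimes O O := by
    have h := Module.associatedPrimes.minimalPrimes_annihilator_subset_associatedPrimes O O
    rw [Module.annihilator_eq_bot.mpr inferInstance] at h
    exact h h𝔭
  obtain ⟨h𝔭prime, s, hs⟩ := (isAssociatedPrime_iff).mp hass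
  have hs0 : s ≠ 0 := by
    rintro rfl
    apply h𝔭prime.ne_top
    rw [hs, Ideal.eq_top_iff_one, Submodule.mem_colon_singleton]
    simp
  have hs𝔭 : ∀ p ∈ 𝔭, p * s = 0 := by
    intro p hp
    rw [hs, Submodule.mem_colon_singleton] at hp
    simpa using hp
  -- the annihilator of `𝔭`
  let J : Ideal O := Module.annihilator O 𝔭
  have hJmem : ∀ j, j ∈ J ↔ ∀ p ∈ 𝔭, j * p = 0 := by
    intro j
    rw [Module.mem_annihilator]
    constructor
    · intro h p hp
      have := h ⟨p, hp⟩
      simpa [Subtype.ext_iff] using this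
    · intro h p
      apply Subtype.ext
      simpa using h p.1 p.2
  have hsJ : s ∈ J := (hJmem s).mpr fun p hp => by rw [mul_comm]; exact hs𝔭 p hp
  -- radical of `𝔭 + πO` is the maximal ideal
  have hrad : maximalIdeal O ≤ (𝔭 ⊔ Ideal.span {π}).radical := by
    rw [← Ideal.sInf_minimalPrimes]
    refine le_sInf fun 𝔮 h𝔮 => ?_
    have h1 : 𝔮 ≤ maximalIdeal O := le_maximalIdeal h𝔮.1.1.ne_top
    exact hm.2 h𝔮.1 h1
  obtain ⟨N, hN⟩ := Ideal.exists_pow_le_of_le_radical_of_fg hrad
    (IsNoetherian.noetherian (maximalIdeal O))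
  -- Claim A
  have claimA : ∀ a : O, (∀ b ∈ maximalIdeal O ^ N, a * b ∈ Ideal.span {π}) →
      a ∈ Ideal.span {π} := by
    intro a ha
    by_contra hna
    have h1 : ∃ 𝔮 ∈ (Ideal.span {π}).minimalPrimes, a ∉ 𝔮 := by
      by_contra hall
      push Not at hall
      apply hna
      rw [← hred.radical, ← Ideal.sInf_minimalPrimes]
      exact (Submodule.mem_sInf).mpr hall
    obtain ⟨𝔮, h𝔮, ha𝔮⟩ := h1
    haveI := h𝔮.1.1
    have h2 : maximalIdeal O ^ N ≤ 𝔮 := by
      intro b hb
      have := h𝔮.1.2 (ha b hb)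
      exact (h𝔮.1.1.mem_or_mem this).resolve_left ha𝔮
    have h3 : maximalIdeal O ≤ 𝔮 := h𝔮.1.1.le_of_pow_le h2
    have h4 : 𝔮 = maximalIdeal O := le_antisymm (le_maximalIdeal h𝔮.1.1.ne_top) h3
    exact hnot (h4 ▸ h𝔮)
  -- Claim B
  have claimB : J ≤ Ideal.span {π} := by
    intro j hj
    apply claimA
    intro b hb
    have hb' := hN hb
    obtain ⟨p, hp, q, hq, rfl⟩ := Submodule.mem_sup.mp hb'
    obtain ⟨c, rfl⟩ := Ideal.mem_span_singleton'.mp hq
    rw [mul_add, (hJmem j).mp hj p hp, zero_add]
    exact Ideal.mem_span_singleton'.mpr ⟨j * c, by ring⟩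
  -- Claim C
  have claimC : J ≤ Ideal.span {π} • J := by
    intro j hj
    obtain ⟨b, rfl⟩ := Ideal.mem_span_singleton'.mp (claimB hj)
    have hbJ : b ∈ J := by
      rw [hJmem]
      intro p hp
      have h1 := (hJmem _).mp hj p hp
      have h2 : (b * p) * π = 0 := by rw [← h1]; ring
      exact hπ.2 _ h2
    rw [mul_comm]
    exact Submodule.smul_mem_smul (Ideal.mem_span_singleton_self π) hbJ
  have hjac : Ideal.span {π} ≤ Ideal.jacobson (⊥ : Ideal O) := by
    rw [IsLocalRing.jacobson_eq_maximalIdeal ⊥ bot_ne_top, Ideal.span_le,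
      Set.singleton_subset_iff]
    exact hπm
  have hJbot : J = ⊥ := Submodule.eq_bot_of_le_smul_of_le_jacobson_bot (Ideal.span {π}) J
    (IsNoetherian.noetherian J) claimC hjac
  rw [hJbot] at hsJ
  exact hs0 ((Submodule.mem_bot O).mp hsJ)


open Groth.Agent.Lib.Helper12.DVRFlatSch

variable {A' : Type u} [CommRing A'] {X' : Scheme.{u}} (p' : X' ⟶ Spec (CommRingCat.of A'))

/-- **Geometric key lemma.**  `p' : X' → Spec A'` locally of finite type over a discrete valuation
ring, flat at the point `c` of the closed fibre, with closed fibre reduced at `c`.  If `c` is a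
maximal point of `closure {ζ} ∩ (closed fibre)` for a maximal point `ζ` of `X'`, then `c` is a
maximal point of the closed fibre. -/
theorem eq_of_specializes_of_maximal_inter [IsDomain A'] [IsDiscreteValuationRing A']
    [LocallyOfFiniteType p'] (c : X') (hc : p'.base c = closedPoint A')
    (hflat : (p'.stalkMap c).hom.Flat)
    (hred : IsReduced ((p'.fiber (p'.base c)).presheaf.stalk (p'.asFiber c)))
    (ζ : X') (hζmax : ∀ w : X', w ⤳ ζ → w = ζ) (hζc : ζ ⤳ c)
    (hcmax : ∀ q : X', q ⤳ c → ζ ⤳ q → p'.base q = closedPoint A' → q = c)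
    (q : X') (hqc : q ⤳ c) (hq : p'.base q = closedPoint A') : q = c := by
  obtain ⟨ϖ, hϖ⟩ := IsDiscreteValuationRing.exists_irreducible A'
  have hmaxϖ : maximalIdeal A' = Ideal.span {ϖ} := hϖ.maximalIdeal_eq
  haveI : IsLocallyNoetherian X' := LocallyOfFiniteType.isLocallyNoetherian p'
  haveI : IsNoetherianRing (X'.presheaf.stalk c) := inferInstance
  set π := toStalk p' c ϖ with hπdef
  have hrange : ∀ Q : PrimeSpectrum (X'.presheaf.stalk c), (X'.fromSpecStalk c) Q ⤳ c := by
    intro Q
    have : (X'.fromSpecStalk c) Q ∈ Set.range (X'.fromSpecStalk c) := ⟨Q, rfl⟩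
    rwa [Scheme.range_fromSpecStalk] at this
  have hinj : Function.Injective (X'.fromSpecStalk c).base :=
    (X'.fromSpecStalk c).isEmbedding.injective
  have hπm : π ∈ maximalIdeal (X'.presheaf.stalk c) := by
    rw [mem_maximalIdeal, mem_nonunits_iff, hπdef, isUnit_toStalk_iff, not_not, hc]
    exact (eq_closedPoint_of_mem ϖ hmaxϖ _).mpr rfl
  have hπ : π ∈ nonZeroDivisors (X'.presheaf.stalk c) := by
    haveI := isIso_toStalkBase (p'.base c) hc
    have hb : (toStalkBase (p'.base c)).hom.Flat :=
      RingHom.Flat.of_bijective (ConcreteCategory.bijective_of_isIso (toStalkBase (p'.base c)))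
    have hfl : (toStalk p' c).Flat := by
      rw [toStalk_eq']
      exact RingHom.Flat.comp hb hflat
    letI := (toStalk p' c).toAlgebra
    haveI : Module.Flat A' (X'.presheaf.stalk c) := hfl
    have hreg : IsSMulRegular (X'.presheaf.stalk c) ϖ :=
      Module.Flat.isSMulRegular_of_nonZeroDivisors (mem_nonZeroDivisors_of_ne_zero hϖ.ne_zero)
    rw [mem_nonZeroDivisors_iff_right]
    intro b hb
    apply hreg
    change ϖ • b = ϖ • (0 : X'.presheaf.stalk c)
    rw [smul_zero, Algebra.smul_def]
    rw [mul_comm] at hb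
    exact hb
  have hred' : (Ideal.span {π}).IsRadical := by
    rw [Ideal.isRadical_iff_quotient_reduced]
    obtain ⟨e⟩ := Groth.Agent.Lib.Helper24.nonempty_fibre_stalk_ringEquiv_quotient p' c
    rw [map_maximalIdeal_eq_span p' c hc ϖ hmaxϖ] at e
    exact isReduced_of_injective e.symm.toRingHom e.symm.injective
  -- the prime of `ζ`
  obtain ⟨P, hP⟩ : ∃ P : PrimeSpectrum (X'.presheaf.stalk c), (X'.fromSpecStalk c) P = ζ := by
    have : ζ ∈ Set.range (X'.fromSpecStalk c) := by
      rw [Scheme.range_fromSpecStalk]; exact hζc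
    exact this
  have hPmin : P.asIdeal ∈ minimalPrimes (X'.presheaf.stalk c) := by
    refine ⟨⟨P.2, bot_le⟩, ?_⟩
    rintro Q ⟨hQp, -⟩ hQP
    let Q' : PrimeSpectrum (X'.presheaf.stalk c) := ⟨Q, hQp⟩
    have h1 : Q' ⤳ P := (PrimeSpectrum.le_iff_specializes Q' P).mp hQP
    have h2 := h1.map (X'.fromSpecStalk c).continuous
    rw [hP] at h2
    have h3 : Q' = P := hinj ((hζmax _ h2).trans hP.symm)
    exact h3 ▸ le_refl _
  have hcl : (X'.fromSpecStalk c) (closedPoint (X'.presheaf.stalk c)) = c :=
    Scheme.fromSpecStalk_closedPoint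
  have hm : maximalIdeal (X'.presheaf.stalk c) ∈ (P.asIdeal ⊔ Ideal.span {π}).minimalPrimes := by
    refine ⟨⟨inferInstance, sup_le (le_maximalIdeal P.2.ne_top) ?_⟩, ?_⟩
    · rw [Ideal.span_le, Set.singleton_subset_iff]; exact hπm
    · rintro Q ⟨hQp, hQ⟩ -
      let Q' : PrimeSpectrum (X'.presheaf.stalk c) := ⟨Q, hQp⟩
      have h1 : P ⤳ Q' := (PrimeSpectrum.le_iff_specializes P Q').mp (le_sup_left.trans hQ)
      have h2 := h1.map (X'.fromSpecStalk c).continuous
      rw [hP] at h2
      have hπQ : π ∈ Q'.asIdeal := hQ (Ideal.mem_sup_right (Ideal.mem_span_singleton_self π))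
      have h3 : p'.base ((X'.fromSpecStalk c) Q') = closedPoint A' :=
        (eq_closedPoint_of_mem ϖ hmaxϖ _).mp ((mem_asIdeal_iff_of_fromSpecStalk p' c Q' ϖ).mp hπQ)
      have h4 := hcmax _ (hrange Q') h2 h3
      have h5 : Q' = closedPoint (X'.presheaf.stalk c) := hinj (h4.trans hcl.symm)
      have h6 : Q = maximalIdeal (X'.presheaf.stalk c) := congrArg PrimeSpectrum.asIdeal h5
      exact h6 ▸ le_refl _
  have key := maximalIdeal_mem_minimalPrimes_span π hπm hπ hred' P.asIdeal hPmin hm
  -- conclusion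
  obtain ⟨Q', hQ'⟩ : ∃ Q' : PrimeSpectrum (X'.presheaf.stalk c), (X'.fromSpecStalk c) Q' = q := by
    have : q ∈ Set.range (X'.fromSpecStalk c) := by
      rw [Scheme.range_fromSpecStalk]; exact hqc
    exact this
  have hπQ : π ∈ Q'.asIdeal := by
    rw [hπdef, mem_asIdeal_iff_of_fromSpecStalk, hQ', hq]
    exact (eq_closedPoint_of_mem ϖ hmaxϖ _).mpr rfl
  have h1 : maximalIdeal (X'.presheaf.stalk c) ≤ Q'.asIdeal :=
    key.2 ⟨Q'.2, by rw [Ideal.span_le, Set.singleton_subset_iff]; exact hπQ⟩
      (le_maximalIdeal Q'.2.ne_top)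
  have h2 : Q' = closedPoint (X'.presheaf.stalk c) :=
    PrimeSpectrum.ext (le_antisymm (le_maximalIdeal Q'.2.ne_top) h1)
  rw [← hQ', h2, hcl]


open Groth.Agent.Lib.Helper12.GeomRedLocus

/-- **Discrete valuation ring test at generizations**: flatness and reducedness of the closed fibre
of the base change to a trait at the points lying over generizations of `x`. -/
theorem flat_and_isReduced_of_dvr {X Y : Scheme.{u}} [IsLocallyNoetherian Y] (f : X ⟶ Y)
    [LocallyOfFiniteType f] (x : X)
    (hopen : ∀ z : ↥(f.fiber (f.base x)), f.asFiber x ∈ closure {z} →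
      (∀ z' : ↥(f.fiber (f.base x)), z ∈ closure {z'} → z' = z) →
      EGA43.IsUnivOpenAt f ((f.fiberι (f.base x)).base z))
    (hred : FBase.IsGeomReducedAt (f.fiberToSpecResidueField (f.base x)) (f.asFiber x))
    (A' : Type u) [CommRing A'] [IsDomain A'] [IsDiscreteValuationRing A']
    (s : Spec (CommRingCat.of A') ⟶ Y) (hcl : s.base (closedPoint A') = f.base x)
    (c : ↥(pullback f s)) (hfst : (pullback.fst f s).base c ⤳ x)
    (hsnd : (pullback.snd f s).base c = closedPoint A') :
    ((pullback.snd f s).stalkMap c).hom.Flat ∧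
      IsReduced (((pullback.snd f s).fiber ((pullback.snd f s).base c)).presheaf.stalk
        ((pullback.snd f s).asFiber c)) := by
  classical
  have H : IsPullback (pullback.fst f s) (pullback.snd f s) f s := IsPullback.of_hasPullback _ _
  obtain ⟨U, hxU, -, hU⟩ := Groth.Agent.Lib.Helper12.UnivOpenGR.exists_univOpen_nbhd f x hopen hred
  have hzU : (pullback.fst f s).base c ∈ U := hfst.mem_open U.2 hxU
  have hw : f.base ((pullback.fst f s).base c) = s.base ((pullback.snd f s).base c) := by
    have := congrArg (fun φ => φ.base c) H.w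
    simp only [Scheme.Hom.comp_base, TopCat.hom_comp, ContinuousMap.comp_apply] at this
    exact this
  have hredc : IsReduced (((pullback.snd f s).fiber ((pullback.snd f s).base c)).presheaf.stalk
      ((pullback.snd f s).asFiber c)) :=
    Groth.Agent.Lib.Helper12.FibrePullbackPts.isReduced_fibre_stalk_of_geomReducedAt H c
      (f.base ((pullback.fst f s).base c)) hw.symm (f.asFiber ((pullback.fst f s).base c))
      (f.fiberι_asFiber _) (hU _ hzU)
  refine ⟨?_, hredc⟩
  refine Groth.Agent.Lib.Helper12.DVRFlatSch.flat_stalkMap_of_isOpenAt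
    (pullback.snd f s) c hsnd hredc ?_
  intro z' hz'c hz'cl hmax
  obtain ⟨ζ, hζ, hζmax⟩ := Groth.Agent.Lib.Helper12.FibrePullbackPts.exists_fibre_point H z'
    (f.base x) (by rw [hz'cl]; exact hcl)
  have hmax' : ∀ ζ₁ : ↥(f.fiber (f.base x)), ζ₁ ⤳ ζ → ζ₁ = ζ := by
    apply hζmax
    intro z'' hz'' hsnd''
    exact hmax z'' hz'' (hsnd''.trans hz'cl)
  have h1 : f.asFiber x ∈ closure {ζ} := by
    rw [← specializes_iff_mem_closure,
      ← (f.fiberι (f.base x)).isEmbedding.toIsInducing.specializes_iff, hζ]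
    have := hz'c.map (pullback.fst f s).base.hom.continuous
    rw [show (f.fiberι (f.base x)).base (f.asFiber x) = x from f.fiberι_asFiber x]
    exact this.trans hfst
  have h2 : ∀ z₁ : ↥(f.fiber (f.base x)), ζ ∈ closure {z₁} → z₁ = ζ := by
    intro z₁ hz₁
    exact hmax' z₁ (specializes_iff_mem_closure.mpr hz₁)
  have h3 := hopen ζ h1 h2
  exact h3 _ _ z' hζ.symm

/-- every point is a specialization of a maximal point (quasi-sober spaces) -/
theorem exists_maximal_generization {T : Type*} [TopologicalSpace T] [QuasiSober T] [T0Space T]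
    (w : T) : ∃ ζ : T, ζ ⤳ w ∧ ∀ v : T, v ⤳ ζ → v = ζ := by
  obtain ⟨Z, hZ, hwZ⟩ := exists_mem_irreducibleComponents_subset_of_isIrreducible
    ({w} : Set T) isIrreducible_singleton
  have hZcl : IsClosed Z := isClosed_of_mem_irreducibleComponents Z hZ
  obtain ⟨ζ, hζ⟩ := QuasiSober.sober hZ.1 hZcl
  refine ⟨ζ, ?_, ?_⟩
  · rw [specializes_iff_mem_closure, hζ.def]
    exact hwZ rfl
  · intro v hv
    have h1 : Z ⊆ closure {v} := by
      rw [← hζ.def]
      exact closure_minimal (Set.singleton_subset_iff.mpr (specializes_iff_mem_closure.mp hv))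
        isClosed_closure
    have h2 : closure ({v} : Set T) ⊆ Z := hZ.2 isIrreducible_singleton.closure h1
    have h3 : IsGenericPoint v Z := subset_antisymm h2 h1
    exact h3.eq hζ

open Groth.Agent.Lib.Helper55

/-- **Main claim.**  The local fibre dimension at every generization of `x` is at least the common
dimension `e` of the components of the fibre through `x`. -/
theorem le_fibreDimAt_of_specializes {X Y : Scheme.{u}} [IsLocallyNoetherian Y] (f : X ⟶ Y)
    [LocallyOfFiniteType f] (x : X)
    (hopen : ∀ z : ↥(f.fiber (f.base x)), f.asFiber x ∈ closure {z} →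
      (∀ z' : ↥(f.fiber (f.base x)), z ∈ closure {z'} → z' = z) →
      EGA43.IsUnivOpenAt f ((f.fiberι (f.base x)).base z))
    (hred : FBase.IsGeomReducedAt (f.fiberToSpecResidueField (f.base x)) (f.asFiber x))
    (e : WithBot ℕ∞)
    (HX : ∀ z : X, f.base z = f.base x → z ⤳ x →
      (∀ w : X, f.base w = f.base x → w ⤳ z → w = z) → FlatMor.fibreDimAt f z = e)
    (ξ : X) (hξx : ξ ⤳ x) : e ≤ FlatMor.fibreDimAt f ξ := by
  classical
  by_cases hne : x = ξ
  · subst hne
    obtain ⟨z, hz1, hz2, hz3, n, -, hn2, hn3, -⟩ := exists_maximal_point_fiber f x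
    rw [hn2, ← hn3, HX z hz1 hz2 hz3]
  haveI : IsLocallyNoetherian X := LocallyOfFiniteType.isLocallyNoetherian f
  obtain ⟨A, t, hA, htcl, htgen⟩ :=
    Groth.Agent.Lib.Helper78.exists_dvr_specialization (𝟙 X) ξ x hξx hne
  haveI := hA
  set s : Spec (CommRingCat.of A) ⟶ Y := t ≫ f with hs
  have H : IsPullback (pullback.fst f s) (pullback.snd f s) f s := IsPullback.of_hasPullback _ _
  let σ : Spec (CommRingCat.of A) ⟶ pullback f s :=
    pullback.lift t (𝟙 _) (by rw [Category.id_comp])
  have hσ1 : σ ≫ pullback.fst f s = t := pullback.lift_fst _ _ _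
  have hσ2 : σ ≫ pullback.snd f s = 𝟙 _ := pullback.lift_snd _ _ _
  have hσ1' : ∀ p : Spec (CommRingCat.of A), (pullback.fst f s).base (σ.base p) = t.base p := by
    intro p
    have := congrArg (fun φ => φ.base p) hσ1
    simpa only [Scheme.Hom.comp_base, TopCat.hom_comp, ContinuousMap.comp_apply] using this
  have hσ2' : ∀ p : Spec (CommRingCat.of A), (pullback.snd f s).base (σ.base p) = p := by
    intro p
    have := congrArg (fun φ => φ.base p) hσ2
    simp only [Scheme.Hom.comp_base, TopCat.hom_comp, ContinuousMap.comp_apply] at this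
    exact this
  -- the generic point of the trait
  set pt : Spec (X.residueField ξ) := closedPoint (X.residueField ξ) with hpt
  set gen : Spec (CommRingCat.of A) := (Spec.map (CommRingCat.ofHom A.subtype)).base pt with hgen
  have htgen' : t.base gen = ξ := by
    have := congrArg (fun φ => φ.base pt) htgen
    simp only [Scheme.Hom.comp_base, TopCat.hom_comp, ContinuousMap.comp_apply] at this
    refine this.trans ?_
    exact Scheme.fromSpecResidueField_apply ξ pt
  have hgencl : gen ⤳ closedPoint A := specializes_closedPoint (R := A) gen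
  have hgendense : closure ({gen} : Set (Spec (CommRingCat.of A))) = Set.univ := by
    have h1 : gen.asIdeal = ⊥ := by
      change Ideal.comap A.subtype (maximalIdeal (X.residueField ξ)) = ⊥
      rw [IsLocalRing.maximalIdeal_eq_bot]
      exact (RingHom.injective_iff_ker_eq_bot A.subtype).mp Subtype.val_injective
    have h2 := PrimeSpectrum.closure_singleton (R := A) gen
    rw [h1, PrimeSpectrum.zeroLocus_bot] at h2
    exact h2
  set x' := σ.base (closedPoint A) with hx'
  set ξ' := σ.base gen with hξ'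
  have hξ'x' : ξ' ⤳ x' := hgencl.map σ.base.hom.continuous
  have hfstx' : (pullback.fst f s).base x' = x := by rw [hx', hσ1', htcl]
  have hfstξ' : (pullback.fst f s).base ξ' = ξ := by rw [hξ', hσ1', htgen']
  have hsndx' : (pullback.snd f s).base x' = closedPoint A := hσ2' _
  have hsndξ' : (pullback.snd f s).base ξ' = gen := hσ2' _
  have hscl : s.base (closedPoint A) = f.base x := by
    rw [hs]
    simp only [Scheme.Hom.comp_base, TopCat.hom_comp, ContinuousMap.comp_apply]
    rw [htcl]
  -- the component through ξ'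
  obtain ⟨ζ, hζξ', hζmax⟩ := exists_maximal_generization ξ'
  obtain ⟨hirr, hrange, -⟩ := closure_subscheme_setup ζ
  set I := Scheme.IdealSheafData.vanishingIdeal
    (⟨closure {ζ}, isClosed_closure⟩ : TopologicalSpace.Closeds ↥(pullback f s)) with hI
  set ι := I.subschemeι with hι
  set g := pullback.snd f s with hg
  have hmemrange : ∀ w, ζ ⤳ w → ∃ w'' , ι.base w'' = w := by
    intro w hw
    have : w ∈ Set.range ι.base := by
      rw [hrange]; exact hw.mem_closure
    exact this
  obtain ⟨ξ'', hξ''⟩ := hmemrange ξ' hζξ'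
  obtain ⟨x'', hx''⟩ := hmemrange x' (hζξ'.trans hξ'x')
  haveI : LocallyOfFiniteType g := by rw [hg]; infer_instance
  haveI : IsDominant (ι ≫ g) := by
    refine ⟨?_⟩
    rw [DenseRange, dense_iff_closure_eq, ← Set.univ_subset_iff, ← hgendense]
    apply closure_mono
    rw [Set.singleton_subset_iff]
    refine ⟨ξ'', ?_⟩
    simp only [Scheme.Hom.comp_base, TopCat.hom_comp, ContinuousMap.comp_apply]
    rw [hξ'', hsndξ']
  -- constancy of the fibre dimension on the component
  have hconst : ∀ p, FlatMor.fibreDimAt (ι ≫ g) p = FlatMor.fibreDimAt (ι ≫ g) ξ'' := by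
    intro p
    rw [fibreDimAt_eq_dim_generic_fiber_of_valuationRing (ι ≫ g) p,
      fibreDimAt_eq_dim_generic_fiber_of_valuationRing (ι ≫ g) ξ'']
  -- a maximal point of the closed fibre of the component
  obtain ⟨c'', hc1, hc2, hc3, n, hn1, hn2, hn3, -⟩ := exists_maximal_point_fiber (ι ≫ g) x''
  set c := ι.base c'' with hcdef
  have hgc : g.base c = closedPoint A := by
    have : (ι ≫ g).base c'' = (ι ≫ g).base x'' := hc1
    simp only [Scheme.Hom.comp_base, TopCat.hom_comp, ContinuousMap.comp_apply] at this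
    rw [hcdef, this, hx'', hsndx']
  have hcx' : c ⤳ x' := by
    have := hc2.map ι.base.hom.continuous
    rwa [hx''] at this
  have hζc : ζ ⤳ c := by
    have : c ∈ Set.range ι.base := ⟨c'', rfl⟩
    rw [hrange] at this
    exact specializes_iff_mem_closure.mpr this
  have hfstc : (pullback.fst f s).base c ⤳ x := by
    have := hcx'.map (pullback.fst f s).base.hom.continuous
    rwa [hfstx'] at this
  obtain ⟨hflatc, hredc⟩ := flat_and_isReduced_of_dvr f x hopen hred A s hscl c hfstc hgc
  have hcmax : ∀ q, q ⤳ c → ζ ⤳ q → g.base q = closedPoint A → q = c := by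
    intro q hqc hζq hgq
    obtain ⟨q'', rfl⟩ := hmemrange q hζq
    have h1 : q'' ⤳ c'' := ι.isEmbedding.toIsInducing.specializes_iff.mp hqc
    have h2 : (ι ≫ g).base q'' = (ι ≫ g).base x'' := by
      simp only [Scheme.Hom.comp_base, TopCat.hom_comp, ContinuousMap.comp_apply]
      rw [hgq, hx'', hsndx']
    rw [hc3 q'' h2 h1]
  have hkey := eq_of_specializes_of_maximal_inter g c hgc hflatc hredc ζ hζmax hζc hcmax
  -- the fibre dimension of `g` at `c`
  obtain ⟨z₁, hz1, hz2, hz3, n₁, hm1, hm2, hm3, -⟩ := exists_maximal_point_fiber g c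
  have hz₁c : z₁ = c := hkey z₁ hz2 (hz1.trans hgc)
  subst hz₁c
  have htr := trdeg_residueField_preimmersion_comp ι g c''
  have hnn : n = n₁ := by
    have : (n : Cardinal) = (n₁ : Cardinal) := by rw [← hn1, ← hm1, htr]
    exact_mod_cast this
  have e1 : FlatMor.fibreDimAt (ι ≫ g) c'' = FlatMor.fibreDimAt g (ι.base c'') := by
    rw [hn3, hm2, hnn]
  -- base change invariance
  have e2 : FlatMor.fibreDimAt g (ι.base c'') =
      FlatMor.fibreDimAt f ((pullback.fst f s).base (ι.base c'')) :=
    fibreDimAt_eq_of_isPullback f s (pullback.fst f s) g H (ι.base c'')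
  have e3 : FlatMor.fibreDimAt g ξ' = FlatMor.fibreDimAt f ξ := by
    rw [fibreDimAt_eq_of_isPullback f s (pullback.fst f s) g H ξ']
    exact fibreDimAt_congr_point f hfstξ'
  -- the image of `c` is a maximal point of the fibre through `x`
  have hw : f.base ((pullback.fst f s).base (ι.base c'')) = f.base x := by
    have := congrArg (fun φ => φ.base (ι.base c'')) H.w
    simp only [Scheme.Hom.comp_base, TopCat.hom_comp, ContinuousMap.comp_apply] at this
    rw [this, hgc, hscl]
  obtain ⟨ζf, hζf, hζfmax⟩ := Groth.Agent.Lib.Helper12.FibrePullbackPts.exists_fibre_point H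
    (ι.base c'') (f.base x) (by rw [hgc]; exact hscl)
  have hζfmax' := hζfmax (fun z'' hz'' hsnd'' => hkey z'' hz'' (hsnd''.trans hgc))
  have e4 : FlatMor.fibreDimAt f ((pullback.fst f s).base (ι.base c'')) = e := by
    apply HX _ hw hfstc
    intro w hwf hwz
    have hwr : w ∈ Set.range (f.fiberι (f.base x)).base := by
      rw [Scheme.Hom.range_fiberι]; exact hwf
    obtain ⟨wf, rfl⟩ := hwr
    rw [← hζf] at hwz ⊢
    have := (f.fiberι (f.base x)).isEmbedding.toIsInducing.specializes_iff.mp hwz
    rw [hζfmax' wf this]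
  calc e = FlatMor.fibreDimAt (ι ≫ g) c'' := by rw [e1, e2, e4]
    _ = FlatMor.fibreDimAt (ι ≫ g) ξ'' := hconst c''
    _ ≤ FlatMor.fibreDimAt g (ι.base ξ'') := fibreDimAt_preimmersion_comp_le g ι ξ''
    _ = FlatMor.fibreDimAt g ξ' := fibreDimAt_congr_point g hξ''
    _ = FlatMor.fibreDimAt f ξ := e3


/-- **EGA IV 15.2.3.** -/
theorem isEquidimAt_of_univOpen_geomReduced {X Y : Scheme.{u}} [IsLocallyNoetherian Y] (f : X ⟶ Y)
    [LocallyOfFiniteType f] (x : X)
    (hopen : ∀ z : ↥(f.fiber (f.base x)), f.asFiber x ∈ closure {z} →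
      (∀ z' : ↥(f.fiber (f.base x)), z ∈ closure {z'} → z' = z) →
      EGA43.IsUnivOpenAt f ((f.fiberι (f.base x)).base z))
    (hred : FBase.IsGeomReducedAt (f.fiberToSpecResidueField (f.base x)) (f.asFiber x))
    (heq : ∃ e : ℕ, ∀ Z ∈ irreducibleComponents (↥(f.fiber (f.base x)) : Type u), f.asFiber x ∈ Z →
      topologicalKrullDim (↥Z : Type u) = e) :
    EGA43.IsEquidimAt f x := by
  classical
  obtain ⟨e, he⟩ := heq
  let K : Type u := Y.residueField (f.base x)
  let g : f.fiber (f.base x) ⟶ Spec (CommRingCat.of K) := f.fiberToSpecResidueField (f.base x)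
  have hlft : LocallyOfFiniteType g :=
    MorphismProperty.pullback_snd (P := @LocallyOfFiniteType) _ _ ‹_›
  -- the local fibre dimension at the maximal points of the fibre through `x`
  have HX : ∀ z : X, f.base z = f.base x → z ⤳ x →
      (∀ w : X, f.base w = f.base x → w ⤳ z → w = z) →
      FlatMor.fibreDimAt f z = (e : WithBot ℕ∞) := by
    intro z hz hzx hzmax
    have hzr : z ∈ Set.range (f.fiberι (f.base x)).base := by
      rw [Scheme.Hom.range_fiberι]; exact hz
    obtain ⟨zf, rfl⟩ := hzr
    have hzfmax : ∀ w : ↥(f.fiber (f.base x)), w ⤳ zf → zf ⤳ w := by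
      intro w hw
      have h1 := hzmax ((f.fiberι (f.base x)).base w)
        (by
          have : (f.fiberι (f.base x)).base w ∈ Set.range (f.fiberι (f.base x)).base := ⟨w, rfl⟩
          rw [Scheme.Hom.range_fiberι] at this
          exact this)
        (hw.map (f.fiberι (f.base x)).base.hom.continuous)
      have h2 : w = zf := (f.fiberι (f.base x)).isEmbedding.injective h1
      rw [h2]
    have hcomp := closure_mem_irreducibleComponents_of_maximal zf hzfmax
    have hxin : f.asFiber x ∈ closure ({zf} : Set ↥(f.fiber (f.base x))) := by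
      rw [← specializes_iff_mem_closure,
        ← (f.fiberι (f.base x)).isEmbedding.toIsInducing.specializes_iff,
        show (f.fiberι (f.base x)).base (f.asFiber x) = x from f.fiberι_asFiber x]
      exact hzx
    have hdim := he _ hcomp hxin
    rw [← localDim_fiber_eq_fibreDimAt f (f.base x) zf,
      localDim_eq_dim_closure_of_mem_irreducibleComponents g zf hcomp, hdim]
  have hFx : FlatMor.fibreDimAt f x = (e : WithBot ℕ∞) := by
    obtain ⟨z, hz1, hz2, hz3, n, -, hn2, hn3, -⟩ := exists_maximal_point_fiber f x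
    rw [hn2, ← hn3, HX z hz1 hz2 hz3]
  have hmain : ∀ ξ : X, ξ ⤳ x → FlatMor.fibreDimAt f ξ = (e : WithBot ℕ∞) := fun ξ h =>
    le_antisymm ((fibreDimAt_le_of_specializes' f ξ x h).trans_eq hFx)
      (le_fibreDimAt_of_specializes f x hopen hred e HX ξ h)
  obtain ⟨U, hxU, hUopen, -⟩ :=
    Groth.Agent.Lib.Helper12.UnivOpenGR.exists_univOpen_nbhd f x hopen hred
  have hgenU : GeneralizingMap (U.ι ≫ f).base :=
    Groth.Agent.S10837.result (U.ι ≫ f) (U.ι ≫ f).isOpenMap
  apply isEquidimAt_of_components f x e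
  intro Xj hXj hx
  have hcl : IsClosed Xj := isClosed_of_mem_irreducibleComponents Xj hXj
  obtain ⟨ζ, hζ⟩ := QuasiSober.sober hXj.1 hcl
  have hζXj : ζ ∈ Xj := hζ.def ▸ subset_closure rfl
  have hζx : ζ ⤳ x := by
    rw [specializes_iff_mem_closure, hζ.def]
    exact hx
  have hζU : ζ ∈ U := hζx.mem_open U.2 hxU
  have hζmax : ∀ w : X, w ⤳ ζ → ζ ⤳ w :=
    specializes_of_closure_mem_irreducibleComponents ζ (by rw [hζ.def]; exact hXj)
  have himg := closure_image_eq_of_isGenericPoint f Xj ζ hζ
  obtain ⟨m, hm1, hm2⟩ := fibreDimAt_eq_trdeg_of_maximal f ζ hζmax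
  have hme : m = e := by
    have := hm2.symm.trans (hmain ζ hζx)
    exact_mod_cast this
  subst hme
  refine ⟨?_, ?_, ?_⟩
  · rw [himg]
    apply closure_mem_irreducibleComponents_of_maximal (f.base ζ)
    intro v hv
    have hv' : v ⤳ (U.ι ≫ f).base (⟨ζ, hζU⟩ : ↥U) := hv
    obtain ⟨w, hw, hfw⟩ := hgenU hv'
    have h1 : U.ι.base w ⤳ ζ := hw.map U.ι.base.hom.continuous
    have h2 := (hζmax _ h1).map f.base.hom.continuous
    have h3 : f.base (U.ι.base w) = v := by
      simpa only [Scheme.Hom.comp_base, TopCat.hom_comp, ContinuousMap.comp_apply] using hfw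
    rwa [h3] at h2
  · intro η hη
    have hg1 : IsGenericPoint η (closure ({f.base ζ} : Set Y)) := by rw [← himg]; exact hη
    have hg2 : IsGenericPoint (f.base ζ) (closure ({f.base ζ} : Set Y)) := rfl
    have hηeq : f.base ζ = η := hg2.eq hg1
    obtain ⟨m', hm'1, hm'2⟩ := Groth.Agent.S3393.dim_closure_inter_fibre f η ζ hηeq
    rw [hζ.def] at hm'1
    have hme : m' = m := by
      have : ((m' : ℕ) : Cardinal) = ((m : ℕ) : Cardinal) := by rw [← hm'2, ← hm1]
      exact_mod_cast this
    rw [← hme]
    exact hm'1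
  · apply le_antisymm
    · exact (localDim_inter_fibre_le f Xj x hx).trans_eq hFx
    · exact trdeg_le_localDim_inter_fibre f ⟨Xj, hcl⟩ x ζ hx hζXj hζx m hm1

end Groth.Agent.Lib.Helper12.EquidimKey
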