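import Mathlib
import Groth.Agent.Lib.Helper12.EquidimKey

/-!
# Strong form of the main claim of `EquidimKey` (helper12)

`exists_maximal_fibre_point`: under the hypotheses of EGA IV 15.2.2 (universally open at the generic
points of the fibre through `x`, fibre geometrically reduced at `x`), every generization `ξ` of `x`
has a generization `ζ'` which also specializes to a maximal point `z ⤳ x` of the fibre through `x`,
and `dim_z X_y ≤ dim_ξ X_{f ξ}`.
-/

set_option autoImplicit false
set_option linter.style.haveILetI false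
universe u
open IsLocalRing AlgebraicGeometry CategoryTheory Limits

namespace Groth.Agent.Lib.Helper12.EquidimKey

open Groth.Agent.Lib.Helper12.GeomRedLocus Groth.Agent.Lib.Helper55

/-- **Main claim, strong form.**  For every generization `ξ` of `x` there are a maximal point `z`
of the fibre through `x` with `z ⤳ x` and a common generization `ζ'` of `ξ` and `z`, with
`dim_z X_y ≤ dim_ξ X_{f ξ}`. -/
theorem exists_maximal_fibre_point {X Y : Scheme.{u}} [IsLocallyNoetherian Y] (f : X ⟶ Y)
    [LocallyOfFiniteType f] (x : X)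
    (hopen : ∀ z : ↥(f.fiber (f.base x)), f.asFiber x ∈ closure {z} →
      (∀ z' : ↥(f.fiber (f.base x)), z ∈ closure {z'} → z' = z) →
      EGA43.IsUnivOpenAt f ((f.fiberι (f.base x)).base z))
    (hred : FBase.IsGeomReducedAt (f.fiberToSpecResidueField (f.base x)) (f.asFiber x))
    (ξ : X) (hξx : ξ ⤳ x) :
    ∃ z ζ' : X, f.base z = f.base x ∧ z ⤳ x ∧
      (∀ w : X, f.base w = f.base x → w ⤳ z → w = z) ∧ ζ' ⤳ ξ ∧ ζ' ⤳ z ∧
      FlatMor.fibreDimAt f z ≤ FlatMor.fibreDimAt f ξ := by
  classical
  by_cases hne : x = ξ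
  · subst hne
    obtain ⟨z, hz1, hz2, hz3, n, -, hn2, hn3, -⟩ := exists_maximal_point_fiber f x
    exact ⟨z, z, hz1, hz2, hz3, hz2, specializes_rfl, by rw [hn2, hn3]⟩
  haveI : IsLocallyNoetherian X := LocallyOfFiniteType.isLocallyNoetherian f
  obtain ⟨A, t, hA, htcl, htgen⟩ :=
    Groth.Agent.Lib.Helper78.exists_dvr_specialization (𝟙 X) ξ x hξx hne
  haveI := hA
  set s : Spec (CommRingCat.of A) ⟶ Y := t ≫ f with hs
  have H : IsPullback (pullback.fst f s) (pullback.snd f s) f s := IsPullback.of_hasPullback _ _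
  let σ : Spec (CommRingCat.of A) ⟶ pullback f s :=
    pullback.lift t (𝟙 _) (by rw [Category.id_comp])
  have hσ1 : σ ≫ pullback.fst f s = t := pullback.lift_fst _ _ _
  have hσ2 : σ ≫ pullback.snd f s = 𝟙 _ := pullback.lift_snd _ _ _
  have hσ1' : ∀ p : Spec (CommRingCat.of A), (pullback.fst f s).base (σ.base p) = t.base p := by
    intro p
    have := congrArg (fun φ => φ.base p) hσ1
    simpa only [Scheme.Hom.comp_base, TopCat.hom_comp, ContinuousMap.comp_apply] using this
  have hσ2' : ∀ p : Spec (CommRingCat.of A), (pullback.snd f s).base (σ.base p) = p := by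
    intro p
    have := congrArg (fun φ => φ.base p) hσ2
    simp only [Scheme.Hom.comp_base, TopCat.hom_comp, ContinuousMap.comp_apply] at this
    exact this
  -- the generic point of the trait
  set pt : Spec (X.residueField ξ) := closedPoint (X.residueField ξ) with hpt
  set gen : Spec (CommRingCat.of A) := (Spec.map (CommRingCat.ofHom A.subtype)).base pt with hgen
  have htgen' : t.base gen = ξ := by
    have := congrArg (fun φ => φ.base pt) htgen
    simp only [Scheme.Hom.comp_base, TopCat.hom_comp, ContinuousMap.comp_apply] at this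
    refine this.trans ?_
    exact Scheme.fromSpecResidueField_apply ξ pt
  have hgencl : gen ⤳ closedPoint A := specializes_closedPoint (R := A) gen
  have hgendense : closure ({gen} : Set (Spec (CommRingCat.of A))) = Set.univ := by
    have h1 : gen.asIdeal = ⊥ := by
      change Ideal.comap A.subtype (maximalIdeal (X.residueField ξ)) = ⊥
      rw [IsLocalRing.maximalIdeal_eq_bot]
      exact (RingHom.injective_iff_ker_eq_bot A.subtype).mp Subtype.val_injective
    have h2 := PrimeSpectrum.closure_singleton (R := A) gen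
    rw [h1, PrimeSpectrum.zeroLocus_bot] at h2
    exact h2
  set x' := σ.base (closedPoint A) with hx'
  set ξ' := σ.base gen with hξ'
  have hξ'x' : ξ' ⤳ x' := hgencl.map σ.base.hom.continuous
  have hfstx' : (pullback.fst f s).base x' = x := by rw [hx', hσ1', htcl]
  have hfstξ' : (pullback.fst f s).base ξ' = ξ := by rw [hξ', hσ1', htgen']
  have hsndx' : (pullback.snd f s).base x' = closedPoint A := hσ2' _
  have hsndξ' : (pullback.snd f s).base ξ' = gen := hσ2' _
  have hscl : s.base (closedPoint A) = f.base x := by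
    rw [hs]
    simp only [Scheme.Hom.comp_base, TopCat.hom_comp, ContinuousMap.comp_apply]
    rw [htcl]
  -- the component through ξ'
  obtain ⟨ζ, hζξ', hζmax⟩ := exists_maximal_generization ξ'
  obtain ⟨hirr, hrange, -⟩ := closure_subscheme_setup ζ
  set I := Scheme.IdealSheafData.vanishingIdeal
    (⟨closure {ζ}, isClosed_closure⟩ : TopologicalSpace.Closeds ↥(pullback f s)) with hI
  set ι := I.subschemeι with hι
  set g := pullback.snd f s with hg
  have hmemrange : ∀ w, ζ ⤳ w → ∃ w'' , ι.base w'' = w := by
    intro w hw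
    have : w ∈ Set.range ι.base := by
      rw [hrange]; exact hw.mem_closure
    exact this
  obtain ⟨ξ'', hξ''⟩ := hmemrange ξ' hζξ'
  obtain ⟨x'', hx''⟩ := hmemrange x' (hζξ'.trans hξ'x')
  haveI : LocallyOfFiniteType g := by rw [hg]; infer_instance
  haveI : IsDominant (ι ≫ g) := by
    refine ⟨?_⟩
    rw [DenseRange, dense_iff_closure_eq, ← Set.univ_subset_iff, ← hgendense]
    apply closure_mono
    rw [Set.singleton_subset_iff]
    refine ⟨ξ'', ?_⟩
    simp only [Scheme.Hom.comp_base, TopCat.hom_comp, ContinuousMap.comp_apply]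
    rw [hξ'', hsndξ']
  -- constancy of the fibre dimension on the component
  have hconst : ∀ p, FlatMor.fibreDimAt (ι ≫ g) p = FlatMor.fibreDimAt (ι ≫ g) ξ'' := by
    intro p
    rw [fibreDimAt_eq_dim_generic_fiber_of_valuationRing (ι ≫ g) p,
      fibreDimAt_eq_dim_generic_fiber_of_valuationRing (ι ≫ g) ξ'']
  -- a maximal point of the closed fibre of the component
  obtain ⟨c'', hc1, hc2, hc3, n, hn1, hn2, hn3, -⟩ := exists_maximal_point_fiber (ι ≫ g) x''
  set c := ι.base c'' with hcdef
  have hgc : g.base c = closedPoint A := by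
    have : (ι ≫ g).base c'' = (ι ≫ g).base x'' := hc1
    simp only [Scheme.Hom.comp_base, TopCat.hom_comp, ContinuousMap.comp_apply] at this
    rw [hcdef, this, hx'', hsndx']
  have hcx' : c ⤳ x' := by
    have := hc2.map ι.base.hom.continuous
    rwa [hx''] at this
  have hζc : ζ ⤳ c := by
    have : c ∈ Set.range ι.base := ⟨c'', rfl⟩
    rw [hrange] at this
    exact specializes_iff_mem_closure.mpr this
  have hfstc : (pullback.fst f s).base c ⤳ x := by
    have := hcx'.map (pullback.fst f s).base.hom.continuous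
    rwa [hfstx'] at this
  obtain ⟨hflatc, hredc⟩ := flat_and_isReduced_of_dvr f x hopen hred A s hscl c hfstc hgc
  have hcmax : ∀ q, q ⤳ c → ζ ⤳ q → g.base q = closedPoint A → q = c := by
    intro q hqc hζq hgq
    obtain ⟨q'', rfl⟩ := hmemrange q hζq
    have h1 : q'' ⤳ c'' := ι.isEmbedding.toIsInducing.specializes_iff.mp hqc
    have h2 : (ι ≫ g).base q'' = (ι ≫ g).base x'' := by
      simp only [Scheme.Hom.comp_base, TopCat.hom_comp, ContinuousMap.comp_apply]
      rw [hgq, hx'', hsndx']
    rw [hc3 q'' h2 h1]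
  have hkey := eq_of_specializes_of_maximal_inter g c hgc hflatc hredc ζ hζmax hζc hcmax
  -- the fibre dimension of `g` at `c`
  obtain ⟨z₁, hz1, hz2, hz3, n₁, hm1, hm2, hm3, -⟩ := exists_maximal_point_fiber g c
  have hz₁c : z₁ = c := hkey z₁ hz2 (hz1.trans hgc)
  subst hz₁c
  have htr := trdeg_residueField_preimmersion_comp ι g c''
  have hnn : n = n₁ := by
    have : (n : Cardinal) = (n₁ : Cardinal) := by rw [← hn1, ← hm1, htr]
    exact_mod_cast this
  have e1 : FlatMor.fibreDimAt (ι ≫ g) c'' = FlatMor.fibreDimAt g (ι.base c'') := by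
    rw [hn3, hm2, hnn]
  -- base change invariance
  have e2 : FlatMor.fibreDimAt g (ι.base c'') =
      FlatMor.fibreDimAt f ((pullback.fst f s).base (ι.base c'')) :=
    fibreDimAt_eq_of_isPullback f s (pullback.fst f s) g H (ι.base c'')
  have e3 : FlatMor.fibreDimAt g ξ' = FlatMor.fibreDimAt f ξ := by
    rw [fibreDimAt_eq_of_isPullback f s (pullback.fst f s) g H ξ']
    exact fibreDimAt_congr_point f hfstξ'
  -- the image of `c` is a maximal point of the fibre through `x`
  have hw : f.base ((pullback.fst f s).base (ι.base c'')) = f.base x := by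
    have := congrArg (fun φ => φ.base (ι.base c'')) H.w
    simp only [Scheme.Hom.comp_base, TopCat.hom_comp, ContinuousMap.comp_apply] at this
    rw [this, hgc, hscl]
  obtain ⟨ζf, hζf, hζfmax⟩ := Groth.Agent.Lib.Helper12.FibrePullbackPts.exists_fibre_point H
    (ι.base c'') (f.base x) (by rw [hgc]; exact hscl)
  have hζfmax' := hζfmax (fun z'' hz'' hsnd'' => hkey z'' hz'' (hsnd''.trans hgc))
  have e4 : ∀ w : X, f.base w = f.base x → w ⤳ (pullback.fst f s).base (ι.base c'') →
      w = (pullback.fst f s).base (ι.base c'') := by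
    intro w hwf hwz
    have hwr : w ∈ Set.range (f.fiberι (f.base x)).base := by
      rw [Scheme.Hom.range_fiberι]; exact hwf
    obtain ⟨wf, rfl⟩ := hwr
    rw [← hζf] at hwz ⊢
    have := (f.fiberι (f.base x)).isEmbedding.toIsInducing.specializes_iff.mp hwz
    rw [hζfmax' wf this]
  have hζξ : (pullback.fst f s).base ζ ⤳ ξ := by
    have := hζξ'.map (pullback.fst f s).base.hom.continuous
    rwa [hfstξ'] at this
  have hζz : (pullback.fst f s).base ζ ⤳ (pullback.fst f s).base (ι.base c'') :=
    hζc.map (pullback.fst f s).base.hom.continuous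
  refine ⟨(pullback.fst f s).base (ι.base c''), (pullback.fst f s).base ζ, hw, hfstc, e4, hζξ, hζz,
    ?_⟩
  calc FlatMor.fibreDimAt f ((pullback.fst f s).base (ι.base c''))
      = FlatMor.fibreDimAt (ι ≫ g) c'' := by rw [e1, e2]
    _ = FlatMor.fibreDimAt (ι ≫ g) ξ'' := hconst c''
    _ ≤ FlatMor.fibreDimAt g (ι.base ξ'') := fibreDimAt_preimmersion_comp_le g ι ξ''
    _ = FlatMor.fibreDimAt g ξ' := fibreDimAt_congr_point g hξ''
    _ = FlatMor.fibreDimAt f ξ := e3

end Groth.Agent.Lib.Helper12.EquidimKey
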