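import Mathlib
import Groth.Prelude.Def_Found
import Groth.Prelude.Def_CurvBase
import Groth.Agent.Lib.Helper50.FiberBC
import Groth.Agent.Lib.Helper24.FibreStalkQuot
import Groth.Agent.S1562
import Groth.Agent.S7606
import Groth.Agent.S2156
import Groth.Agent.Lib.Helper28.RegularCM
import Groth.Agent.Lib.Helper24.SmoothRationalPoint
import Groth.Agent.Lib.Helper14.SmoothFibre
import Groth.Agent.Lib.Helper24.UnivOpenAt
import Groth.Prelude.Def_FDesc
import Groth.Prelude.Def_EGA43

/-!
# Smoothness at a point via the fibre ring `O_{X,x} / m_{f x} O_{X,x}` (helper12)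

* `isGeometricallyRegular_of_semilinear`: `CAlg.IsGeometricallyRegular` transfers along semilinear
  ring isomorphisms.
* `stalk_comp_eq`: the `κ(s)`-algebra structure on the local ring of the fibre `f.fiber s` at `z` is
  compatible with `O_{Y,y} → O_{X,x} → O_{F,z}`.
* `FibRingGeomReg f x`: `O_{X,x} / m_{f x} O_{X,x}` is geometrically regular over `κ(f x)`;
  `asFiber_mem_smoothLocus_iff`: equivalent to `f.asFiber x` being a smooth point of the fibre.
* `mem_smoothLocus_iff_flat_and_fibRingGeomReg`.
* `geomReducedAt_of_mem_smoothLocus`, `isCohenMacaulayLocalRing_of_mem_smoothLocus`.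
* `isUnivOpenAt_of_comp`.
-/

set_option autoImplicit false
universe u
open TensorProduct CategoryTheory CategoryTheory.Limits AlgebraicGeometry

namespace Groth.Agent.Lib.Helper12.SmoothFibreRing

/-- Geometric regularity transfers along a semilinear ring isomorphism. -/
theorem isGeometricallyRegular_of_semilinear {k₁ k₂ A₁ A₂ : Type u} [Field k₁] [Field k₂]
    [CommRing A₁] [CommRing A₂] [Algebra k₁ A₁] [Algebra k₂ A₂] (τ : k₁ ≃+* k₂) (e : A₁ ≃+* A₂)
    (he : ∀ c : k₁, e (algebraMap k₁ A₁ c) = algebraMap k₂ A₂ (τ c))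
    (h : CAlg.IsGeometricallyRegular k₁ A₁) : CAlg.IsGeometricallyRegular k₂ A₂ := by
  intro k' _ _ hfin
  letI a12 : Algebra k₁ k₂ := τ.toRingHom.toAlgebra
  letI a1k' : Algebra k₁ k' := ((algebraMap k₂ k').comp τ.toRingHom).toAlgebra
  letI a1A2 : Algebra k₁ A₂ := ((algebraMap k₂ A₂).comp τ.toRingHom).toAlgebra
  haveI t1 : IsScalarTower k₁ k₂ k' := IsScalarTower.of_algebraMap_eq' rfl
  haveI t2 : IsScalarTower k₁ k₂ A₂ := IsScalarTower.of_algebraMap_eq' rfl
  haveI f12 : Module.Finite k₁ k₂ :=
    Module.Finite.of_surjective (Algebra.linearMap k₁ k₂) τ.surjective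
  haveI : Module.Finite k₁ k' := Module.Finite.trans k₂ k'
  have hreg : IsRegularRing (k' ⊗[k₁] A₁) := h k' inferInstance
  let e' : A₁ ≃ₐ[k₁] A₂ := { e with commutes' := fun c => he c }
  let E1 : k' ⊗[k₁] A₁ ≃ₐ[k₁] k' ⊗[k₁] A₂ := Algebra.TensorProduct.congr AlgEquiv.refl e'
  haveI : TensorProduct.CompatibleSMul k₁ k₂ k' A₂ := by
    refine ⟨fun c m n => ?_⟩
    obtain ⟨c, rfl⟩ := τ.surjective c
    have h1 : (τ c) • m = c • m := by
      rw [Algebra.smul_def, Algebra.smul_def]; rfl
    have h2 : (τ c) • n = c • n := by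
      rw [Algebra.smul_def, Algebra.smul_def]; rfl
    rw [h1, h2, TensorProduct.smul_tmul]
  let E2 : k' ⊗[k₁] A₂ ≃ₐ[k₁] k' ⊗[k₂] A₂ :=
    Algebra.TensorProduct.equivOfCompatibleSMul k₂ k₁ k₁ k' A₂
  exact IsRegularRing.of_ringEquiv (E1.trans E2).toRingEquiv

variable {X Y : Scheme.{u}} (f : X ⟶ Y)

/-- the fibre over `s` as a scheme over `Spec κ(s)` -/
@[reducible] noncomputable def fibOver (s : Y) :
    (f.fiber s).Over (Spec (CommRingCat.of (IsLocalRing.ResidueField (Y.presheaf.stalk s)))) :=
  ⟨f.fiberToSpecResidueField s⟩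

theorem fiberι_image_eq (s : Y) (z : f.fiber s) : f.base ((f.fiberι s).base z) = s := by
  have := congrArg (fun φ => φ.base z) (f.fiber_fac s)
  simp only [Scheme.Hom.comp_base, TopCat.hom_comp, ContinuousMap.comp_apply] at this
  rw [this]
  exact Scheme.fromSpecResidueField_apply s _

/-- key commutation: `O_{Y,y} → O_{X,x} → O_{F,z}` equals `O_{Y,y} → κ(y) ≅ κ(s) → O_{F,z}`. -/
theorem stalk_comp_eq (s : Y) (z : f.fiber s) :
    letI := fibOver f s
    f.stalkMap ((f.fiberι s).base z) ≫ (f.fiberι s).stalkMap z =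
      Y.residue (f.base ((f.fiberι s).base z)) ≫
        (Y.residueFieldCongr (fiberι_image_eq f s z)).hom ≫
        CommRingCat.ofHom
          (Curv2.stalkMap (IsLocalRing.ResidueField (Y.presheaf.stalk s)) (f.fiber s) z) := by
  letI := fibOver f s
  apply Spec.map_injective
  rw [← cancel_mono (Y.fromSpecStalk (f.base ((f.fiberι s).base z)))]
  rw [Spec.map_comp, Category.assoc, Scheme.SpecMap_stalkMap_fromSpecStalk,
    Scheme.SpecMap_stalkMap_fromSpecStalk_assoc]
  rw [Spec.map_comp, Spec.map_comp, Category.assoc, Category.assoc]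
  have h1 : Spec.map (Y.residue (f.base ((f.fiberι s).base z))) ≫
      Y.fromSpecStalk (f.base ((f.fiberι s).base z)) = Y.fromSpecResidueField _ := rfl
  rw [h1, Scheme.residueFieldCongr_fromSpecResidueField]
  have h2 := Groth.Agent.Lib.Helper50.specMap_stalkMap_eq (X := f.fiber s)
    (IsLocalRing.ResidueField (Y.presheaf.stalk s)) z
  rw [f.fiber_fac s, ← Category.assoc]
  exact congrArg (· ≫ Y.fromSpecResidueField s) h2.symm

/-- The local ring of the fibre of `f` through `x` at `x`, i.e. `O_{X,x} / m_{f x} O_{X,x}`, is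
geometrically regular over `κ(f x)`. -/
def FibRingGeomReg (x : X) : Prop :=
  letI φ := (f.stalkMap x).hom
  letI 𝔪 := IsLocalRing.maximalIdeal ↑(Y.presheaf.stalk (f.base x))
  letI : Algebra (IsLocalRing.ResidueField ↑(Y.presheaf.stalk (f.base x)))
      (↑(X.presheaf.stalk x) ⧸ 𝔪.map φ) :=
    (Ideal.quotientMap (𝔪.map φ) φ Ideal.le_comap_map).toAlgebra
  CAlg.IsGeometricallyRegular (IsLocalRing.ResidueField ↑(Y.presheaf.stalk (f.base x)))
    (↑(X.presheaf.stalk x) ⧸ 𝔪.map φ)

attribute [local instance] Curv2.stalkAlgebra in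
/-- the fibre ring at the image of `z` versus the local ring of the fibre at `z` -/
theorem fibRingGeomReg_fiberι_iff (s : Y) (z : f.fiber s) :
    letI := fibOver f s
    FibRingGeomReg f ((f.fiberι s).base z) ↔
      CAlg.IsGeometricallyRegular (IsLocalRing.ResidueField (Y.presheaf.stalk s))
        ((f.fiber s).presheaf.stalk z) := by
  letI := fibOver f s
  have hsurj : Function.Surjective ((f.fiberι s).stalkMap z).hom :=
    (f.fiberι s).stalkMap_surjective z
  have hker : RingHom.ker ((f.fiberι s).stalkMap z).hom =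
      (IsLocalRing.maximalIdeal ↑(Y.presheaf.stalk (f.base ((f.fiberι s).base z)))).map
        (f.stalkMap ((f.fiberι s).base z)).hom :=
    le_antisymm (Groth.Agent.Lib.Helper49.ker_le_map f s z)
      (Groth.Agent.Lib.Helper49.map_le_ker f s z)
  let ebar := (Ideal.quotEquivOfEq hker.symm).trans (RingHom.quotientKerEquivOfSurjective hsurj)
  let τ : IsLocalRing.ResidueField ↑(Y.presheaf.stalk (f.base ((f.fiberι s).base z))) ≃+*
      IsLocalRing.ResidueField (Y.presheaf.stalk s) :=
    (Y.residueFieldCongr (fiberι_image_eq f s z)).commRingCatIsoToRingEquiv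
  letI : Algebra (IsLocalRing.ResidueField ↑(Y.presheaf.stalk (f.base ((f.fiberι s).base z))))
      (↑(X.presheaf.stalk ((f.fiberι s).base z)) ⧸
        (IsLocalRing.maximalIdeal ↑(Y.presheaf.stalk (f.base ((f.fiberι s).base z)))).map
          (f.stalkMap ((f.fiberι s).base z)).hom) :=
    (Ideal.quotientMap _ (f.stalkMap ((f.fiberι s).base z)).hom Ideal.le_comap_map).toAlgebra
  have hcompat : ∀ c, ebar (algebraMap _ _ c) =
      algebraMap (IsLocalRing.ResidueField (Y.presheaf.stalk s))
        ((f.fiber s).presheaf.stalk z) (τ c) := by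
    intro c
    obtain ⟨a, rfl⟩ := Ideal.Quotient.mk_surjective c
    have h := congrArg (fun φ => φ.hom a) (stalk_comp_eq f s z)
    exact h
  constructor
  · intro h
    exact isGeometricallyRegular_of_semilinear τ ebar hcompat h
  · intro h
    refine isGeometricallyRegular_of_semilinear τ.symm ebar.symm ?_ h
    intro c
    obtain ⟨c, rfl⟩ := τ.surjective c
    rw [RingEquiv.symm_apply_apply, ← hcompat, RingEquiv.symm_apply_apply]


attribute [local instance] Curv2.stalkAlgebra in
/-- `x` is a smooth point of its fibre iff the fibre ring at `x` is geometrically regular. -/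
theorem asFiber_mem_smoothLocus_iff [LocallyOfFiniteType f] (x : X)
    [LocallyOfFinitePresentation (f.fiberToSpecResidueField (f.base x))] :
    f.asFiber x ∈ (f.fiberToSpecResidueField (f.base x)).smoothLocus ↔ FibRingGeomReg f x := by
  letI := fibOver f (f.base x)
  haveI : LocallyOfFiniteType (f.fiberToSpecResidueField (f.base x)) :=
    inferInstanceAs (LocallyOfFiniteType (pullback.snd f (Y.fromSpecResidueField (f.base x))))
  haveI hLN : IsLocallyNoetherian (f.fiber (f.base x)) :=
    LocallyOfFiniteType.isLocallyNoetherian (f.fiberToSpecResidueField (f.base x))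
  haveI : LocallyOfFinitePresentation ((f.fiber (f.base x)) ↘
      Spec (CommRingCat.of (IsLocalRing.ResidueField (Y.presheaf.stalk (f.base x))))) :=
    ‹LocallyOfFinitePresentation (f.fiberToSpecResidueField (f.base x))›
  have h1 := Groth.Agent.S1562.result (IsLocalRing.ResidueField (Y.presheaf.stalk (f.base x)))
    (f.fiber (f.base x)) (f.asFiber x)
  have h2 := Groth.Agent.S7606.result (IsLocalRing.ResidueField (Y.presheaf.stalk (f.base x)))
    (f.fiber (f.base x)) (f.asFiber x)
  have h3 := fibRingGeomReg_fiberι_iff f (f.base x) (f.asFiber x)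
  rw [f.fiberι_asFiber x] at h3
  exact h1.symm.trans ((h2.1.trans h2.2).trans h3.symm)

/-- a smooth point of a scheme locally of finite presentation over a field is a geometrically
reduced point -/
theorem geomReducedAt_of_mem_smoothLocus {k : Type u} [Field k] {F : Scheme.{u}}
    (g : F ⟶ Spec (CommRingCat.of k)) [LocallyOfFinitePresentation g] (z : F)
    (hz : z ∈ g.smoothLocus) : FBase.IsGeomReducedAt g z := by
  intro K _ _ x' hx'
  have H : IsPullback (FBase.bcπ g K) (FBase.bcStr g K) g
      (Spec.map (CommRingCat.ofHom (algebraMap k K))) := IsPullback.of_hasPullback _ _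
  haveI : LocallyOfFinitePresentation (FBase.bcStr g K) :=
    inferInstanceAs (LocallyOfFinitePresentation
      (pullback.snd g (Spec.map (CommRingCat.ofHom (algebraMap k K)))))
  have h1 : x' ∈ (FBase.bcStr g K).smoothLocus :=
    Groth.Agent.Lib.Helper14.mem_smoothLocus_of_isPullback H x' (by rw [hx']; exact hz)
  haveI := Groth.Agent.Lib.Helper24.isRegularLocalRing_stalk_of_mem_smoothLocus K
    (FBase.bcStr g K) x' h1
  haveI : IsDomain ((FBase.bc g K).presheaf.stalk x') :=
    Groth.Agent.Lib.Helper85.isDomain_of_isRegularLocalRing _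
  change _root_.IsReduced ((FBase.bc g K).presheaf.stalk x')
  infer_instance

/-- the local ring at a smooth point of a scheme over a field is Cohen–Macaulay -/
theorem isCohenMacaulayLocalRing_of_mem_smoothLocus {k : Type u} [Field k] {F : Scheme.{u}}
    (g : F ⟶ Spec (CommRingCat.of k)) [LocallyOfFinitePresentation g] (z : F)
    (hz : z ∈ g.smoothLocus) : LocCoh.IsCohenMacaulayLocalRing (F.presheaf.stalk z) := by
  haveI := Groth.Agent.Lib.Helper24.isRegularLocalRing_stalk_of_mem_smoothLocus k g z hz
  exact Groth.Agent.Lib.Helper28.isCohenMacaulayLocalRing_of_isRegularLocalRing _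

/-- universal openness at a point of a composite gives universal openness of the second map at
the image point -/
theorem isUnivOpenAt_of_comp {U X Y : Scheme.{u}} (j : U ⟶ X) (f : X ⟶ Y) (u : U)
    (h : EGA43.IsUnivOpenAt (j ≫ f) u) : EGA43.IsUnivOpenAt f (j.base u) := by
  intro Y' g x' hx'
  have sq1 : IsPullback (pullback.fst j (pullback.fst f g)) (pullback.snd j (pullback.fst f g)) j
      (pullback.fst f g) := IsPullback.of_hasPullback _ _
  have sq2 : IsPullback (pullback.fst f g) (pullback.snd f g) f g := IsPullback.of_hasPullback _ _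
  have sq := sq1.paste_vert sq2
  obtain ⟨p, hp1, hp2⟩ := Groth.Agent.Lib.Helper24.exists_preimage_of_isPullback sq1 u x' hx'.symm
  have h1 := Groth.Agent.Lib.Helper24.isOpenAt_snd_of_isUnivOpenAt h sq p hp1
  have h2 := Groth.Agent.Lib.Helper24.isOpenAt_of_comp
    (f := (pullback.snd j (pullback.fst f g)).base) (g := (pullback.snd f g).base)
    (Scheme.Hom.continuous _) (x := p) (by
      simpa only [Scheme.Hom.comp_base, TopCat.hom_comp, ContinuousMap.coe_comp] using h1)
  rwa [hp2] at h2

/-- a point with a smooth neighbourhood is universally open -/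
theorem isUnivOpenAt_of_smooth_nhd (U : X.Opens) (hU : Smooth (U.ι ≫ f)) (x' : X) (hx' : x' ∈ U) :
    EGA43.IsUnivOpenAt f x' := by
  haveI : UniversallyOpen (U.ι ≫ f) := UniversallyOpen.of_flat (U.ι ≫ f)
  have h0 : EGA43.IsUnivOpenAt (U.ι ≫ f) ⟨x', hx'⟩ := by
    intro Y' g p _
    exact Groth.Agent.Lib.Helper24.isOpenAt_of_isOpenMap (pullback.snd (U.ι ≫ f) g).isOpenMap p
  exact isUnivOpenAt_of_comp U.ι f ⟨x', hx'⟩ h0

/-- smooth at `x` iff flat at `x` and the fibre ring at `x` is geometrically regular. -/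
theorem exists_smooth_nhd_iff_flat_and_fibRingGeomReg [IsLocallyNoetherian Y]
    [LocallyOfFiniteType f] (x : X) :
    (∃ U : X.Opens, x ∈ U ∧ Smooth (U.ι ≫ f)) ↔
      (f.stalkMap x).hom.Flat ∧ FibRingGeomReg f x := by
  haveI : LocallyOfFinitePresentation f := inferInstance
  haveI : LocallyOfFinitePresentation (f.fiberToSpecResidueField (f.base x)) :=
    inferInstanceAs (LocallyOfFinitePresentation
      (pullback.snd f (Y.fromSpecResidueField (f.base x))))
  rw [Groth.Agent.Lib.Helper14.exists_smooth_nhd_iff_mem_smoothLocus, Groth.Agent.S2156.result,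
    asFiber_mem_smoothLocus_iff]

/-- geometric regularity of the fibre ring gives geometric reducedness of the fibre at the point -/
theorem geomReducedAt_of_fibRingGeomReg [LocallyOfFiniteType f] (x : X)
    [LocallyOfFinitePresentation (f.fiberToSpecResidueField (f.base x))]
    (h : FibRingGeomReg f x) :
    FBase.IsGeomReducedAt (f.fiberToSpecResidueField (f.base x)) (f.asFiber x) := by
  have hz := (asFiber_mem_smoothLocus_iff f x).mpr h
  exact @geomReducedAt_of_mem_smoothLocus
    (IsLocalRing.ResidueField (Y.presheaf.stalk (f.base x))) _ (f.fiber (f.base x))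
    (f.fiberToSpecResidueField (f.base x)) ‹_› (f.asFiber x) hz

end Groth.Agent.Lib.Helper12.SmoothFibreRing
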