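import Mathlib
import Groth.Agent.Lib.Helper12.EquidimKey2
import Groth.Agent.Lib.Helper12.SmoothFibreRing
import Groth.Agent.Lib.Helper61.GU14
import Groth.Agent.Lib.Helper14.GeomReducedSmooth
import Groth.Agent.S3408
import Groth.Agent.S2522

/-!
# Uniqueness of the irreducible component through a point (EGA IV 15.2.4-type statement)

`f : X ⟶ Y` locally of finite type, `Y` locally noetherian, `x : X`, `y = f x`.  If `f` is
universally open at the maximal points of `X_y` generizing `x`, `X_y` is geometrically pointwise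
integral at `x` and `O_{Y,y}` is geometrically unibranch, then `x` lies on exactly one irreducible
component of `X`; if moreover `O_{Y,y}` is a domain, `O_{X,x}` is a domain, flat over `O_{Y,y}`.
-/

set_option autoImplicit false
set_option linter.style.haveILetI false
universe u
open IsLocalRing AlgebraicGeometry CategoryTheory Limits

namespace Groth.Agent.Lib.Helper12.UniqueComponent

open Groth.Agent.Lib.Helper12.GeomRedLocus Groth.Agent.Lib.Helper55
open Groth.Agent.Lib.Helper12.EquidimKey Groth.Agent.Lib.Helper12.SmoothFibreRing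
open Groth.Agent.Lib.Helper12.UnivOpenGR

section dictionary

variable {X : Scheme.{u}}

/-- a maximal generization of `x` is the image of a minimal prime of `O_{X,x}` -/
theorem exists_minimalPrime_of_maximal (x ζ : X) (hζx : ζ ⤳ x) (hζmax : ∀ w : X, w ⤳ ζ → w = ζ) :
    ∃ P : PrimeSpectrum (X.presheaf.stalk x), (X.fromSpecStalk x).base P = ζ ∧
      P.asIdeal ∈ minimalPrimes (X.presheaf.stalk x) := by
  have hinj : Function.Injective (X.fromSpecStalk x).base :=
    (X.fromSpecStalk x).isEmbedding.injective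
  obtain ⟨P, hP⟩ : ∃ P : PrimeSpectrum (X.presheaf.stalk x), (X.fromSpecStalk x).base P = ζ := by
    have : ζ ∈ Set.range (X.fromSpecStalk x).base := by
      rw [Scheme.range_fromSpecStalk]; exact hζx
    exact this
  refine ⟨P, hP, ⟨P.2, bot_le⟩, ?_⟩
  rintro Q ⟨hQp, -⟩ hQP
  let Q' : PrimeSpectrum (X.presheaf.stalk x) := ⟨Q, hQp⟩
  have h1 : Q' ⤳ P := (PrimeSpectrum.le_iff_specializes Q' P).mp hQP
  have h2 := h1.map (X.fromSpecStalk x).continuous
  rw [hP] at h2
  have h3 : Q' = P := hinj ((hζmax _ h2).trans hP.symm)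
  exact h3 ▸ le_refl _

/-- a minimal prime of `O_{X,x}` gives a maximal generization of `x` -/
theorem maximal_of_minimalPrime (x : X) (P : PrimeSpectrum (X.presheaf.stalk x))
    (hP : P.asIdeal ∈ minimalPrimes (X.presheaf.stalk x)) :
    (X.fromSpecStalk x).base P ⤳ x ∧
      ∀ w : X, w ⤳ (X.fromSpecStalk x).base P → w = (X.fromSpecStalk x).base P := by
  have hrange : ∀ Q : PrimeSpectrum (X.presheaf.stalk x), (X.fromSpecStalk x).base Q ⤳ x := by
    intro Q
    have : (X.fromSpecStalk x).base Q ∈ Set.range (X.fromSpecStalk x).base := ⟨Q, rfl⟩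
    rwa [Scheme.range_fromSpecStalk] at this
  refine ⟨hrange P, fun w hw => ?_⟩
  obtain ⟨Q, rfl⟩ : ∃ Q : PrimeSpectrum (X.presheaf.stalk x), (X.fromSpecStalk x).base Q = w := by
    have : w ∈ Set.range (X.fromSpecStalk x).base := by
      rw [Scheme.range_fromSpecStalk]; exact hw.trans (hrange P)
    exact this
  have h1 : Q ⤳ P := (X.fromSpecStalk x).isEmbedding.toIsInducing.specializes_iff.mp hw
  have h2 : Q.asIdeal ≤ P.asIdeal := (PrimeSpectrum.le_iff_specializes Q P).mpr h1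
  have h3 : P.asIdeal ≤ Q.asIdeal := hP.2 ⟨Q.2, bot_le⟩ h2
  rw [PrimeSpectrum.ext (le_antisymm h2 h3)]

/-- if `O_{X,x}` has only one minimal prime, `x` has only one maximal generization -/
theorem eq_of_maximal_of_subsingleton_minimalPrimes (x : X)
    (huniq : ∀ P ∈ minimalPrimes (X.presheaf.stalk x), ∀ Q ∈ minimalPrimes (X.presheaf.stalk x),
      P = Q) (ζ₁ ζ₂ : X) (h₁ : ζ₁ ⤳ x) (h₁' : ∀ w : X, w ⤳ ζ₁ → w = ζ₁) (h₂ : ζ₂ ⤳ x)
    (h₂' : ∀ w : X, w ⤳ ζ₂ → w = ζ₂) : ζ₁ = ζ₂ := by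
  obtain ⟨P₁, hP₁, hm₁⟩ := exists_minimalPrime_of_maximal x ζ₁ h₁ h₁'
  obtain ⟨P₂, hP₂, hm₂⟩ := exists_minimalPrime_of_maximal x ζ₂ h₂ h₂'
  have : P₁ = P₂ := PrimeSpectrum.ext (huniq _ hm₁ _ hm₂)
  rw [← hP₁, ← hP₂, this]

/-- a ring whose nilradical is prime has only one minimal prime -/
theorem minimalPrimes_subsingleton_of_nilradical_isPrime {A : Type*} [CommRing A]
    (h : (nilradical A).IsPrime) :
    ∀ P ∈ minimalPrimes A, ∀ Q ∈ minimalPrimes A, P = Q := by
  have key : ∀ P ∈ minimalPrimes A, P = nilradical A := by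
    intro P hP
    haveI := hP.1.1
    apply le_antisymm
    · exact hP.2 ⟨h, bot_le⟩ (nilradical_le_prime P)
    · exact nilradical_le_prime P
  intro P hP Q hQ
  rw [key P hP, key Q hQ]

end dictionary

section smoothMaximal

variable {k : Type u} [Field k] {F : Scheme.{u}}

/-- A scheme locally of finite type over a field is smooth at every maximal point at which it is
geometrically reduced. -/
theorem mem_smoothLocus_of_maximal_of_geomReducedAt (g : F ⟶ Spec (CommRingCat.of k))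
    [LocallyOfFinitePresentation g] (z : F) (hzmax : ∀ w : F, w ⤳ z → w = z)
    (hz : FBase.IsGeomReducedAt g z) : z ∈ g.smoothLocus := by
  haveI : IsLocallyNoetherian F := LocallyOfFiniteType.isLocallyNoetherian g
  let V : F.Opens := ⟨{w : F | FBase.IsGeomReducedAt g w}, Groth.Agent.S2522.result g⟩
  have hzV : z ∈ V := hz
  haveI : GeometricallyReduced (V.ι ≫ g) := by
    apply geometricallyReduced_of_forall_geomReducedAt
    intro w
    rw [Groth.Agent.Lib.Helper54.isGeomReducedAt_iff_of_etale V.ι g w]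
    exact w.2
  have hdense := Groth.Agent.Lib.Helper14.dense_smoothLocus_of_geometricallyReduced (V.ι ≫ g)
  haveI : IsLocallyNoetherian (V : Scheme.{u}) :=
    LocallyOfFiniteType.isLocallyNoetherian (V.ι ≫ g)
  set zV : ↥(V : Scheme.{u}) := ⟨z, hzV⟩ with hzVdef
  obtain ⟨W, hzW, hW⟩ := exists_open_forall_maximal_specializes zV
  obtain ⟨d, hdW, hdS⟩ := hdense.inter_open_nonempty (W : Set ↥(V : Scheme.{u})) W.2 ⟨zV, hzW⟩
  obtain ⟨ζ, hζd, hζmax⟩ := exists_maximal_generization d
  have hζW : ζ ∈ W := hζd.mem_open W.2 hdW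
  have hζS : ζ ∈ ((V.ι ≫ g).smoothLocus : Set ↥(V : Scheme.{u})) :=
    hζd.mem_open (V.ι ≫ g).smoothLocus.2 hdS
  have hζz : ζ ⤳ zV := hW ζ hζW (fun w hw => by rw [hζmax w hw])
  have hVι : V.ι.base ζ ⤳ z := hζz.map V.ι.base.hom.continuous
  have h1 : V.ι.base ζ = z := hzmax _ hVι
  have h2 : ζ = zV := V.ι.isOpenEmbedding.injective h1
  rw [h2, ← Scheme.Hom.preimage_smoothLocus_eq] at hζS
  exact hζS

end smoothMaximal

section domainStalk

variable {k : Type u} [Field k] {F : Scheme.{u}}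

/-- geometric pointwise integrality at `z` implies that the local ring at `z` is a domain -/
theorem isDomain_stalk_of_isGeomPtIntegralAt (g : F ⟶ Spec (CommRingCat.of k)) (z : F)
    (hz : FBase.IsGeomPtIntegralAt g z) : IsDomain (F.presheaf.stalk z) := by
  haveI : IsIso (Spec.map (CommRingCat.ofHom (algebraMap k k))) := by
    have : CommRingCat.ofHom (algebraMap k k) = 𝟙 (CommRingCat.of k) := rfl
    rw [this, Spec.map_id]
    infer_instance
  haveI : IsIso (FBase.bcπ g k) := by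
    unfold FBase.bcπ
    exact pullback_fst_iso_of_right_iso g (Spec.map (CommRingCat.ofHom (algebraMap k k)))
  let x' : ↥(FBase.bc g k) := (inv (FBase.bcπ g k)).base z
  have hx' : (FBase.bcπ g k).base x' = z := by
    change ((inv (FBase.bcπ g k)) ≫ FBase.bcπ g k).base z = z
    rw [IsIso.inv_hom_id]
    rfl
  haveI := hz k x' hx'
  haveI : IsIso ((FBase.bcπ g k).stalkMap x') := inferInstance
  let e := (asIso ((FBase.bcπ g k).stalkMap x')).commRingCatIsoToRingEquiv
  have hdom : IsDomain (F.presheaf.stalk ((FBase.bcπ g k).base x')) :=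
    e.toMulEquiv.isDomain _
  exact hx' ▸ hdom

end domainStalk

/-- flatness at the points of an open subscheme -/
theorem flat_stalkMap_of_flat_comp_ι {X Y : Scheme.{u}} (f : X ⟶ Y) (U : X.Opens)
    (hU : Flat (U.ι ≫ f)) (u : ↥(U : Scheme.{u})) : (f.stalkMap (U.ι.base u)).hom.Flat := by
  have h := (Flat.iff_flat_stalkMap (f := U.ι ≫ f)).mp hU u
  rw [Scheme.Hom.stalkMap_comp] at h
  have hinv : (inv (U.ι.stalkMap u)).hom.Flat :=
    RingHom.Flat.of_bijective (ConcreteCategory.bijective_of_isIso _)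
  have e : f.stalkMap (U.ι.base u) =
      (f.stalkMap (U.ι.base u) ≫ U.ι.stalkMap u) ≫ inv (U.ι.stalkMap u) := by
    rw [Category.assoc, IsIso.hom_inv_id, Category.comp_id]
  rw [e, CommRingCat.hom_comp]
  exact RingHom.Flat.comp h hinv

/-- **Uniqueness of the component through `x`, reduced base.** -/
theorem eq_of_maximal_of_isReduced {X Y : Scheme.{u}} [IsLocallyNoetherian Y] (f : X ⟶ Y)
    [LocallyOfFiniteType f] (x : X)
    (hopen : ∀ z : ↥(f.fiber (f.base x)), f.asFiber x ∈ closure {z} →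
      (∀ z' : ↥(f.fiber (f.base x)), z ∈ closure {z'} → z' = z) →
      EGA43.IsUnivOpenAt f ((f.fiberι (f.base x)).base z))
    (hred : FBase.IsGeomReducedAt (f.fiberToSpecResidueField (f.base x)) (f.asFiber x))
    (hYred : _root_.IsReduced (Y.presheaf.stalk (f.base x)))
    (hY : CAlg2.IsGeomUnibranch (Y.presheaf.stalk (f.base x)))
    (huniq : ∀ z₁ z₂ : X, f.base z₁ = f.base x → z₁ ⤳ x →
      (∀ w : X, f.base w = f.base x → w ⤳ z₁ → w = z₁) → f.base z₂ = f.base x → z₂ ⤳ x →
      (∀ w : X, f.base w = f.base x → w ⤳ z₂ → w = z₂) → z₁ = z₂)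
    (ζ₁ ζ₂ : X) (h₁ : ζ₁ ⤳ x) (h₁' : ∀ w : X, w ⤳ ζ₁ → w = ζ₁) (h₂ : ζ₂ ⤳ x)
    (h₂' : ∀ w : X, w ⤳ ζ₂ → w = ζ₂) : ζ₁ = ζ₂ := by
  classical
  haveI : LocallyOfFinitePresentation f := inferInstance
  obtain ⟨z₁, ζ₁', hz1, hz1x, hz1max, hζ1ξ, hζ1z, -⟩ :=
    exists_maximal_fibre_point f x hopen hred ζ₁ h₁
  obtain ⟨z₂, ζ₂', hz2, hz2x, hz2max, hζ2ξ, hζ2z, -⟩ :=
    exists_maximal_fibre_point f x hopen hred ζ₂ h₂
  have e1 : ζ₁' = ζ₁ := h₁' _ hζ1ξ
  have e2 : ζ₂' = ζ₂ := h₂' _ hζ2ξ
  rw [e1] at hζ1z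
  rw [e2] at hζ2z
  have e3 : z₁ = z₂ := huniq z₁ z₂ hz1 hz1x hz1max hz2 hz2x hz2max
  subst e3
  -- neighbourhoods
  obtain ⟨U, hxU, -, hU⟩ := Groth.Agent.Lib.Helper12.UnivOpenGR.exists_univOpen_nbhd f x hopen hred
  obtain ⟨U', hxU', hU'flat, -⟩ := Groth.Agent.S3408.result f x hopen hred hYred
  have hzU : z₁ ∈ U := hz1x.mem_open U.2 hxU
  have hzU' : z₁ ∈ U' := hz1x.mem_open U'.2 hxU'
  have hflat : (f.stalkMap z₁).hom.Flat := flat_stalkMap_of_flat_comp_ι f U' hU'flat ⟨z₁, hzU'⟩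
  have hloc : FBase.IsGeomReducedAt (f.fiberToSpecResidueField (f.base z₁)) (f.asFiber z₁) :=
    hU z₁ hzU
  haveI hlfp : LocallyOfFinitePresentation (f.fiberToSpecResidueField (f.base z₁)) :=
    inferInstanceAs (LocallyOfFinitePresentation
      (pullback.snd f (Y.fromSpecResidueField (f.base z₁))))
  have hmaxf : ∀ w : ↥(f.fiber (f.base z₁)), w ⤳ f.asFiber z₁ → w = f.asFiber z₁ := by
    intro w hw
    apply (f.fiberι (f.base z₁)).isEmbedding.injective
    have h3 := hw.map (f.fiberι (f.base z₁)).base.hom.continuous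
    rw [show (f.fiberι (f.base z₁)).base.hom (f.asFiber z₁) = z₁ from f.fiberι_asFiber z₁] at h3
    rw [show (f.fiberι (f.base z₁)).base (f.asFiber z₁) = z₁ from f.fiberι_asFiber z₁]
    exact hz1max _ ((fiberι_image_eq f (f.base z₁) w).trans hz1) h3
  have hsm : f.asFiber z₁ ∈ (f.fiberToSpecResidueField (f.base z₁)).smoothLocus :=
    @mem_smoothLocus_of_maximal_of_geomReducedAt
      (IsLocalRing.ResidueField (Y.presheaf.stalk (f.base z₁))) _ (f.fiber (f.base z₁))
      (f.fiberToSpecResidueField (f.base z₁)) hlfp (f.asFiber z₁) hmaxf hloc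
  have hreg : FibRingGeomReg f z₁ := (asFiber_mem_smoothLocus_iff f z₁).mp hsm
  obtain ⟨V, hzV, hV⟩ := (exists_smooth_nhd_iff_flat_and_fibRingGeomReg f z₁).mpr ⟨hflat, hreg⟩
  haveI := hV
  have hY' : CAlg2.IsGeomUnibranch (Y.presheaf.stalk ((V.ι ≫ f).base ⟨z₁, hzV⟩)) := by
    have : (V.ι ≫ f).base ⟨z₁, hzV⟩ = f.base x := hz1
    rw [this]
    exact hY
  have hgu := Groth.Agent.Lib.Helper61.GU.isGeomUnibranch_stalk_of_smooth (V.ι ≫ f) ⟨z₁, hzV⟩ hY'
  have hnil : (nilradical ((V : Scheme.{u}).presheaf.stalk ⟨z₁, hzV⟩)).IsPrime :=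
    (Ideal.Quotient.isDomain_iff_prime _).mp hgu.1.1
  have hsub := minimalPrimes_subsingleton_of_nilradical_isPrime hnil
  have hζ1V : ζ₁ ∈ V := hζ1z.mem_open V.2 hzV
  have hζ2V : ζ₂ ∈ V := hζ2z.mem_open V.2 hzV
  have key := eq_of_maximal_of_subsingleton_minimalPrimes (X := (V : Scheme.{u})) ⟨z₁, hzV⟩ hsub
    ⟨ζ₁, hζ1V⟩ ⟨ζ₂, hζ2V⟩
    (V.ι.isEmbedding.toIsInducing.specializes_iff.mp hζ1z)
    (fun w hw => V.ι.isEmbedding.injective (h₁' _ (hw.map V.ι.base.hom.continuous)))
    (V.ι.isEmbedding.toIsInducing.specializes_iff.mp hζ2z)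
    (fun w hw => V.ι.isEmbedding.injective (h₂' _ (hw.map V.ι.base.hom.continuous)))
  exact congrArg (fun t : ↥(V : Scheme.{u}) => V.ι.base t) key

section forms

variable {X Y : Scheme.{u}} (f : X ⟶ Y) (x : X)

/-- from the point form of the openness hypothesis to the fibre form -/
theorem fibreForm_of_pointForm
    (hP : ∀ w : X, f.base w = f.base x → w ⤳ x →
      (∀ w' : X, f.base w' = f.base x → w' ⤳ w → w' = w) → EGA43.IsUnivOpenAt f w) :
    ∀ z : ↥(f.fiber (f.base x)), f.asFiber x ∈ closure {z} →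
      (∀ z' : ↥(f.fiber (f.base x)), z ∈ closure {z'} → z' = z) →
      EGA43.IsUnivOpenAt f ((f.fiberι (f.base x)).base z) := by
  intro z hz hmax
  apply hP _ (fiberι_image_eq f (f.base x) z)
  · have := (specializes_iff_mem_closure.mpr hz).map (f.fiberι (f.base x)).base.hom.continuous
    rwa [show (f.fiberι (f.base x)).base.hom (f.asFiber x) = x from f.fiberι_asFiber x] at this
  · intro w' hw' hsp
    have hwr : w' ∈ Set.range (f.fiberι (f.base x)).base := by
      rw [Scheme.Hom.range_fiberι]; exact hw'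
    obtain ⟨z', rfl⟩ := hwr
    have := (f.fiberι (f.base x)).isEmbedding.toIsInducing.specializes_iff.mp hsp
    rw [hmax z' (specializes_iff_mem_closure.mp this)]

/-- from the fibre form of the openness hypothesis to the point form -/
theorem pointForm_of_fibreForm
    (hopen : ∀ z : ↥(f.fiber (f.base x)), f.asFiber x ∈ closure {z} →
      (∀ z' : ↥(f.fiber (f.base x)), z ∈ closure {z'} → z' = z) →
      EGA43.IsUnivOpenAt f ((f.fiberι (f.base x)).base z)) :
    ∀ w : X, f.base w = f.base x → w ⤳ x →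
      (∀ w' : X, f.base w' = f.base x → w' ⤳ w → w' = w) → EGA43.IsUnivOpenAt f w := by
  intro w hw hwx hwmax
  have hwr : w ∈ Set.range (f.fiberι (f.base x)).base := by
    rw [Scheme.Hom.range_fiberι]; exact hw
  obtain ⟨z, rfl⟩ := hwr
  apply hopen z
  · rw [← specializes_iff_mem_closure,
      ← (f.fiberι (f.base x)).isEmbedding.toIsInducing.specializes_iff,
      show (f.fiberι (f.base x)).base (f.asFiber x) = x from f.fiberι_asFiber x]
    exact hwx
  · intro z' hz'
    apply (f.fiberι (f.base x)).isEmbedding.injective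
    exact hwmax _ (fiberι_image_eq f (f.base x) z')
      ((specializes_iff_mem_closure.mpr hz').map (f.fiberι (f.base x)).base.hom.continuous)

end forms

section unibranchQuotient

/-- geometric unibranchness passes to quotients by nil ideals -/
theorem isGeomUnibranch_of_surjective_of_nil {B Bb : Type u} [CommRing B] [IsLocalRing B]
    [CommRing Bb] [IsLocalRing Bb] (π : B →+* Bb) (hπ : Function.Surjective π)
    (hker : ∀ b, π b = 0 → IsNilpotent b) (h : CAlg2.IsGeomUnibranch B) :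
    CAlg2.IsGeomUnibranch Bb := by
  have hle : nilradical B ≤ (nilradical Bb).comap π := by
    intro b hb
    rw [Ideal.mem_comap, mem_nilradical]
    exact (mem_nilradical.mp hb).map π
  let φ : CAlg2.red B →+* CAlg2.red Bb := Ideal.quotientMap (nilradical Bb) π hle
  have hφsurj : Function.Surjective φ :=
    Ideal.quotientMap_surjective hπ
  have hφinj : Function.Injective φ := by
    rw [injective_iff_map_eq_zero]
    intro a ha
    obtain ⟨b, rfl⟩ := Ideal.Quotient.mk_surjective a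
    rw [Ideal.quotientMap_mk, Ideal.Quotient.eq_zero_iff_mem, mem_nilradical] at ha
    obtain ⟨n, hn⟩ := ha
    rw [← map_pow] at hn
    obtain ⟨m, hm⟩ := hker _ hn
    rw [Ideal.Quotient.eq_zero_iff_mem, mem_nilradical]
    exact ⟨n * m, by rw [pow_mul]; exact hm⟩
  let e : CAlg2.red B ≃+* CAlg2.red Bb := RingEquiv.ofBijective φ ⟨hφinj, hφsurj⟩
  haveI hdom : IsDomain (CAlg2.red B) := h.1.1
  haveI : IsDomain (CAlg2.red Bb) := e.symm.toMulEquiv.isDomain _
  haveI : IsLocalRing (CAlg2.red B) :=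
    IsLocalRing.of_surjective' (Ideal.Quotient.mk (nilradical B)) Ideal.Quotient.mk_surjective
  haveI : IsLocalRing (CAlg2.red Bb) :=
    IsLocalRing.of_surjective' (Ideal.Quotient.mk (nilradical Bb)) Ideal.Quotient.mk_surjective
  obtain ⟨-, h2⟩ := Groth.Agent.Lib.Helper61.GU.isGeomUnibranch_red h
  exact Groth.Agent.Lib.Helper61.GU.isGeomUnibranch_of_red
    (Groth.Agent.Lib.Helper61.GU.isGeomUnibranch_of_ringEquiv e h2)

/-- the stalk map of a surjective closed immersion has nil kernel -/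
theorem isNilpotent_of_stalkMap_eq_zero {Y₀ Y : Scheme.{u}} (i : Y₀ ⟶ Y) [IsClosedImmersion i]
    [Surjective i] (y₀ : Y₀) (a : Y.presheaf.stalk (i.base y₀)) (ha : (i.stalkMap y₀).hom a = 0) :
    IsNilpotent a := by
  rw [← mem_nilradical, nilradical_eq_sInf, Ideal.mem_sInf]
  intro P hP
  have hP : P.IsPrime := hP
  let P' : PrimeSpectrum (Y.presheaf.stalk (i.base y₀)) := ⟨P, hP⟩
  have hw : (Y.fromSpecStalk (i.base y₀)).base P' ⤳ i.base y₀ := by
    have : (Y.fromSpecStalk (i.base y₀)).base P' ∈ Set.range (Y.fromSpecStalk (i.base y₀)).base :=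
      ⟨P', rfl⟩
    rwa [Scheme.range_fromSpecStalk] at this
  obtain ⟨w₀, hw₀⟩ := i.surjective ((Y.fromSpecStalk (i.base y₀)).base P')
  rw [← hw₀] at hw
  have hw₀y : w₀ ⤳ y₀ := i.isClosedEmbedding.toIsEmbedding.toIsInducing.specializes_iff.mp hw
  obtain ⟨Q, hQ⟩ : ∃ Q : PrimeSpectrum (Y₀.presheaf.stalk y₀), (Y₀.fromSpecStalk y₀).base Q = w₀ := by
    have : w₀ ∈ Set.range (Y₀.fromSpecStalk y₀).base := by
      rw [Scheme.range_fromSpecStalk]; exact hw₀y
    exact this
  have h1 := congrArg (fun φ => φ.base Q) (Scheme.SpecMap_stalkMap_fromSpecStalk (f := i) (x := y₀))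
  simp only [Scheme.Hom.comp_base, TopCat.hom_comp, ContinuousMap.comp_apply] at h1
  rw [hQ, hw₀] at h1
  have h2 : (Spec.map (i.stalkMap y₀)).base Q = P' :=
    (Y.fromSpecStalk (i.base y₀)).isEmbedding.injective h1
  have h3 : a ∈ ((Spec.map (i.stalkMap y₀)).base Q).asIdeal := by
    change a ∈ Ideal.comap (i.stalkMap y₀).hom Q.asIdeal
    rw [Ideal.mem_comap, ha]
    exact Q.asIdeal.zero_mem
  rw [h2] at h3
  exact h3

end unibranchQuotient

/-- **Uniqueness of the component through `x`, general base.** -/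
theorem eq_of_maximal {X Y : Scheme.{u}} [IsLocallyNoetherian Y] (f : X ⟶ Y)
    [LocallyOfFiniteType f] (x : X)
    (hopen : ∀ z : ↥(f.fiber (f.base x)), f.asFiber x ∈ closure {z} →
      (∀ z' : ↥(f.fiber (f.base x)), z ∈ closure {z'} → z' = z) →
      EGA43.IsUnivOpenAt f ((f.fiberι (f.base x)).base z))
    (hred : FBase.IsGeomReducedAt (f.fiberToSpecResidueField (f.base x)) (f.asFiber x))
    (hY : CAlg2.IsGeomUnibranch (Y.presheaf.stalk (f.base x)))
    (huniq : ∀ z₁ z₂ : X, f.base z₁ = f.base x → z₁ ⤳ x →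
      (∀ w : X, f.base w = f.base x → w ⤳ z₁ → w = z₁) → f.base z₂ = f.base x → z₂ ⤳ x →
      (∀ w : X, f.base w = f.base x → w ⤳ z₂ → w = z₂) → z₁ = z₂)
    (ζ₁ ζ₂ : X) (h₁ : ζ₁ ⤳ x) (h₁' : ∀ w : X, w ⤳ ζ₁ → w = ζ₁) (h₂ : ζ₂ ⤳ x)
    (h₂' : ∀ w : X, w ⤳ ζ₂ → w = ζ₂) : ζ₁ = ζ₂ := by
  classical
  haveI : LocallyOfFinitePresentation f := inferInstance
  set I := Scheme.IdealSheafData.vanishingIdeal (⊤ : TopologicalSpace.Closeds Y) with hI
  set i : I.subscheme ⟶ Y := I.subschemeι with hi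
  have hrange : Set.range i.base = Set.univ := by
    rw [hi, Scheme.IdealSheafData.range_subschemeι, Scheme.IdealSheafData.coe_support_vanishingIdeal]
    rfl
  haveI : Surjective i := ⟨Set.range_eq_univ.mp hrange⟩
  haveI : IsReduced I.subscheme := isReduced_subscheme_vanishingIdeal _
  haveI : IsLocallyNoetherian I.subscheme := LocallyOfFiniteType.isLocallyNoetherian i
  set p : pullback f i ⟶ X := pullback.fst f i with hp
  set f₀ : pullback f i ⟶ I.subscheme := pullback.snd f i with hf₀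
  have H : IsPullback p f₀ f i := IsPullback.of_hasPullback f i
  haveI : LocallyOfFiniteType f₀ := by rw [hf₀]; infer_instance
  have hpt : ∀ w, i.base (f₀.base w) = f.base (p.base w) := by
    intro w
    have := congrArg (fun φ => φ.base w) H.w
    simp only [Scheme.Hom.comp_base, TopCat.hom_comp, ContinuousMap.comp_apply] at this
    exact this.symm
  have hpinj : Function.Injective p.base := p.isClosedEmbedding.injective
  have hiinj : Function.Injective i.base := i.isClosedEmbedding.injective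
  have hpspec : ∀ a b : ↥(pullback f i), p.base a ⤳ p.base b ↔ a ⤳ b :=
    fun a b => p.isClosedEmbedding.toIsEmbedding.toIsInducing.specializes_iff
  obtain ⟨x₀, hx₀⟩ : ∃ x₀, p.base x₀ = x := p.surjective x
  have hfib : ∀ w, f₀.base w = f₀.base x₀ ↔ f.base (p.base w) = f.base x := by
    intro w
    constructor
    · intro h; rw [← hpt, h, hpt, hx₀]
    · intro h; apply hiinj; rw [hpt, h, hpt, hx₀]
  -- transfer of the hypotheses
  have hP := pointForm_of_fibreForm f x hopen
  have hopen₀ := fibreForm_of_pointForm f₀ x₀ (fun w₀ hw₀ hw₀x hw₀max => by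
    refine Groth.Agent.Lib.Helper24.isUnivOpenAt_of_isPullback
      (hP (p.base w₀) ((hfib w₀).mp hw₀) ?_ ?_) H w₀ rfl
    · rw [← hx₀]; exact (hpspec _ _).mpr hw₀x
    · intro w' hw' hw'sp
      obtain ⟨w'₀, rfl⟩ := p.surjective w'
      rw [hw₀max w'₀ ((hfib w'₀).mpr hw') ((hpspec _ _).mp hw'sp)])
  have hred₀ : FBase.IsGeomReducedAt (f₀.fiberToSpecResidueField (f₀.base x₀)) (f₀.asFiber x₀) := by
    have : x₀ ∈ locus f₀ := by
      rw [locus_of_isPullback H]
      change p.base x₀ ∈ locus f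
      rw [hx₀]
      exact hred
    exact this
  have hYred₀ : _root_.IsReduced (I.subscheme.presheaf.stalk (f₀.base x₀)) := inferInstance
  have hY₀ : CAlg2.IsGeomUnibranch (I.subscheme.presheaf.stalk (f₀.base x₀)) := by
    have hY' : CAlg2.IsGeomUnibranch (Y.presheaf.stalk (i.base (f₀.base x₀))) := by
      rw [hpt, hx₀]; exact hY
    exact isGeomUnibranch_of_surjective_of_nil (i.stalkMap (f₀.base x₀)).hom
      (i.stalkMap_surjective (f₀.base x₀))
      (fun a ha => isNilpotent_of_stalkMap_eq_zero i (f₀.base x₀) a ha) hY'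
  have huniq₀ : ∀ z₁ z₂ : ↥(pullback f i), f₀.base z₁ = f₀.base x₀ → z₁ ⤳ x₀ →
      (∀ w, f₀.base w = f₀.base x₀ → w ⤳ z₁ → w = z₁) → f₀.base z₂ = f₀.base x₀ → z₂ ⤳ x₀ →
      (∀ w, f₀.base w = f₀.base x₀ → w ⤳ z₂ → w = z₂) → z₁ = z₂ := by
    intro z₁ z₂ hz₁ hz₁x hz₁max hz₂ hz₂x hz₂max
    apply hpinj
    refine huniq (p.base z₁) (p.base z₂) ((hfib z₁).mp hz₁) ?_ ?_ ((hfib z₂).mp hz₂) ?_ ?_
    · rw [← hx₀]; exact (hpspec _ _).mpr hz₁x
    · intro w hw hwsp
      obtain ⟨w₀, rfl⟩ := p.surjective w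
      rw [hz₁max w₀ ((hfib w₀).mpr hw) ((hpspec _ _).mp hwsp)]
    · rw [← hx₀]; exact (hpspec _ _).mpr hz₂x
    · intro w hw hwsp
      obtain ⟨w₀, rfl⟩ := p.surjective w
      rw [hz₂max w₀ ((hfib w₀).mpr hw) ((hpspec _ _).mp hwsp)]
  obtain ⟨ζ₁₀, rfl⟩ := p.surjective ζ₁
  obtain ⟨ζ₂₀, rfl⟩ := p.surjective ζ₂
  rw [← hx₀] at h₁ h₂
  have key := eq_of_maximal_of_isReduced f₀ x₀ hopen₀ hred₀ hYred₀ hY₀ huniq₀ ζ₁₀ ζ₂₀
    ((hpspec _ _).mp h₁) (fun w hw => hpinj (h₁' _ ((hpspec _ _).mpr hw)))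
    ((hpspec _ _).mp h₂) (fun w hw => hpinj (h₂' _ ((hpspec _ _).mpr hw)))
  rw [key]

section final

variable {X Y : Scheme.{u}} (f : X ⟶ Y) (x : X)

/-- geometric pointwise integrality implies geometric reducedness -/
theorem isGeomReducedAt_of_isGeomPtIntegralAt {k : Type u} [Field k] {F : Scheme.{u}}
    (g : F ⟶ Spec (CommRingCat.of k)) (z : F)
    (hz : FBase.IsGeomPtIntegralAt g z) : FBase.IsGeomReducedAt g z := by
  intro K _ _ x' hx'
  haveI := hz K x' hx'
  infer_instance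

/-- under geometric pointwise integrality of the fibre at `x`, the fibre has only one maximal point
generizing `x` -/
theorem fibre_maximal_unique
    (hint : FBase.IsGeomPtIntegralAt (f.fiberToSpecResidueField (f.base x)) (f.asFiber x)) :
    ∀ z₁ z₂ : X, f.base z₁ = f.base x → z₁ ⤳ x →
      (∀ w : X, f.base w = f.base x → w ⤳ z₁ → w = z₁) → f.base z₂ = f.base x → z₂ ⤳ x →
      (∀ w : X, f.base w = f.base x → w ⤳ z₂ → w = z₂) → z₁ = z₂ := by
  intro z₁ z₂ hz₁ hz₁x hz₁max hz₂ hz₂x hz₂max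
  have hdom : IsDomain ((f.fiber (f.base x)).presheaf.stalk (f.asFiber x)) :=
    @isDomain_stalk_of_isGeomPtIntegralAt
      (IsLocalRing.ResidueField (Y.presheaf.stalk (f.base x))) _ (f.fiber (f.base x))
      (f.fiberToSpecResidueField (f.base x)) (f.asFiber x) hint
  have hnil : (nilradical ((f.fiber (f.base x)).presheaf.stalk (f.asFiber x))).IsPrime := by
    rw [nilradical_eq_zero]
    exact Ideal.isPrime_bot
  have hsub := minimalPrimes_subsingleton_of_nilradical_isPrime hnil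
  have hι := (f.fiberι (f.base x)).isEmbedding
  have hxι : (f.fiberι (f.base x)).base (f.asFiber x) = x := f.fiberι_asFiber x
  obtain ⟨t₁, rfl⟩ : z₁ ∈ Set.range (f.fiberι (f.base x)).base := by
    rw [Scheme.Hom.range_fiberι]; exact hz₁
  obtain ⟨t₂, rfl⟩ : z₂ ∈ Set.range (f.fiberι (f.base x)).base := by
    rw [Scheme.Hom.range_fiberι]; exact hz₂
  have hz₁x' : (f.fiberι (f.base x)).base t₁ ⤳ (f.fiberι (f.base x)).base (f.asFiber x) := by
    rw [hxι]; exact hz₁x
  have hz₂x' : (f.fiberι (f.base x)).base t₂ ⤳ (f.fiberι (f.base x)).base (f.asFiber x) := by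
    rw [hxι]; exact hz₂x
  have key := eq_of_maximal_of_subsingleton_minimalPrimes (X := f.fiber (f.base x)) (f.asFiber x)
    hsub t₁ t₂ (hι.toIsInducing.specializes_iff.mp hz₁x')
    (fun w hw => hι.injective (hz₁max _ (fiberι_image_eq f (f.base x) w)
      (hw.map (f.fiberι (f.base x)).base.hom.continuous)))
    (hι.toIsInducing.specializes_iff.mp hz₂x')
    (fun w hw => hι.injective (hz₂max _ (fiberι_image_eq f (f.base x) w)
      (hw.map (f.fiberι (f.base x)).base.hom.continuous)))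
  rw [key]

/-- a reduced ring with only one minimal prime is a domain -/
theorem isDomain_of_isReduced_of_subsingleton_minimalPrimes {A : Type*} [CommRing A] [Nontrivial A]
    [_root_.IsReduced A] (h : ∀ P ∈ minimalPrimes A, ∀ Q ∈ minimalPrimes A, P = Q) :
    IsDomain A := by
  obtain ⟨⟨P₀, hP₀⟩⟩ := Ideal.nonempty_minimalPrimes (I := (⊥ : Ideal A)) bot_ne_top
  have h1 : sInf (minimalPrimes A) = P₀ := by
    apply le_antisymm
    · exact sInf_le hP₀
    · apply le_sInf
      intro Q hQ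
      rw [h P₀ hP₀ Q hQ]
  have h2 : sInf (minimalPrimes A) = nilradical A := Ideal.sInf_minimalPrimes
  have h3 : P₀ = ⊥ := by rw [← h1, h2, nilradical_eq_zero]; rfl
  haveI : (⊥ : Ideal A).IsPrime := h3 ▸ hP₀.1.1
  exact IsDomain.of_bot_isPrime A

/-- **Main theorem (EGA IV 15.2.4-type).** -/
theorem unique_component_and_flat [IsLocallyNoetherian Y] [LocallyOfFiniteType f]
    (hopen : ∀ z : ↥(f.fiber (f.base x)), f.asFiber x ∈ closure {z} →
      (∀ z' : ↥(f.fiber (f.base x)), z ∈ closure {z'} → z' = z) →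
      EGA43.IsUnivOpenAt f ((f.fiberι (f.base x)).base z))
    (hint : FBase.IsGeomPtIntegralAt (f.fiberToSpecResidueField (f.base x)) (f.asFiber x))
    (hY : CAlg2.IsGeomUnibranch (Y.presheaf.stalk (f.base x))) :
    (∃! Z : Set X, Z ∈ irreducibleComponents (X : Type u) ∧ x ∈ Z) ∧
      (IsDomain (Y.presheaf.stalk (f.base x)) →
        IsDomain (X.presheaf.stalk x) ∧ (f.stalkMap x).hom.Flat) := by
  have hred : FBase.IsGeomReducedAt (f.fiberToSpecResidueField (f.base x)) (f.asFiber x) :=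
    @isGeomReducedAt_of_isGeomPtIntegralAt
      (IsLocalRing.ResidueField (Y.presheaf.stalk (f.base x))) _ (f.fiber (f.base x))
      (f.fiberToSpecResidueField (f.base x)) (f.asFiber x) hint
  have huniq := fibre_maximal_unique f x hint
  have hB := eq_of_maximal f x hopen hred hY huniq
  constructor
  · refine ⟨irreducibleComponent x,
      ⟨irreducibleComponent_mem_irreducibleComponents x, mem_irreducibleComponent⟩, ?_⟩
    have hgen : ∀ Z : Set X, Z ∈ irreducibleComponents (X : Type u) → x ∈ Z →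
        ∃ ζ : X, closure {ζ} = Z ∧ ζ ⤳ x ∧ ∀ w : X, w ⤳ ζ → w = ζ := by
      intro Z hZ hxZ
      have hZcl : IsClosed Z := isClosed_of_mem_irreducibleComponents Z hZ
      obtain ⟨ζ, hζ⟩ := QuasiSober.sober hZ.1 hZcl
      refine ⟨ζ, hζ.def, ?_, ?_⟩
      · rw [specializes_iff_mem_closure, hζ.def]; exact hxZ
      · intro v hv
        have h1 : Z ⊆ closure {v} := by
          rw [← hζ.def]
          exact closure_minimal (Set.singleton_subset_iff.mpr (specializes_iff_mem_closure.mp hv))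
            isClosed_closure
        have h2 : closure ({v} : Set X) ⊆ Z := hZ.2 isIrreducible_singleton.closure h1
        have h3 : IsGenericPoint v Z := subset_antisymm h2 h1
        exact h3.eq hζ
    rintro Z ⟨hZ, hxZ⟩
    obtain ⟨ζ₁, hζ₁, h₁, h₁'⟩ := hgen Z hZ hxZ
    obtain ⟨ζ₂, hζ₂, h₂, h₂'⟩ := hgen (irreducibleComponent x)
      (irreducibleComponent_mem_irreducibleComponents x) mem_irreducibleComponent
    rw [← hζ₁, ← hζ₂, hB ζ₁ ζ₂ h₁ h₁' h₂ h₂']
  · intro hdomY
    have hy : _root_.IsReduced (Y.presheaf.stalk (f.base x)) := inferInstance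
    have hflat : (f.stalkMap x).hom.Flat := Groth.Agent.S2561.result f x hopen hred hy
    refine ⟨?_, hflat⟩
    obtain ⟨U, hxU, -, hUred⟩ := Groth.Agent.S3408.result f x hopen hred hy
    haveI := hUred
    haveI hredX : _root_.IsReduced (X.presheaf.stalk x) := by
      have hinj : Function.Injective (U.ι.stalkMap ⟨x, hxU⟩).hom :=
        (ConcreteCategory.bijective_of_isIso (U.ι.stalkMap ⟨x, hxU⟩)).1
      exact isReduced_of_injective (U.ι.stalkMap ⟨x, hxU⟩).hom hinj
    apply isDomain_of_isReduced_of_subsingleton_minimalPrimes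
    intro P hP Q hQ
    have hP' := maximal_of_minimalPrime x ⟨P, hP.1.1⟩ hP
    have hQ' := maximal_of_minimalPrime x ⟨Q, hQ.1.1⟩ hQ
    have := hB _ _ hP'.1 hP'.2 hQ'.1 hQ'.2
    have h2 := (X.fromSpecStalk x).isEmbedding.injective this
    exact congrArg PrimeSpectrum.asIdeal h2

end final

end Groth.Agent.Lib.Helper12.UniqueComponent
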