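import Mathlib
import Groth.Agent.Lib.Helper12.UniqueComponent
import Groth.Agent.Lib.Helper12.FourTermFlat
import Groth.Agent.Lib.Helper55.ZeroLocusEquidim

/-!
# Admissible irreducible components through a point (EGA IV 15.2.5-type statement)

`f : X ⟶ Y` locally of finite type, `Y` locally noetherian, `x : X` lying on only one irreducible
component `Z` of its fibre, the fibre being geometrically reduced at the generic point `z` of `Z`.
An irreducible component `X'` of `X` through `x` is *admissible* if `dim_x (X' ∩ f⁻¹(y)) =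
dim_x f⁻¹(y)` and `X'_red ⟶ Y` is universally open at the generic points of the components of
`X' ∩ f⁻¹(y)` through `x`.  Then `z ∈ X'`, `X'_red ⟶ Y_red` is flat at `z`, `X'` contains all the
generizations of `z` (so there is at most one admissible component) and the fibres of `f` are
geometrically reduced at these generizations.
-/

set_option autoImplicit false
set_option linter.style.haveILetI false
universe u
open IsLocalRing AlgebraicGeometry CategoryTheory Limits

namespace Groth.Agent.Lib.Helper12.AdmComponent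

open Groth.Agent.Lib.Helper12.GeomRedLocus Groth.Agent.Lib.Helper55
open Groth.Agent.Lib.Helper12.SmoothFibreRing Groth.Agent.Lib.Helper12.UniqueComponent
open Groth.Agent.Lib.Helper12.UnivOpenGR Groth.Agent.Lib.Helper12.GeomRedFibreInv

section ringLemma

variable {A B C : Type u} [CommRing A] [CommRing B] [CommRing C] [IsLocalRing A]
  (φ : A →+* B) (π : B →+* C)

/-- the induced map on fibre rings -/
noncomputable def fibQuot :
    B ⧸ (maximalIdeal A).map φ →+* C ⧸ (maximalIdeal A).map (π.comp φ) :=
  Ideal.quotientMap _ π (by rw [← Ideal.map_map]; exact Ideal.le_comap_map)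

theorem fibQuot_mk (b : B) :
    fibQuot φ π (Ideal.Quotient.mk _ b) = Ideal.Quotient.mk _ (π b) := rfl

theorem nontrivial_fibre [IsLocalRing C] (hloc : IsLocalHom (π.comp φ)) :
    Nontrivial (C ⧸ (maximalIdeal A).map (π.comp φ)) := by
  apply Ideal.Quotient.nontrivial_iff.mpr
  intro h
  have h1 : (maximalIdeal A).map (π.comp φ) ≤ maximalIdeal C :=
    ((IsLocalRing.local_hom_TFAE (π.comp φ)).out 0 2).mp hloc
  rw [h] at h1
  exact (IsLocalRing.maximalIdeal.isMaximal C).ne_top (top_le_iff.mp h1)

theorem fibQuot_bijective [IsLocalRing C] (hπ : Function.Surjective π)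
    (hloc : IsLocalHom (π.comp φ))
    (hfield : IsField (B ⧸ (maximalIdeal A).map φ)) : Function.Bijective (fibQuot φ π) := by
  haveI := nontrivial_fibre φ π hloc
  refine ⟨?_, Ideal.quotientMap_surjective hπ⟩
  letI := hfield.toField
  exact (fibQuot φ π).injective

/-- a quotient of a noetherian local `A`-algebra with fibre a field, which is flat over `A`, is
the whole algebra -/
theorem injective_of_flat [IsLocalRing B] [IsLocalRing C] (hπ : Function.Surjective π)
    [IsNoetherianRing B] [IsLocalHom φ] [IsLocalHom π]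
    (hfield : IsField (B ⧸ (maximalIdeal A).map φ))
    (hflat : (π.comp φ).Flat) : Function.Injective π := by
  have hloc : IsLocalHom (π.comp φ) := RingHom.isLocalHom_comp π φ
  letI : Algebra A B := φ.toAlgebra
  letI : Algebra B C := π.toAlgebra
  letI : Algebra A C := (π.comp φ).toAlgebra
  haveI : IsScalarTower A B C := IsScalarTower.of_algebraMap_eq (fun _ => rfl)
  haveI : Module.Flat A C := hflat
  set K : Ideal B := RingHom.ker π with hK
  have hbij := fibQuot_bijective φ π hπ hloc hfield
  have hKm : ∀ z ∈ K, z ∈ (maximalIdeal A).map φ := by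
    intro z hz
    have h1 : fibQuot φ π (Ideal.Quotient.mk _ z) = 0 := by
      rw [fibQuot_mk, (RingHom.mem_ker).mp hz, map_zero]
    have h2 := hbij.1 (h1.trans (map_zero _).symm)
    exact Ideal.Quotient.eq_zero_iff_mem.mp h2
  have hpure : ∀ z : K, z ∈ (maximalIdeal A).map (algebraMap A B) • (⊤ : Submodule B K) := by
    intro z
    apply Groth.Agent.Lib.Helper12.FourTermFlat.mem_smul_top_of_flat_coker (A := A) (B := B)
      (Submodule.subtype K) (Algebra.linearMap B C) (Submodule.injective_subtype K)
      ?_ hπ (maximalIdeal A) z ?_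
    · intro y
      constructor
      · intro hy
        exact ⟨⟨y, hy⟩, rfl⟩
      · rintro ⟨w, rfl⟩
        exact w.2
    · rw [Ideal.smul_top_eq_map, Algebra.algebraMap_self, Ideal.map_id]
      exact hKm z.1 z.2
  haveI : Module.Finite B K := Module.Finite.iff_fg.mpr (IsNoetherian.noetherian K)
  have hle : (maximalIdeal A).map (algebraMap A B) ≤ Ideal.jacobson ⊥ := by
    rw [IsLocalRing.jacobson_eq_maximalIdeal _ bot_ne_top]
    exact ((IsLocalRing.local_hom_TFAE φ).out 0 2).mp ‹_›
  have hbot : (⊤ : Submodule B K) = ⊥ :=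
    Submodule.eq_bot_of_le_smul_of_le_jacobson_bot _ ⊤ Module.Finite.fg_top
      (fun z _ => hpure z) hle
  rw [injective_iff_map_eq_zero]
  intro b hb
  have hbK : b ∈ K := RingHom.mem_ker.mpr hb
  have : (⟨b, hbK⟩ : K) ∈ (⊥ : Submodule B K) := hbot ▸ Submodule.mem_top
  exact congrArg Subtype.val ((Submodule.mem_bot B).mp this)

/-- geometric regularity of the fibre ring passes to a quotient when the fibre ring is a field -/
theorem geomReg_transfer [IsLocalRing B] [IsLocalRing C] [IsLocalHom φ] [IsLocalHom π]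
    (ψ : A →+* C) (hψ : ψ = π.comp φ)
    (hπ : Function.Surjective π)
    (hfield : IsField (B ⧸ (maximalIdeal A).map φ))
    (h : letI : Algebra (IsLocalRing.ResidueField A) (B ⧸ (maximalIdeal A).map φ) :=
        (Ideal.quotientMap ((maximalIdeal A).map φ) φ Ideal.le_comap_map).toAlgebra
      CAlg.IsGeometricallyRegular (IsLocalRing.ResidueField A) (B ⧸ (maximalIdeal A).map φ)) :
    letI : Algebra (IsLocalRing.ResidueField A) (C ⧸ (maximalIdeal A).map ψ) :=
        (Ideal.quotientMap ((maximalIdeal A).map ψ) ψ Ideal.le_comap_map).toAlgebra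
    CAlg.IsGeometricallyRegular (IsLocalRing.ResidueField A) (C ⧸ (maximalIdeal A).map ψ) := by
  subst hψ
  have hloc : IsLocalHom (π.comp φ) := RingHom.isLocalHom_comp π φ
  letI : Algebra (IsLocalRing.ResidueField A) (B ⧸ (maximalIdeal A).map φ) :=
    (Ideal.quotientMap ((maximalIdeal A).map φ) φ Ideal.le_comap_map).toAlgebra
  letI : Algebra (IsLocalRing.ResidueField A) (C ⧸ (maximalIdeal A).map (π.comp φ)) :=
    (Ideal.quotientMap ((maximalIdeal A).map (π.comp φ)) (π.comp φ) Ideal.le_comap_map).toAlgebra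
  let e : (B ⧸ (maximalIdeal A).map φ) ≃+* (C ⧸ (maximalIdeal A).map (π.comp φ)) :=
    RingEquiv.ofBijective (fibQuot φ π) (fibQuot_bijective φ π hπ hloc hfield)
  refine isGeometricallyRegular_of_semilinear (RingEquiv.refl _) e ?_ h
  intro c
  obtain ⟨a, rfl⟩ := Ideal.Quotient.mk_surjective c
  rfl

end ringLemma

section fibreField

/-- geometric reducedness at `z` implies that the local ring at `z` is reduced -/
theorem isReduced_stalk_of_isGeomReducedAt {k : Type u} [Field k] {F : Scheme.{u}}
    (g : F ⟶ Spec (CommRingCat.of k)) (z : F)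
    (hz : FBase.IsGeomReducedAt g z) : _root_.IsReduced (F.presheaf.stalk z) := by
  haveI : IsIso (Spec.map (CommRingCat.ofHom (algebraMap k k))) := by
    have : CommRingCat.ofHom (algebraMap k k) = 𝟙 (CommRingCat.of k) := rfl
    rw [this, Spec.map_id]
    infer_instance
  haveI : IsIso (FBase.bcπ g k) := by
    unfold FBase.bcπ
    exact pullback_fst_iso_of_right_iso g (Spec.map (CommRingCat.ofHom (algebraMap k k)))
  let x' : ↥(FBase.bc g k) := (inv (FBase.bcπ g k)).base z
  have hx' : (FBase.bcπ g k).base x' = z := by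
    change ((inv (FBase.bcπ g k)) ≫ FBase.bcπ g k).base z = z
    rw [IsIso.inv_hom_id]
    rfl
  haveI := hz k x' hx'
  haveI : IsIso ((FBase.bcπ g k).stalkMap x') := inferInstance
  have hred : _root_.IsReduced (F.presheaf.stalk ((FBase.bcπ g k).base x')) :=
    isReduced_of_injective ((FBase.bcπ g k).stalkMap x').hom
      (ConcreteCategory.bijective_of_isIso ((FBase.bcπ g k).stalkMap x')).1
  exact hx' ▸ hred

variable {X S : Scheme.{u}} (f : X ⟶ S) [LocallyOfFiniteType f]

/-- at a maximal point of a fibre at which the fibre is geometrically reduced, the fibre ring is a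
field -/
theorem isField_fibRing (z : X) (hzmax : ∀ w : X, f.base w = f.base z → w ⤳ z → w = z)
    (hz : z ∈ locus f) :
    IsField (X.presheaf.stalk z ⧸
      (maximalIdeal (S.presheaf.stalk (f.base z))).map (f.stalkMap z).hom) := by
  obtain ⟨z', hfz', hz'z, -, n, -, -, -, hdim⟩ := exists_maximal_point_fiber f z
  have e : z' = z := hzmax z' hfz' hz'z
  subst e
  haveI : Ring.KrullDimLE 0 ((f.fiber (f.base z')).presheaf.stalk (f.asFiber z')) :=
    ringKrullDimZero_iff_ringKrullDim_eq_zero.mpr hdim
  haveI : _root_.IsReduced ((f.fiber (f.base z')).presheaf.stalk (f.asFiber z')) :=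
    @isReduced_stalk_of_isGeomReducedAt
      (IsLocalRing.ResidueField (S.presheaf.stalk (f.base z'))) _ (f.fiber (f.base z'))
      (f.fiberToSpecResidueField (f.base z')) (f.asFiber z') hz
  have hF : IsField ((f.fiber (f.base z')).presheaf.stalk (f.asFiber z')) :=
    Ring.KrullDimLE.isField_of_isReduced
  obtain ⟨e⟩ := nonempty_stalk_fiber_equiv f (f.base z') (f.asFiber z') z' (f.fiberι_asFiber z')
  exact MulEquiv.isField hF e.toMulEquiv

/-- at a maximal point of a fibre at which the fibre is geometrically reduced, the fibre ring is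
geometrically regular -/
theorem fibRingGeomReg_of_maximal [IsLocallyNoetherian S] (z : X)
    (hzmax : ∀ w : X, f.base w = f.base z → w ⤳ z → w = z)
    (hz : z ∈ locus f) : FibRingGeomReg f z := by
  haveI : LocallyOfFinitePresentation f := inferInstance
  haveI hlfp : LocallyOfFinitePresentation (f.fiberToSpecResidueField (f.base z)) :=
    inferInstanceAs (LocallyOfFinitePresentation
      (pullback.snd f (S.fromSpecResidueField (f.base z))))
  have hmaxf : ∀ w : ↥(f.fiber (f.base z)), w ⤳ f.asFiber z → w = f.asFiber z := by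
    intro w hw
    apply (f.fiberι (f.base z)).isEmbedding.injective
    have h3 := hw.map (f.fiberι (f.base z)).base.hom.continuous
    rw [show (f.fiberι (f.base z)).base.hom (f.asFiber z) = z from f.fiberι_asFiber z] at h3
    rw [show (f.fiberι (f.base z)).base (f.asFiber z) = z from f.fiberι_asFiber z]
    exact hzmax _ (fiberι_image_eq f (f.base z) w) h3
  have hsm : f.asFiber z ∈ (f.fiberToSpecResidueField (f.base z)).smoothLocus :=
    @mem_smoothLocus_of_maximal_of_geomReducedAt
      (IsLocalRing.ResidueField (S.presheaf.stalk (f.base z))) _ (f.fiber (f.base z))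
      (f.fiberToSpecResidueField (f.base z)) hlfp (f.asFiber z) hmaxf hz
  exact (asFiber_mem_smoothLocus_iff f z).mp hsm

end fibreField

section closedSub

variable {W X S : Scheme.{u}} (j : W ⟶ X) [IsClosedImmersion j] (f : X ⟶ S) (z₁ : W)

/-- transfer of the geometric regularity of the fibre ring to a closed subscheme, at a point where
the fibre ring is a field -/
theorem fibRingGeomReg_comp
    (hfield : IsField (X.presheaf.stalk (j.base z₁) ⧸
      (maximalIdeal (S.presheaf.stalk (f.base (j.base z₁)))).map (f.stalkMap (j.base z₁)).hom))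
    (h : FibRingGeomReg f (j.base z₁)) : FibRingGeomReg (j ≫ f) z₁ := by
  have hψ : ((j ≫ f).stalkMap z₁).hom =
      (j.stalkMap z₁).hom.comp (f.stalkMap (j.base z₁)).hom := by
    rw [Scheme.Hom.stalkMap_comp]; rfl
  exact geomReg_transfer (f.stalkMap (j.base z₁)).hom (j.stalkMap z₁).hom
    ((j ≫ f).stalkMap z₁).hom hψ (j.stalkMap_surjective z₁) hfield h

/-- if the closed subscheme is flat over the base at `z₁` and the fibre ring of the ambient scheme
is a field, the closed immersion is an isomorphism on local rings at `z₁` -/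
theorem bijective_stalkMap_of_flat [IsLocallyNoetherian X]
    (hfield : IsField (X.presheaf.stalk (j.base z₁) ⧸
      (maximalIdeal (S.presheaf.stalk (f.base (j.base z₁)))).map (f.stalkMap (j.base z₁)).hom))
    (hflat : ((j ≫ f).stalkMap z₁).hom.Flat) : Function.Bijective (j.stalkMap z₁).hom := by
  have hψ : ((j ≫ f).stalkMap z₁).hom =
      (j.stalkMap z₁).hom.comp (f.stalkMap (j.base z₁)).hom := by
    rw [Scheme.Hom.stalkMap_comp]; rfl
  rw [hψ] at hflat
  exact ⟨injective_of_flat (f.stalkMap (j.base z₁)).hom (j.stalkMap z₁).hom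
    (j.stalkMap_surjective z₁) hfield hflat, j.stalkMap_surjective z₁⟩

omit [IsClosedImmersion j] in
/-- if the stalk map at `z₁` is bijective, every generization of `j z₁` lies in the range of `j` -/
theorem mem_range_of_specializes (hbij : Function.Bijective (j.stalkMap z₁).hom) (t : X)
    (ht : t ⤳ j.base z₁) : t ∈ Set.range j.base := by
  obtain ⟨Q, hQ⟩ : ∃ Q : PrimeSpectrum (X.presheaf.stalk (j.base z₁)),
      (X.fromSpecStalk (j.base z₁)).base Q = t := by
    have : t ∈ Set.range (X.fromSpecStalk (j.base z₁)).base := by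
      rw [Scheme.range_fromSpecStalk]; exact ht
    exact this
  let e := RingEquiv.ofBijective (j.stalkMap z₁).hom hbij
  let Q' : PrimeSpectrum (W.presheaf.stalk z₁) :=
    ⟨Q.asIdeal.comap e.symm.toRingHom, inferInstance⟩
  have hQ' : (Spec.map (j.stalkMap z₁)).base Q' = Q := by
    apply PrimeSpectrum.ext
    change Ideal.comap (j.stalkMap z₁).hom (Q.asIdeal.comap e.symm.toRingHom) = Q.asIdeal
    ext b
    rw [Ideal.mem_comap, Ideal.mem_comap]
    have : e.symm.toRingHom ((j.stalkMap z₁).hom b) = b := e.symm_apply_apply b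
    rw [this]
  have h1 := congrArg (fun φ => φ.base Q') (Scheme.SpecMap_stalkMap_fromSpecStalk (f := j) (x := z₁))
  simp only [Scheme.Hom.comp_base, TopCat.hom_comp, ContinuousMap.comp_apply] at h1
  rw [hQ', hQ] at h1
  exact ⟨_, h1.symm⟩

end closedSub

section core

/-- **Core lemma.**  `z` a maximal point of its fibre at which the fibre is geometrically reduced;
`W ⊆ X` a reduced closed subscheme through `z` such that `W ⟶ Y` is universally open at `z`.
Then `W` contains all the generizations of `z`, and the fibres of `f` are geometrically reduced at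
all these generizations. -/
theorem core {X Y W : Scheme.{u}} [IsLocallyNoetherian Y] (f : X ⟶ Y) [LocallyOfFiniteType f]
    (z : X) (hzmax : ∀ w : X, f.base w = f.base z → w ⤳ z → w = z) (hz : z ∈ locus f)
    [IsReduced W] (ι' : W ⟶ X) [IsClosedImmersion ι'] (z₁ : W) (hz₁ : ι'.base z₁ = z)
    (hopen : EGA43.IsUnivOpenAt (ι' ≫ f) z₁) :
    ∀ t : X, t ⤳ z → t ∈ Set.range ι'.base ∧ t ∈ locus f := by
  classical
  haveI : LocallyOfFinitePresentation f := inferInstance
  set I := Scheme.IdealSheafData.vanishingIdeal (⊤ : TopologicalSpace.Closeds Y) with hI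
  set i : I.subscheme ⟶ Y := I.subschemeι with hi
  have hrange : Set.range i.base = Set.univ := by
    rw [hi, Scheme.IdealSheafData.range_subschemeι, Scheme.IdealSheafData.coe_support_vanishingIdeal]
    rfl
  haveI : Surjective i := ⟨Set.range_eq_univ.mp hrange⟩
  haveI : IsReduced I.subscheme := isReduced_subscheme_vanishingIdeal _
  haveI : IsLocallyNoetherian I.subscheme := LocallyOfFiniteType.isLocallyNoetherian i
  set p : pullback f i ⟶ X := pullback.fst f i with hp
  set f₀ : pullback f i ⟶ I.subscheme := pullback.snd f i with hf₀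
  have H : IsPullback p f₀ f i := IsPullback.of_hasPullback f i
  haveI : LocallyOfFiniteType f₀ := by rw [hf₀]; infer_instance
  haveI : LocallyOfFinitePresentation f₀ := inferInstance
  haveI : IsLocallyNoetherian (pullback f i) := LocallyOfFiniteType.isLocallyNoetherian f₀
  have hpt : ∀ w, i.base (f₀.base w) = f.base (p.base w) := by
    intro w
    have := congrArg (fun φ => φ.base w) H.w
    simp only [Scheme.Hom.comp_base, TopCat.hom_comp, ContinuousMap.comp_apply] at this
    exact this.symm
  have hpinj : Function.Injective p.base := p.isClosedEmbedding.injective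
  have hiinj : Function.Injective i.base := i.isClosedEmbedding.injective
  have hpspec : ∀ a b : ↥(pullback f i), p.base a ⤳ p.base b ↔ a ⤳ b :=
    fun a b => p.isClosedEmbedding.toIsEmbedding.toIsInducing.specializes_iff
  -- the lift of `W` to `X₀`
  haveI : IsIso (pullback.fst ι' p) := isIso_of_isClosedImmersion_of_surjective _
  set j : W ⟶ pullback f i := inv (pullback.fst ι' p) ≫ pullback.snd ι' p with hj
  have hjp : j ≫ p = ι' := by
    rw [hj, Category.assoc, ← pullback.condition, IsIso.inv_hom_id_assoc]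
  haveI : IsClosedImmersion j := by rw [hj]; infer_instance
  have hjpt : ∀ w, p.base (j.base w) = ι'.base w := by
    intro w
    have := congrArg (fun φ => φ.base w) hjp
    simp only [Scheme.Hom.comp_base, TopCat.hom_comp, ContinuousMap.comp_apply] at this
    exact this
  have hjinj : Function.Injective j.base := j.isClosedEmbedding.injective
  have hjspec : ∀ a b : W, j.base a ⤳ j.base b ↔ a ⤳ b :=
    fun a b => j.isClosedEmbedding.toIsEmbedding.toIsInducing.specializes_iff
  have hg₀ : (j ≫ f₀) ≫ i = ι' ≫ f := by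
    rw [Category.assoc, ← H.w, ← Category.assoc, hjp]
  haveI : LocallyOfFiniteType (j ≫ f₀) := inferInstance
  set z₀ := j.base z₁ with hz₀
  have hpz₀ : p.base z₀ = z := (hjpt z₁).trans hz₁
  -- (1) `z₀` is maximal in its fibre
  have hz₀max : ∀ w, f₀.base w = f₀.base z₀ → w ⤳ z₀ → w = z₀ := by
    intro w hw hwz
    apply hpinj
    rw [hpz₀]
    apply hzmax
    · rw [← hpt, hw, hpt, hpz₀]
    · rw [← hpz₀]; exact (hpspec _ _).mpr hwz
  -- (2) geometric reducedness
  have hz₀loc : z₀ ∈ locus f₀ := by
    rw [locus_of_isPullback H]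
    change p.base z₀ ∈ locus f
    rw [hpz₀]; exact hz
  have hfield₀ := isField_fibRing f₀ z₀ hz₀max hz₀loc
  have hreg₀ := fibRingGeomReg_of_maximal f₀ z₀ hz₀max hz₀loc
  have hreg₁ : FibRingGeomReg (j ≫ f₀) z₁ := fibRingGeomReg_comp j f₀ z₁ hfield₀ hreg₀
  haveI hlfp₁ : LocallyOfFinitePresentation ((j ≫ f₀).fiberToSpecResidueField ((j ≫ f₀).base z₁)) :=
    inferInstanceAs (LocallyOfFinitePresentation
      (pullback.snd (j ≫ f₀) (I.subscheme.fromSpecResidueField ((j ≫ f₀).base z₁))))
  have hred₁ : FBase.IsGeomReducedAt ((j ≫ f₀).fiberToSpecResidueField ((j ≫ f₀).base z₁))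
      ((j ≫ f₀).asFiber z₁) := geomReducedAt_of_fibRingGeomReg (j ≫ f₀) z₁ hreg₁
  -- (7) universal openness
  have hopen₀ : EGA43.IsUnivOpenAt (j ≫ f₀) z₁ := by
    rw [← hg₀] at hopen
    exact Groth.Agent.Lib.Helper24.isUnivOpenAt_of_isPullback hopen
      (isPullback_of_mono (j ≫ f₀) i) z₁ rfl
  -- (8) `z₁` is maximal in its fibre
  have hz₁max : ∀ w : W, (j ≫ f₀).base w = (j ≫ f₀).base z₁ → w ⤳ z₁ → w = z₁ := by
    intro w hw hwz
    apply hjinj
    exact hz₀max (j.base w) hw ((hjspec _ _).mpr hwz)
  have hopen₁ := fibreForm_of_pointForm (j ≫ f₀) z₁ (fun w hw hwz _ => by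
    rw [hz₁max w hw hwz]; exact hopen₀)
  have hflat : ((j ≫ f₀).stalkMap z₁).hom.Flat :=
    Groth.Agent.S2561.result (j ≫ f₀) z₁ hopen₁ hred₁ inferInstance
  have hbij := bijective_stalkMap_of_flat j f₀ z₁ hfield₀ hflat
  -- flatness of `f₀` at `z₀`
  have hflat₀ : (f₀.stalkMap z₀).hom.Flat := by
    have hψ : ((j ≫ f₀).stalkMap z₁).hom =
        (j.stalkMap z₁).hom.comp (f₀.stalkMap (j.base z₁)).hom := by
      rw [Scheme.Hom.stalkMap_comp]; rfl
    let e := RingEquiv.ofBijective (j.stalkMap z₁).hom hbij
    have h2 : (f₀.stalkMap z₀).hom = (e.symm.toRingHom).comp ((j ≫ f₀).stalkMap z₁).hom := by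
      rw [hψ]
      ext a
      exact (e.symm_apply_apply _).symm
    rw [h2]
    exact RingHom.Flat.comp hflat (RingHom.Flat.of_bijective e.symm.bijective)
  have hW₀ : IsOpen {w : ↥(pullback f i) | (f₀.stalkMap w).hom.Flat ∧ w ∈ locus f₀} :=
    Groth.Agent.Lib.Helper12.GeomRedFlatLocus.isOpen_flat_inter_locus f₀
  intro t ht
  obtain ⟨t₀, rfl⟩ := p.surjective t
  rw [← hpz₀] at ht
  have ht₀ : t₀ ⤳ z₀ := (hpspec _ _).mp ht
  constructor
  · obtain ⟨w, hw⟩ := mem_range_of_specializes j z₁ hbij t₀ ht₀
    exact ⟨w, by rw [← hjpt, hw]⟩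
  · have h3 : t₀ ∈ {w : ↥(pullback f i) | (f₀.stalkMap w).hom.Flat ∧ w ∈ locus f₀} :=
      ht₀.mem_open hW₀ ⟨hflat₀, hz₀loc⟩
    have h4 := h3.2
    rw [locus_of_isPullback H] at h4
    exact h4

end core

section main

variable {X Y : Scheme.{u}} (f : X ⟶ Y)

/-- change of base point for geometric reducedness of the fibres -/
theorem mem_locus_iff_of_fiberι (s : Y) (a : f.fiber s) :
    (f.fiberι s).base a ∈ locus f ↔ FBase.IsGeomReducedAt (f.fiberToSpecResidueField s) a := by
  have H : IsPullback (𝟙 X) f f (𝟙 Y) := IsPullback.of_horiz_isIso ⟨by simp⟩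
  exact geomReducedAt_fibre_iff_of_isPullback H ((f.fiberι s).base a) s
    (fiberι_image_eq f s a) a rfl

/-- the admissibility condition of EGA IV 15.2.5-type statements -/
def Adm (x : X) (X' : TopologicalSpace.Closeds X) : Prop :=
  (X' : Set X) ∈ irreducibleComponents (X : Type u) ∧ ∃ hx : x ∈ X',
    FlatMor.localDim ↥((X' : Set X) ∩ f.base ⁻¹' {f.base x})
        ⟨x, ⟨hx, Set.mem_singleton (f.base x)⟩⟩ =
      FlatMor.fibreDimAt f x ∧
    ∀ w : ↥(Scheme.IdealSheafData.vanishingIdeal X').subscheme,
      f.base ((Scheme.IdealSheafData.vanishingIdeal X').subschemeι.base w) = f.base x →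
      x ∈ closure {(Scheme.IdealSheafData.vanishingIdeal X').subschemeι.base w} →
      (∀ t : X, t ∈ (X' : Set X) → f.base t = f.base x →
          (Scheme.IdealSheafData.vanishingIdeal X').subschemeι.base w ∈ closure {t} →
          t = (Scheme.IdealSheafData.vanishingIdeal X').subschemeι.base w) →
      EGA43.IsUnivOpenAt ((Scheme.IdealSheafData.vanishingIdeal X').subschemeι ≫ f) w

variable [IsLocallyNoetherian Y] [LocallyOfFiniteType f] (x : X)

/-- the maximal point of the fibre through `x` generizing `x`, when `x` lies on only one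
irreducible component of its fibre -/
theorem exists_unique_maximal
    (h1 : ∃! Zc : Set ↥(f.fiber (f.base x)),
      Zc ∈ irreducibleComponents (↥(f.fiber (f.base x)) : Type u) ∧ f.asFiber x ∈ Zc)
    (h2 : ∀ z : ↥(f.fiber (f.base x)), f.asFiber x ∈ closure {z} →
      (∀ z' : ↥(f.fiber (f.base x)), z ∈ closure {z'} → z' = z) →
      FBase.IsGeomReducedAt (f.fiberToSpecResidueField (f.base x)) z) :
    ∃ (z : X) (n : ℕ), f.base z = f.base x ∧ z ⤳ x ∧ (∀ w : X, f.base w = f.base x → w ⤳ z → w = z) ∧
      FlatMor.fibreDimAt f x = n ∧ z ∈ locus f ∧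
      ∀ t : X, f.base t = f.base x → t ⤳ x → (∀ w : X, f.base w = f.base x → w ⤳ t → w = t) →
        t = z := by
  obtain ⟨z, hfz, hzx, hzmax, n, -, hFx, -, -⟩ := exists_maximal_point_fiber f x
  haveI : LocallyOfFiniteType (f.fiberToSpecResidueField (f.base x)) :=
    MorphismProperty.pullback_snd (P := @LocallyOfFiniteType) _ _ ‹_›
  have hι := (f.fiberι (f.base x)).isEmbedding
  have hxι : (f.fiberι (f.base x)).base (f.asFiber x) = x := f.fiberι_asFiber x
  -- dictionary for maximal fibre points
  have hdict : ∀ t : X, f.base t = f.base x → t ⤳ x →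
      (∀ w : X, f.base w = f.base x → w ⤳ t → w = t) →
      ∃ t' : ↥(f.fiber (f.base x)), (f.fiberι (f.base x)).base t' = t ∧
        f.asFiber x ∈ closure {t'} ∧ (∀ w', w' ⤳ t' → w' = t') := by
    intro t hft htx htmax
    obtain ⟨t', rfl⟩ : t ∈ Set.range (f.fiberι (f.base x)).base := by
      rw [Scheme.Hom.range_fiberι]; exact hft
    refine ⟨t', rfl, ?_, ?_⟩
    · rw [← specializes_iff_mem_closure, ← hι.toIsInducing.specializes_iff, hxι]
      exact htx
    · intro w' hw'
      apply hι.injective
      exact htmax _ (fiberι_image_eq f (f.base x) w')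
        (hw'.map (f.fiberι (f.base x)).base.hom.continuous)
  obtain ⟨z', hz'z, hz'x, hz'max⟩ := hdict z hfz hzx hzmax
  refine ⟨z, n, hfz, hzx, hzmax, hFx, ?_, ?_⟩
  · rw [← hz'z, mem_locus_iff_of_fiberι]
    apply h2 z' hz'x
    intro z'' hz''
    exact hz'max z'' (specializes_iff_mem_closure.mpr hz'')
  · intro t hft htx htmax
    obtain ⟨t', ht't, ht'x, ht'max⟩ := hdict t hft htx htmax
    have hcz : closure ({z'} : Set ↥(f.fiber (f.base x))) ∈
        irreducibleComponents (↥(f.fiber (f.base x)) : Type u) :=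
      closure_mem_irreducibleComponents_of_maximal z' (fun y hy => by rw [hz'max y hy])
    have hct : closure ({t'} : Set ↥(f.fiber (f.base x))) ∈
        irreducibleComponents (↥(f.fiber (f.base x)) : Type u) :=
      closure_mem_irreducibleComponents_of_maximal t' (fun y hy => by rw [ht'max y hy])
    have heq : closure ({t'} : Set ↥(f.fiber (f.base x))) = closure {z'} :=
      h1.unique ⟨hct, ht'x⟩ ⟨hcz, hz'x⟩
    have h3 : t' ⤳ z' := by
      rw [specializes_iff_mem_closure, heq]; exact subset_closure rfl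
    have h4 : z' ⤳ t' := by
      rw [specializes_iff_mem_closure, ← heq]; exact subset_closure rfl
    rw [← ht't, ← hz'z, (h3.antisymm h4).eq]

/-- an admissible component contains the maximal point `z` of the fibre, and the restriction of
`f` to it is universally open at `z` -/
theorem adm_point (z : X) (n : ℕ) (hfz : f.base z = f.base x) (hzx : z ⤳ x)
    (hzmax : ∀ w : X, f.base w = f.base x → w ⤳ z → w = z)
    (hFx : FlatMor.fibreDimAt f x = n)
    (hzuniq : ∀ t : X, f.base t = f.base x → t ⤳ x →
      (∀ w : X, f.base w = f.base x → w ⤳ t → w = t) → t = z)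
    (X' : TopologicalSpace.Closeds X) (hX' : Adm f x X') :
    ∃ z₁ : ↥(Scheme.IdealSheafData.vanishingIdeal X').subscheme,
      (Scheme.IdealSheafData.vanishingIdeal X').subschemeι.base z₁ = z ∧
      EGA43.IsUnivOpenAt ((Scheme.IdealSheafData.vanishingIdeal X').subschemeι ≫ f) z₁ := by
  obtain ⟨-, hx, hdim, hopenW⟩ := hX'
  set ι' := (Scheme.IdealSheafData.vanishingIdeal X').subschemeι with hι'
  have hrT : Set.range ι'.base = (X' : Set X) := by
    rw [hι', Scheme.IdealSheafData.range_subschemeι,
      Scheme.IdealSheafData.coe_support_vanishingIdeal]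
  obtain ⟨w₀, hw₀⟩ : x ∈ Set.range ι'.base := by rw [hrT]; exact hx
  obtain ⟨w₁, hfw₁, hw₁w₀, -, n', hn', hFw₀, -, -⟩ := exists_maximal_point_fiber (ι' ≫ f) w₀
  -- `n' = n`
  have hnn : (n' : WithBot ℕ∞) = n := by
    rw [← hFw₀, ← hFx, ← hdim, fibreDimAt_preimmersion_comp_eq f ι' w₀]
    subst hw₀
    exact localDim_congr_set (by rw [hrT]) _ _ _
  have hnn' : n' = n := by exact_mod_cast hnn
  have hfw₁' : f.base (ι'.base w₁) = f.base x := by
    rw [← hw₀]; exact hfw₁
  have hw₁x : ι'.base w₁ ⤳ x := by
    rw [← hw₀]; exact hw₁w₀.map ι'.base.hom.continuous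
  have hn'' := (trdeg_residueField_preimmersion_comp ι' f w₁).symm.trans hn'
  have hmaxw₁ : ∀ w : X, f.base w = f.base x → w ⤳ ι'.base w₁ → w = ι'.base w₁ := by
    intro w hw hww₁
    by_contra hne
    obtain ⟨m, hm⟩ := exists_trdeg_residueField_eq_natCast f w
    have hstrict := trdeg_add_one_le_of_specializes_of_fiber_eq f w (ι'.base w₁) hww₁ hne
      (hw.trans hfw₁'.symm) n' m hn'' hm
    have hche := trdeg_le_fibreDimAt_of_specializes f w x (hww₁.trans hw₁x) m hm
    rw [hFx] at hche
    have : m ≤ n := by exact_mod_cast hche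
    omega
  have hw₁z : ι'.base w₁ = z := hzuniq _ hfw₁' hw₁x hmaxw₁
  refine ⟨w₁, hw₁z, ?_⟩
  apply hopenW w₁ hfw₁'
  · exact specializes_iff_mem_closure.mp hw₁x
  · intro t _ hft ht
    rw [hw₁z] at ht ⊢
    exact hzmax t hft (specializes_iff_mem_closure.mpr ht)

variable
    (h1 : ∃! Zc : Set ↥(f.fiber (f.base x)),
      Zc ∈ irreducibleComponents (↥(f.fiber (f.base x)) : Type u) ∧ f.asFiber x ∈ Zc)
    (h2 : ∀ z : ↥(f.fiber (f.base x)), f.asFiber x ∈ closure {z} →
      (∀ z' : ↥(f.fiber (f.base x)), z ∈ closure {z'} → z' = z) →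
      FBase.IsGeomReducedAt (f.fiberToSpecResidueField (f.base x)) z)

include h1 h2

/-- **Key consequence**: there is a point `z ⤳ x` contained in every admissible component, all of
whose generizations lie in every admissible component and in the locus of geometric reducedness
of the fibres. -/
theorem exists_point_of_adm :
    ∃ z : X, ∀ X' : TopologicalSpace.Closeds X, Adm f x X' →
      z ∈ (X' : Set X) ∧ ∀ t : X, t ⤳ z → t ∈ (X' : Set X) ∧ t ∈ locus f := by
  obtain ⟨z, n, hfz, hzx, hzmax, hFx, hzloc, hzuniq⟩ := exists_unique_maximal f x h1 h2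
  refine ⟨z, fun X' hX' => ?_⟩
  obtain ⟨z₁, hz₁, hopen⟩ := adm_point f x z n hfz hzx hzmax hFx hzuniq X' hX'
  have hrT : Set.range (Scheme.IdealSheafData.vanishingIdeal X').subschemeι.base = (X' : Set X) := by
    rw [Scheme.IdealSheafData.range_subschemeι, Scheme.IdealSheafData.coe_support_vanishingIdeal]
  haveI : IsReduced (Scheme.IdealSheafData.vanishingIdeal X').subscheme :=
    isReduced_subscheme_vanishingIdeal _
  have hzmax' : ∀ w : X, f.base w = f.base z → w ⤳ z → w = z := fun w hw hwz =>
    hzmax w (hw.trans hfz) hwz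
  have hcore := core f z hzmax' hzloc (Scheme.IdealSheafData.vanishingIdeal X').subschemeι z₁ hz₁
    hopen
  refine ⟨?_, fun t ht => ?_⟩
  · rw [← hrT]; exact ⟨z₁, hz₁⟩
  · have := hcore t ht
    rw [hrT] at this
    exact this

theorem subsingleton_adm : {X' : TopologicalSpace.Closeds X | Adm f x X'}.Subsingleton := by
  obtain ⟨z, hz⟩ := exists_point_of_adm f x h1 h2
  intro X' hX' X'' hX''
  obtain ⟨-, hgen'⟩ := hz X' hX'
  obtain ⟨hz'', -⟩ := hz X'' hX''
  have hc' : (X' : Set X) ∈ irreducibleComponents (X : Type u) := hX'.1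
  have hc'' : (X'' : Set X) ∈ irreducibleComponents (X : Type u) := hX''.1
  obtain ⟨ζ, hζ⟩ := QuasiSober.sober hc''.1 X''.isClosed
  have hζz : ζ ⤳ z := by
    rw [specializes_iff_mem_closure, hζ.def]; exact hz''
  have hζX' : ζ ∈ (X' : Set X) := (hgen' ζ hζz).1
  have hsub : (X'' : Set X) ⊆ X' := by
    rw [← hζ.def]
    exact closure_minimal (Set.singleton_subset_iff.mpr hζX') X'.isClosed
  have hsub' : (X' : Set X) ⊆ X'' := hc''.2 hc'.1 hsub
  exact SetLike.coe_injective (subset_antisymm hsub' hsub)

theorem geomReduced_generic_of_adm [IrreducibleSpace Y] (X' : TopologicalSpace.Closeds X)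
    (hX' : Adm f x X') (ζ : ↥(f.fiber (genericPoint Y)))
    (hζ : closure {(f.fiberι (genericPoint Y)).base ζ} = (X' : Set X)) :
    FBase.IsGeomReducedAt (f.fiberToSpecResidueField (genericPoint Y)) ζ := by
  obtain ⟨z, hz⟩ := exists_point_of_adm f x h1 h2
  obtain ⟨hzX', hgen⟩ := hz X' hX'
  rw [← mem_locus_iff_of_fiberι]
  refine (hgen _ ?_).2
  rw [specializes_iff_mem_closure, hζ]
  exact hzX'

end main

end Groth.Agent.Lib.Helper12.AdmComponent
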