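import Groth.Agent.Lib.Helper12.FibreDepth
import Groth.Agent.Lib.Helper29.RegSeqFibre

/-!
# Base change of fibre depth (helper12)

`A → B` Noetherian, `A → A'`, `B' = A' ⊗_A B` Noetherian, `M` a finite `B`-module flat over `A`, `J`
an ideal of `B`.  If the fibre stalks of `M` at all primes `q ⊇ J` have depth `≥ n`, then
`depth_{JB'} (B' ⊗_B M) ≥ n`.
-/

set_option autoImplicit false
universe u

namespace Groth.Agent.Lib.Helper12.FibreDepthBC

open IsLocalRing RingTheory.Sequence TensorProduct
open scoped Pointwise

section Scale

variable {R : Type*} [CommRing R]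

/-- Weak regularity is invariant under multiplying the terms by units. -/
theorem isWeaklyRegular_of_forall₂_unit {rs rs' : List R}
    (h : List.Forall₂ (fun a b => ∃ u : R, IsUnit u ∧ b = u * a) rs rs') :
    ∀ (E : Type*) [AddCommGroup E] [Module R E], IsWeaklyRegular E rs → IsWeaklyRegular E rs' := by
  induction h with
  | nil => intro E _ _ _; exact IsWeaklyRegular.nil R E
  | @cons a b l l' hab _ ih =>
    intro E _ _ hreg
    obtain ⟨u, hu, rfl⟩ := hab
    rw [isWeaklyRegular_cons_iff] at hreg ⊢
    refine ⟨?_, ?_⟩
    · exact (IsUnit.isSMulRegular E hu).mul hreg.1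
    · have heq : (u * a) • (⊤ : Submodule R E) = a • (⊤ : Submodule R E) := by
        ext x
        simp only [Submodule.mem_smul_pointwise_iff_exists, Submodule.mem_top, true_and]
        constructor
        · rintro ⟨y, rfl⟩
          exact ⟨u • y, by rw [smul_smul, mul_comm]⟩
        · rintro ⟨y, rfl⟩
          obtain ⟨v, hv⟩ := hu.exists_left_inv
          exact ⟨v • y, by rw [smul_smul, mul_assoc, mul_comm a v, ← mul_assoc, mul_comm u v, hv,
            one_mul]⟩
      have e : QuotSMulTop a E ≃ₗ[R] QuotSMulTop (u * a) E :=
        Submodule.quotEquivOfEq _ _ heq.symm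
      exact (e.isWeaklyRegular_congr l').mp (ih _ hreg.2)

end Scale

section Lift

variable {B : Type*} [CommRing B] (q : Ideal B) [q.IsPrime]

/-- A list in the maximal ideal of `B_q` is termwise a unit multiple of the image of a list in
`q`. -/
theorem exists_list_forall₂_unit (rs : List (Localization.AtPrime q))
    (hrs : ∀ r ∈ rs, r ∈ maximalIdeal (Localization.AtPrime q)) :
    ∃ bs : List B, (∀ b ∈ bs, b ∈ q) ∧
      List.Forall₂ (fun a b => ∃ u : Localization.AtPrime q, IsUnit u ∧ b = u * a) rs
        (bs.map (algebraMap B (Localization.AtPrime q))) := by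
  induction rs with
  | nil => exact ⟨[], by simp, by simp⟩
  | cons r l ih =>
    obtain ⟨bs, h1, h2⟩ := ih (fun x hx => hrs x (List.mem_cons_of_mem _ hx))
    obtain ⟨⟨b, s⟩, hbs⟩ := IsLocalization.surj q.primeCompl r
    have hu : IsUnit (algebraMap B (Localization.AtPrime q) s) :=
      IsLocalization.map_units _ s
    have hbq : b ∈ q := by
      have hr := hrs r (List.mem_cons_self ..)
      have : algebraMap B (Localization.AtPrime q) b ∈ maximalIdeal (Localization.AtPrime q) := by
        rw [← hbs]
        exact Ideal.mul_mem_right _ _ hr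
      rwa [IsLocalization.AtPrime.to_map_mem_maximal_iff (Localization.AtPrime q) q] at this
    refine ⟨b :: bs, ?_, ?_⟩
    · intro x hx
      rcases List.mem_cons.mp hx with rfl | hx
      · exact hbq
      · exact h1 x hx
    · rw [List.map_cons]
      refine List.Forall₂.cons ⟨_, hu, ?_⟩ h2
      rw [← hbs, mul_comm]

end Lift

section Transversal

variable (A : Type u) {R S : Type u} [CommRing A] [CommRing R] [CommRing S]
  [Algebra A R] [Algebra R S] [Algebra A S] [IsScalarTower A R S] [Module.Flat A R]
  [IsLocalRing R] [IsLocalRing S] [IsNoetherianRing S] [IsLocalHom (algebraMap R S)]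
  (X : Type u) [AddCommGroup X] [Module A X]

/-- A sequence which is weakly regular on the closed fibre of an `R`-flat finite `S`-module `N`
stays weakly regular on `N ⊗[A] X` for every `A`-module `X`. -/
theorem isWeaklyRegular_tensor_of_fibre (fs : List S) :
    ∀ (N : Type u) [AddCommGroup N] [Module S N] [Module R N] [Module A N]
      [IsScalarTower R S N] [IsScalarTower A R N] [IsScalarTower A S N]
      [Module.Finite S N] [Module.Flat R N],
      IsWeaklyRegular
        (N ⧸ ((maximalIdeal R).map (algebraMap R S) • (⊤ : Submodule S N))) fs →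
      IsWeaklyRegular (N ⊗[A] X) fs := by
  induction fs with
  | nil =>
    intro N _ _ _ _ _ _ _ _ _ _
    exact IsWeaklyRegular.nil S _
  | cons y l ih =>
    intro N _ _ _ _ _ _ _ _ _ hreg
    rw [isWeaklyRegular_cons_iff] at hreg
    obtain ⟨h1, h2⟩ := Groth.Agent.Lib.Helper93.DepthFlat.isSMulRegular_and_flat_of_regular_fibre
      (R := R) (S := S) N hreg.1
    have h3 : IsWeaklyRegular (QuotSMulTop y N ⧸
        ((maximalIdeal R).map (algebraMap R S) • (⊤ : Submodule S (QuotSMulTop y N)))) l :=
      ((Groth.Agent.Lib.Helper93.DepthFlat.fibreQuotSMulTopEquiv N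
        ((maximalIdeal R).map (algebraMap R S)) y).isWeaklyRegular_congr l).mpr hreg.2
    haveI : Module.Flat A (QuotSMulTop y N) := Module.Flat.trans A R _
    have h4 := ih (QuotSMulTop y N) h3
    rw [isWeaklyRegular_cons_iff]
    refine ⟨Groth.Agent.Lib.Helper93.DepthFlat.isSMulRegular_tensor_of_flat_quot (R := A) h1, ?_⟩
    exact ((Groth.Agent.Lib.Helper93.DepthFlat.quotSMulTopTensorEquivLeft (R := A) (N := N)
      (M := X) y).isWeaklyRegular_congr l).mpr h4

end Transversal

section BC

variable (A B A' B' : Type u) [CommRing A] [CommRing B] [CommRing A'] [CommRing B']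
  [Algebra A B] [Algebra A A'] [Algebra B B'] [Algebra A' B'] [Algebra A B']
  [IsScalarTower A B B'] [IsScalarTower A A' B'] [Algebra.IsPushout A B A' B']

/-- The `B`-linear isomorphism `B' ⊗[B] M ≃ M ⊗[A] A'` for a pushout square. -/
noncomputable def pushoutEquiv (M : Type u) [AddCommGroup M] [Module B M] [Module A M]
    [IsScalarTower A B M] : B' ⊗[B] M ≃ₗ[B] M ⊗[A] A' :=
  (TensorProduct.comm B B' M) ≪≫ₗ
    (TensorProduct.congr (LinearEquiv.refl B M)
      ((Algebra.IsPushout.equiv A B A' B').symm.toLinearEquiv)) ≪≫ₗ
    (AlgebraTensorModule.cancelBaseChange A B B M A')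

variable (q' : Ideal B') [q'.IsPrime]
  (M : Type u) [AddCommGroup M] [Module B M] [Module A M] [IsScalarTower A B M]

/-- The intermediate localization `(B' ⊗[B] M)_W` at the image `W'` of `W = B ∖ q` is, as a
`B`-module, `M_q ⊗[A] A'`. -/
noncomputable def midEquiv :
    LocalizedModule (Algebra.algebraMapSubmonoid B' (q'.comap (algebraMap B B')).primeCompl)
      (B' ⊗[B] M) ≃ₗ[B]
    LocalizedModule (q'.comap (algebraMap B B')).primeCompl M ⊗[A] A' := by
  haveI h1 : IsLocalizedModule (q'.comap (algebraMap B B')).primeCompl
      ((LocalizedModule.mkLinearMap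
        (Algebra.algebraMapSubmonoid B' (q'.comap (algebraMap B B')).primeCompl)
        (B' ⊗[B] M)).restrictScalars B) :=
    IsLocalizedModule.restrictScalars _ _
  haveI h2 : IsLocalizedModule (q'.comap (algebraMap B B')).primeCompl
      (AlgebraTensorModule.rTensor A A'
        (LocalizedModule.mkLinearMap (q'.comap (algebraMap B B')).primeCompl M)) := inferInstance
  exact IsLocalizedModule.linearEquiv (q'.comap (algebraMap B B')).primeCompl
    ((LocalizedModule.mkLinearMap
        (Algebra.algebraMapSubmonoid B' (q'.comap (algebraMap B B')).primeCompl)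
        (B' ⊗[B] M)).restrictScalars B)
    ((AlgebraTensorModule.rTensor A A'
        (LocalizedModule.mkLinearMap (q'.comap (algebraMap B B')).primeCompl M)) ∘ₗ
      (pushoutEquiv A B A' B' M).toLinearMap)

theorem algebraMapSubmonoid_le :
    Algebra.algebraMapSubmonoid B' (q'.comap (algebraMap B B')).primeCompl ≤ q'.primeCompl := by
  rintro _ ⟨b, hb, rfl⟩
  exact hb

/-- The localization map from the intermediate localization to the localization at `q'`. -/
noncomputable def midToLoc :
    LocalizedModule (Algebra.algebraMapSubmonoid B' (q'.comap (algebraMap B B')).primeCompl)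
      (B' ⊗[B] M) →ₗ[B'] LocalizedModule q'.primeCompl (B' ⊗[B] M) :=
  IsLocalizedModule.liftOfLE _ _ (algebraMapSubmonoid_le B B' q')
    (LocalizedModule.mkLinearMap _ _) (LocalizedModule.mkLinearMap _ _)

instance : IsLocalizedModule q'.primeCompl (midToLoc B B' q' M) := by
  unfold midToLoc
  infer_instance

/-- Transfer of weak regularity from `M_q ⊗[A] A'` to `(B' ⊗[B] M)_{q'}`. -/
theorem isWeaklyRegular_localizedModule_baseChange (bs : List B)
    (h : IsWeaklyRegular
      (LocalizedModule (q'.comap (algebraMap B B')).primeCompl M ⊗[A] A') bs) :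
    IsWeaklyRegular (LocalizedModule q'.primeCompl (B' ⊗[B] M))
      ((bs.map (algebraMap B B')).map (algebraMap B' (Localization.AtPrime q'))) := by
  have h1 : IsWeaklyRegular
      (LocalizedModule (Algebra.algebraMapSubmonoid B' (q'.comap (algebraMap B B')).primeCompl)
        (B' ⊗[B] M)) bs :=
    ((midEquiv A B A' B' q' M).isWeaklyRegular_congr bs).mpr h
  have h2 : IsWeaklyRegular
      (LocalizedModule (Algebra.algebraMapSubmonoid B' (q'.comap (algebraMap B B')).primeCompl)
        (B' ⊗[B] M)) (bs.map (algebraMap B B')) :=
    (isWeaklyRegular_map_algebraMap_iff B' _ bs).mpr h1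
  exact IsWeaklyRegular.of_isLocalizedModule (Localization.AtPrime q') q'.primeCompl
    (midToLoc B B' q' M) h2

/-- Transfer of vanishing. -/
theorem subsingleton_localizedModule_baseChange
    (h : Subsingleton (LocalizedModule (q'.comap (algebraMap B B')).primeCompl M ⊗[A] A')) :
    Subsingleton (LocalizedModule q'.primeCompl (B' ⊗[B] M)) := by
  haveI h1 : Subsingleton
      (LocalizedModule (Algebra.algebraMapSubmonoid B' (q'.comap (algebraMap B B')).primeCompl)
        (B' ⊗[B] M)) := (midEquiv A B A' B' q' M).toEquiv.subsingleton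
  refine ⟨fun x y => ?_⟩
  have h0 : ∀ z : LocalizedModule q'.primeCompl (B' ⊗[B] M), z = 0 := by
    intro z
    obtain ⟨⟨m, s⟩, hs⟩ := IsLocalizedModule.surj q'.primeCompl (midToLoc B B' q' M) z
    have hm : m = 0 := Subsingleton.elim _ _
    rw [hm, map_zero] at hs
    exact (IsLocalizedModule.smul_injective (midToLoc B B' q' M) s)
      (show s • z = s • (0 : LocalizedModule q'.primeCompl (B' ⊗[B] M)) by rw [smul_zero]; exact hs)
  rw [h0 x, h0 y]

end BC

section Core

variable (A B A' B' : Type u) [CommRing A] [CommRing B] [CommRing A'] [CommRing B']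
  [IsNoetherianRing A] [IsNoetherianRing B]
  [Algebra A B] [Algebra A A'] [Algebra B B'] [Algebra A' B'] [Algebra A B']
  [IsScalarTower A B B'] [IsScalarTower A A' B'] [Algebra.IsPushout A B A' B']
  (q' : Ideal B') [q'.IsPrime]
  (M : Type u) [AddCommGroup M] [Module B M] [Module A M] [IsScalarTower A B M]
  [Module.Finite B M]

include A' in
/-- Core: if `M_q` is `A`-flat and its fibre `M_q / p M_q` has depth `≥ n` over `B_q`, then
`(B' ⊗[B] M)_{q'}` has depth `≥ n`. -/
theorem le_depth_baseChange_of_le_depth_quotient
    [Module.Flat A (LocalizedModule (q'.comap (algebraMap B B')).primeCompl M)] (n : ℕ)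
    (h1 : (n : ℕ∞) ≤ LocCoh.depth (Localization.AtPrime (q'.comap (algebraMap B B')))
      (LocalizedModule (q'.comap (algebraMap B B')).primeCompl M ⧸
        (((q'.comap (algebraMap B B')).comap (algebraMap A B)).map
          (algebraMap A (Localization.AtPrime (q'.comap (algebraMap B B'))))) •
        (⊤ : Submodule (Localization.AtPrime (q'.comap (algebraMap B B')))
          (LocalizedModule (q'.comap (algebraMap B B')).primeCompl M)))) :
    (n : ℕ∞) ≤ LocCoh.depth (Localization.AtPrime q')
      (LocalizedModule q'.primeCompl (B' ⊗[B] M)) := by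
  set q : Ideal B := q'.comap (algebraMap B B') with hq
  set p : Ideal A := q.comap (algebraMap A B) with hp
  haveI hlies : q.LiesOver p := ⟨rfl⟩
  letI := Localization.AtPrime.algebraOfLiesOver p q
  have hNq : IsNoetherianRing (Localization.AtPrime q) :=
    IsLocalization.isNoetherianRing q.primeCompl _ inferInstance
  have hloc : IsLocalHom (algebraMap (Localization.AtPrime p) (Localization.AtPrime q)) := by
    rw [Localization.AtPrime.IsLiesOverAlgebra.algebraMap_eq]
    exact Localization.isLocalHom_localRingHom _ _ _ _
  have hmap : (maximalIdeal (Localization.AtPrime p)).map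
      (algebraMap (Localization.AtPrime p) (Localization.AtPrime q)) =
      p.map (algebraMap A (Localization.AtPrime q)) := by
    rw [← Localization.AtPrime.map_eq_maximalIdeal, Ideal.map_map,
      ← IsScalarTower.algebraMap_eq]
  -- the `A_p`-module structure on `N`
  letI modR : Module (Localization.AtPrime p) (LocalizedModule q.primeCompl M) :=
    Module.compHom _ (algebraMap (Localization.AtPrime p) (Localization.AtPrime q))
  haveI tRS : IsScalarTower (Localization.AtPrime p) (Localization.AtPrime q)
      (LocalizedModule q.primeCompl M) :=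
    IsScalarTower.of_algebraMap_smul fun _ _ => rfl
  haveI tAR : IsScalarTower A (Localization.AtPrime p) (LocalizedModule q.primeCompl M) := by
    refine ⟨fun a r x => ?_⟩
    change algebraMap (Localization.AtPrime p) (Localization.AtPrime q) (a • r) • x =
      a • (algebraMap (Localization.AtPrime p) (Localization.AtPrime q) r • x)
    rw [Algebra.smul_def, map_mul, ← IsScalarTower.algebraMap_apply, mul_smul,
      algebraMap_smul]
  haveI hflatR : Module.Flat (Localization.AtPrime p) (LocalizedModule q.primeCompl M) :=
    (Module.flat_iff_of_isLocalization (Localization.AtPrime p) p.primeCompl _).mpr inferInstance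
  haveI hflatAR : Module.Flat A (Localization.AtPrime p) := IsLocalization.flat _ p.primeCompl
  unfold LocCoh.depth at h1
  rw [Groth.Agent.Lib.Helper93.Depth.natCast_le_idealDepth_iff] at h1
  have hple : p.map (algebraMap A (Localization.AtPrime q)) ≤
      maximalIdeal (Localization.AtPrime q) := by
    rw [← hmap]
    exact map_maximalIdeal_le _
  rcases h1 with h1 | ⟨rs, hlen, hmem, hreg⟩
  · -- degenerate case: `N = 0`
    have htop : (⊤ : Submodule (Localization.AtPrime q) (LocalizedModule q.primeCompl M)) ≤
        maximalIdeal (Localization.AtPrime q) •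
          (⊤ : Submodule (Localization.AtPrime q) (LocalizedModule q.primeCompl M)) := by
      intro x _
      have hx : Submodule.mkQ ((p.map (algebraMap A (Localization.AtPrime q))) •
          (⊤ : Submodule (Localization.AtPrime q) (LocalizedModule q.primeCompl M))) x ∈
          maximalIdeal (Localization.AtPrime q) • (⊤ : Submodule (Localization.AtPrime q) _) := by
        rw [h1]; trivial
      have hmapeq : maximalIdeal (Localization.AtPrime q) •
          (⊤ : Submodule (Localization.AtPrime q) (LocalizedModule q.primeCompl M ⧸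
            (p.map (algebraMap A (Localization.AtPrime q))) •
              (⊤ : Submodule (Localization.AtPrime q) (LocalizedModule q.primeCompl M)))) =
          Submodule.map (Submodule.mkQ _) (maximalIdeal (Localization.AtPrime q) •
            (⊤ : Submodule (Localization.AtPrime q) (LocalizedModule q.primeCompl M))) := by
        rw [Submodule.map_smul'', Submodule.map_top, Submodule.range_mkQ]
      rw [hmapeq] at hx
      obtain ⟨y, hy, hxy⟩ := hx
      have hd : x - y ∈ (p.map (algebraMap A (Localization.AtPrime q))) •
          (⊤ : Submodule (Localization.AtPrime q) (LocalizedModule q.primeCompl M)) := by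
        rw [← Submodule.Quotient.mk_eq_zero, Submodule.Quotient.mk_sub]
        exact sub_eq_zero.mpr hxy.symm
      have hd' := Submodule.smul_mono_left (N := (⊤ : Submodule (Localization.AtPrime q)
        (LocalizedModule q.primeCompl M))) hple hd
      have := Submodule.add_mem _ hd' hy
      simpa using this
    have hbot := Submodule.eq_bot_of_le_smul_of_le_jacobson_bot
      (maximalIdeal (Localization.AtPrime q))
      (⊤ : Submodule (Localization.AtPrime q) (LocalizedModule q.primeCompl M))
      (Module.finite_def.mp inferInstance) htop (IsLocalRing.maximalIdeal_le_jacobson ⊥)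
    haveI hsub : Subsingleton (LocalizedModule q.primeCompl M) :=
      (Submodule.subsingleton_iff (Localization.AtPrime q)).mp
        (subsingleton_iff_bot_eq_top.mp hbot.symm)
    haveI : Subsingleton (LocalizedModule q.primeCompl M ⊗[A] A') := by
      refine ⟨fun a b => ?_⟩
      have h0 : ∀ t : LocalizedModule q.primeCompl M ⊗[A] A', t = 0 := by
        intro t
        induction t with
        | zero => rfl
        | tmul x y => rw [Subsingleton.elim x 0, TensorProduct.zero_tmul]
        | add a b ha hb => rw [ha, hb, add_zero]
      rw [h0 a, h0 b]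
    haveI := subsingleton_localizedModule_baseChange A B A' B' q' M inferInstance
    rw [LocCoh.depth, Groth.Agent.Lib.Helper93.Depth.idealDepth_of_subsingleton]
    exact le_top
  · -- main case
    have e := Submodule.quotEquivOfEq
      ((p.map (algebraMap A (Localization.AtPrime q))) •
          (⊤ : Submodule (Localization.AtPrime q) (LocalizedModule q.primeCompl M)))
      (((maximalIdeal (Localization.AtPrime p)).map
          (algebraMap (Localization.AtPrime p) (Localization.AtPrime q))) •
          (⊤ : Submodule (Localization.AtPrime q) (LocalizedModule q.primeCompl M)))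
      (by rw [hmap])
    have hreg' := (e.isWeaklyRegular_congr rs).mp hreg
    have h2 := isWeaklyRegular_tensor_of_fibre A (R := Localization.AtPrime p)
      (S := Localization.AtPrime q) A' rs (LocalizedModule q.primeCompl M) hreg'
    obtain ⟨bs, hbs, hF⟩ := exists_list_forall₂_unit q rs hmem
    have h3 := isWeaklyRegular_of_forall₂_unit hF _ h2
    have h4 : IsWeaklyRegular (LocalizedModule q.primeCompl M ⊗[A] A') bs :=
      (isWeaklyRegular_map_algebraMap_iff (Localization.AtPrime q) _ bs).mp h3
    have h5 := isWeaklyRegular_localizedModule_baseChange A B A' B' q' M bs h4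
    have hlen' : ((bs.map (algebraMap B B')).map (algebraMap B' (Localization.AtPrime q'))).length
        = n := by
      rw [List.length_map, List.length_map, ← hlen, List.Forall₂.length_eq hF, List.length_map]
    rw [← hlen']
    refine Groth.Agent.Lib.Helper93.Depth.length_le_idealDepth h5 ?_
    intro r hr
    rw [List.mem_map] at hr
    obtain ⟨b', hb', rfl⟩ := hr
    rw [List.mem_map] at hb'
    obtain ⟨b, hb, rfl⟩ := hb'
    rw [IsLocalization.AtPrime.to_map_mem_maximal_iff (Localization.AtPrime q') q']
    exact hbs b hb

end Core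

section Global

open Groth.Agent.Lib.Helper12.FibreDepth

variable (A B A' B' : Type u) [CommRing A] [CommRing B] [CommRing A'] [CommRing B']
  [IsNoetherianRing A] [IsNoetherianRing B] [IsNoetherianRing B']
  [Algebra A B] [Algebra A A'] [Algebra B B'] [Algebra A' B'] [Algebra A B']
  [IsScalarTower A B B'] [IsScalarTower A A' B'] [Algebra.IsPushout A B A' B']
  (J : Ideal B)

include A' in
/-- Global core form. -/
theorem le_idealDepth_baseChange_core
    (M : Type u) [AddCommGroup M] [Module B M] [Module A M] [IsScalarTower A B M]
    [Module.Finite B M] (n : ℕ)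
    (hflat : ∀ q : PrimeSpectrum B, J ≤ q.asIdeal →
      Module.Flat A (LocalizedModule q.asIdeal.primeCompl M))
    (h : ∀ q : PrimeSpectrum B, J ≤ q.asIdeal →
      (n : ℕ∞) ≤ LocCoh.depth (Localization.AtPrime q.asIdeal)
        (LocalizedModule q.asIdeal.primeCompl M ⧸
          ((q.asIdeal.comap (algebraMap A B)).map
            (algebraMap A (Localization.AtPrime q.asIdeal))) •
          (⊤ : Submodule (Localization.AtPrime q.asIdeal)
            (LocalizedModule q.asIdeal.primeCompl M)))) :
    (n : ℕ∞) ≤ LocCoh.idealDepth (J.map (algebraMap B B')) (B' ⊗[B] M) := by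
  rw [Groth.Agent.Lib.Helper29.idealDepth_eq_iInf_depth_localization]
  refine le_iInf₂ fun q' hq' => ?_
  have hJq : J ≤ q'.asIdeal.comap (algebraMap B B') := Ideal.map_le_iff_le_comap.mp hq'
  haveI := hflat ⟨q'.asIdeal.comap (algebraMap B B'), inferInstance⟩ hJq
  exact le_depth_baseChange_of_le_depth_quotient A B A' B' q'.asIdeal M n
    (h ⟨q'.asIdeal.comap (algebraMap B B'), inferInstance⟩ hJq)

include A' in
/-- Module version: fibre stalks of depth `≥ n` along `V(J)` give `depth_{JB'} (B' ⊗[B] M) ≥ n`. -/
theorem le_idealDepth_baseChange_of_fibLocMod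
    (M : Type u) [AddCommGroup M] [Module B M] [Module A M] [IsScalarTower A B M]
    [Module.Finite B M] [Module.Flat A M] (n : ℕ)
    (h : ∀ q : PrimeSpectrum B, J ≤ q.asIdeal →
      (n : ℕ∞) ≤ LocCoh.idealDepth (q.asIdeal.map (algebraMap B (EGA4.FibLocRing A B q.asIdeal)))
        (EGA4.FibLocMod A B q.asIdeal M)) :
    (n : ℕ∞) ≤ LocCoh.idealDepth (J.map (algebraMap B B')) (B' ⊗[B] M) := by
  refine le_idealDepth_baseChange_core A B A' B' J M n
    (fun q _ => flat_localizedModule q.asIdeal.primeCompl M) (fun q hq => ?_)
  have h0 := h q hq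
  rw [map_fibLocRing_eq] at h0
  exact le_idealDepth_of_surjective (R := Localization.AtPrime q.asIdeal)
    (R' := EGA4.FibLocRing A B q.asIdeal) (EGA4.FibLocMod A B q.asIdeal M)
    Ideal.Quotient.mk_surjective (maximalIdeal (Localization.AtPrime q.asIdeal)) n h0

include A' in
/-- Ring version: for flat `A → B`, fibre local rings of depth `≥ n` along `V(J)` give
`depth_{JB'} B' ≥ n`. -/
theorem le_idealDepth_baseChange_self_of_fibLocRing [Module.Flat A B] (n : ℕ)
    (h : ∀ q : PrimeSpectrum B, J ≤ q.asIdeal →
      (n : ℕ∞) ≤ LocCoh.idealDepth (q.asIdeal.map (algebraMap B (EGA4.FibLocRing A B q.asIdeal)))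
        (EGA4.FibLocRing A B q.asIdeal)) :
    (n : ℕ∞) ≤ LocCoh.idealDepth (J.map (algebraMap B B')) B' := by
  have key : (n : ℕ∞) ≤ LocCoh.idealDepth (J.map (algebraMap B B')) (B' ⊗[B] B) := by
    refine le_idealDepth_baseChange_core A B A' B' J B n
      (fun q _ => flat_localizedModule q.asIdeal.primeCompl B) (fun q hq => ?_)
    have h0 := h q hq
    rw [map_fibLocRing_eq] at h0
    have h1 := le_idealDepth_of_surjective (R := Localization.AtPrime q.asIdeal)
      (R' := EGA4.FibLocRing A B q.asIdeal) (EGA4.FibLocRing A B q.asIdeal)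
      Ideal.Quotient.mk_surjective (maximalIdeal (Localization.AtPrime q.asIdeal)) n h0
    -- identify `B_q / p B_q` with `(B)_q / p (B)_q`
    let eS := Groth.Agent.Lib.Helper29.localizedModuleSelfEquiv B q.asIdeal
    have hmapS : Submodule.map eS.toLinearMap
        (((q.asIdeal.comap (algebraMap A B)).map
            (algebraMap A (Localization.AtPrime q.asIdeal))) •
          (⊤ : Submodule (Localization.AtPrime q.asIdeal)
            (LocalizedModule q.asIdeal.primeCompl B))) =
        ((q.asIdeal.comap (algebraMap A B)).map
            (algebraMap A (Localization.AtPrime q.asIdeal))) •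
          (⊤ : Submodule (Localization.AtPrime q.asIdeal) (Localization.AtPrime q.asIdeal)) := by
      rw [Submodule.map_smul'', Submodule.map_top, LinearMap.range_eq_top.mpr eS.surjective]
    let e1 := Submodule.Quotient.equiv _ _ eS hmapS
    have heq : ((q.asIdeal.comap (algebraMap A B)).map
        (algebraMap A (Localization.AtPrime q.asIdeal))) •
        (⊤ : Submodule (Localization.AtPrime q.asIdeal) (Localization.AtPrime q.asIdeal)) =
        (q.asIdeal.comap (algebraMap A B)).map
          (algebraMap A (Localization.AtPrime q.asIdeal)) := by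
      rw [smul_eq_mul, Ideal.mul_top]
    let e2 := Submodule.quotEquivOfEq _ _ heq
    unfold LocCoh.depth
    rw [Groth.Agent.Lib.Helper29.idealDepth_congr _ (e1.trans e2)]
    exact h1
  rwa [Groth.Agent.Lib.Helper29.idealDepth_congr _
    (TensorProduct.AlgebraTensorModule.rid B B' B')] at key

end Global

end Groth.Agent.Lib.Helper12.FibreDepthBC
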