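import Groth.Agent.Lib.Helper12.FlatRegLift
import Groth.Agent.Lib.Helper12.FibreDepthBC
import Groth.Agent.Lib.Helper12.FourTermFlat
import Groth.Agent.Lib.Helper93.DepthFlat
import Groth.Agent.Lib.Helper93.Depth

/-!
# Depth of a flat module over an Artinian local base and of its closed fibre (helper12)

`A` Artinian local, `A → S` local, `N` a finite `S`-module flat over `A`.  Then a sequence in `S`
which is weakly regular on `N` is weakly regular on `N / m N`, so `depth_J (N/mN) ≥ depth_J N`.
Conversely (for any Noetherian local `A`) `depth_J N ≥ depth_J (N/mN)`.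
-/

set_option autoImplicit false
universe u

namespace Groth.Agent.Lib.Helper12.ArtinFlatDepth

open IsLocalRing RingTheory.Sequence TensorProduct LocCoh
open scoped Pointwise

section Socle

variable (A : Type*) [CommRing A] [IsArtinianRing A] [IsLocalRing A]

/-- A nonzero socle element of an Artinian local ring. -/
theorem exists_socle : ∃ s : A, s ≠ 0 ∧ ∀ a ∈ maximalIdeal A, a * s = 0 := by
  have hnil : IsNilpotent (maximalIdeal A) := by
    have h := IsArtinianRing.isNilpotent_jacobson_bot (R := A)
    rwa [IsLocalRing.jacobson_eq_maximalIdeal _ bot_ne_top] at h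
  classical
  have hex : ∃ t : ℕ, (maximalIdeal A) ^ t = ⊥ := hnil
  set t := Nat.find hex with ht
  have htz : (maximalIdeal A) ^ t = ⊥ := Nat.find_spec hex
  have ht0 : t ≠ 0 := by
    intro h0
    rw [h0, pow_zero, Ideal.one_eq_top] at htz
    exact top_ne_bot htz
  obtain ⟨t', ht'⟩ := Nat.exists_eq_succ_of_ne_zero ht0
  have hne : (maximalIdeal A) ^ t' ≠ ⊥ := by
    intro h
    have := Nat.find_min' hex h
    omega
  obtain ⟨s, hs, hs0⟩ := Submodule.exists_mem_ne_zero_of_ne_bot hne
  refine ⟨s, hs0, fun a ha => ?_⟩
  have : a * s ∈ (maximalIdeal A) ^ t := by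
    rw [ht', pow_succ']
    exact Ideal.mul_mem_mul ha hs
  rwa [htz, Ideal.mem_bot] at this

end Socle

section Flat

variable {A : Type u} [CommRing A] [IsArtinianRing A] [IsLocalRing A] {S : Type u} [CommRing S]
  [Algebra A S]
  (N : Type u) [AddCommGroup N] [Module S N] [Module A N] [IsScalarTower A S N]

/-- For flat `N`, `s n = 0` with `s` a nonzero socle element forces `n ∈ m N`. -/
theorem mem_smul_top_of_socle_smul_eq_zero [Module.Flat A N] (s : A) (hs0 : s ≠ 0)
    (n : N) (h : s • n = 0) :
    n ∈ (maximalIdeal A).map (algebraMap A S) • (⊤ : Submodule S N) := by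
  rw [Groth.Agent.Lib.Helper93.DepthFlat.mem_map_smul_top_iff]
  have hrel : ∑ i : Fin 1, (fun _ => s) i • (fun _ => n) i = 0 := by simpa using h
  obtain ⟨k, a, y, hxy, hfa⟩ := Module.Flat.isTrivialRelation_of_sum_smul_eq_zero hrel
  have hn : n = ∑ j, a 0 j • y j := hxy 0
  rw [hn]
  refine Submodule.sum_mem _ fun j _ => ?_
  have hj : s * a 0 j = 0 := by simpa using hfa j
  have hmem : a 0 j ∈ maximalIdeal A := by
    by_contra hnot
    have hu : IsUnit (a 0 j) := by
      by_contra hnu
      exact hnot ((IsLocalRing.mem_maximalIdeal _).mpr hnu)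
    exact hs0 (hu.mul_left_eq_zero.mp hj)
  exact Submodule.smul_mem_smul hmem Submodule.mem_top

/-- Regular elements on a flat module over an Artinian local base stay regular on the closed
fibre. -/
theorem isSMulRegular_fibre_of_flat [Module.Flat A N] (x : S) (hx : IsSMulRegular N x) :
    IsSMulRegular (N ⧸ ((maximalIdeal A).map (algebraMap A S) • (⊤ : Submodule S N))) x := by
  obtain ⟨s, hs0, hs⟩ := exists_socle A
  rw [isSMulRegular_quotient_iff_mem_of_smul_mem]
  intro n hn
  apply mem_smul_top_of_socle_smul_eq_zero N s hs0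
  -- `s • (x • n) = 0`
  have h1 : s • (x • n) = 0 := by
    rw [Groth.Agent.Lib.Helper93.DepthFlat.mem_map_smul_top_iff] at hn
    refine Submodule.smul_induction_on hn ?_ ?_
    · intro a ha y _
      rw [smul_smul, mul_comm, hs a ha, zero_smul]
    · intro y z hy hz
      rw [smul_add, hy, hz, add_zero]
  have h2 : x • (s • n) = 0 := by
    rw [smul_comm]
    exact h1
  apply hx
  show x • (s • n) = x • 0
  rw [h2, smul_zero]

end Flat

section Depth

variable (A S : Type u) [CommRing A] [CommRing S] [IsArtinianRing A] [IsLocalRing A]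
  [IsNoetherianRing S] [IsLocalRing S] [Algebra A S] [IsLocalHom (algebraMap A S)]

/-- Weakly regular sequences on a flat module over an Artinian local base descend to the closed
fibre. -/
theorem isWeaklyRegular_fibre_of_flat (rs : List S) :
    ∀ (N : Type u) [AddCommGroup N] [Module S N] [Module A N] [IsScalarTower A S N]
      [Module.Finite S N] [Module.Flat A N],
      IsWeaklyRegular N rs →
      IsWeaklyRegular
        (N ⧸ ((maximalIdeal A).map (algebraMap A S) • (⊤ : Submodule S N))) rs := by
  induction rs with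
  | nil =>
    intro N _ _ _ _ _ _ _
    exact IsWeaklyRegular.nil S _
  | cons x l ih =>
    intro N _ _ _ _ _ _ hreg
    rw [isWeaklyRegular_cons_iff] at hreg ⊢
    have h1 := isSMulRegular_fibre_of_flat (A := A) N x hreg.1
    haveI : Module.Flat A (QuotSMulTop x N) :=
      Groth.Agent.Lib.Helper12.FlatRegLift.flat_quot_smul A S N x h1
    have h3 := ih (QuotSMulTop x N) hreg.2
    exact ⟨h1, ((Groth.Agent.Lib.Helper93.DepthFlat.fibreQuotSMulTopEquiv N
        ((maximalIdeal A).map (algebraMap A S)) x).isWeaklyRegular_congr l).mp h3⟩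

variable (N : Type u) [AddCommGroup N] [Module S N] [Module A N] [IsScalarTower A S N]
  [Module.Finite S N] [Module.Flat A N]

/-- Over an Artinian local base, the depth of the closed fibre of a flat module is at least the
depth of the module. -/
theorem le_idealDepth_fibre_of_flat (J : Ideal S) (n : ℕ)
    (h : (n : ℕ∞) ≤ idealDepth J N) :
    (n : ℕ∞) ≤ idealDepth J
      (N ⧸ ((maximalIdeal A).map (algebraMap A S) • (⊤ : Submodule S N))) := by
  rw [Groth.Agent.Lib.Helper93.Depth.natCast_le_idealDepth_iff] at h ⊢
  rcases h with h | ⟨rs, hlen, hmem, hreg⟩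
  · left
    have h1 := congrArg (Submodule.map (Submodule.mkQ
      ((maximalIdeal A).map (algebraMap A S) • (⊤ : Submodule S N)))) h
    rw [Submodule.map_smul'', Submodule.map_top, Submodule.range_mkQ] at h1
    exact h1
  · right
    exact ⟨rs, hlen, hmem, isWeaklyRegular_fibre_of_flat A S rs N hreg⟩

end Depth

section Converse

variable (A S : Type u) [CommRing A] [CommRing S] [IsNoetherianRing A] [IsLocalRing A]
  [IsNoetherianRing S] [IsLocalRing S] [Algebra A S] [IsLocalHom (algebraMap A S)]

/-- Weakly regular sequences on the closed fibre of a flat module lift. -/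
theorem isWeaklyRegular_of_fibre (rs : List S) :
    ∀ (N : Type u) [AddCommGroup N] [Module S N] [Module A N] [IsScalarTower A S N]
      [Module.Finite S N] [Module.Flat A N],
      IsWeaklyRegular
        (N ⧸ ((maximalIdeal A).map (algebraMap A S) • (⊤ : Submodule S N))) rs →
      IsWeaklyRegular N rs := by
  induction rs with
  | nil =>
    intro N _ _ _ _ _ _ _
    exact IsWeaklyRegular.nil S _
  | cons y l ih =>
    intro N _ _ _ _ _ _ hreg
    rw [isWeaklyRegular_cons_iff] at hreg ⊢
    obtain ⟨h1, h2⟩ := Groth.Agent.Lib.Helper93.DepthFlat.isSMulRegular_and_flat_of_regular_fibre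
      (R := A) (S := S) N hreg.1
    have h3 : IsWeaklyRegular (QuotSMulTop y N ⧸
        ((maximalIdeal A).map (algebraMap A S) • (⊤ : Submodule S (QuotSMulTop y N)))) l :=
      ((Groth.Agent.Lib.Helper93.DepthFlat.fibreQuotSMulTopEquiv N
        ((maximalIdeal A).map (algebraMap A S)) y).isWeaklyRegular_congr l).mpr hreg.2
    exact ⟨h1, ih (QuotSMulTop y N) h3⟩

variable (N : Type u) [AddCommGroup N] [Module S N] [Module A N] [IsScalarTower A S N]
  [Module.Finite S N] [Module.Flat A N]

/-- The depth of a flat module is at least the depth of its closed fibre. -/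
theorem le_idealDepth_of_fibre (J : Ideal S) (n : ℕ)
    (h : (n : ℕ∞) ≤ idealDepth J
      (N ⧸ ((maximalIdeal A).map (algebraMap A S) • (⊤ : Submodule S N)))) :
    (n : ℕ∞) ≤ idealDepth J N := by
  rw [Groth.Agent.Lib.Helper93.Depth.natCast_le_idealDepth_iff] at h ⊢
  rcases h with h | ⟨rs, hlen, hmem, hreg⟩
  · left
    by_cases hJ : J = ⊤
    · rw [hJ, Submodule.top_smul]
    · haveI := Groth.Agent.Lib.Helper12.FourTermFlat.subsingleton_of_smul_top_eq_top J hJ h
      haveI := Groth.Agent.Lib.Helper12.FourTermFlat.subsingleton_of_fibMod_subsingleton A S N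
        inferInstance
      exact Subsingleton.elim _ _
  · right
    exact ⟨rs, hlen, hmem, isWeaklyRegular_of_fibre A S rs N hreg⟩

end Converse

end Groth.Agent.Lib.Helper12.ArtinFlatDepth
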