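import Groth.Agent.Lib.Helper12.DDualKer
import Groth.Agent.Lib.Helper12.ArtinFlatDepth

/-!
# Flatness of the base-changed cokernel over an Artinian local base (helper12)

`A'` Artinian local, `A' → T` a flat local homomorphism to a Noetherian local ring, `C → T` a
Noetherian ring with a four-term exact sequence `0 → F → E⁰ → E¹ → G → 0` (`E⁰, E¹` finite
projective, `G` free off `V(J)`).  If the closed fibre `T / m T` has `JT`-depth `≥ 2` and
`(T ⊗ F)^∨∨` is flat over `A'`, then `T ⊗ G` is flat over `A'`.
-/

set_option autoImplicit false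
universe u

namespace Groth.Agent.Lib.Helper12.ArtinFourTerm

open TensorProduct LocCoh IsLocalRing
open Groth.Agent.Lib.Helper12.DDualKer

theorem flat_baseChange_coker
    (A' T C : Type u) [CommRing A'] [IsArtinianRing A'] [IsLocalRing A'] [CommRing T]
    [IsNoetherianRing T] [IsLocalRing T] [Algebra A' T] [IsLocalHom (algebraMap A' T)]
    [Module.Flat A' T] [CommRing C] [IsNoetherianRing C] [Algebra C T] (J : Ideal C)
    {F E0 E1 G : Type u} [AddCommGroup F] [Module C F] [Module.Finite C F]
    [AddCommGroup E0] [Module C E0] [Module.Finite C E0] [Module.Projective C E0]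
    [AddCommGroup E1] [Module C E1] [Module.Finite C E1] [Module.Projective C E1]
    [AddCommGroup G] [Module C G] [Module.Finite C G]
    (f : F →ₗ[C] E0) (u : E0 →ₗ[C] E1) (v : E1 →ₗ[C] G)
    (hf : Function.Injective f) (hfu : Function.Exact f u) (huv : Function.Exact u v)
    (hv : Function.Surjective v)
    (hGU : ∀ q : PrimeSpectrum C, ¬ J ≤ q.asIdeal →
      Module.Free (Localization.AtPrime q.asIdeal) (LocalizedModule q.asIdeal.primeCompl G))
    (hT : 2 ≤ idealDepth (J.map (algebraMap C T))
      (T ⧸ (maximalIdeal A').map (algebraMap A' T)))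
    (hfl : Module.Flat A' (Module.Dual T (Module.Dual T (T ⊗[C] F)))) :
    Module.Flat A' (T ⊗[C] G) := by
  have e2 : (2 : ℕ∞) = ((2 : ℕ) : ℕ∞) := rfl
  have h12 : (1 : ℕ∞) ≤ 2 := by norm_num
  -- depth of the closed fibre in `FibMod` form
  have hT' : 2 ≤ idealDepth (J.map (algebraMap C T)) (EGA4.FibMod A' T T) := by
    rw [Groth.Agent.Lib.Helper29.idealDepth_congr (J.map (algebraMap C T))
      (Submodule.quotEquivOfEq (EGA4.mB A' T • (⊤ : Submodule T T))
        ((maximalIdeal A').map (algebraMap A' T)) (by rw [smul_eq_mul, Ideal.mul_top]))]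
    exact hT
  have hT2 : 2 ≤ idealDepth (J.map (algebraMap C T)) T := by
    rw [e2]
    refine Groth.Agent.Lib.Helper12.ArtinFlatDepth.le_idealDepth_of_fibre A' T T
      (J.map (algebraMap C T)) 2 ?_
    rw [← e2]
    exact hT'
  obtain ⟨hKd, hKr⟩ := ker_baseChange_depth_reflexive C T J u v huv hv hGU hT2
  obtain ⟨e⟩ := nonempty_ddual_equiv_ker C T J f u v hf hfu huv hv hGU hT2
  haveI : IsNoetherian T (T ⊗[C] E0) := isNoetherian_of_isNoetherianRing_of_finite T _
  -- `A'`-module structures
  haveI tK : IsScalarTower A' T (LinearMap.ker (u.baseChange T)) := inferInstance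
  haveI fE0 : Module.Flat A' (T ⊗[C] E0) := Module.Flat.trans A' T _
  haveI fE1 : Module.Flat A' (T ⊗[C] E1) := Module.Flat.trans A' T _
  haveI fK : Module.Flat A' (LinearMap.ker (u.baseChange T)) :=
    Module.Flat.of_linearEquiv (e.symm.restrictScalars A')
  -- depth of the closed fibre of `K`
  have hKfib : 2 ≤ idealDepth (J.map (algebraMap C T))
      (EGA4.FibMod A' T (LinearMap.ker (u.baseChange T))) := by
    rw [e2]
    refine Groth.Agent.Lib.Helper12.ArtinFlatDepth.le_idealDepth_fibre_of_flat A' T
      (LinearMap.ker (u.baseChange T)) (J.map (algebraMap C T)) 2 ?_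
    rw [← e2]
    exact hKd
  -- depth of the closed fibres of `T ⊗ E`
  have hdepthE : ∀ (E : Type u) [AddCommGroup E] [Module T E] [Module.Flat T E] (n : ℕ),
      (n : ℕ∞) ≤ 2 → (n : ℕ∞) ≤ idealDepth (J.map (algebraMap C T))
        (E ⧸ ((maximalIdeal A').map (algebraMap A' T) • (⊤ : Submodule T E))) := by
    intro E _ _ _ n hn
    have h1 := Groth.Agent.Lib.Helper12.FourTermLocal.le_idealDepth_tensor_of_flat
      (J.map (algebraMap C T)) (T ⧸ (maximalIdeal A').map (algebraMap A' T)) E n
      (le_trans hn hT)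
    rw [Groth.Agent.Lib.Helper29.idealDepth_congr _
      (TensorProduct.quotTensorEquivQuotSMul E
        ((maximalIdeal A').map (algebraMap A' T)))] at h1
    exact h1
  have h0 : 2 ≤ idealDepth (J.map (algebraMap C T)) (EGA4.FibMod A' T (T ⊗[C] E0)) :=
    hdepthE (T ⊗[C] E0) 2 le_rfl
  have h1 : 1 ≤ idealDepth (J.map (algebraMap C T)) (EGA4.FibMod A' T (T ⊗[C] E1)) := by
    have := hdepthE (T ⊗[C] E1) 1 (by norm_num)
    simpa using this
  -- the base-changed sequence
  have huv' : Function.Exact (u.baseChange T) (v.baseChange T) := by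
    have := lTensor_exact T huv hv
    exact this
  have hv' : Function.Surjective (v.baseChange T) := by
    have := LinearMap.lTensor_surjective T hv
    exact this
  have hGU' : ∀ Q : PrimeSpectrum T, ¬ J.map (algebraMap C T) ≤ Q.asIdeal →
      FlatCA.FlatAt A' Q.asIdeal (T ⊗[C] G) := by
    intro Q hQ
    haveI := free_baseChange_G C T J v hv hGU Q hQ
    haveI : Module.Flat T (LocalizedModule Q.asIdeal.primeCompl (T ⊗[C] G)) :=
      Module.Flat.trans T (Localization.AtPrime Q.asIdeal) _
    exact Module.Flat.trans A' T _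
  have key := Groth.Agent.S18708.result A' T (J.map (algebraMap C T))
    (LinearMap.ker (u.baseChange T)) (T ⊗[C] E0) (T ⊗[C] E1) (T ⊗[C] G)
    (LinearMap.ker (u.baseChange T)).subtype (u.baseChange T) (v.baseChange T)
    Subtype.val_injective (LinearMap.exact_subtype_ker_map _) huv' hv' hGU' h0 h1
  exact key.1.mp hKfib

end Groth.Agent.Lib.Helper12.ArtinFourTerm
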