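import Groth.Agent.Lib.Helper12.LocQuot
import Groth.Agent.Lib.Helper71.LocalCritNoeth
import Groth.Agent.Lib.Helper93.DepthFlat

/-!
# From the Artinian quotients to flatness of the stalk (helper12)
-/

set_option autoImplicit false
universe u

namespace Groth.Agent.Lib.Helper12.ArtinLimit

open TensorProduct IsLocalRing
open Groth.Agent.Lib.Helper12.LocQuot

section Equiv

variable (R : Type u) [CommRing R] (C : Type u) [CommRing C] [Algebra R C] (I : Ideal R)
  (n : Ideal C) [n.IsPrime]
  (G : Type u) [AddCommGroup G] [Module C G] [Module R G] [IsScalarTower R C G]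

local notation "TQ'" => Localization.AtPrime n ⧸
  Ideal.map (algebraMap R (Localization.AtPrime n)) I

/-- `(C_n / I C_n) ⊗_C G ≃ (R / I) ⊗_R G_n`, linearly over `R / I`. -/
noncomputable def tensorEquiv :
    TQ' ⊗[C] G ≃ₗ[R ⧸ I] (R ⧸ I) ⊗[R] LocalizedModule n.primeCompl G := by
  have h1 : IsBaseChange TQ' (TensorProduct.mk C TQ' G 1) := TensorProduct.isBaseChange C G TQ'
  have g1 : IsBaseChange (Localization.AtPrime n) (LocalizedModule.mkLinearMap n.primeCompl G) :=
    LocalizedModule.isBaseChange n.primeCompl G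
  have g2 : IsBaseChange TQ' (TensorProduct.mk (Localization.AtPrime n) TQ'
      (LocalizedModule n.primeCompl G) 1) := TensorProduct.isBaseChange _ _ _
  have g12 := IsBaseChange.comp g1 g2
  let a1 : TQ' ⊗[C] G ≃ₗ[TQ'] TQ' ⊗[Localization.AtPrime n] LocalizedModule n.primeCompl G :=
    h1.equiv.symm.trans g12.equiv
  let a2 : TQ' ⊗[Localization.AtPrime n] LocalizedModule n.primeCompl G ≃ₗ[Localization.AtPrime n]
      LocalizedModule n.primeCompl G ⧸ (I.map (algebraMap R (Localization.AtPrime n)) •
        (⊤ : Submodule (Localization.AtPrime n) (LocalizedModule n.primeCompl G))) :=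
    TensorProduct.quotTensorEquivQuotSMul _ _
  let a3 : (LocalizedModule n.primeCompl G ⧸ (I.map (algebraMap R (Localization.AtPrime n)) •
        (⊤ : Submodule (Localization.AtPrime n) (LocalizedModule n.primeCompl G)))) ≃ₗ[R]
      LocalizedModule n.primeCompl G ⧸ (I • (⊤ : Submodule R (LocalizedModule n.primeCompl G))) :=
    (Submodule.Quotient.restrictScalarsEquiv R _).symm.trans
      (Submodule.quotEquivOfEq _ _
        (Groth.Agent.Lib.Helper93.DepthFlat.map_smul_top_restrictScalars
          (S := Localization.AtPrime n) (LocalizedModule n.primeCompl G) I))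
  let a4 : (R ⧸ I) ⊗[R] LocalizedModule n.primeCompl G ≃ₗ[R]
      LocalizedModule n.primeCompl G ⧸ (I • (⊤ : Submodule R (LocalizedModule n.primeCompl G))) :=
    TensorProduct.quotTensorEquivQuotSMul _ _
  let e : TQ' ⊗[C] G ≃ₗ[R] (R ⧸ I) ⊗[R] LocalizedModule n.primeCompl G :=
    (a1.restrictScalars R).trans ((a2.restrictScalars R).trans (a3.trans a4.symm))
  exact LinearEquiv.extendScalarsOfSurjective Ideal.Quotient.mk_surjective e

end Equiv

section Main

variable (R : Type u) [CommRing R] [IsNoetherianRing R] [IsLocalRing R] (C : Type u) [CommRing C]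
  [IsNoetherianRing C] [Algebra R C] (n : Ideal C) [n.IsPrime]
  (G : Type u) [AddCommGroup G] [Module C G] [Module R G] [IsScalarTower R C G]
  [Module.Finite C G]

/-- Flatness over all Artinian quotients `R / m^(k+1)` gives flatness of the stalk over `R`. -/
theorem flat_localizedModule_of_forall_flat
    (hn : (maximalIdeal R).map (algebraMap R C) ≤ n)
    (h : ∀ k : ℕ, Module.Flat (R ⧸ (maximalIdeal R) ^ (k + 1))
      ((Localization.AtPrime n ⧸
        Ideal.map (algebraMap R (Localization.AtPrime n)) ((maximalIdeal R) ^ (k + 1))) ⊗[C] G)) :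
    Module.Flat R (LocalizedModule n.primeCompl G) := by
  refine Groth.Agent.Lib.Helper71.LocalCritNoeth.flat_of_flat_quotient_pow
    (B := Localization.AtPrime n) (maximalIdeal R) (LocalizedModule n.primeCompl G) ?_ ?_
  · rw [IsLocalRing.jacobson_eq_maximalIdeal _ bot_ne_top]
    exact map_le_maximalIdeal hn le_rfl
  · intro k
    haveI := h k
    exact Module.Flat.of_linearEquiv (tensorEquiv R C ((maximalIdeal R) ^ (k + 1)) n G).symm

end Main

end Groth.Agent.Lib.Helper12.ArtinLimit
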