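import Mathlib

/-!
# Double duals commute with localization, general form (helper12)
-/

set_option autoImplicit false
universe u

namespace Groth.Agent.Lib.Helper12.DDualLocGen

open TensorProduct

variable {A' C' T : Type u} [CommRing A'] [CommRing C'] [IsNoetherianRing C'] [CommRing T]
  [Algebra A' C'] [Algebra C' T] [Algebra A' T] [IsScalarTower A' C' T]
  (S : Submonoid C') [IsLocalization S T]
  (M : Type u) [AddCommGroup M] [Module C' M] [Module.Finite C' M]
  (M' : Type u) [AddCommGroup M'] [Module C' M'] [Module T M'] [IsScalarTower C' T M']

/-- The double dual of a localization is the localization of the double dual; in particular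
flatness over a base ring transfers. -/
theorem flat_ddual_of_isLocalizedModule (ℓ : M →ₗ[C'] M') [IsLocalizedModule S ℓ]
    (h : Module.Flat A' (LocalizedModule S (Module.Dual C' (Module.Dual C' M)))) :
    Module.Flat A' (Module.Dual T (Module.Dual T M')) := by
  haveI : Module.FinitePresentation C' M := Module.finitePresentation_of_finite C' M
  let d1 : Module.Dual C' M →ₗ[C'] Module.Dual T M' :=
    IsLocalizedModule.mapExtendScalars S ℓ (Algebra.linearMap C' T) T
  haveI : IsLocalizedModule S d1 := by
    unfold d1
    infer_instance
  haveI : Module.FinitePresentation C' (Module.Dual C' M) :=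
    Module.finitePresentation_of_finite C' _
  let d2 : Module.Dual C' (Module.Dual C' M) →ₗ[C'] Module.Dual T (Module.Dual T M') :=
    IsLocalizedModule.mapExtendScalars S d1 (Algebra.linearMap C' T) T
  haveI : IsLocalizedModule S d2 := by
    unfold d2
    infer_instance
  let e := IsLocalizedModule.linearEquiv S
    (LocalizedModule.mkLinearMap S (Module.Dual C' (Module.Dual C' M))) d2
  exact Module.Flat.of_linearEquiv (e.symm.restrictScalars A')

end Groth.Agent.Lib.Helper12.DDualLocGen
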