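import Mathlib

/-!
# Infinitesimal neighbourhoods of a fibre: `R/I`, `C/IC` and `C_n/IC_n` (helper12)
-/

set_option autoImplicit false
universe u

namespace Groth.Agent.Lib.Helper12.LocQuot

open TensorProduct IsLocalRing

section Quot
variable (R : Type u) [CommRing R] (C : Type u) [CommRing C] [Algebra R C] (I : Ideal R)

attribute [local instance] Algebra.TensorProduct.rightAlgebra

theorem isPushout_quotient :
    Algebra.IsPushout R C (R ⧸ I) (C ⧸ I.map (algebraMap R C)) := by
  haveI h : Algebra.IsPushout R C (R ⧸ I) (C ⊗[R] (R ⧸ I)) := inferInstance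
  refine Algebra.IsPushout.of_equiv (h := h)
    (Algebra.TensorProduct.quotIdealMapEquivTensorQuot C I).symm ?_
  apply Ideal.Quotient.ringHom_ext
  ext r
  simp only [RingHom.coe_comp, Function.comp_apply,
    Algebra.TensorProduct.right_algebraMap_apply]
  show (Algebra.TensorProduct.quotIdealMapEquivTensorQuot C I).symm
    (1 ⊗ₜ[R] (Ideal.Quotient.mk I) r) = _
  rw [Algebra.TensorProduct.quotIdealMapEquivTensorQuot_symm_tmul, Algebra.smul_def, mul_one]
  rfl

/-- The quotient `C / IC` is flat over `R / I` when `C` is flat over `R`. -/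
theorem flat_quotient [Module.Flat R C] : Module.Flat (R ⧸ I) (C ⧸ I.map (algebraMap R C)) :=
  Module.Flat.of_linearEquiv
    (Algebra.TensorProduct.quotIdealMapEquivQuotTensor C I).toLinearEquiv

end Quot

section Art
variable (R : Type u) [CommRing R] [IsLocalRing R] (k : ℕ)

theorem pow_succ_ne_top : (maximalIdeal R) ^ (k + 1) ≠ ⊤ := fun h =>
  (maximalIdeal.isMaximal R).ne_top
    (top_le_iff.mp (h ▸ Ideal.pow_le_self (Nat.succ_ne_zero k)))

instance nontrivial_quot_pow : Nontrivial (R ⧸ (maximalIdeal R) ^ (k + 1)) :=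
  Ideal.Quotient.nontrivial_iff.mpr (pow_succ_ne_top R k)

instance isLocalRing_quot_pow : IsLocalRing (R ⧸ (maximalIdeal R) ^ (k + 1)) :=
  IsLocalRing.of_surjective' (Ideal.Quotient.mk _) Ideal.Quotient.mk_surjective

end Art

section MaxQuot
variable (R : Type u) [CommRing R] [IsLocalRing R] (I : Ideal R) [IsLocalRing (R ⧸ I)]

theorem map_maximalIdeal_quot (hI : I ≤ maximalIdeal R) :
    (maximalIdeal R).map (Ideal.Quotient.mk I) = maximalIdeal (R ⧸ I) := by
  haveI := IsLocalHom.of_surjective (Ideal.Quotient.mk I) Ideal.Quotient.mk_surjective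
  ext x
  obtain ⟨x, rfl⟩ := Ideal.Quotient.mk_surjective x
  simp [sup_eq_left.mpr hI]

end MaxQuot

section Art2
variable (R : Type u) [CommRing R] [IsLocalRing R] [IsNoetherianRing R] (k : ℕ)

instance isArtinianRing_quot_pow : IsArtinianRing (R ⧸ (maximalIdeal R) ^ (k + 1)) := by
  rw [isArtinianRing_iff_isNilpotent_maximalIdeal]
  refine ⟨k + 1, ?_⟩
  rw [← map_maximalIdeal_quot R _ (Ideal.pow_le_self (Nat.succ_ne_zero k)), ← Ideal.map_pow,
    Ideal.zero_eq_bot, Ideal.map_quotient_self]

end Art2

section Loc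
variable (R : Type u) [CommRing R] (C : Type u) [CommRing C] [Algebra R C] (I : Ideal R)
  (n : Ideal C) [n.IsPrime]

local notation "CQ'" => C ⧸ Ideal.map (algebraMap R C) I
local notation "TQ'" => Localization.AtPrime n ⧸
  Ideal.map (algebraMap R (Localization.AtPrime n)) I

theorem map_le_comap_map :
    I.map (algebraMap R C) ≤
      (I.map (algebraMap R (Localization.AtPrime n))).comap
        (algebraMap C (Localization.AtPrime n)) := by
  rw [← Ideal.map_le_iff_le_comap, Ideal.map_map, ← IsScalarTower.algebraMap_eq]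

/-- The algebra structure `C / IC → C_n / I C_n`. -/
@[reducible] noncomputable def algebraCQTQ : Algebra CQ' TQ' :=
  (Ideal.quotientMap _ (algebraMap C (Localization.AtPrime n)) (map_le_comap_map R C I n)).toAlgebra

attribute [local instance] algebraCQTQ

theorem algebraMap_CQ_TQ_mk (c : C) :
    algebraMap CQ' TQ' (Ideal.Quotient.mk _ c) =
      Ideal.Quotient.mk _ (algebraMap C (Localization.AtPrime n) c) := rfl

instance isScalarTower_C_CQ_TQ : IsScalarTower C CQ' TQ' :=
  IsScalarTower.of_algebraMap_eq fun _ => rfl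

instance isScalarTower_quot_CQ_TQ : IsScalarTower (R ⧸ I) CQ' TQ' := by
  refine IsScalarTower.of_algebraMap_eq fun x => ?_
  obtain ⟨r, rfl⟩ := Ideal.Quotient.mk_surjective x
  show Ideal.Quotient.mk _ (algebraMap R (Localization.AtPrime n) r) =
    Ideal.Quotient.mk _ (algebraMap C (Localization.AtPrime n) (algebraMap R C r))
  rw [← IsScalarTower.algebraMap_apply R C (Localization.AtPrime n)]

instance smulCommClass_TQ : SMulCommClass C (R ⧸ I) TQ' :=
  instSMulCommClass (R := C) (S := R ⧸ I) (A := TQ')

/-- The prime `n / IC` of `C / IC`. -/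
def qQ : Ideal CQ' := n.map (Ideal.Quotient.mk (I.map (algebraMap R C)))

variable {R C I n}

theorem qQ_isPrime (h : I.map (algebraMap R C) ≤ n) : (qQ R C I n).IsPrime :=
  Ideal.map_isPrime_of_surjective Ideal.Quotient.mk_surjective (by rwa [Ideal.mk_ker])

theorem comap_mk_qQ (h : I.map (algebraMap R C) ≤ n) :
    (qQ R C I n).comap (Ideal.Quotient.mk (I.map (algebraMap R C))) = n := by
  rw [qQ, Ideal.comap_map_of_surjective _ Ideal.Quotient.mk_surjective,
    ← RingHom.ker_eq_comap_bot, Ideal.mk_ker, sup_eq_left.mpr h]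

theorem comap_algebraMap_qQ (h : I.map (algebraMap R C) ≤ n) :
    (qQ R C I n).comap (algebraMap C CQ') = n :=
  comap_mk_qQ h

theorem map_primeCompl_eq (h : I.map (algebraMap R C) ≤ n) [hq : (qQ R C I n).IsPrime] :
    n.primeCompl.map (Ideal.Quotient.mk (I.map (algebraMap R C))) = (qQ R C I n).primeCompl := by
  ext x
  constructor
  · rintro ⟨c, hc, rfl⟩
    intro hmem
    have : c ∈ (qQ R C I n).comap (Ideal.Quotient.mk (I.map (algebraMap R C))) := hmem
    rw [comap_mk_qQ h] at this
    exact hc this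
  · intro hx
    obtain ⟨c, rfl⟩ := Ideal.Quotient.mk_surjective x
    refine ⟨c, fun hc => hx (Ideal.mem_map_of_mem _ hc), rfl⟩

/-- `C_n / I C_n` is the localization of `C / IC` at `n / IC`. -/
theorem isLocalization_TQ (h : I.map (algebraMap R C) ≤ n) [hq : (qQ R C I n).IsPrime] :
    IsLocalization.AtPrime TQ' (qQ R C I n) := by
  have hloc := IsLocalization.of_surjective n.primeCompl (Localization.AtPrime n)
    (Ideal.Quotient.mk (I.map (algebraMap R C))) Ideal.Quotient.mk_surjective
    (Ideal.Quotient.mk (I.map (algebraMap R (Localization.AtPrime n))))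
    Ideal.Quotient.mk_surjective (S' := TQ') rfl (by
      rw [Ideal.mk_ker, Ideal.mk_ker, Ideal.map_map, ← IsScalarTower.algebraMap_eq])
  rw [map_primeCompl_eq h] at hloc
  exact hloc

end Loc

section LocalT
variable (R : Type u) [CommRing R] [IsLocalRing R] (C : Type u) [CommRing C] [Algebra R C]
  (I : Ideal R) (n : Ideal C) [n.IsPrime]

local notation "TQ'" => Localization.AtPrime n ⧸
  Ideal.map (algebraMap R (Localization.AtPrime n)) I

variable {R C n} in
theorem algebraMap_mem_maximalIdeal (hn : (maximalIdeal R).map (algebraMap R C) ≤ n) (r : R)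
    (hr : r ∈ maximalIdeal R) :
    algebraMap R (Localization.AtPrime n) r ∈ maximalIdeal (Localization.AtPrime n) := by
  rw [IsScalarTower.algebraMap_apply R C (Localization.AtPrime n),
    IsLocalization.AtPrime.to_map_mem_maximal_iff (Localization.AtPrime n) n]
  exact hn (Ideal.mem_map_of_mem _ hr)

variable {R C I n} in
theorem map_le_maximalIdeal (hn : (maximalIdeal R).map (algebraMap R C) ≤ n)
    (hIm : I ≤ maximalIdeal R) :
    I.map (algebraMap R (Localization.AtPrime n)) ≤ maximalIdeal (Localization.AtPrime n) := by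
  rw [Ideal.map_le_iff_le_comap]
  intro r hr
  exact algebraMap_mem_maximalIdeal hn r (hIm hr)

variable {R C I n} in
theorem nontrivial_TQ (hn : (maximalIdeal R).map (algebraMap R C) ≤ n)
    (hIm : I ≤ maximalIdeal R) : Nontrivial TQ' := by
  refine Ideal.Quotient.nontrivial_iff.mpr (fun h => ?_)
  have := map_le_maximalIdeal hn hIm
  rw [h] at this
  exact (maximalIdeal.isMaximal (Localization.AtPrime n)).ne_top (top_le_iff.mp this)

variable {R C I n} in
theorem isLocalRing_TQ (hn : (maximalIdeal R).map (algebraMap R C) ≤ n)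
    (hIm : I ≤ maximalIdeal R) : IsLocalRing TQ' :=
  haveI := nontrivial_TQ hn hIm
  IsLocalRing.of_surjective' (Ideal.Quotient.mk _) Ideal.Quotient.mk_surjective

variable {R C I n} in
theorem map_maximalIdeal_TQ_le [IsLocalRing TQ']
    (hn : (maximalIdeal R).map (algebraMap R C) ≤ n) :
    (maximalIdeal R).map (algebraMap R TQ') ≤ maximalIdeal TQ' := by
  haveI : IsLocalHom (Ideal.Quotient.mk (I.map (algebraMap R (Localization.AtPrime n)))) :=
    IsLocalHom.of_surjective _ Ideal.Quotient.mk_surjective
  rw [Ideal.map_le_iff_le_comap]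
  intro r hr
  rw [Ideal.mem_comap, IsScalarTower.algebraMap_apply R (Localization.AtPrime n) TQ']
  have h1 := algebraMap_mem_maximalIdeal hn r hr
  rw [← IsLocalRing.maximalIdeal_comap
    (Ideal.Quotient.mk (I.map (algebraMap R (Localization.AtPrime n))))] at h1
  exact h1

variable {R C I n} in
theorem isLocalHom_quot_TQ [IsLocalRing (R ⧸ I)] [IsLocalRing TQ']
    (hn : (maximalIdeal R).map (algebraMap R C) ≤ n) (hIm : I ≤ maximalIdeal R) :
    IsLocalHom (algebraMap (R ⧸ I) TQ') := by
  refine ((IsLocalRing.local_hom_TFAE _).out 0 2).mpr ?_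
  rw [← map_maximalIdeal_quot R I hIm, Ideal.map_map]
  have : (algebraMap (R ⧸ I) TQ').comp (Ideal.Quotient.mk I) =
      algebraMap R TQ' := RingHom.ext fun _ => rfl
  rw [this]
  exact map_maximalIdeal_TQ_le hn

theorem flat_TQ [Module.Flat R C] : Module.Flat (R ⧸ I) TQ' := by
  haveI : Module.Flat R (Localization.AtPrime n) := Module.Flat.trans R C _
  exact flat_quotient R (Localization.AtPrime n) I

end LocalT

end Groth.Agent.Lib.Helper12.LocQuot
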