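import Groth.Agent.Lib.Helper12.ArtinFourTerm
import Groth.Agent.Lib.Helper12.DDualLocGen
import Groth.Agent.Lib.Helper12.LocQuot

/-!
# The Artinian step of the infinitesimal criterion (helper12)
-/

set_option autoImplicit false
universe u

namespace Groth.Agent.Lib.Helper12.ArtinStep

open TensorProduct LocCoh IsLocalRing
open Groth.Agent.Lib.Helper12.LocQuot

section Fibre

variable (R : Type u) [CommRing R] [IsLocalRing R] (C : Type u) [CommRing C] [Algebra R C]
  (I : Ideal R) (n : Ideal C) [n.IsPrime] [IsLocalRing (R ⧸ I)]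

local notation "TQ'" => Localization.AtPrime n ⧸
  Ideal.map (algebraMap R (Localization.AtPrime n)) I

/-- The closed fibre of `C_n / I C_n` over `R / I` has the `J`-depth of the fibre local ring. -/
theorem two_le_idealDepth_TQ_fibre (hIm : I ≤ maximalIdeal R)
    (hn : (maximalIdeal R).map (algebraMap R C) ≤ n) (J : Ideal C)
    (hL : 2 ≤ idealDepth (J.map (algebraMap C (EGA4.FibLocRing R C n))) (EGA4.FibLocRing R C n)) :
    2 ≤ idealDepth (J.map (algebraMap C TQ'))
      (TQ' ⧸ (maximalIdeal (R ⧸ I)).map (algebraMap (R ⧸ I) TQ')) := by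
  have e2 : (2 : ℕ∞) = ((2 : ℕ) : ℕ∞) := rfl
  have hnm : n.comap (algebraMap R C) = maximalIdeal R :=
    ((maximalIdeal.isMaximal R).eq_of_le (Ideal.IsPrime.ne_top inferInstance)
      (Ideal.map_le_iff_le_comap.mp hn)).symm
  have hmT : (maximalIdeal (R ⧸ I)).map (algebraMap (R ⧸ I) TQ') =
      ((maximalIdeal R).map (algebraMap R (Localization.AtPrime n))).map
        (Ideal.Quotient.mk (I.map (algebraMap R (Localization.AtPrime n)))) := by
    rw [← map_maximalIdeal_quot R I hIm, Ideal.map_map, Ideal.map_map]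
    congr 1
  let φ : Localization.AtPrime n →ₗ[Localization.AtPrime n]
      (TQ' ⧸ (maximalIdeal (R ⧸ I)).map (algebraMap (R ⧸ I) TQ')) :=
    ((Submodule.mkQ ((maximalIdeal (R ⧸ I)).map (algebraMap (R ⧸ I) TQ'))).restrictScalars
      (Localization.AtPrime n)) ∘ₗ
      (Submodule.mkQ (I.map (algebraMap R (Localization.AtPrime n))))
  have hφ : ∀ x, φ x = Ideal.Quotient.mk _ (Ideal.Quotient.mk _ x) := fun _ => rfl
  have hsurj : Function.Surjective φ := by
    intro y
    obtain ⟨t, rfl⟩ := Ideal.Quotient.mk_surjective y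
    obtain ⟨x, rfl⟩ := Ideal.Quotient.mk_surjective t
    exact ⟨x, rfl⟩
  have hker : LinearMap.ker φ =
      (n.comap (algebraMap R C)).map (algebraMap R (Localization.AtPrime n)) := by
    ext x
    rw [LinearMap.mem_ker, hφ, Ideal.Quotient.eq_zero_iff_mem, hmT, hnm,
      ← Ideal.mem_comap, Ideal.comap_map_of_surjective _ Ideal.Quotient.mk_surjective,
      ← RingHom.ker_eq_comap_bot, Ideal.mk_ker, sup_eq_left.mpr (Ideal.map_mono hIm)]
  let e : EGA4.FibLocRing R C n ≃ₗ[Localization.AtPrime n]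
      (TQ' ⧸ (maximalIdeal (R ⧸ I)).map (algebraMap (R ⧸ I) TQ')) :=
    (Submodule.quotEquivOfEq _ _ hker.symm).trans (φ.quotKerEquivOfSurjective hsurj)
  have h1 : ((2 : ℕ) : ℕ∞) ≤ idealDepth (J.map (algebraMap C (Localization.AtPrime n)))
      (EGA4.FibLocRing R C n) := by
    refine Groth.Agent.Lib.Helper12.FibreDepth.le_idealDepth_of_surjective
      (R := Localization.AtPrime n) (R' := EGA4.FibLocRing R C n) (EGA4.FibLocRing R C n)
      Ideal.Quotient.mk_surjective (J.map (algebraMap C (Localization.AtPrime n))) 2 ?_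
    rw [Ideal.map_map, ← IsScalarTower.algebraMap_eq, ← e2]
    exact hL
  rw [Groth.Agent.Lib.Helper29.idealDepth_congr _ e] at h1
  have h2 := Groth.Agent.Lib.Helper12.FourTermLocal.le_idealDepth_map
    (R := Localization.AtPrime n) (R' := TQ')
    (TQ' ⧸ (maximalIdeal (R ⧸ I)).map (algebraMap (R ⧸ I) TQ'))
    (J.map (algebraMap C (Localization.AtPrime n))) 2 h1
  rw [Ideal.map_map, ← IsScalarTower.algebraMap_eq, ← e2] at h2
  exact h2

end Fibre

section Step

variable (R : Type u) [CommRing R] [IsNoetherianRing R] [IsLocalRing R] (C : Type u) [CommRing C]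
  [IsNoetherianRing C] [Algebra R C] [Module.Flat R C]
  (n : Ideal C) [n.IsPrime] (J : Ideal C)
  {F E0 E1 G : Type u} [AddCommGroup F] [Module C F] [Module.Finite C F]
  [AddCommGroup E0] [Module C E0] [Module.Finite C E0] [Module.Projective C E0]
  [AddCommGroup E1] [Module C E1] [Module.Finite C E1] [Module.Projective C E1]
  [AddCommGroup G] [Module C G] [Module.Finite C G]
  (f : F →ₗ[C] E0) (u : E0 →ₗ[C] E1) (v : E1 →ₗ[C] G) (I : Ideal R)

local notation "CQ'" => C ⧸ Ideal.map (algebraMap R C) I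
local notation "TQ'" => Localization.AtPrime n ⧸
  Ideal.map (algebraMap R (Localization.AtPrime n)) I

attribute [local instance] algebraCQTQ

/-- The Artinian step: flatness of the localized double dual over `R / I` forces flatness of the
base-changed cokernel `C_n / I C_n ⊗ G`. -/
theorem artin_step (hn : (maximalIdeal R).map (algebraMap R C) ≤ n)
    (hf : Function.Injective f) (hfu : Function.Exact f u) (huv : Function.Exact u v)
    (hv : Function.Surjective v)
    (hGU : ∀ q : PrimeSpectrum C, ¬ J ≤ q.asIdeal →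
      Module.Free (Localization.AtPrime q.asIdeal) (LocalizedModule q.asIdeal.primeCompl G))
    [IsArtinianRing (R ⧸ I)] [IsLocalRing (R ⧸ I)]
    (hIm : I ≤ maximalIdeal R)
    (hL : 2 ≤ idealDepth (J.map (algebraMap C (EGA4.FibLocRing R C n))) (EGA4.FibLocRing R C n))
    (hfl : ∀ q' : PrimeSpectrum CQ', q'.asIdeal.comap (algebraMap C CQ') = n →
      Module.Flat (R ⧸ I) (LocalizedModule q'.asIdeal.primeCompl
        (Module.Dual CQ' (Module.Dual CQ' (CQ' ⊗[C] F))))) :
    Module.Flat (R ⧸ I) (TQ' ⊗[C] G) := by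
  have hbn : I.map (algebraMap R C) ≤ n := le_trans (Ideal.map_mono hIm) hn
  haveI hqp : (qQ R C I n).IsPrime := qQ_isPrime hbn
  have h1 := hfl ⟨qQ R C I n, hqp⟩ (comap_algebraMap_qQ hbn)
  haveI hloc : IsLocalization.AtPrime TQ' (qQ R C I n) := isLocalization_TQ hbn
  let ℓ : CQ' ⊗[C] F →ₗ[CQ'] TQ' ⊗[C] F :=
    AlgebraTensorModule.rTensor C F (Algebra.linearMap CQ' TQ')
  haveI : IsLocalizedModule (qQ R C I n).primeCompl ℓ := by
    unfold ℓ
    infer_instance
  have h2 : Module.Flat (R ⧸ I)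
      (Module.Dual TQ' (Module.Dual TQ' (TQ' ⊗[C] F))) :=
    Groth.Agent.Lib.Helper12.DDualLocGen.flat_ddual_of_isLocalizedModule
      (A' := R ⧸ I) (C' := CQ') (T := TQ') (qQ R C I n).primeCompl
      (CQ' ⊗[C] F) (TQ' ⊗[C] F) ℓ h1
  haveI : IsLocalRing TQ' := isLocalRing_TQ hn hIm
  haveI : IsLocalHom (algebraMap (R ⧸ I) TQ') := isLocalHom_quot_TQ hn hIm
  haveI : Module.Flat (R ⧸ I) TQ' := flat_TQ R C I n
  have hT := two_le_idealDepth_TQ_fibre R C I n hIm hn J hL
  exact Groth.Agent.Lib.Helper12.ArtinFourTerm.flat_baseChange_coker (R ⧸ I) TQ' C J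
    f u v hf hfu huv hv hGU hT h2

end Step

end Groth.Agent.Lib.Helper12.ArtinStep
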