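import Mathlib

/-!
# Freeness of the stalks of a base change (helper12)

If `F_q` is free over `B_q` and `q'` is a prime of `B'` over `q`, then `(B' ⊗[B] F)_{q'}` is free
over `B'_{q'}`.
-/

set_option autoImplicit false
universe u

namespace Groth.Agent.Lib.Helper12.BaseChangeFree

open TensorProduct

variable (B B' : Type u) [CommRing B] [CommRing B'] [Algebra B B'] (q' : Ideal B') [q'.IsPrime]
  (F : Type u) [AddCommGroup F] [Module B F]

/-- The stalk of the base change is the base change of the stalk. -/
noncomputable def localizedBaseChangeEquiv :
    letI := Localization.AtPrime.algebraOfLiesOver (q'.comap (algebraMap B B')) q'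
    LocalizedModule q'.primeCompl (B' ⊗[B] F) ≃ₗ[Localization.AtPrime q']
      Localization.AtPrime q' ⊗[Localization.AtPrime (q'.comap (algebraMap B B'))]
        LocalizedModule (q'.comap (algebraMap B B')).primeCompl F := by
  letI := Localization.AtPrime.algebraOfLiesOver (q'.comap (algebraMap B B')) q'
  have h1 : IsBaseChange B' (TensorProduct.mk B B' F 1) := TensorProduct.isBaseChange B F B'
  have h2 : IsBaseChange (Localization.AtPrime q')
      (LocalizedModule.mkLinearMap q'.primeCompl (B' ⊗[B] F)) :=
    LocalizedModule.isBaseChange q'.primeCompl (B' ⊗[B] F)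
  have h12 := IsBaseChange.comp h1 h2
  have g1 : IsBaseChange (Localization.AtPrime (q'.comap (algebraMap B B')))
      (LocalizedModule.mkLinearMap (q'.comap (algebraMap B B')).primeCompl F) :=
    LocalizedModule.isBaseChange _ F
  have g2 : IsBaseChange (Localization.AtPrime q')
      (TensorProduct.mk (Localization.AtPrime (q'.comap (algebraMap B B')))
        (Localization.AtPrime q')
        (LocalizedModule (q'.comap (algebraMap B B')).primeCompl F) 1) :=
    TensorProduct.isBaseChange _ _ _
  have g12 := IsBaseChange.comp g1 g2
  exact h12.equiv.symm.trans g12.equiv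

theorem free_localizedModule_baseChange
    [Module.Free (Localization.AtPrime (q'.comap (algebraMap B B')))
      (LocalizedModule (q'.comap (algebraMap B B')).primeCompl F)] :
    Module.Free (Localization.AtPrime q') (LocalizedModule q'.primeCompl (B' ⊗[B] F)) := by
  letI := Localization.AtPrime.algebraOfLiesOver (q'.comap (algebraMap B B')) q'
  exact Module.Free.of_equiv (localizedBaseChangeEquiv B B' q' F).symm

end Groth.Agent.Lib.Helper12.BaseChangeFree
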