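import Mathlib
import Groth.Agent.Lib.Helper91.GenericFreeness
open TensorProduct
universe u
namespace Groth.Agent.Lib.Helper12.ChevGeneric

/-- Over a domain `R`, a finite type algebra `S` whose spectrum hits the generic point hits a
basic open `D(a)`, `a ≠ 0`. -/
theorem exists_basicOpen_subset_range_of_isDomain {R S : Type u} [CommRing R] [IsDomain R]
    [CommRing S] [Algebra R S] [Algebra.FiniteType R S]
    (h : (⊥ : PrimeSpectrum R) ∈ Set.range (PrimeSpectrum.comap (algebraMap R S))) :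
    ∃ a : R, a ≠ 0 ∧ ∀ z : PrimeSpectrum R, a ∉ z.asIdeal →
      z ∈ Set.range (PrimeSpectrum.comap (algebraMap R S)) := by
  obtain ⟨a, ha0, -, hfree, -, -⟩ :=
    Groth.Agent.Lib.Helper91.generic_freeness (R := R) (S := S) (M := S)
  refine ⟨a, ha0, fun z hz => ?_⟩
  obtain ⟨y, hy⟩ := h
  -- the localized algebra is nontrivial
  have hay : algebraMap R S a ∉ y.asIdeal := by
    intro hmem
    have h1 : a ∈ (PrimeSpectrum.comap (algebraMap R S) y).asIdeal := hmem
    rw [hy] at h1
    exact ha0 h1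
  have hnt : Nontrivial (Localization.Away a ⊗[R] S) := by
    have hu : ∀ m : Submonoid.powers a,
        IsUnit (algebraMap R (Localization.AtPrime y.asIdeal) m) := by
      rintro ⟨_, n, rfl⟩
      rw [map_pow]
      apply IsUnit.pow
      rw [IsScalarTower.algebraMap_apply R S (Localization.AtPrime y.asIdeal)]
      exact IsLocalization.map_units (Localization.AtPrime y.asIdeal)
        (⟨algebraMap R S a, hay⟩ : y.asIdeal.primeCompl)
    let f1 : Localization.Away a →ₐ[R] Localization.AtPrime y.asIdeal :=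
      IsLocalization.liftAlgHom (M := Submonoid.powers a)
        (f := Algebra.ofId R (Localization.AtPrime y.asIdeal)) hu
    let ψ : Localization.Away a ⊗[R] S →ₐ[R] Localization.AtPrime y.asIdeal :=
      Algebra.TensorProduct.lift f1 (Algebra.ofId S (Localization.AtPrime y.asIdeal) |>.restrictScalars R)
        (fun _ _ => Commute.all _ _)
    exact ψ.toRingHom.domain_nontrivial
  have hff : Module.FaithfullyFlat (Localization.Away a) (Localization.Away a ⊗[R] S) :=
    inferInstance
  -- z comes from Spec R_a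
  obtain ⟨z₁, hz₁⟩ : z ∈ Set.range (PrimeSpectrum.comap (algebraMap R (Localization.Away a))) := by
    rw [PrimeSpectrum.localization_away_comap_range (Localization.Away a) a]
    exact hz
  obtain ⟨w₁, hw₁⟩ := PrimeSpectrum.comap_surjective_of_faithfullyFlat
    (A := Localization.Away a) (B := Localization.Away a ⊗[R] S) z₁
  refine ⟨PrimeSpectrum.comap (Algebra.TensorProduct.includeRight :
    S →ₐ[R] Localization.Away a ⊗[R] S).toRingHom w₁, ?_⟩
  rw [← hz₁, ← hw₁]
  apply PrimeSpectrum.ext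
  ext r
  simp only [PrimeSpectrum.comap_asIdeal, Ideal.mem_comap]
  have e1 : (Algebra.TensorProduct.includeRight :
      S →ₐ[R] Localization.Away a ⊗[R] S).toRingHom (algebraMap R S r) =
      algebraMap R (Localization.Away a ⊗[R] S) r :=
    (Algebra.TensorProduct.includeRight : S →ₐ[R] Localization.Away a ⊗[R] S).commutes r
  have e2 : algebraMap (Localization.Away a) (Localization.Away a ⊗[R] S)
      (algebraMap R (Localization.Away a) r) = algebraMap R (Localization.Away a ⊗[R] S) r :=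
    (IsScalarTower.algebraMap_apply R (Localization.Away a) (Localization.Away a ⊗[R] S) r).symm
  rw [e1, e2]


/-- For a finite type `R`-algebra `S` and a point `ξ` in the image of `Spec S`, the image contains
`D(a) ∩ cl{ξ}` for some `a ∉ ξ`. -/
theorem exists_notMem_forall_mem_range {R S : Type u} [CommRing R] [CommRing S] [Algebra R S]
    [Algebra.FiniteType R S] (ξ : PrimeSpectrum R)
    (hξ : ξ ∈ Set.range (PrimeSpectrum.comap (algebraMap R S))) :
    ∃ a : R, a ∉ ξ.asIdeal ∧ ∀ z : PrimeSpectrum R, ξ.asIdeal ≤ z.asIdeal → a ∉ z.asIdeal →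
      z ∈ Set.range (PrimeSpectrum.comap (algebraMap R S)) := by
  obtain ⟨y, hy⟩ := hξ
  -- a prime of `S' = R/ξ ⊗ S` over the generic point of `R/ξ`
  have hker : RingHom.ker (algebraMap R y.asIdeal.ResidueField) = ξ.asIdeal := by
    rw [IsScalarTower.algebraMap_eq R S y.asIdeal.ResidueField, ← RingHom.comap_ker,
      Ideal.ker_algebraMap_residueField, ← hy]
    rfl
  let f1 : (R ⧸ ξ.asIdeal) →ₐ[R] y.asIdeal.ResidueField :=
    Ideal.Quotient.liftₐ ξ.asIdeal (Algebra.ofId R y.asIdeal.ResidueField) (fun r hr => by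
      have : r ∈ RingHom.ker (algebraMap R y.asIdeal.ResidueField) := by rw [hker]; exact hr
      exact this)
  have hf1 : Function.Injective f1 := by
    rw [injective_iff_map_eq_zero]
    intro x hx
    obtain ⟨r, rfl⟩ := Ideal.Quotient.mk_surjective x
    have h1 : algebraMap R y.asIdeal.ResidueField r = 0 := hx
    have h2 : r ∈ RingHom.ker (algebraMap R y.asIdeal.ResidueField) := h1
    rw [hker] at h2
    exact Ideal.Quotient.eq_zero_iff_mem.mpr h2
  let ψ : (R ⧸ ξ.asIdeal) ⊗[R] S →ₐ[R] y.asIdeal.ResidueField :=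
    Algebra.TensorProduct.lift f1
      ((Algebra.ofId S y.asIdeal.ResidueField).restrictScalars R) (fun _ _ => Commute.all _ _)
  have hbot : (⊥ : PrimeSpectrum (R ⧸ ξ.asIdeal)) ∈
      Set.range (PrimeSpectrum.comap (algebraMap (R ⧸ ξ.asIdeal) ((R ⧸ ξ.asIdeal) ⊗[R] S))) := by
    refine ⟨PrimeSpectrum.comap ψ.toRingHom ⊥, ?_⟩
    apply PrimeSpectrum.ext
    ext x
    simp only [PrimeSpectrum.comap_asIdeal, Ideal.mem_comap]
    change ψ (algebraMap (R ⧸ ξ.asIdeal) ((R ⧸ ξ.asIdeal) ⊗[R] S) x) ∈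
      (⊥ : Ideal y.asIdeal.ResidueField) ↔ x ∈ (⊥ : Ideal (R ⧸ ξ.asIdeal))
    rw [Ideal.mem_bot, Ideal.mem_bot, Algebra.TensorProduct.algebraMap_apply,
      Algebra.algebraMap_self_apply, Algebra.TensorProduct.lift_tmul, map_one, mul_one]
    exact ⟨fun h => hf1 (h.trans (map_zero f1).symm), fun h => by rw [h, map_zero]⟩
  obtain ⟨a', ha'0, ha'⟩ := exists_basicOpen_subset_range_of_isDomain hbot
  obtain ⟨a, rfl⟩ := Ideal.Quotient.mk_surjective a'
  refine ⟨a, fun ha => ha'0 (Ideal.Quotient.eq_zero_iff_mem.mpr ha), fun z hz haz => ?_⟩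
  -- `z` comes from `Spec (R/ξ)`
  obtain ⟨z', hz'⟩ : z ∈ Set.range (PrimeSpectrum.comap (Ideal.Quotient.mk ξ.asIdeal)) := by
    rw [range_comap_of_surjective _ _ Ideal.Quotient.mk_surjective, Ideal.mk_ker]
    exact hz
  have haz' : Ideal.Quotient.mk ξ.asIdeal a ∉ z'.asIdeal := by
    intro h
    apply haz
    rw [← hz']
    exact h
  obtain ⟨w, hw⟩ := ha' z' haz'
  refine ⟨PrimeSpectrum.comap (Algebra.TensorProduct.includeRight :
    S →ₐ[R] (R ⧸ ξ.asIdeal) ⊗[R] S).toRingHom w, ?_⟩
  rw [← hz', ← hw]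
  apply PrimeSpectrum.ext
  ext r
  simp only [PrimeSpectrum.comap_asIdeal, Ideal.mem_comap]
  have e1 : (Algebra.TensorProduct.includeRight :
      S →ₐ[R] (R ⧸ ξ.asIdeal) ⊗[R] S).toRingHom (algebraMap R S r) =
      algebraMap R ((R ⧸ ξ.asIdeal) ⊗[R] S) r :=
    (Algebra.TensorProduct.includeRight : S →ₐ[R] (R ⧸ ξ.asIdeal) ⊗[R] S).commutes r
  have e2 : algebraMap (R ⧸ ξ.asIdeal) ((R ⧸ ξ.asIdeal) ⊗[R] S)
      (Ideal.Quotient.mk ξ.asIdeal r) = algebraMap R ((R ⧸ ξ.asIdeal) ⊗[R] S) r :=
    (IsScalarTower.algebraMap_apply R (R ⧸ ξ.asIdeal) ((R ⧸ ξ.asIdeal) ⊗[R] S) r).symm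
  rw [e1, e2]


open PrimeSpectrum in
/-- Image of a constructible set under a finite type map contains an open dense subset of the
closure of each of its points. -/
theorem exists_open_dense_of_mem_image {R S : Type u} [CommRing R] [CommRing S] [Algebra R S]
    [Algebra.FiniteType R S]
    (E : Set (PrimeSpectrum S)) (hE : Topology.IsConstructible E) (ξ : PrimeSpectrum R)
    (hξ : ξ ∈ PrimeSpectrum.comap (algebraMap R S) '' E) :
    ∃ a : R, a ∉ ξ.asIdeal ∧ ∀ z : PrimeSpectrum R, ξ.asIdeal ≤ z.asIdeal → a ∉ z.asIdeal →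
      z ∈ PrimeSpectrum.comap (algebraMap R S) '' E := by
  obtain ⟨y, hyE, rfl⟩ := hξ
  obtain ⟨s, rfl⟩ := PrimeSpectrum.exists_constructibleSetData_iff.mpr hE
  simp only [ConstructibleSetData.toSet, Set.mem_iUnion] at hyE
  obtain ⟨C, hC, hyC⟩ := hyE
  have hrange : Set.range (comap (algebraMap S
      (Localization.Away (Ideal.Quotient.mk (Ideal.span (Set.range C.g)) C.f)))) = C.toSet := by
    trans comap (Ideal.Quotient.mk (Ideal.span (Set.range C.g))) ''
      (Set.range (comap (algebraMap _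
        (Localization.Away (Ideal.Quotient.mk (Ideal.span (Set.range C.g)) C.f)))))
    · rw [← Set.range_comp]; rfl
    · rw [localization_away_comap_range _ (Ideal.Quotient.mk (Ideal.span (Set.range C.g)) C.f),
        ← comap_basicOpen, TopologicalSpace.Opens.coe_comap,
        ContinuousMap.coe_mk, Set.image_preimage_eq_inter_range,
        range_comap_of_surjective _ _ Ideal.Quotient.mk_surjective, BasicConstructibleSetData.toSet,
        Set.sdiff_eq_compl_inter, basicOpen_eq_zeroLocus_compl, Ideal.mk_ker, zeroLocus_span]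
  obtain ⟨y₁, hy₁⟩ : y ∈ Set.range (comap (algebraMap S
      (Localization.Away (Ideal.Quotient.mk (Ideal.span (Set.range C.g)) C.f)))) := by
    rw [hrange]; exact hyC
  obtain ⟨a, ha, hmem⟩ := exists_notMem_forall_mem_range (R := R)
    (S := Localization.Away (Ideal.Quotient.mk (Ideal.span (Set.range C.g)) C.f))
    (comap (algebraMap R S) y) ⟨y₁, by
      rw [← hy₁, IsScalarTower.algebraMap_eq R S
        (Localization.Away (Ideal.Quotient.mk (Ideal.span (Set.range C.g)) C.f))]
      rfl⟩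
  refine ⟨a, ha, fun z hz haz => ?_⟩
  obtain ⟨w, hw⟩ := hmem z hz haz
  refine ⟨comap (algebraMap S
      (Localization.Away (Ideal.Quotient.mk (Ideal.span (Set.range C.g)) C.f))) w, ?_, ?_⟩
  · simp only [ConstructibleSetData.toSet, Set.mem_iUnion]
    refine ⟨C, hC, ?_⟩
    rw [← hrange]
    exact ⟨w, rfl⟩
  · rw [← hw, IsScalarTower.algebraMap_eq R S
        (Localization.Away (Ideal.Quotient.mk (Ideal.span (Set.range C.g)) C.f))]
    rfl

/-- Topological form (EGA style): `f(E) ∩ cl{ξ}` contains an open dense subset of `cl{ξ}`. -/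
theorem exists_open_dense_subset_closure {R S : Type u} [CommRing R] [CommRing S] [Algebra R S]
    [Algebra.FiniteType R S]
    (E : Set (PrimeSpectrum S)) (hE : Topology.IsConstructible E) (ξ : PrimeSpectrum R)
    (hξ : ξ ∈ PrimeSpectrum.comap (algebraMap R S) '' E) :
    ∃ U : Set (PrimeSpectrum R), IsOpen U ∧
      closure ({ξ} : Set (PrimeSpectrum R)) ⊆ closure (U ∩ closure {ξ}) ∧
      U ∩ closure {ξ} ⊆ PrimeSpectrum.comap (algebraMap R S) '' E := by
  obtain ⟨a, ha, hmem⟩ := exists_open_dense_of_mem_image E hE ξ hξ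
  refine ⟨PrimeSpectrum.basicOpen a, (PrimeSpectrum.basicOpen a).2, ?_, ?_⟩
  · apply closure_mono
    rintro _ rfl
    exact ⟨ha, subset_closure rfl⟩
  · rintro z ⟨hzU, hzcl⟩
    exact hmem z ((PrimeSpectrum.le_iff_mem_closure _ _).mpr hzcl) hzU

end Groth.Agent.Lib.Helper12.ChevGeneric
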