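import Mathlib
import Groth.Agent.Lib.Helper12.ChevGeneric
open TensorProduct PrimeSpectrum
universe u
namespace Groth.Agent.Lib.Helper12.ChevJacobson

/-- A finite type map out of a Jacobson ring sends closed points to closed points. -/
theorem isClosed_singleton_comap {R S : Type u} [CommRing R] [CommRing S] [Algebra R S]
    [IsJacobsonRing R] [Algebra.FiniteType R S] (y : PrimeSpectrum S)
    (hy : IsClosed ({y} : Set (PrimeSpectrum S))) :
    IsClosed ({comap (algebraMap R S) y} : Set (PrimeSpectrum R)) := by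
  rw [isClosed_singleton_iff_isMaximal] at hy ⊢
  let : Field (S ⧸ y.asIdeal) := Ideal.Quotient.field y.asIdeal
  have : Module.Finite R (S ⧸ y.asIdeal) := finite_of_finite_type_of_isJacobsonRing R _
  have : Algebra.IsIntegral R (S ⧸ y.asIdeal) := inferInstance
  have h1 := Ideal.isMaximal_comap_of_isIntegral_of_isMaximal (R := R) (S := S ⧸ y.asIdeal) ⊥
  have h2 : (⊥ : Ideal (S ⧸ y.asIdeal)).comap (algebraMap R (S ⧸ y.asIdeal)) =
      (comap (algebraMap R S) y).asIdeal := by
    rw [IsScalarTower.algebraMap_eq R S (S ⧸ y.asIdeal), ← Ideal.comap_comap]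
    change Ideal.comap (algebraMap R S) (RingHom.ker (Ideal.Quotient.mk y.asIdeal)) = _
    rw [Ideal.mk_ker]
    rfl
  rwa [h2] at h1

theorem isLocallyClosed_toSet {S : Type u} [CommRing S] (C : BasicConstructibleSetData S) :
    IsLocallyClosed C.toSet := by
  rw [BasicConstructibleSetData.toSet, Set.sdiff_eq]
  exact (isClosed_zeroLocus _).isLocallyClosed.inter (isClosed_zeroLocus _).isOpen_compl.isLocallyClosed

/-- In the spectrum of a Jacobson ring, a point closed in a constructible set is closed. -/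
theorem isClosed_singleton_of_closure_inter_subset {S : Type u} [CommRing S] [IsJacobsonRing S]
    (E : Set (PrimeSpectrum S)) (hE : Topology.IsConstructible E) (y : PrimeSpectrum S)
    (hy : y ∈ E) (h : closure {y} ∩ E ⊆ {y}) : IsClosed ({y} : Set (PrimeSpectrum S)) := by
  obtain ⟨s, rfl⟩ := PrimeSpectrum.exists_constructibleSetData_iff.mpr hE
  simp only [ConstructibleSetData.toSet, Set.mem_iUnion] at hy
  obtain ⟨C, hC, hyC⟩ := hy
  apply isClosed_singleton_of_isLocallyClosed_singleton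
  refine ⟨(zeroLocus {C.f})ᶜ, closure {y}, (isClosed_zeroLocus _).isOpen_compl, isClosed_closure, ?_⟩
  apply subset_antisymm
  · rintro _ rfl
    exact ⟨hyC.2, subset_closure rfl⟩
  · rintro z ⟨hz1, hz2⟩
    apply h
    refine ⟨hz2, ?_⟩
    simp only [ConstructibleSetData.toSet, Set.mem_iUnion]
    refine ⟨C, hC, ?_, hz1⟩
    exact (closure_minimal (Set.singleton_subset_iff.mpr hyC.1) (isClosed_zeroLocus _)) hz2

/-- In the spectrum of a Jacobson ring, a constructible set meeting a closed set meets it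
in a closed point. -/
theorem exists_isClosed_singleton_mem {S : Type u} [CommRing S] [IsJacobsonRing S]
    (E : Set (PrimeSpectrum S)) (hE : Topology.IsConstructible E) (Z : Set (PrimeSpectrum S))
    (hZ : IsClosed Z) (y : PrimeSpectrum S) (hy : y ∈ E) (hyZ : y ∈ Z) :
    ∃ y' ∈ E, y' ∈ Z ∧ IsClosed ({y'} : Set (PrimeSpectrum S)) := by
  obtain ⟨s, rfl⟩ := PrimeSpectrum.exists_constructibleSetData_iff.mpr hE
  simp only [ConstructibleSetData.toSet, Set.mem_iUnion] at hy
  obtain ⟨C, hC, hyC⟩ := hy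
  obtain ⟨y', ⟨hy'1, hy'2⟩, hy'3⟩ := nonempty_inter_closedPoints (Z := C.toSet ∩ Z) ⟨y, hyC, hyZ⟩
    ((isLocallyClosed_toSet C).inter hZ.isLocallyClosed)
  refine ⟨y', ?_, hy'2, hy'3⟩
  simp only [ConstructibleSetData.toSet, Set.mem_iUnion]
  exact ⟨C, hC, hy'1⟩

section
variable {R S : Type u} [CommRing R] [CommRing S] [Algebra R S] [IsJacobsonRing R]
  [IsJacobsonRing S] [Algebra.FiniteType R S]
  (E : Set (PrimeSpectrum S)) (hE : Topology.IsConstructible E)
include hE

/-- `f(E₀) = (Spec R)₀ ∩ f(E)`. -/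
theorem image_closedIn_eq :
    PrimeSpectrum.comap (algebraMap R S) '' {y | y ∈ E ∧ closure {y} ∩ E = {y}} =
      {x | IsClosed ({x} : Set (PrimeSpectrum R))} ∩ PrimeSpectrum.comap (algebraMap R S) '' E := by
  apply subset_antisymm
  · rintro _ ⟨y, ⟨hyE, hy⟩, rfl⟩
    exact ⟨isClosed_singleton_comap y
      (isClosed_singleton_of_closure_inter_subset E hE y hyE hy.le), ⟨y, hyE, rfl⟩⟩
  · rintro _ ⟨hx, ⟨y, hyE, rfl⟩⟩
    obtain ⟨y', hy'E, hy'Z, hy'⟩ := exists_isClosed_singleton_mem E hE
      (comap (algebraMap R S) ⁻¹' {comap (algebraMap R S) y})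
      (hx.preimage (PrimeSpectrum.continuous_comap (algebraMap R S))) y hyE rfl
    refine ⟨y', ⟨hy'E, ?_⟩, hy'Z⟩
    rw [hy'.closure_eq]
    exact Set.inter_eq_left.mpr (Set.singleton_subset_iff.mpr hy'E)

omit [IsJacobsonRing S] in
/-- `f(E)₀ = (Spec R)₀ ∩ f(E)`. -/
theorem closedIn_image_eq :
    {x | x ∈ PrimeSpectrum.comap (algebraMap R S) '' E ∧
      closure {x} ∩ PrimeSpectrum.comap (algebraMap R S) '' E = {x}} =
      {x | IsClosed ({x} : Set (PrimeSpectrum R))} ∩ PrimeSpectrum.comap (algebraMap R S) '' E := by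
  apply subset_antisymm
  · rintro x ⟨hx, hx'⟩
    refine ⟨?_, hx⟩
    obtain ⟨a, ha, hmem⟩ := ChevGeneric.exists_open_dense_of_mem_image E hE x hx
    apply isClosed_singleton_of_isLocallyClosed_singleton
    refine ⟨basicOpen a, closure {x}, (basicOpen a).2, isClosed_closure, ?_⟩
    apply subset_antisymm
    · rintro _ rfl
      exact ⟨ha, subset_closure rfl⟩
    · rintro z ⟨hz1, hz2⟩
      rw [← hx']
      exact ⟨hz2, hmem z ((PrimeSpectrum.le_iff_mem_closure _ _).mpr hz2) hz1⟩
  · rintro x ⟨hx, hxE⟩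
    refine ⟨hxE, ?_⟩
    have hx' : IsClosed ({x} : Set (PrimeSpectrum R)) := hx
    rw [hx'.closure_eq]
    exact Set.inter_eq_left.mpr (Set.singleton_subset_iff.mpr hxE)

/-- Density criterion, easy direction: needs no hypothesis on the rings. -/
theorem closure_subset_closure_of_mem (ξ : PrimeSpectrum R)
    (hξ : ξ ∈ PrimeSpectrum.comap (algebraMap R S) '' E) :
    closure ({ξ} : Set (PrimeSpectrum R)) ⊆ closure (closure {ξ} ∩
      PrimeSpectrum.comap (algebraMap R S) '' {y | y ∈ E ∧ closure {y} ∩ E = {y}}) := by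
  obtain ⟨a, ha, hmem⟩ := ChevGeneric.exists_open_dense_of_mem_image E hE ξ hξ
  have hlc : IsLocallyClosed ((basicOpen a : Set (PrimeSpectrum R)) ∩ closure {ξ}) :=
    (basicOpen a).2.isLocallyClosed.inter isClosed_closure.isLocallyClosed
  have h1 := JacobsonSpace.closure_inter_closedPoints_eq_closure hlc
  have h2 : closure ({ξ} : Set (PrimeSpectrum R)) ⊆
      closure ((basicOpen a : Set (PrimeSpectrum R)) ∩ closure {ξ}) := by
    apply closure_mono
    rintro _ rfl
    exact ⟨ha, subset_closure rfl⟩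
  rw [← h1] at h2
  refine h2.trans (closure_mono ?_)
  rintro z ⟨⟨hz1, hz2⟩, hz3⟩
  refine ⟨hz2, ?_⟩
  rw [image_closedIn_eq E hE]
  exact ⟨hz3, hmem z ((PrimeSpectrum.le_iff_mem_closure _ _).mpr hz2) hz1⟩

end

/-- If `cl{ξ} ∩ range` is dense near `ξ`, then `ξ` is in the range. -/
theorem mem_range_of_mem_closure {R S : Type u} [CommRing R] [CommRing S] (g : R →+* S)
    (ξ : PrimeSpectrum R)
    (h : ξ ∈ closure (closure {ξ} ∩ Set.range (comap g))) : ξ ∈ Set.range (comap g) := by
  have hle : (ξ.asIdeal.map g).comap g ≤ ξ.asIdeal := by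
    intro r hr
    by_contra hrξ
    rw [mem_closure_iff] at h
    obtain ⟨z, hz1, hz2, ⟨w, rfl⟩⟩ := h (basicOpen r) (basicOpen r).2 hrξ
    apply hz1
    have h3 : ξ.asIdeal ≤ (comap g w).asIdeal := (PrimeSpectrum.le_iff_mem_closure _ _).mpr hz2
    have h4 : ξ.asIdeal.map g ≤ w.asIdeal := Ideal.map_le_iff_le_comap.mpr h3
    exact h4 hr
  have heq : (ξ.asIdeal.map g).comap g = ξ.asIdeal := le_antisymm hle Ideal.le_comap_map
  obtain ⟨p', hp', -, hp'2⟩ := Ideal.exists_comap_eq_of_mem_minimalPrimes g (I := ξ.asIdeal.map g)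
    ξ.asIdeal (by
      rw [heq]
      exact ⟨⟨ξ.2, le_rfl⟩, fun q hq hq' => hq.2⟩)
  exact ⟨⟨p', hp'⟩, PrimeSpectrum.ext hp'2⟩

/-- Density criterion, converse direction (no Jacobson / finiteness hypotheses needed). -/
theorem mem_image_of_closure_subset {R S : Type u} [CommRing R] [CommRing S] [Algebra R S]
    (E : Set (PrimeSpectrum S)) (hE : Topology.IsConstructible E) (ξ : PrimeSpectrum R)
    (h : ξ ∈ closure (closure {ξ} ∩ PrimeSpectrum.comap (algebraMap R S) '' E)) :
    ξ ∈ PrimeSpectrum.comap (algebraMap R S) '' E := by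
  obtain ⟨s, rfl⟩ := PrimeSpectrum.exists_constructibleSetData_iff.mpr hE
  have hU : closure {ξ} ∩ PrimeSpectrum.comap (algebraMap R S) '' s.toSet =
      ⋃ C ∈ s, closure {ξ} ∩ PrimeSpectrum.comap (algebraMap R S) '' C.toSet := by
    rw [ConstructibleSetData.toSet, Set.image_iUnion₂, Set.inter_iUnion₂]
  rw [hU, Finset.closure_biUnion] at h
  simp only [Set.mem_iUnion] at h
  obtain ⟨C, hC, hCξ⟩ := h
  have hrange : Set.range (comap (algebraMap S
      (Localization.Away (Ideal.Quotient.mk (Ideal.span (Set.range C.g)) C.f)))) = C.toSet := by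
    trans comap (Ideal.Quotient.mk (Ideal.span (Set.range C.g))) ''
      (Set.range (comap (algebraMap _
        (Localization.Away (Ideal.Quotient.mk (Ideal.span (Set.range C.g)) C.f)))))
    · rw [← Set.range_comp]; rfl
    · rw [localization_away_comap_range _ (Ideal.Quotient.mk (Ideal.span (Set.range C.g)) C.f),
        ← comap_basicOpen, TopologicalSpace.Opens.coe_comap,
        ContinuousMap.coe_mk, Set.image_preimage_eq_inter_range,
        range_comap_of_surjective _ _ Ideal.Quotient.mk_surjective, BasicConstructibleSetData.toSet,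
        Set.sdiff_eq_compl_inter, basicOpen_eq_zeroLocus_compl, Ideal.mk_ker, zeroLocus_span]
  have hrange' : PrimeSpectrum.comap (algebraMap R S) '' C.toSet = Set.range (comap (algebraMap R
      (Localization.Away (Ideal.Quotient.mk (Ideal.span (Set.range C.g)) C.f)))) := by
    rw [← hrange, ← Set.range_comp, IsScalarTower.algebraMap_eq R S
        (Localization.Away (Ideal.Quotient.mk (Ideal.span (Set.range C.g)) C.f))]
    rfl
  rw [hrange'] at hCξ
  have := mem_range_of_mem_closure _ ξ hCξ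
  rw [← hrange'] at this
  obtain ⟨y, hy, rfl⟩ := this
  refine ⟨y, ?_, rfl⟩
  simp only [ConstructibleSetData.toSet, Set.mem_iUnion]
  exact ⟨C, hC, hy⟩

end Groth.Agent.Lib.Helper12.ChevJacobson
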