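import Mathlib
import Groth.Agent.Lib.Helper84.LocalFlat
import Groth.Agent.Lib.Helper98.LocalFlatNilp

/-!
# Flatness of ideally separated modules (helper12)

Bourbaki AC III §5.2 Thm 1, (iii) ⟹ (i), for a Noetherian ring `A`, an ideal `J` and an `A`-module
`M` which is ideally separated for `J`: if `J ⊗ M → M` is injective and `M / J M` is flat over
`A / J` then `M` is flat.

The Artin–Rees step `mem_pow_smul_top_of_relative_flat` is the first half of helper71's proof of
`Groth.Agent.Lib.Helper71.LocalCritNoeth.flat_of_relative_flat_pow`, isolated so that the Krull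
intersection step can be replaced by ideal-separatedness.
-/

set_option autoImplicit false
universe u

open TensorProduct

namespace Groth.Agent.Lib.Helper12.IdeallySep

section main
variable {A : Type u} [CommRing A] [IsNoetherianRing A] (𝔞 : Ideal A)
  (M : Type u) [AddCommGroup M] [Module A M]

/-- Artin–Rees step (after helper71). -/
theorem mem_pow_smul_top_of_relative_flat
    (H : ∀ (n : ℕ) (N' N : Type u) [AddCommGroup N'] [AddCommGroup N] [Module A N'] [Module A N]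
      (_ : Module.IsTorsionBySet A N' ((𝔞 ^ (n + 1) : Ideal A) : Set A))
      (_ : Module.IsTorsionBySet A N ((𝔞 ^ (n + 1) : Ideal A) : Set A))
      (f : N' →ₗ[A] N), Function.Injective f → Function.Injective (f.rTensor M))
    (𝔟 : Ideal A) (x : 𝔟 ⊗[A] M) (hx : 𝔟.subtype.rTensor M x = 0) (k : ℕ) :
    x ∈ 𝔞 ^ k • (⊤ : Submodule A (𝔟 ⊗[A] M)) := by
  obtain ⟨c, hc⟩ := Ideal.exists_pow_inf_eq_pow_smul 𝔞 (M := A) (𝔟 : Submodule A A)
  set n := k + c with hn
  have hAR : (𝔞 ^ (n + 1) : Ideal A) ⊓ 𝔟 ≤ 𝔞 ^ k • (𝔟 : Submodule A A) := by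
    have h1 := hc (n + 1) (by omega)
    have h2 : (𝔞 ^ (n + 1) • (⊤ : Submodule A A)) = (𝔞 ^ (n + 1) : Ideal A) := by
      simp
    rw [h2] at h1
    rw [h1]
    have h3 : n + 1 - c = k + 1 := by omega
    rw [h3]
    calc 𝔞 ^ (k + 1) • (𝔞 ^ c • (⊤ : Submodule A A) ⊓ 𝔟)
        ≤ 𝔞 ^ (k + 1) • (𝔟 : Submodule A A) := Submodule.smul_mono le_rfl inf_le_right
      _ ≤ 𝔞 ^ k • (𝔟 : Submodule A A) :=
        Submodule.smul_mono_left (Ideal.pow_le_pow_right (Nat.le_succ k))
  set In : Ideal A := 𝔞 ^ (n + 1) with hIn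
  let K : Submodule A ↥𝔟 := Submodule.comap 𝔟.subtype In
  let j : (↥𝔟 ⧸ K) →ₗ[A] (A ⧸ In) := K.mapQ In 𝔟.subtype le_rfl
  have hjinj : Function.Injective j := by
    rw [injective_iff_map_eq_zero]
    intro y hy
    obtain ⟨b, rfl⟩ := K.mkQ_surjective y
    have : In.mkQ (𝔟.subtype b) = 0 := hy
    rw [Submodule.mkQ_apply, Submodule.Quotient.mk_eq_zero] at this
    rw [Submodule.mkQ_apply, Submodule.Quotient.mk_eq_zero]
    exact this
  have t1 : Module.IsTorsionBySet A (↥𝔟 ⧸ K) ((In : Ideal A) : Set A) := by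
    intro y a
    obtain ⟨b, rfl⟩ := K.mkQ_surjective y
    rw [Submodule.mkQ_apply, ← Submodule.Quotient.mk_smul, Submodule.Quotient.mk_eq_zero]
    change ((a : A) • b : ↥𝔟).1 ∈ In
    exact In.mul_mem_right _ a.2
  have t2 : Module.IsTorsionBySet A (A ⧸ In) ((In : Ideal A) : Set A) := by
    intro y a
    obtain ⟨r, rfl⟩ := In.mkQ_surjective y
    rw [Submodule.mkQ_apply, ← Submodule.Quotient.mk_smul, Submodule.Quotient.mk_eq_zero]
    exact In.mul_mem_right _ a.2
  have hj := H n _ _ t1 t2 j hjinj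
  have hcomp : j.comp K.mkQ = In.mkQ.comp 𝔟.subtype := by
    ext b; rfl
  have hqx : K.mkQ.rTensor M x = 0 := by
    apply hj
    rw [map_zero, ← LinearMap.rTensor_comp_apply, hcomp, LinearMap.rTensor_comp_apply, hx,
      map_zero]
  have hex : Function.Exact (K.subtype.rTensor M) (K.mkQ.rTensor M) :=
    rTensor_exact M (LinearMap.exact_subtype_mkQ K) (Submodule.mkQ_surjective K)
  obtain ⟨y, rfl⟩ := (hex x).mp hqx
  have claim2 : ∀ (b : A) (hb : b ∈ 𝔞 ^ k • (𝔟 : Submodule A A)) (m : M),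
      (⟨b, Submodule.smul_le_right hb⟩ : 𝔟) ⊗ₜ[A] m ∈
        𝔞 ^ k • (⊤ : Submodule A (𝔟 ⊗[A] M)) := by
    intro b hb
    refine Submodule.smul_induction_on' (p := fun b hb => ∀ m : M,
      (⟨b, Submodule.smul_le_right hb⟩ : 𝔟) ⊗ₜ[A] m ∈
        𝔞 ^ k • (⊤ : Submodule A (𝔟 ⊗[A] M))) hb ?_ ?_
    · intro a ha b' hb' m
      have : (⟨a • b', Submodule.smul_le_right (Submodule.smul_mem_smul ha hb')⟩ : 𝔟) ⊗ₜ[A] m =
          a • ((⟨b', hb'⟩ : 𝔟) ⊗ₜ[A] m) := by
        rw [TensorProduct.smul_tmul']; rfl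
      rw [this]
      exact Submodule.smul_mem_smul ha Submodule.mem_top
    · intro b₁ hb₁ b₂ hb₂ h₁ h₂ m
      have : (⟨b₁ + b₂, Submodule.smul_le_right (add_mem hb₁ hb₂)⟩ : 𝔟) ⊗ₜ[A] m =
          (⟨b₁, Submodule.smul_le_right hb₁⟩ : 𝔟) ⊗ₜ[A] m +
            (⟨b₂, Submodule.smul_le_right hb₂⟩ : 𝔟) ⊗ₜ[A] m := by
        rw [← TensorProduct.add_tmul]; rfl
      rw [this]
      exact add_mem (h₁ m) (h₂ m)
  have claim3 : ∀ y : ↥K ⊗[A] M, K.subtype.rTensor M y ∈
      𝔞 ^ k • (⊤ : Submodule A (𝔟 ⊗[A] M)) := by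
    intro y
    induction y with
    | zero => simp
    | add y₁ y₂ h₁ h₂ => rw [map_add]; exact add_mem h₁ h₂
    | tmul b m =>
      obtain ⟨⟨b, hb⟩, hbK⟩ := b
      have hbI : b ∈ In := hbK
      exact claim2 b (hAR ⟨hbI, hb⟩) m
  exact claim3 y

/-- Bourbaki AC III §5.2 Thm 1 (v) ⟹ (i): an ideally separated module with all `M / 𝔞^n M` flat
over `A / 𝔞^n` is flat. -/
theorem flat_of_ideallySeparated_of_flat_quotient_pow
    (hsep : ∀ 𝔟 : Ideal A, IsHausdorff 𝔞 (↥𝔟 ⊗[A] M))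
    (hfl : ∀ n : ℕ, Module.Flat (A ⧸ 𝔞 ^ (n + 1)) ((A ⧸ 𝔞 ^ (n + 1)) ⊗[A] M)) :
    Module.Flat A M := by
  rw [Module.Flat.iff_rTensor_injective']
  intro 𝔟
  rw [injective_iff_map_eq_zero]
  intro x hx
  have H : ∀ (n : ℕ) (N' N : Type u) [AddCommGroup N'] [AddCommGroup N] [Module A N'] [Module A N]
      (_ : Module.IsTorsionBySet A N' ((𝔞 ^ (n + 1) : Ideal A) : Set A))
      (_ : Module.IsTorsionBySet A N ((𝔞 ^ (n + 1) : Ideal A) : Set A))
      (f : N' →ₗ[A] N), Function.Injective f → Function.Injective (f.rTensor M) := by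
    intro n N' N _ _ _ _ t1 t2 f hf
    have := hfl n
    exact Groth.Agent.Lib.Helper84.rTensor_injective_of_flat_quotient_of_torsion
      (𝔞 ^ (n + 1)) M t1 t2 f hf
  have key := mem_pow_smul_top_of_relative_flat 𝔞 M H 𝔟 x hx
  refine (hsep 𝔟).haus' x (fun k => ?_)
  rw [SModEq.zero]
  exact key k

/-- Bourbaki AC III §5.2 Thm 1 (iii) ⟹ (i). -/
theorem flat_of_ideallySeparated
    (hsep : ∀ 𝔟 : Ideal A, IsHausdorff 𝔞 (↥𝔟 ⊗[A] M))
    (hb : Function.Injective (𝔞.subtype.rTensor M))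
    [Module.Flat (A ⧸ 𝔞) ((A ⧸ 𝔞) ⊗[A] M)] : Module.Flat A M :=
  flat_of_ideallySeparated_of_flat_quotient_pow 𝔞 M hsep
    (fun n => Groth.Agent.Lib.Helper98.flat_quotient_pow 𝔞 M hb (n + 1) (Nat.succ_le_succ (Nat.zero_le n)))

end main


section G
variable {A : Type u} [CommRing A] [IsNoetherianRing A] (J : Ideal A)
  (M : Type u) [AddCommGroup M] [Module A M]

omit [IsNoetherianRing A] in
theorem one_tmul_eq_zero_iff {P : Type u} [AddCommGroup P] [Module A P] (x : P) :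
    (1 : A ⧸ J) ⊗ₜ[A] x = 0 ↔ x ∈ J • (⊤ : Submodule A P) := by
  rw [← (TensorProduct.quotTensorEquivQuotSMul P J).map_eq_zero_iff,
    TensorProduct.quotTensorEquivQuotSMul_mk_one_tmul, Submodule.Quotient.mk_eq_zero]

/-- An element of a flat `A ⧸ J`-module killed, for each associated prime `q` of `A ⧸ J`, by some
element outside `q`, is zero. -/
theorem eq_zero_of_forall_associatedPrimes {F : Type u} [AddCommGroup F] [Module A F]
    [Module (A ⧸ J) F] [IsScalarTower A (A ⧸ J) F] [Module.Flat (A ⧸ J) F] (z : F)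
    (h : ∀ q ∈ associatedPrimes A (A ⧸ J), ∃ s : A, s ∉ q ∧ s • z = 0) : z = 0 := by
  classical
  let I : Ideal A := LinearMap.ker (LinearMap.toSpanSingleton A F z)
  have hI : ∀ a : A, a ∈ I ↔ a • z = 0 := fun a => by
    simp [I, LinearMap.mem_ker, LinearMap.toSpanSingleton_apply]
  have hfin := associatedPrimes.finite A (A ⧸ J)
  have hnot : ¬ ((I : Set A) ⊆ ⋃ q ∈ (↑hfin.toFinset : Set (Ideal A)), ((fun p : Ideal A => p) q : Set A)) := by
    intro hsub
    have hp : ∀ q ∈ hfin.toFinset, q ≠ (⊥ : Ideal A) → q ≠ (⊥ : Ideal A) →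
        ((fun p : Ideal A => p) q).IsPrime :=
      fun q hq _ _ => IsAssociatedPrime.isPrime (hfin.mem_toFinset.mp hq)
    obtain ⟨q, hq, hle⟩ := (Ideal.subset_union_prime (s := hfin.toFinset)
      (f := fun p : Ideal A => p) ⊥ ⊥ hp (I := I)).mp hsub
    obtain ⟨s, hsq, hsz⟩ := h q (hfin.mem_toFinset.mp hq)
    exact hsq (hle ((hI s).mpr hsz))
  obtain ⟨s, hsI, hsU⟩ := Set.not_subset.mp hnot
  have hreg : IsSMulRegular (A ⧸ J) s := by
    have := biUnion_associatedPrimes_eq_compl_regular A (A ⧸ J)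
    by_contra hcon
    have hmem : s ∈ ({r : A | IsSMulRegular (A ⧸ J) r}ᶜ : Set A) := hcon
    rw [← this] at hmem
    apply hsU
    simp only [Set.mem_iUnion, exists_prop] at hmem ⊢
    obtain ⟨q, hq, hsq⟩ := hmem
    exact ⟨q, by simpa using hq, hsq⟩
  have hreg' : IsRegular (Ideal.Quotient.mk J s) := by
    rw [← isLeftRegular_iff_isRegular]
    intro a b hab
    apply hreg
    simpa [Algebra.smul_def] using hab
  have hF : IsSMulRegular F (Ideal.Quotient.mk J s) := Module.Flat.isSMulRegular_of_isRegular hreg'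
  apply hF
  have : (Ideal.Quotient.mk J s) • z = s • z := by
    rw [← Ideal.Quotient.algebraMap_eq, algebraMap_smul]
  simp only [this, smul_zero]
  exact (hI s).mp hsI

/-- **Key lemma.**  Let `N` be an ideal with `N / J N` flat over `A / J`, let `M / J M` be flat
over `A / J`, and assume `M` is `A`-flat after localizing away from each associated prime of
`A / J`.  Then the kernel of `N ⊗ M → M` is contained in `J (N ⊗ M)`. -/
theorem mem_smul_top_of_rTensor_eq_zero (N : Ideal A)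
    [Module.Flat (A ⧸ J) ((A ⧸ J) ⊗[A] N)] [Module.Flat (A ⧸ J) ((A ⧸ J) ⊗[A] M)]
    (hloc : ∀ q ∈ associatedPrimes A (A ⧸ J), ∃ S : Submonoid A, (∀ s ∈ S, s ∉ q) ∧
      Module.Flat A (LocalizedModule S M))
    (y : N ⊗[A] M) (hy : N.subtype.rTensor M y = 0) :
    y ∈ J • (⊤ : Submodule A (N ⊗[A] M)) := by
  rw [← one_tmul_eq_zero_iff]
  have : Module.Flat (A ⧸ J) ((A ⧸ J) ⊗[A] (N ⊗[A] M)) :=
    Module.Flat.of_linearEquiv (AlgebraTensorModule.distribBaseChange A (A ⧸ J) N M)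
  apply eq_zero_of_forall_associatedPrimes J
  intro q hq
  obtain ⟨S, hS, hflat⟩ := hloc q hq
  let ℓ := LocalizedModule.mkLinearMap S M
  have h1 : (N.subtype.rTensor (LocalizedModule S M)) (ℓ.lTensor N y) = 0 := by
    rw [← LinearMap.comp_apply, LinearMap.rTensor_comp_lTensor, ← LinearMap.lTensor_comp_rTensor,
      LinearMap.comp_apply, hy, map_zero]
  have h2 : ℓ.lTensor N y = 0 := by
    apply Module.Flat.rTensor_preserves_injective_linearMap N.subtype Subtype.val_injective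
    rw [h1, map_zero]
  have h3 : (AlgebraTensorModule.rTensor A N ℓ) (TensorProduct.comm A N M y) = 0 := by
    have hcomm : ∀ w : N ⊗[A] M,
        (AlgebraTensorModule.rTensor A N ℓ) (TensorProduct.comm A N M w) =
        TensorProduct.comm A N _ (ℓ.lTensor N w) := by
      intro w
      induction w with
      | zero => simp
      | add a b ha hb => simp only [map_add, ha, hb]
      | tmul n m => simp
    have := hcomm y
    rw [this, h2, map_zero]
  obtain ⟨c, hc⟩ := (IsLocalizedModule.eq_zero_iff S (AlgebraTensorModule.rTensor A N ℓ)).mp h3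
  refine ⟨c, hS c c.2, ?_⟩
  have : (c : A) • y = 0 := (TensorProduct.comm A N M).injective (by
    rw [map_smul, map_zero]; exact hc)
  rw [← TensorProduct.tmul_smul, this, tmul_zero]

end G

section R
variable {A : Type u} [CommRing A] (M : Type u) [AddCommGroup M] [Module A M]

theorem smul_top_le_range_rTensor_inclusion (I N L : Ideal A) (hLN : L ≤ N) (hIN : I * N ≤ L) :
    I • (⊤ : Submodule A (N ⊗[A] M)) ≤
      LinearMap.range ((Submodule.inclusion hLN).rTensor M) := by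
  rw [Submodule.smul_le]
  intro a ha w hw
  clear hw
  induction w with
  | zero => simp
  | add w₁ w₂ h₁ h₂ => rw [smul_add]; exact add_mem h₁ h₂
  | tmul n m =>
    refine ⟨(⟨a * n.1, hIN (Ideal.mul_mem_mul ha n.2)⟩ : L) ⊗ₜ[A] m, ?_⟩
    rw [LinearMap.rTensor_tmul, TensorProduct.smul_tmul']
    rfl

theorem range_rTensor_inclusion_le_smul_top (I N L : Ideal A) (hLN : L ≤ N) (hL : L ≤ I * N) :
    LinearMap.range ((Submodule.inclusion hLN).rTensor M) ≤
      I • (⊤ : Submodule A (N ⊗[A] M)) := by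
  have claim2 : ∀ (b : A) (hb : b ∈ I • (N : Submodule A A)) (m : M),
      (⟨b, Submodule.smul_le_right hb⟩ : N) ⊗ₜ[A] m ∈ I • (⊤ : Submodule A (N ⊗[A] M)) := by
    intro b hb
    refine Submodule.smul_induction_on' (p := fun b hb => ∀ m : M,
      (⟨b, Submodule.smul_le_right hb⟩ : N) ⊗ₜ[A] m ∈
        I • (⊤ : Submodule A (N ⊗[A] M))) hb ?_ ?_
    · intro a ha b' hb' m
      have : (⟨a • b', Submodule.smul_le_right (Submodule.smul_mem_smul ha hb')⟩ : N) ⊗ₜ[A] m =
          a • ((⟨b', hb'⟩ : N) ⊗ₜ[A] m) := by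
        rw [TensorProduct.smul_tmul']; rfl
      rw [this]
      exact Submodule.smul_mem_smul ha Submodule.mem_top
    · intro b₁ hb₁ b₂ hb₂ h₁ h₂ m
      have : (⟨b₁ + b₂, Submodule.smul_le_right (add_mem hb₁ hb₂)⟩ : N) ⊗ₜ[A] m =
          (⟨b₁, Submodule.smul_le_right hb₁⟩ : N) ⊗ₜ[A] m +
            (⟨b₂, Submodule.smul_le_right hb₂⟩ : N) ⊗ₜ[A] m := by
        rw [← TensorProduct.add_tmul]; rfl
      rw [this]
      exact add_mem (h₁ m) (h₂ m)
  rintro _ ⟨y, rfl⟩
  induction y with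
  | zero => simp
  | add y₁ y₂ h₁ h₂ => rw [map_add]; exact add_mem h₁ h₂
  | tmul l m =>
    rw [LinearMap.rTensor_tmul]
    exact claim2 l.1 (hL l.2) m

end R

section main2
variable {A : Type u} [CommRing A] [IsNoetherianRing A] (J : Ideal A)
  (M : Type u) [AddCommGroup M] [Module A M]

/-- `Tor₁(A/J, M) = 0` from flatness of the graded pieces of `A` along `J`, flatness of `M/JM`
and flatness of `M` near the associated primes of `A/J`, for `J ⊗ M` separated. -/
theorem rTensor_injective_of_gr_flat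
    (hsepJ : IsHausdorff J (↥J ⊗[A] M))
    (hgr : ∀ k : ℕ, Module.Flat (A ⧸ J) ((A ⧸ J) ⊗[A] ↥(J ^ k)))
    [Module.Flat (A ⧸ J) ((A ⧸ J) ⊗[A] M)]
    (hloc : ∀ q ∈ associatedPrimes A (A ⧸ J), ∃ S : Submonoid A, (∀ s ∈ S, s ∉ q) ∧
      Module.Flat A (LocalizedModule S M)) :
    Function.Injective (J.subtype.rTensor M) := by
  rw [injective_iff_map_eq_zero]
  intro x hx
  have hP : ∀ n : ℕ, ∃ y : ↥(J ^ (n + 1)) ⊗[A] M,
      (Submodule.inclusion (Ideal.pow_le_self (Nat.succ_ne_zero n))).rTensor M y = x := by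
    intro n
    induction n with
    | zero =>
      have hle : J ≤ J ^ (0 + 1) := le_of_eq (by simp)
      refine ⟨(Submodule.inclusion hle).rTensor M x, ?_⟩
      rw [← LinearMap.comp_apply, ← LinearMap.rTensor_comp]
      have : (Submodule.inclusion (Ideal.pow_le_self (Nat.succ_ne_zero 0))) ∘ₗ
          (Submodule.inclusion hle) = LinearMap.id := by
        ext a; rfl
      rw [this, LinearMap.rTensor_id, LinearMap.id_apply]
    | succ n ih =>
      obtain ⟨y, rfl⟩ := ih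
      have hy : (J ^ (n + 1)).subtype.rTensor M y = 0 := by
        rw [← hx, ← LinearMap.comp_apply, ← LinearMap.rTensor_comp]
        rfl
      have := hgr (n + 1)
      have hyJ := mem_smul_top_of_rTensor_eq_zero J M (J ^ (n + 1)) hloc y hy
      have hLN : J ^ (n + 1 + 1) ≤ J ^ (n + 1) := Ideal.pow_le_pow_right (Nat.le_succ _)
      have hIN : J * J ^ (n + 1) ≤ J ^ (n + 1 + 1) := le_of_eq (pow_succ' J (n + 1)).symm
      obtain ⟨y', hy'⟩ := smul_top_le_range_rTensor_inclusion M J (J ^ (n + 1)) (J ^ (n + 1 + 1))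
        hLN hIN hyJ
      refine ⟨y', ?_⟩
      rw [← hy', ← LinearMap.comp_apply, ← LinearMap.rTensor_comp]
      rfl
  refine hsepJ.haus' x (fun k => ?_)
  rw [SModEq.zero]
  obtain ⟨y, rfl⟩ := hP k
  exact range_rTensor_inclusion_le_smul_top M (J ^ k) J (J ^ (k + 1)) _
    (le_of_eq (pow_succ J k)) ⟨y, rfl⟩

end main2


end Groth.Agent.Lib.Helper12.IdeallySep
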