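import Mathlib
import Groth.Agent.Lib.Helper12.IdeallySep
import Groth.Agent.Lib.Helper12.DirLimNoeth
import Groth.Agent.Lib.Helper71.FlatCompletion

/-!
# Flatness of adically complete modules over Noetherian rings (helper12)

* `isHausdorff_tensor_of_isAdicComplete`: for a Noetherian ring `A`, an ideal `𝔞` and an
  `𝔞`-adically complete `A`-module `M` such that `- ⊗ M` preserves injections of `𝔞^n`-torsion
  modules, `N ⊗ M` is `𝔞`-adically separated for every finite `A`-module `N`.
* `flat_of_isAdicComplete`: such an `M` is flat (Stacks 0911).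
* `flat_adicCompletion_of_quotient_flat`: Stacks 0912.
-/

set_option autoImplicit false
universe u

open TensorProduct

namespace Groth.Agent.Lib.Helper12.ComplFlat

section adic
variable {A : Type u} [CommRing A] (J : Ideal A)
  {P Q : Type*} [AddCommGroup P] [Module A P] [AddCommGroup Q] [Module A Q]

theorem map_mem_smul_top (f : P →ₗ[A] Q) {x : P} (hx : x ∈ J • (⊤ : Submodule A P)) :
    f x ∈ J • (⊤ : Submodule A Q) := by
  have : (J • (⊤ : Submodule A P)).map f ≤ J • ⊤ := by
    rw [Submodule.map_smul'']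
    exact Submodule.smul_mono le_rfl le_top
  exact this ⟨x, hx, rfl⟩

theorem isHausdorff_of_injective (f : P →ₗ[A] Q) (hf : Function.Injective f) [IsHausdorff J Q] :
    IsHausdorff J P := by
  refine ⟨fun x hx => hf ?_⟩
  rw [map_zero]
  refine IsHausdorff.haus' (I := J) (f x) (fun n => ?_)
  rw [SModEq.zero]
  have := hx n
  rw [SModEq.zero] at this
  exact map_mem_smul_top (J ^ n) f this

theorem isPrecomplete_of_surjective (f : P →ₗ[A] Q) (hf : Function.Surjective f)
    [IsPrecomplete J P] : IsPrecomplete J Q := by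
  rw [← AdicCompletion.of_surjective_iff]
  have h1 : Function.Surjective (AdicCompletion.map J f) := AdicCompletion.map_surjective J hf
  have h2 : Function.Surjective (AdicCompletion.of J P) := AdicCompletion.of_surjective J P
  intro y
  obtain ⟨x, rfl⟩ := h1 y
  obtain ⟨p, rfl⟩ := h2 x
  exact ⟨f p, (AdicCompletion.map_of J f p).symm⟩

theorem isHausdorff_pi (ι : Type*) (M : Type*) [AddCommGroup M] [Module A M] [IsHausdorff J M] :
    IsHausdorff J (ι → M) := by
  refine ⟨fun x hx => ?_⟩
  funext i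
  refine IsHausdorff.haus' (I := J) (x i) (fun n => ?_)
  rw [SModEq.zero]
  have := hx n
  rw [SModEq.zero] at this
  exact map_mem_smul_top (J ^ n) (LinearMap.proj (R := A) (φ := fun _ : ι => M) i) this

theorem mem_smul_top_pi {ι : Type*} [Finite ι] {M : Type*} [AddCommGroup M] [Module A M]
    (x : ι → M) (hx : ∀ i, x i ∈ J • (⊤ : Submodule A M)) :
    x ∈ J • (⊤ : Submodule A (ι → M)) := by
  classical
  cases nonempty_fintype ι
  rw [← Finset.univ_sum_single x]
  refine Submodule.sum_mem _ (fun i _ => ?_)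
  exact map_mem_smul_top J (LinearMap.single A (fun _ : ι => M) i) (hx i)

theorem isPrecomplete_pi (ι : Type*) [Finite ι] (M : Type*) [AddCommGroup M] [Module A M]
    [IsPrecomplete J M] : IsPrecomplete J (ι → M) := by
  refine ⟨fun f hf => ?_⟩
  have h1 : ∀ i : ι, ∃ L : M, ∀ n, f n i ≡ L [SMOD (J ^ n • ⊤ : Submodule A M)] := by
    intro i
    refine IsPrecomplete.prec' (I := J) (fun n => f n i) ?_
    intro m n hmn
    have := hf hmn
    rw [SModEq.sub_mem] at this ⊢
    exact map_mem_smul_top (J ^ m) (LinearMap.proj (R := A) (φ := fun _ : ι => M) i) this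
  choose L hL using h1
  refine ⟨L, fun n => ?_⟩
  rw [SModEq.sub_mem]
  refine mem_smul_top_pi (J ^ n) _ (fun i => ?_)
  have := hL i n
  rw [SModEq.sub_mem] at this
  exact this

end adic

section KC
variable {A : Type u} [CommRing A] [IsNoetherianRing A] (𝔞 : Ideal A)
  (M : Type u) [AddCommGroup M] [Module A M]

/-- `- ⊗ M` preserves injections between `𝔞^n`-torsion modules. -/
def HProp : Prop :=
  ∀ (n : ℕ) (N' N : Type u) [AddCommGroup N'] [AddCommGroup N] [Module A N'] [Module A N]
    (_ : Module.IsTorsionBySet A N' ((𝔞 ^ (n + 1) : Ideal A) : Set A))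
    (_ : Module.IsTorsionBySet A N ((𝔞 ^ (n + 1) : Ideal A) : Set A))
    (f : N' →ₗ[A] N), Function.Injective f → Function.Injective (f.rTensor M)

variable {𝔞 M}

/-- Artin–Rees step for a submodule `K` of a finite module `F`. -/
theorem mem_pow_smul_top_of_rTensor_mem (H : HProp 𝔞 M)
    {F : Type u} [AddCommGroup F] [Module A F] [Module.Finite A F] (K : Submodule A F) :
    ∃ c : ℕ, ∀ (k : ℕ) (x : ↥K ⊗[A] M),
      K.subtype.rTensor M x ∈ 𝔞 ^ (k + c + 1) • (⊤ : Submodule A (F ⊗[A] M)) →
      x ∈ 𝔞 ^ k • (⊤ : Submodule A (↥K ⊗[A] M)) := by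
  obtain ⟨c, hc⟩ := Ideal.exists_pow_inf_eq_pow_smul 𝔞 (M := F) K
  refine ⟨c, fun k x hx => ?_⟩
  set n := k + c with hn
  have hAR : (𝔞 ^ (n + 1) • (⊤ : Submodule A F)) ⊓ K ≤ 𝔞 ^ k • K := by
    have h1 := hc (n + 1) (by omega)
    rw [h1]
    have h3 : n + 1 - c = k + 1 := by omega
    rw [h3]
    calc 𝔞 ^ (k + 1) • (𝔞 ^ c • (⊤ : Submodule A F) ⊓ K)
        ≤ 𝔞 ^ (k + 1) • K := Submodule.smul_mono le_rfl inf_le_right
      _ ≤ 𝔞 ^ k • K :=
        Submodule.smul_mono_left (Ideal.pow_le_pow_right (Nat.le_succ k))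
  set In : Submodule A F := 𝔞 ^ (n + 1) • (⊤ : Submodule A F) with hIn
  let K' : Submodule A ↥K := Submodule.comap K.subtype In
  let j : (↥K ⧸ K') →ₗ[A] (F ⧸ In) := K'.mapQ In K.subtype le_rfl
  have hjinj : Function.Injective j := by
    rw [injective_iff_map_eq_zero]
    intro y hy
    obtain ⟨b, rfl⟩ := K'.mkQ_surjective y
    have : In.mkQ (K.subtype b) = 0 := hy
    rw [Submodule.mkQ_apply, Submodule.Quotient.mk_eq_zero] at this
    rw [Submodule.mkQ_apply, Submodule.Quotient.mk_eq_zero]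
    exact this
  have t1 : Module.IsTorsionBySet A (↥K ⧸ K') ((𝔞 ^ (n + 1) : Ideal A) : Set A) := by
    intro y a
    obtain ⟨b, rfl⟩ := K'.mkQ_surjective y
    rw [Submodule.mkQ_apply, ← Submodule.Quotient.mk_smul, Submodule.Quotient.mk_eq_zero]
    change ((a : A) • b : ↥K).1 ∈ In
    exact Submodule.smul_mem_smul a.2 Submodule.mem_top
  have t2 : Module.IsTorsionBySet A (F ⧸ In) ((𝔞 ^ (n + 1) : Ideal A) : Set A) := by
    intro y a
    obtain ⟨r, rfl⟩ := In.mkQ_surjective y
    rw [Submodule.mkQ_apply, ← Submodule.Quotient.mk_smul, Submodule.Quotient.mk_eq_zero]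
    exact Submodule.smul_mem_smul a.2 Submodule.mem_top
  have hj := H n _ _ t1 t2 j hjinj
  have hcomp : j.comp K'.mkQ = In.mkQ.comp K.subtype := by
    ext b; rfl
  -- elements of `𝔞^(n+1) (F ⊗ M)` die in `(F / In) ⊗ M`
  have hkill : ∀ w ∈ 𝔞 ^ (n + 1) • (⊤ : Submodule A (F ⊗[A] M)), In.mkQ.rTensor M w = 0 := by
    intro w hw
    refine Submodule.smul_induction_on hw ?_ ?_
    · intro a ha v _
      rw [map_smul]
      generalize In.mkQ.rTensor M v = u
      induction u with
      | zero => simp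
      | add u₁ u₂ h₁ h₂ => rw [smul_add, h₁, h₂, add_zero]
      | tmul q m =>
        rw [TensorProduct.smul_tmul']
        have : a • q = 0 := t2 (x := q) (a := ⟨a, ha⟩)
        rw [this, TensorProduct.zero_tmul]
    · intro u v hu hv
      rw [map_add, hu, hv, add_zero]
  have hqx : K'.mkQ.rTensor M x = 0 := by
    apply hj
    rw [map_zero, ← LinearMap.rTensor_comp_apply, hcomp, LinearMap.rTensor_comp_apply]
    exact hkill _ hx
  have hex : Function.Exact (K'.subtype.rTensor M) (K'.mkQ.rTensor M) :=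
    rTensor_exact M (LinearMap.exact_subtype_mkQ K') (Submodule.mkQ_surjective K')
  obtain ⟨y, rfl⟩ := (hex x).mp hqx
  have claim2 : ∀ (b : F) (hb : b ∈ 𝔞 ^ k • K) (m : M),
      (⟨b, Submodule.smul_le_right hb⟩ : K) ⊗ₜ[A] m ∈
        𝔞 ^ k • (⊤ : Submodule A (↥K ⊗[A] M)) := by
    intro b hb
    refine Submodule.smul_induction_on' (p := fun b hb => ∀ m : M,
      (⟨b, Submodule.smul_le_right hb⟩ : K) ⊗ₜ[A] m ∈
        𝔞 ^ k • (⊤ : Submodule A (↥K ⊗[A] M))) hb ?_ ?_
    · intro a ha b' hb' m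
      have : (⟨a • b', Submodule.smul_le_right (Submodule.smul_mem_smul ha hb')⟩ : K) ⊗ₜ[A] m =
          a • ((⟨b', hb'⟩ : K) ⊗ₜ[A] m) := by
        rw [TensorProduct.smul_tmul']; rfl
      rw [this]
      exact Submodule.smul_mem_smul ha Submodule.mem_top
    · intro b₁ hb₁ b₂ hb₂ h₁ h₂ m
      have : (⟨b₁ + b₂, Submodule.smul_le_right (add_mem hb₁ hb₂)⟩ : K) ⊗ₜ[A] m =
          (⟨b₁, Submodule.smul_le_right hb₁⟩ : K) ⊗ₜ[A] m +
            (⟨b₂, Submodule.smul_le_right hb₂⟩ : K) ⊗ₜ[A] m := by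
        rw [← TensorProduct.add_tmul]; rfl
      rw [this]
      exact add_mem (h₁ m) (h₂ m)
  have claim3 : ∀ y : ↥K' ⊗[A] M, K'.subtype.rTensor M y ∈
      𝔞 ^ k • (⊤ : Submodule A (↥K ⊗[A] M)) := by
    intro y
    induction y with
    | zero => simp
    | add y₁ y₂ h₁ h₂ => rw [map_add]; exact add_mem h₁ h₂
    | tmul b m =>
      obtain ⟨⟨b, hb⟩, hbK⟩ := b
      have hbI : b ∈ In := hbK
      exact claim2 b (hAR ⟨hbI, hb⟩) m
  exact claim3 y

/-- For `M` adically complete with the relative flatness property `HProp`, `N ⊗ M` is adically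
separated for every finite module `N`. -/
theorem isHausdorff_tensor_of_isAdicComplete (H : HProp 𝔞 M) [IsAdicComplete 𝔞 M]
    (N : Type u) [AddCommGroup N] [Module A N] [Module.Finite A N] :
    IsHausdorff 𝔞 (N ⊗[A] M) := by
  classical
  obtain ⟨r, π, hπ⟩ := Module.Finite.exists_fin' A N
  let K : Submodule A (Fin r → A) := LinearMap.ker π
  have hex : Function.Exact (K.subtype.rTensor M) (π.rTensor M) :=
    rTensor_exact M (LinearMap.exact_subtype_ker_map π) hπ
  have hsurj : Function.Surjective (π.rTensor M) := LinearMap.rTensor_surjective M hπ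
  have hF : IsHausdorff 𝔞 ((Fin r → A) ⊗[A] M) := by
    let e : (Fin r → A) ⊗[A] M ≃ₗ[A] (Fin r → M) :=
      (TensorProduct.comm A (Fin r → A) M).trans (TensorProduct.piScalarRight A A M (Fin r))
    haveI := isHausdorff_pi 𝔞 (Fin r) M
    exact isHausdorff_of_injective 𝔞 e.toLinearMap e.injective
  have hK : IsPrecomplete 𝔞 (↥K ⊗[A] M) := by
    obtain ⟨s, ρ, hρ⟩ := Module.Finite.exists_fin' A ↥K
    let e : (Fin s → A) ⊗[A] M ≃ₗ[A] (Fin s → M) :=
      (TensorProduct.comm A (Fin s → A) M).trans (TensorProduct.piScalarRight A A M (Fin s))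
    haveI := isPrecomplete_pi 𝔞 (Fin s) M
    refine isPrecomplete_of_surjective 𝔞 ((ρ.rTensor M).comp e.symm.toLinearMap) ?_
    exact (LinearMap.rTensor_surjective M hρ).comp e.symm.surjective
  obtain ⟨c, hc⟩ := mem_pow_smul_top_of_rTensor_mem H K
  refine ⟨fun w hw => ?_⟩
  obtain ⟨y, rfl⟩ := hsurj w
  have hz : ∀ n : ℕ, ∃ k : ↥K ⊗[A] M, y - K.subtype.rTensor M k ∈
      𝔞 ^ n • (⊤ : Submodule A ((Fin r → A) ⊗[A] M)) := by
    intro n
    have h1 := hw n
    rw [SModEq.zero] at h1
    have h2 : (𝔞 ^ n • ⊤ : Submodule A (N ⊗[A] M)) =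
        (𝔞 ^ n • ⊤ : Submodule A ((Fin r → A) ⊗[A] M)).map (π.rTensor M) := by
      rw [Submodule.map_smul'', Submodule.map_top, LinearMap.range_eq_top.mpr hsurj]
    rw [h2] at h1
    obtain ⟨z, hz, hzy⟩ := h1
    have h3 : π.rTensor M (y - z) = 0 := by rw [map_sub, hzy, sub_self]
    obtain ⟨k, hk⟩ := (hex _).mp h3
    refine ⟨k, ?_⟩
    rw [hk, sub_sub_cancel]
    exact hz
  choose k hk using hz
  have hmono : ∀ {m n : ℕ}, m ≤ n → (𝔞 ^ n • ⊤ : Submodule A ((Fin r → A) ⊗[A] M)) ≤ 𝔞 ^ m • ⊤ :=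
    fun h => Submodule.smul_mono_left (Ideal.pow_le_pow_right h)
  have hcauchy : ∀ {m n : ℕ}, m ≤ n → k (m + c + 1) ≡ k (n + c + 1)
      [SMOD (𝔞 ^ m • ⊤ : Submodule A (↥K ⊗[A] M))] := by
    intro m n hmn
    rw [SModEq.sub_mem]
    apply hc m
    rw [map_sub]
    have e1 := hk (m + c + 1)
    have e2 : y - K.subtype.rTensor M (k (n + c + 1)) ∈
        𝔞 ^ (m + c + 1) • (⊤ : Submodule A ((Fin r → A) ⊗[A] M)) :=
      hmono (by omega) (hk (n + c + 1))
    have e3 : K.subtype.rTensor M (k (m + c + 1)) - K.subtype.rTensor M (k (n + c + 1)) =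
        (y - K.subtype.rTensor M (k (n + c + 1))) - (y - K.subtype.rTensor M (k (m + c + 1))) := by
      abel
    rw [e3]
    exact sub_mem e2 e1
  obtain ⟨L, hL⟩ := IsPrecomplete.prec' (I := 𝔞) (fun n => k (n + c + 1)) hcauchy
  have hy : y = K.subtype.rTensor M L := by
    rw [← sub_eq_zero]
    refine hF.haus' _ (fun n => ?_)
    rw [SModEq.zero]
    have e1 : y - K.subtype.rTensor M (k (n + c + 1)) ∈
        𝔞 ^ n • (⊤ : Submodule A ((Fin r → A) ⊗[A] M)) :=
      hmono (by omega) (hk (n + c + 1))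
    have e2 : K.subtype.rTensor M (k (n + c + 1) - L) ∈
        𝔞 ^ n • (⊤ : Submodule A ((Fin r → A) ⊗[A] M)) :=
      map_mem_smul_top _ _ (SModEq.sub_mem.mp (hL n))
    have e3 : y - K.subtype.rTensor M L =
        (y - K.subtype.rTensor M (k (n + c + 1))) + K.subtype.rTensor M (k (n + c + 1) - L) := by
      rw [map_sub]; abel
    rw [e3]
    exact add_mem e1 e2
  rw [hy]
  exact hex.apply_apply_eq_zero L

/-- Stacks 0911: over a Noetherian ring, an `𝔞`-adically complete module all of whose reductions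
modulo powers of `𝔞` are flat (in the form `HProp`) is flat. -/
theorem flat_of_isAdicComplete (H : HProp 𝔞 M) [IsAdicComplete 𝔞 M] : Module.Flat A M := by
  rw [Module.Flat.iff_rTensor_injective']
  intro 𝔟
  rw [injective_iff_map_eq_zero]
  intro x hx
  have key := Groth.Agent.Lib.Helper12.IdeallySep.mem_pow_smul_top_of_relative_flat 𝔞 M H 𝔟 x hx
  have hsep := isHausdorff_tensor_of_isAdicComplete H (↥𝔟)
  refine hsep.haus' x (fun k => ?_)
  rw [SModEq.zero]
  exact key k

end KC

section approx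
variable {R R' : Type u} [CommRing R] [CommRing R'] [Algebra R R'] (J : Ideal R)

/-- Variant of helper71's `rTensor_injective_of_approx` with `M` only relatively flat. -/
theorem rTensor_injective_of_approx'
    (happrox : ∀ r' : R', ∃ r : R, r' - algebraMap R R' r ∈ J.map (algebraMap R R'))
    (M : Type u) [AddCommGroup M] [Module R M] [Module R' M] [IsScalarTower R R' M]
    (HR : ∀ (P' P : Type u) [AddCommGroup P'] [AddCommGroup P] [Module R P'] [Module R P]
      (_ : Module.IsTorsionBySet R P' (J : Set R)) (_ : Module.IsTorsionBySet R P (J : Set R))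
      (g : P' →ₗ[R] P), Function.Injective g → Function.Injective (g.rTensor M))
    {N' N : Type u} [AddCommGroup N'] [AddCommGroup N] [Module R' N'] [Module R' N]
    (t1 : Module.IsTorsionBySet R' N' (J.map (algebraMap R R') : Set R'))
    (t2 : Module.IsTorsionBySet R' N (J.map (algebraMap R R') : Set R'))
    (f : N' →ₗ[R'] N) (hf : Function.Injective f) : Function.Injective (f.rTensor M) := by
  let _ : Module R N' := Module.compHom N' (algebraMap R R')
  let _ : Module R N := Module.compHom N (algebraMap R R')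
  have : IsScalarTower R R' N' := IsScalarTower.of_algebraMap_smul fun _ _ => rfl
  have : IsScalarTower R R' N := IsScalarTower.of_algebraMap_smul fun _ _ => rfl
  have c1 := Groth.Agent.Lib.Helper71.FlatApprox.compatibleSMul_of_approx J happrox N' M t1
  have c2 := Groth.Agent.Lib.Helper71.FlatApprox.compatibleSMul_of_approx J happrox N M t2
  let e1 : N' ⊗[R'] M ≃ₗ[R'] N' ⊗[R] M := TensorProduct.equivOfCompatibleSMul R R' R' N' M
  let e2 : N ⊗[R'] M ≃ₗ[R'] N ⊗[R] M := TensorProduct.equivOfCompatibleSMul R R' R' N M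
  have s1 : Module.IsTorsionBySet R N' (J : Set R) := by
    intro n a
    have := t1 (x := n) (a := ⟨algebraMap R R' a, Ideal.mem_map_of_mem _ a.2⟩)
    rw [← this]
    exact (algebraMap_smul R' (a : R) n).symm
  have s2 : Module.IsTorsionBySet R N (J : Set R) := by
    intro n a
    have := t2 (x := n) (a := ⟨algebraMap R R' a, Ideal.mem_map_of_mem _ a.2⟩)
    rw [← this]
    exact (algebraMap_smul R' (a : R) n).symm
  have hfR : Function.Injective ((f.restrictScalars R).rTensor M) :=
    HR N' N s1 s2 (f.restrictScalars R) hf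
  have comm : ∀ x, e2 (f.rTensor M x) = (f.restrictScalars R).rTensor M (e1 x) := by
    intro x
    induction x with
    | zero => simp
    | add x y hx hy => simp only [map_add, hx, hy]
    | tmul n m => rfl
  intro x y hxy
  apply e1.injective
  apply hfR
  rw [← comm, ← comm, hxy]

end approx

section completion
variable (R : Type u) [CommRing R] (I : Ideal R) (M : Type u) [AddCommGroup M] [Module R M]

/-- Stacks 0912 (2): if `I` is finitely generated, `R/I` is Noetherian, `M/IM` is flat over `R/I`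
and `Tor₁(R/I, M) = 0`, then `M^` is flat over `R^`. -/
theorem flat_adicCompletion_of_quotient_flat (hI : I.FG) [IsNoetherianRing (R ⧸ I)]
    [Module.Flat (R ⧸ I) ((R ⧸ I) ⊗[R] M)] (hb : Function.Injective (I.subtype.rTensor M)) :
    Module.Flat (AdicCompletion I R) (AdicCompletion I M) := by
  haveI : IsNoetherianRing (AdicCompletion I R) := Groth.Agent.S0542.result R I hI
  haveI : IsAdicComplete (I.map (algebraMap R (AdicCompletion I R))) (AdicCompletion I M) :=
    (IsAdicComplete.map_algebraMap_iff (I := I) (S := AdicCompletion I R)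
      (M := AdicCompletion I M)).mpr (AdicCompletion.isAdicComplete (M := M) hI)
  have H : HProp (I.map (algebraMap R (AdicCompletion I R))) (AdicCompletion I M) := by
    intro n N' N _ _ _ _ t1 t2 f hf
    rw [← Ideal.map_pow] at t1 t2
    refine rTensor_injective_of_approx' (I ^ (n + 1))
      (Groth.Agent.Lib.Helper71.FlatCompletion.exists_sub_mem_map_pow I hI (n + 1))
      (AdicCompletion I M) ?_ t1 t2 f hf
    intro P' P _ _ _ _ s1 s2 g hg
    haveI := Groth.Agent.Lib.Helper98.flat_quotient_pow I M hb (n + 1) (by omega)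
    have hg1 : Function.Injective (g.rTensor M) :=
      Groth.Agent.Lib.Helper84.rTensor_injective_of_flat_quotient_of_torsion
        (I ^ (n + 1)) M s1 s2 g hg
    let π₁ : M →ₗ[R] M ⧸ (I ^ (n + 1) • ⊤ : Submodule R M) := Submodule.mkQ _
    let π₂ : AdicCompletion I M →ₗ[R] M ⧸ (I ^ (n + 1) • ⊤ : Submodule R M) :=
      AdicCompletion.eval I M (n + 1)
    have hπ₁ : Function.Surjective π₁ := Submodule.mkQ_surjective _
    have hπ₂ : Function.Surjective π₂ := AdicCompletion.eval_surjective I M (n + 1)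
    have hker₁ : LinearMap.ker π₁ ≤ (I ^ (n + 1)) • (⊤ : Submodule R M) := by
      rw [Submodule.ker_mkQ]
    have hker₂ : LinearMap.ker π₂ ≤ (I ^ (n + 1)) • (⊤ : Submodule R (AdicCompletion I M)) := by
      rw [AdicCompletion.pow_smul_top_eq_ker_eval hI]
    exact Groth.Agent.Lib.Helper12.DirLimNoeth.rTensor_injective_transport (I ^ (n + 1)) s1 s2
      π₁ hπ₁ hker₁ π₂ hπ₂ hker₂ g hg1
  exact flat_of_isAdicComplete H

end completion

end Groth.Agent.Lib.Helper12.ComplFlat
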