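import Groth.Agent.Lib.Helper93.Reflexive
import Groth.Agent.Lib.Helper93.Depth

/-!
# Dualizing a map which is an isomorphism off `V(I)` (helper12)

If `depth_I R ≥ 2` and `g : X → Y` has kernel and cokernel killed by a power of `I`, then the dual
map `g^∨ : Y^∨ → X^∨` is bijective.  Also the base-change version.
-/

set_option autoImplicit false
universe u

namespace Groth.Agent.Lib.Helper12.DualBij

open LocCoh CategoryTheory Abelian TensorProduct
open Groth.Agent.Lib.Helper93.Depth

section QI

variable {R : Type*} [CommRing R] {X Y : Type*} [AddCommGroup X] [Module R X]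
  [AddCommGroup Y] [Module R Y]

/-- A map whose cokernel is killed by `a` and whose kernel is killed by `b` has an inverse up to
`a * b`. -/
theorem exists_quasiInverse (g : X →ₗ[R] Y) (a b : R) (ha : ∀ y, a • y ∈ LinearMap.range g)
    (hb : ∀ x ∈ LinearMap.ker g, b • x = 0) :
    ∃ τ : Y →ₗ[R] X, g ∘ₗ τ = (a * b) • LinearMap.id ∧ τ ∘ₗ g = (a * b) • LinearMap.id := by
  let c1 : Y →ₗ[R] LinearMap.range g :=
    (a • (LinearMap.id : Y →ₗ[R] Y)).codRestrict (LinearMap.range g) (fun y => ha y)
  let e : (X ⧸ LinearMap.ker g) ≃ₗ[R] LinearMap.range g := g.quotKerEquivRange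
  let c3 : (X ⧸ LinearMap.ker g) →ₗ[R] X :=
    (LinearMap.ker g).liftQ (b • (LinearMap.id : X →ₗ[R] X))
      (fun x hx => by simpa using hb x hx)
  refine ⟨c3 ∘ₗ e.symm.toLinearMap ∘ₗ c1, ?_, ?_⟩
  · ext y
    obtain ⟨x, hx⟩ := Submodule.mkQ_surjective _ (e.symm (c1 y))
    have h1 : e (Submodule.Quotient.mk x) = c1 y := by
      rw [← Submodule.mkQ_apply, hx, LinearEquiv.apply_symm_apply]
    have h2 : g x = a • y := by
      have := congrArg Subtype.val h1
      simpa [e, c1] using this
    simp only [LinearMap.comp_apply, LinearEquiv.coe_coe, LinearMap.smul_apply, LinearMap.id_apply]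
    rw [← hx]
    simp only [c3, Submodule.mkQ_apply, Submodule.liftQ_apply, LinearMap.smul_apply,
      LinearMap.id_apply, map_smul, h2, smul_smul, mul_comm]
  · ext x
    have h1 : c1 (g x) = e (Submodule.Quotient.mk (a • x)) := by
      apply Subtype.ext
      simp [e, c1]
    simp only [LinearMap.comp_apply, LinearEquiv.coe_coe, LinearMap.smul_apply, LinearMap.id_apply]
    rw [h1, LinearEquiv.symm_apply_apply]
    simp only [c3, Submodule.liftQ_apply, LinearMap.smul_apply, LinearMap.id_apply, smul_smul,
      mul_comm]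

end QI

section Hom

variable {R : Type*} [CommRing R]

/-- A module killed by a power of `I` has no nonzero maps to `R` when `depth_I R ≥ 1`. -/
theorem hom_eq_zero (I : Ideal R) (hR : 1 ≤ idealDepth I R) {C : Type*} [AddCommGroup C]
    [Module R C] (n : ℕ) (hC : ∀ a ∈ I ^ n, ∀ c : C, a • c = 0) (ψ : C →ₗ[R] R) : ψ = 0 := by
  ext c
  rw [one_le_idealDepth_iff] at hR
  rcases hR with h | ⟨r, hr, hreg⟩
  · have hI : I = ⊤ := by rwa [smul_eq_mul, Ideal.mul_top] at h
    have h1 : (1 : R) ∈ I ^ n := by rw [hI, Ideal.top_pow]; trivial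
    have := hC 1 h1 c
    rw [one_smul] at this
    rw [this, map_zero, LinearMap.zero_apply]
  · have h1 : r ^ n • ψ c = r ^ n • (0 : R) := by
      rw [← map_smul, hC _ (Ideal.pow_mem_pow hr n) c, map_zero, smul_zero]
    exact (hreg.pow n) h1

end Hom

section Ext

variable {R : Type u} [CommRing R] [IsNoetherianRing R]

/-- Extension of linear forms across a submodule whose quotient is killed by a power of `I`,
when `depth_I R ≥ 2`. -/
theorem exists_extension (I : Ideal R) (hR : 2 ≤ idealDepth I R) {Y : Type u} [AddCommGroup Y]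
    [Module R Y] [Module.Finite R Y] (N : Submodule R Y) (n : ℕ)
    (hC : ∀ a ∈ I ^ n, ∀ y : Y, a • y ∈ N) (χ : N →ₗ[R] R) :
    ∃ ψ : Y →ₗ[R] R, ∀ x : N, ψ x = χ x := by
  have hsupp : Module.support R (Y ⧸ N) ⊆ PrimeSpectrum.zeroLocus I := by
    intro p hp
    rw [Module.mem_support_iff_exists_annihilator] at hp
    obtain ⟨m, hm⟩ := hp
    obtain ⟨y, rfl⟩ := Submodule.mkQ_surjective N m
    rw [PrimeSpectrum.mem_zeroLocus]
    intro a ha
    have h1 : a ^ n ∈ (R ∙ (N.mkQ y)).annihilator := by
      rw [Submodule.mem_annihilator_span_singleton, ← map_smul, Submodule.mkQ_apply,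
        Submodule.Quotient.mk_eq_zero]
      exact hC _ (Ideal.pow_mem_pow ha n) y
    exact p.isPrime.mem_of_pow_mem n (hm h1)
  have hS := ModuleCat.shortComplex_shortExact
    (ModuleCat.shortComplexOfCompEqZero N.subtype N.mkQ
      (LinearMap.exact_subtype_mkQ N).linearMap_comp_eq_zero)
    (LinearMap.exact_subtype_mkQ N) N.injective_subtype (Submodule.mkQ_surjective N)
  have h1 : Subsingleton (Ext (ModuleCat.of R (Y ⧸ N)) (ModuleCat.of R R) 1) :=
    Groth.Agent.Lib.Helper93.Depth.subsingleton_ext_of_lt_idealDepth I _ _ hsupp 1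
      (lt_of_lt_of_le (by norm_num) hR)
  obtain ⟨x₂, hx₂⟩ := Ext.contravariant_sequence_exact₁ hS (ModuleCat.of R R)
    (Ext.mk₀ (ModuleCat.ofHom χ)) (n₁ := 1) (by norm_num) (Subsingleton.elim _ _)
  refine ⟨(Ext.homEquiv₀ x₂).hom, fun x => ?_⟩
  rw [← Ext.mk₀_homEquiv₀_apply x₂, Ext.mk₀_comp_mk₀] at hx₂
  have h2 := (Ext.mk₀_bijective _ _).1 hx₂
  have h3 := congrArg (fun φ => φ.hom x) h2
  simpa using h3

/-- If `depth_I R ≥ 2` and the kernel and cokernel of `g` are killed by `I ^ n`, then the dual
of `g` is bijective. -/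
theorem dualMap_bijective (I : Ideal R) (hR : 2 ≤ idealDepth I R) {X Y : Type u}
    [AddCommGroup X] [Module R X] [AddCommGroup Y] [Module R Y] [Module.Finite R Y]
    (g : X →ₗ[R] Y) (n : ℕ) (hK : ∀ a ∈ I ^ n, ∀ x ∈ LinearMap.ker g, a • x = 0)
    (hC : ∀ a ∈ I ^ n, ∀ y, a • y ∈ LinearMap.range g) : Function.Bijective g.dualMap := by
  have hR1 : 1 ≤ idealDepth I R := le_trans (by norm_num) hR
  constructor
  · rw [injective_iff_map_eq_zero]
    intro ψ hψ
    have hle : LinearMap.range g ≤ LinearMap.ker ψ := by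
      rintro _ ⟨x, rfl⟩
      have := congrArg (fun φ => φ x) hψ
      simpa [LinearMap.dualMap_apply] using this
    have h0 := hom_eq_zero I hR1 n (C := Y ⧸ LinearMap.range g) (fun a ha c => by
      obtain ⟨y, rfl⟩ := Submodule.mkQ_surjective _ c
      rw [← map_smul, Submodule.mkQ_apply, Submodule.Quotient.mk_eq_zero]
      exact hC a ha y) ((LinearMap.range g).liftQ ψ hle)
    ext y
    have := congrArg (fun φ => φ (Submodule.Quotient.mk y)) h0
    simpa using this
  · intro χ
    have hker : ∀ x ∈ LinearMap.ker g, χ x = 0 := by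
      intro x hx
      have h0 := hom_eq_zero I hR1 n (C := LinearMap.ker g) (fun a ha c => by
        apply Subtype.ext
        simpa using hK a ha c.1 c.2) (χ ∘ₗ (LinearMap.ker g).subtype)
      have := congrArg (fun φ => φ ⟨x, hx⟩) h0
      simpa using this
    let χbar : LinearMap.range g →ₗ[R] R :=
      ((LinearMap.ker g).liftQ χ (fun x hx => hker x hx)) ∘ₗ g.quotKerEquivRange.symm.toLinearMap
    obtain ⟨ψ, hψ⟩ := exists_extension I hR (LinearMap.range g) n hC χbar
    refine ⟨ψ, ?_⟩
    ext x
    rw [LinearMap.dualMap_apply]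
    have := hψ ⟨g x, LinearMap.mem_range_self g x⟩
    rw [this]
    simp only [χbar, LinearMap.comp_apply, LinearEquiv.coe_coe]
    rw [LinearMap.quotKerEquivRange_symm_apply_image]
    simp

end Ext

section BaseChange

variable {B B' : Type u} [CommRing B] [CommRing B'] [IsNoetherianRing B'] [Algebra B B']

/-- Base-change version: if the kernel and cokernel of `g` are killed by `J ^ n` and
`depth_{JB'} B' ≥ 2`, the dual of the base change of `g` is bijective. -/
theorem baseChange_dualMap_bijective (J : Ideal B)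
    (hB' : 2 ≤ idealDepth (J.map (algebraMap B B')) B')
    {X Y : Type u} [AddCommGroup X] [Module B X] [AddCommGroup Y] [Module B Y]
    [Module.Finite B Y] (g : X →ₗ[B] Y) (n : ℕ)
    (hK : ∀ a ∈ J ^ n, ∀ x ∈ LinearMap.ker g, a • x = 0)
    (hC : ∀ a ∈ J ^ n, ∀ y, a • y ∈ LinearMap.range g) :
    Function.Bijective (g.baseChange B').dualMap := by
  have key : (J.map (algebraMap B B')) ^ (n + n) ≤
      (LinearMap.ker (g.baseChange B')).annihilator ⊓
        Module.annihilator B' ((B' ⊗[B] Y) ⧸ LinearMap.range (g.baseChange B')) := by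
    rw [← Ideal.map_pow, pow_add, Ideal.map_le_iff_le_comap, Ideal.mul_le]
    intro a ha b hb
    obtain ⟨τ, h1, h2⟩ := exists_quasiInverse g a b (hC a ha) (hK b hb)
    have h1' : (g.baseChange B') ∘ₗ (τ.baseChange B') = (a * b) • LinearMap.id := by
      rw [← LinearMap.baseChange_comp, h1, LinearMap.baseChange_smul, LinearMap.baseChange_id]
    have h2' : (τ.baseChange B') ∘ₗ (g.baseChange B') = (a * b) • LinearMap.id := by
      rw [← LinearMap.baseChange_comp, h2, LinearMap.baseChange_smul, LinearMap.baseChange_id]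
    rw [Ideal.mem_comap, Ideal.mem_inf]
    constructor
    · rw [Submodule.mem_annihilator]
      intro x hx
      have := congrArg (fun φ => φ x) h2'
      simp only [LinearMap.comp_apply, LinearMap.smul_apply, LinearMap.id_apply] at this
      rw [LinearMap.mem_ker.mp hx, map_zero] at this
      rw [algebraMap_smul]
      exact this.symm
    · rw [Module.mem_annihilator]
      intro m
      obtain ⟨y, rfl⟩ := Submodule.mkQ_surjective _ m
      rw [← map_smul, Submodule.mkQ_apply, Submodule.Quotient.mk_eq_zero, algebraMap_smul]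
      have := congrArg (fun φ => φ y) h1'
      simp only [LinearMap.comp_apply, LinearMap.smul_apply, LinearMap.id_apply] at this
      rw [← this]
      exact LinearMap.mem_range_self _ _
  refine dualMap_bijective (J.map (algebraMap B B')) hB' (g.baseChange B') (n + n) ?_ ?_
  · intro c hc x hx
    exact Submodule.mem_annihilator.mp (key hc).1 x hx
  · intro c hc y
    have := Module.mem_annihilator.mp (key hc).2 (Submodule.Quotient.mk y)
    rwa [← Submodule.Quotient.mk_smul, Submodule.Quotient.mk_eq_zero] at this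

end BaseChange

section Support

variable {R : Type*} [CommRing R] [IsNoetherianRing R]

theorem exists_pow_le_annihilator (I : Ideal R) (Z : Type*) [AddCommGroup Z] [Module R Z]
    [Module.Finite R Z] (h : Module.support R Z ⊆ PrimeSpectrum.zeroLocus I) :
    ∃ n : ℕ, I ^ n ≤ Module.annihilator R Z := by
  rw [Module.support_eq_zeroLocus, PrimeSpectrum.zeroLocus_subset_zeroLocus_iff] at h
  exact Ideal.exists_pow_le_of_le_radical_of_fg h (IsNoetherian.noetherian I)

end Support

section Eval

variable {B : Type u} [CommRing B] [IsNoetherianRing B] (J : Ideal B)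
  (F : Type u) [AddCommGroup F] [Module B F] [Module.Finite B F]

open Groth.Agent.Lib.Helper93.Depth in
/-- If `F` is reflexive at the primes off `V(J)`, the kernel and cokernel of `F → F^∨∨` are killed
by a power of `J`. -/
theorem exists_pow_eval
    (hU : ∀ p : PrimeSpectrum B, ¬ J ≤ p.asIdeal →
      Module.IsReflexive (Localization.AtPrime p.asIdeal)
        (LocalizedModule p.asIdeal.primeCompl F)) :
    ∃ n : ℕ, (∀ a ∈ J ^ n, ∀ x ∈ LinearMap.ker (Module.Dual.eval B F), a • x = 0) ∧
      (∀ a ∈ J ^ n, ∀ ξ, a • ξ ∈ LinearMap.range (Module.Dual.eval B F)) := by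
  have hK : Module.support B (LinearMap.ker (Module.Dual.eval B F)) ⊆
      PrimeSpectrum.zeroLocus J := by
    intro p hp
    by_contra hIp
    rw [PrimeSpectrum.mem_zeroLocus, SetLike.coe_subset_coe] at hIp
    have := (hU p hIp).bijective_dual_eval'.1
    have hs := subsingleton_localizedModule_ker_eval p.asIdeal.primeCompl F this
    rw [Module.mem_support_iff] at hp
    exact not_subsingleton _ hs
  have hC : Module.support B (Module.Dual B (Module.Dual B F) ⧸
      LinearMap.range (Module.Dual.eval B F)) ⊆ PrimeSpectrum.zeroLocus J := by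
    intro p hp
    by_contra hIp
    rw [PrimeSpectrum.mem_zeroLocus, SetLike.coe_subset_coe] at hIp
    have := (hU p hIp).bijective_dual_eval'.2
    have hs := subsingleton_localizedModule_coker_eval p.asIdeal.primeCompl F this
    rw [Module.mem_support_iff] at hp
    exact not_subsingleton _ hs
  obtain ⟨n1, h1⟩ := exists_pow_le_annihilator J _ hK
  obtain ⟨n2, h2⟩ := exists_pow_le_annihilator J _ hC
  refine ⟨max n1 n2, fun a ha x hx => ?_, fun a ha ξ => ?_⟩
  · have ha1 := h1 (Ideal.pow_le_pow_right (le_max_left n1 n2) ha)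
    have := Module.mem_annihilator.mp ha1 ⟨x, hx⟩
    simpa using congrArg Subtype.val this
  · have ha2 := h2 (Ideal.pow_le_pow_right (le_max_right n1 n2) ha)
    have := Module.mem_annihilator.mp ha2 (Submodule.Quotient.mk ξ)
    rwa [← Submodule.Quotient.mk_smul, Submodule.Quotient.mk_eq_zero] at this

end Eval

end Groth.Agent.Lib.Helper12.DualBij
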