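import Groth.Agent.Lib.Helper12.FourTermBC
import Groth.Agent.Lib.Helper12.DualBij
import Groth.Agent.Lib.Helper93.DepthHom
import Groth.Agent.S18703

/-!
# The double dual of a base change as the kernel of the base-changed presentation (helper12)

`C` Noetherian, `0 → F → E⁰ → E¹ → G → 0` exact with `E⁰, E¹` finite projective and `G` free off
`V(J)`.  For a Noetherian `C`-algebra `T` with `depth_{JT} T ≥ 2`, the natural map
`θ : T ⊗ F → K_T = ker (T ⊗ E⁰ → T ⊗ E¹)` has kernel and cokernel killed by a power of `JT`, `K_T`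
is reflexive, and hence `(T ⊗ F)^∨∨ ≃ K_T`.
-/

set_option autoImplicit false
universe u

namespace Groth.Agent.Lib.Helper12.DDualKer

open TensorProduct LocCoh
open Groth.Agent.Lib.Helper12.FourTermFlat

section LemmaV

variable {C : Type*} [CommRing C] (W : Submonoid C)
  {Z E Q : Type*} [AddCommGroup Z] [Module C Z] [AddCommGroup E] [Module C E]
  [AddCommGroup Q] [Module C Q] (ι : Z →ₗ[C] E) (π : E →ₗ[C] Q)

/-- Lemma V in `lTensor` form over a single ring. -/
theorem exists_smul_eq_zero_lTensor (hι : Function.Injective ι) (hex : Function.Exact ι π)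
    (hπ : Function.Surjective π) [Module.Flat C (LocalizedModule W Q)]
    {X : Type*} [AddCommGroup X] [Module C X] (t : X ⊗[C] Z) (ht : ι.lTensor X t = 0) :
    ∃ w : W, (w : C) • t = 0 := by
  have h1 : (ι.restrictScalars C).rTensor X (TensorProduct.comm C X Z t) = 0 := by
    show ι.rTensor X (TensorProduct.comm C X Z t) = 0
    rw [LinearMap.rTensor_comm, ht, map_zero]
  obtain ⟨w, hw⟩ := exists_smul_eq_zero_of_flat_coker (A := C) (B := C) W ι π hι hex hπ _ h1
  refine ⟨w, ?_⟩
  apply (TensorProduct.comm C X Z).injective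
  rw [map_smul, map_zero]
  exact hw

end LemmaV

section Main

variable (C : Type u) [CommRing C] [IsNoetherianRing C] (T : Type u) [CommRing T]
  [IsNoetherianRing T] [Algebra C T] (J : Ideal C)
  {F E0 E1 G : Type u} [AddCommGroup F] [Module C F] [Module.Finite C F]
  [AddCommGroup E0] [Module C E0] [Module.Finite C E0] [Module.Projective C E0]
  [AddCommGroup E1] [Module C E1] [Module.Finite C E1] [Module.Projective C E1]
  [AddCommGroup G] [Module C G] [Module.Finite C G]
  (f : F →ₗ[C] E0) (u : E0 →ₗ[C] E1) (v : E1 →ₗ[C] G)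
  (hf : Function.Injective f) (hfu : Function.Exact f u) (huv : Function.Exact u v)
  (hv : Function.Surjective v)
  (hGU : ∀ q : PrimeSpectrum C, ¬ J ≤ q.asIdeal →
    Module.Free (Localization.AtPrime q.asIdeal) (LocalizedModule q.asIdeal.primeCompl G))

include hfu in
theorem baseChange_comp_eq_zero (x : T ⊗[C] F) :
    u.baseChange T (f.baseChange T x) = 0 := by
  rw [← LinearMap.comp_apply, ← LinearMap.baseChange_comp, hfu.linearMap_comp_eq_zero,
    LinearMap.baseChange_zero, LinearMap.zero_apply]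

/-- The natural map `T ⊗ F → ker (T ⊗ E⁰ → T ⊗ E¹)`. -/
noncomputable def theta : T ⊗[C] F →ₗ[T] LinearMap.ker (u.baseChange T) :=
  (f.baseChange T).codRestrict (LinearMap.ker (u.baseChange T))
    (fun x => LinearMap.mem_ker.mpr (baseChange_comp_eq_zero C T f u hfu x))

include hGU in
theorem flat_localized_G (q : Ideal C) [q.IsPrime] (hq : ¬ J ≤ q) :
    Module.Flat C (LocalizedModule q.primeCompl G) := by
  haveI := hGU ⟨q, inferInstance⟩ hq
  exact Module.Flat.trans C (Localization.AtPrime q) _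

include hf hfu huv hv hGU in
/-- The kernel of `T ⊗ F → T ⊗ E⁰` is torsion off `V(J)`. -/
theorem exists_smul_eq_zero_of_ker (q : Ideal C) [q.IsPrime] (hq : ¬ J ≤ q)
    (t : T ⊗[C] F) (ht : f.baseChange T t = 0) :
    ∃ w : C, w ∉ q ∧ w • t = 0 := by
  haveI := flat_localized_G C J hGU q hq
  haveI : Module.Flat C (LocalizedModule q.primeCompl (LinearMap.ker v)) :=
    flat_localized_ker_v C C v q.primeCompl hv
  have ht' : f.lTensor T t = 0 := by
    rw [← LinearMap.baseChange_eq_ltensor]
    exact ht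
  obtain ⟨w, hw⟩ := exists_smul_eq_zero_lTensor q.primeCompl f (uhat C u v huv) hf
    (exact_f_uhat C f u v hfu huv) (uhat_surjective C u v huv) t ht'
  exact ⟨w, w.2, hw⟩

include hfu huv hv hGU in
/-- The cokernel of `θ` is torsion off `V(J)`. -/
theorem exists_smul_mem_range (q : Ideal C) [q.IsPrime] (hq : ¬ J ≤ q)
    (x : T ⊗[C] E0) (hx : u.baseChange T x = 0) :
    ∃ w : C, w ∉ q ∧ w • x ∈ LinearMap.range (f.baseChange T) := by
  haveI := flat_localized_G C J hGU q hq
  have hx' : u.lTensor T x = 0 := by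
    rw [← LinearMap.baseChange_eq_ltensor]
    exact hx
  have hcomp : u = (LinearMap.ker v).subtype ∘ₗ (uhat C u v huv) := by
    ext y
    rfl
  rw [hcomp, LinearMap.lTensor_comp, LinearMap.comp_apply] at hx'
  obtain ⟨w, hw⟩ := exists_smul_eq_zero_lTensor q.primeCompl (LinearMap.ker v).subtype v
    Subtype.val_injective (LinearMap.exact_subtype_ker_map v) hv _ hx'
  refine ⟨w, w.2, ?_⟩
  rw [← map_smul] at hw
  have hex := lTensor_exact T (exact_f_uhat C f u v hfu huv) (uhat_surjective C u v huv)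
  obtain ⟨y, hy⟩ := (hex _).1 hw
  refine ⟨y, ?_⟩
  rw [← hy]
  exact congrFun (LinearMap.baseChange_eq_ltensor (A := T) f) y

end Main

section Uniform

variable {T : Type*} [CommRing T] [IsNoetherianRing T] (I : Ideal T)
  {X Y : Type*} [AddCommGroup X] [Module T X] [Module.Finite T X]
  [AddCommGroup Y] [Module T Y] [Module.Finite T Y] (θ : X →ₗ[T] Y)

/-- Elementwise torsion off `V(I)` of the kernel and cokernel gives a uniform power of `I`. -/
theorem exists_pow_of_forall_prime
    (h1 : ∀ Q : PrimeSpectrum T, ¬ I ≤ Q.asIdeal → ∀ x ∈ LinearMap.ker θ,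
      ∃ r : T, r ∉ Q.asIdeal ∧ r • x = 0)
    (h2 : ∀ Q : PrimeSpectrum T, ¬ I ≤ Q.asIdeal → ∀ y : Y,
      ∃ r : T, r ∉ Q.asIdeal ∧ r • y ∈ LinearMap.range θ) :
    ∃ n : ℕ, (∀ a ∈ I ^ n, ∀ x ∈ LinearMap.ker θ, a • x = 0) ∧
      (∀ a ∈ I ^ n, ∀ y, a • y ∈ LinearMap.range θ) := by
  haveI : IsNoetherian T X := isNoetherian_of_isNoetherianRing_of_finite T _
  have hK : Module.support T (LinearMap.ker θ) ⊆ PrimeSpectrum.zeroLocus I := by
    intro Q hQ
    by_contra hJQ
    rw [PrimeSpectrum.mem_zeroLocus, SetLike.coe_subset_coe] at hJQ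
    revert hQ
    rw [imp_false, Module.notMem_support_iff']
    rintro ⟨t, ht⟩
    obtain ⟨r, hr, hrt⟩ := h1 Q hJQ t ht
    exact ⟨r, hr, Subtype.ext hrt⟩
  have hC : Module.support T (Y ⧸ LinearMap.range θ) ⊆ PrimeSpectrum.zeroLocus I := by
    intro Q hQ
    by_contra hJQ
    rw [PrimeSpectrum.mem_zeroLocus, SetLike.coe_subset_coe] at hJQ
    revert hQ
    rw [imp_false, Module.notMem_support_iff']
    intro m
    obtain ⟨y, rfl⟩ := Submodule.mkQ_surjective _ m
    obtain ⟨r, hr, hry⟩ := h2 Q hJQ y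
    refine ⟨r, hr, ?_⟩
    rw [← map_smul, Submodule.mkQ_apply, Submodule.Quotient.mk_eq_zero]
    exact hry
  obtain ⟨n1, h1⟩ := Groth.Agent.Lib.Helper12.DualBij.exists_pow_le_annihilator I _ hK
  obtain ⟨n2, h2⟩ := Groth.Agent.Lib.Helper12.DualBij.exists_pow_le_annihilator I _ hC
  refine ⟨max n1 n2, fun a ha x hx => ?_, fun a ha ξ => ?_⟩
  · have ha1 := h1 (Ideal.pow_le_pow_right (le_max_left n1 n2) ha)
    have := Module.mem_annihilator.mp ha1 ⟨x, hx⟩
    simpa using congrArg Subtype.val this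
  · have ha2 := h2 (Ideal.pow_le_pow_right (le_max_right n1 n2) ha)
    have := Module.mem_annihilator.mp ha2 (Submodule.Quotient.mk ξ)
    rwa [← Submodule.Quotient.mk_smul, Submodule.Quotient.mk_eq_zero] at this

end Uniform

section Equiv

variable (C : Type u) [CommRing C] [IsNoetherianRing C] (T : Type u) [CommRing T]
  [IsNoetherianRing T] [Algebra C T] (J : Ideal C)
  {F E0 E1 G : Type u} [AddCommGroup F] [Module C F] [Module.Finite C F]
  [AddCommGroup E0] [Module C E0] [Module.Finite C E0] [Module.Projective C E0]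
  [AddCommGroup E1] [Module C E1] [Module.Finite C E1] [Module.Projective C E1]
  [AddCommGroup G] [Module C G] [Module.Finite C G]
  (f : F →ₗ[C] E0) (u : E0 →ₗ[C] E1) (v : E1 →ₗ[C] G)
  (hf : Function.Injective f) (hfu : Function.Exact f u) (huv : Function.Exact u v)
  (hv : Function.Surjective v)
  (hGU : ∀ q : PrimeSpectrum C, ¬ J ≤ q.asIdeal →
    Module.Free (Localization.AtPrime q.asIdeal) (LocalizedModule q.asIdeal.primeCompl G))

include hf hfu huv hv hGU in
/-- The kernel and cokernel of `θ` are killed by a power of `JT`. -/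
theorem exists_pow_theta :
    ∃ n : ℕ, (∀ a ∈ (J.map (algebraMap C T)) ^ n, ∀ x ∈ LinearMap.ker (theta C T f u hfu),
        a • x = 0) ∧
      (∀ a ∈ (J.map (algebraMap C T)) ^ n, ∀ y, a • y ∈ LinearMap.range (theta C T f u hfu)) := by
  haveI : IsNoetherian T (T ⊗[C] E0) := isNoetherian_of_isNoetherianRing_of_finite T _
  refine exists_pow_of_forall_prime (T := T) (X := T ⊗[C] F)
    (Y := ↥(LinearMap.ker (u.baseChange T))) (J.map (algebraMap C T)) (theta C T f u hfu) ?_ ?_
  · intro Q hJQ t ht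
    have hq : ¬ J ≤ Q.asIdeal.comap (algebraMap C T) := fun h =>
      hJQ (Ideal.map_le_iff_le_comap.mpr h)
    have ht' : f.baseChange T t = 0 := congrArg Subtype.val (LinearMap.mem_ker.mp ht)
    obtain ⟨w, hw, hwt⟩ := exists_smul_eq_zero_of_ker C T J f u v hf hfu huv hv hGU
      (Q.asIdeal.comap (algebraMap C T)) hq t ht'
    refine ⟨algebraMap C T w, hw, ?_⟩
    rw [algebraMap_smul]
    exact hwt
  · rintro Q hJQ ⟨x, hx⟩
    have hq : ¬ J ≤ Q.asIdeal.comap (algebraMap C T) := fun h =>
      hJQ (Ideal.map_le_iff_le_comap.mpr h)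
    obtain ⟨w, hw, y, hy⟩ := exists_smul_mem_range C T J f u v hfu huv hv hGU
      (Q.asIdeal.comap (algebraMap C T)) hq x (LinearMap.mem_ker.mp hx)
    refine ⟨algebraMap C T w, hw, y, ?_⟩
    apply Subtype.ext
    show f.baseChange T y = algebraMap C T w • x
    rw [algebraMap_smul]
    exact hy

include hv hGU in
/-- Freeness of the base-changed cokernel off `V(JT)`. -/
theorem free_baseChange_G (Q : PrimeSpectrum T) (hQ : ¬ J.map (algebraMap C T) ≤ Q.asIdeal) :
    Module.Free (Localization.AtPrime Q.asIdeal)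
      (LocalizedModule Q.asIdeal.primeCompl (T ⊗[C] G)) := by
  have hq : ¬ J ≤ Q.asIdeal.comap (algebraMap C T) := fun h =>
    hQ (Ideal.map_le_iff_le_comap.mpr h)
  haveI := hGU ⟨Q.asIdeal.comap (algebraMap C T), inferInstance⟩ hq
  exact Groth.Agent.Lib.Helper12.BaseChangeFree.free_localizedModule_baseChange C T Q.asIdeal G

include huv hv hGU in
/-- `K_T` has depth `≥ 2` and is reflexive when `depth_{JT} T ≥ 2`. -/
theorem ker_baseChange_depth_reflexive (hT2 : 2 ≤ idealDepth (J.map (algebraMap C T)) T) :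
    2 ≤ idealDepth (J.map (algebraMap C T)) (LinearMap.ker (u.baseChange T)) ∧
      Module.IsReflexive T (LinearMap.ker (u.baseChange T)) := by
  have h12 : (1 : ℕ∞) ≤ 2 := by norm_num
  have hE0' : 2 ≤ idealDepth (J.map (algebraMap C T)) (T ⊗[C] E0) :=
    Groth.Agent.Lib.Helper93.Depth.two_le_idealDepth_of_isReflexive _ (T ⊗[C] E0) hT2
  have hE1' : 2 ≤ idealDepth (J.map (algebraMap C T)) (T ⊗[C] E1) :=
    Groth.Agent.Lib.Helper93.Depth.two_le_idealDepth_of_isReflexive _ (T ⊗[C] E1) hT2
  have huv' : Function.Exact (u.baseChange T) (v.baseChange T) := by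
    have := lTensor_exact T huv hv
    exact this
  have hv' : Function.Surjective (v.baseChange T) := by
    have := LinearMap.lTensor_surjective T hv
    exact this
  haveI : IsNoetherian T (T ⊗[C] E0) := isNoetherian_of_isNoetherianRing_of_finite T _
  have hd : 2 ≤ idealDepth (J.map (algebraMap C T)) (LinearMap.ker (u.baseChange T)) :=
    Groth.Agent.Lib.Helper93.Depth.two_le_idealDepth_ker _ _ hE0' (le_trans h12 hE1')
  refine ⟨hd, ?_⟩
  refine Groth.Agent.S18703.result T (J.map (algebraMap C T)) (le_trans h12 hT2)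
    (LinearMap.ker (u.baseChange T)) ?_ hd
  intro Q hQ
  haveI := free_baseChange_G C T J v hv hGU Q hQ
  haveI := Groth.Agent.Lib.Helper12.FourTermBC.projective_localizedModule_ker
    Q.asIdeal.primeCompl (u.baseChange T) (v.baseChange T) huv' hv'
  infer_instance

include hf hfu huv hv hGU in
/-- `(T ⊗ F)^∨∨ ≃ K_T` when `depth_{JT} T ≥ 2`. -/
theorem nonempty_ddual_equiv_ker (hT2 : 2 ≤ idealDepth (J.map (algebraMap C T)) T) :
    Nonempty (Module.Dual T (Module.Dual T (T ⊗[C] F)) ≃ₗ[T] LinearMap.ker (u.baseChange T)) := by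
  haveI : IsNoetherian T (T ⊗[C] E0) := isNoetherian_of_isNoetherianRing_of_finite T _
  obtain ⟨n, hK, hC⟩ := exists_pow_theta C T J f u v hf hfu huv hv hGU
  have hbij := Groth.Agent.Lib.Helper12.DualBij.dualMap_bijective (R := T)
    (X := T ⊗[C] F) (Y := ↥(LinearMap.ker (u.baseChange T))) (J.map (algebraMap C T)) hT2
    (theta C T f u hfu) n hK hC
  haveI := (ker_baseChange_depth_reflexive C T J u v huv hv hGU hT2).2
  let e1 := LinearEquiv.ofBijective _ hbij
  exact ⟨e1.dualMap ≪≫ₗ (Module.evalEquiv T (LinearMap.ker (u.baseChange T))).symm⟩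

end Equiv

end Groth.Agent.Lib.Helper12.DDualKer
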