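import Groth.Agent.Lib.Helper12.FlatCxRank4

/-!
# Helper library: length formulas for `T_p` over an Artinian local ring.
-/

open CategoryTheory CategoryTheory.Limits MonoidalCategory TensorProduct
universe u
namespace Groth.Agent.Lib.Helper12.FlatCx

section LengthFour

lemma length_four_term {R : Type*} [Ring R] {V1 V2 V3 V4 : Type*}
    [AddCommGroup V1] [Module R V1] [AddCommGroup V2] [Module R V2]
    [AddCommGroup V3] [Module R V3] [AddCommGroup V4] [Module R V4]
    (f1 : V1 →ₗ[R] V2) (f2 : V2 →ₗ[R] V3) (f3 : V3 →ₗ[R] V4)
    (h1 : Function.Injective f1) (h12 : Function.Exact f1 f2) (h23 : Function.Exact f2 f3)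
    (h3 : Function.Surjective f3) :
    Module.length R V1 + Module.length R V3 = Module.length R V2 + Module.length R V4 := by
  have e2 : Module.length R V2 = Module.length R V1 + Module.length R (LinearMap.range f2) :=
    Module.length_eq_add_of_exact f1 f2.rangeRestrict h1 f2.surjective_rangeRestrict (by
      intro x
      rw [← h12 x]
      constructor
      · intro h
        have := congrArg Subtype.val h
        simpa using this
      · intro h
        apply Subtype.ext
        simpa using h)
  have e3 : Module.length R V3 = Module.length R (LinearMap.range f2) + Module.length R V4 :=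
    Module.length_eq_add_of_exact (LinearMap.range f2).subtype f3 (Submodule.subtype_injective _)
      h3 (by
      intro x
      rw [h23 x]
      simp)
  rw [e2, e3]
  ac_rfl

variable {A : Type u} [CommRing A] {ι : Type} {c : ComplexShape ι}

lemma length_homology_add (Q : HomologicalComplex (ModuleCat.{u} A) c) (p q : ι)
    (hpq : c.Rel p q) :
    Module.length A (Q.homology p) + Module.length A (Q.X q) =
      Module.length A (Q.opcycles p) + Module.length A (Q.opcycles q) := by
  have hp : c.prev q = p := c.prev_eq' hpq
  have hq : c.next p = q := c.next_eq' hpq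
  have ex1 : (ShortComplex.mk (Q.homologyι p) (Q.fromOpcycles p q)
      (Q.homologyι_comp_fromOpcycles p q)).Exact :=
    ShortComplex.exact_of_f_is_kernel _ (Q.homologyIsKernel p q hq)
  have ex2' : (ShortComplex.mk (Q.d p q) (Q.pOpcycles q) (Q.d_pOpcycles p q)).Exact :=
    ShortComplex.exact_of_g_is_cokernel _ (Q.opcyclesIsCokernel p q hp)
  have ex2 : (ShortComplex.mk (Q.fromOpcycles p q) (Q.pOpcycles q) (by
      rw [← cancel_epi (Q.pOpcycles p), HomologicalComplex.p_fromOpcycles_assoc,
        HomologicalComplex.d_pOpcycles, comp_zero])).Exact := by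
    let φ : ShortComplex.mk (Q.d p q) (Q.pOpcycles q) (Q.d_pOpcycles p q) ⟶
        ShortComplex.mk (Q.fromOpcycles p q) (Q.pOpcycles q) (by
      rw [← cancel_epi (Q.pOpcycles p), HomologicalComplex.p_fromOpcycles_assoc,
        HomologicalComplex.d_pOpcycles, comp_zero]) :=
      { τ₁ := Q.pOpcycles p
        τ₂ := 𝟙 _
        τ₃ := 𝟙 _
        comm₁₂ := by simp
        comm₂₃ := by simp }
    have : Epi φ.τ₁ := by dsimp [φ]; infer_instance
    have : IsIso φ.τ₂ := by dsimp [φ]; infer_instance
    have : Mono φ.τ₃ := by dsimp [φ]; infer_instance
    exact (ShortComplex.exact_iff_of_epi_of_isIso_of_mono φ).mp ex2'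
  rw [ShortComplex.ShortExact.moduleCat_exact_iff_function_exact] at ex1 ex2
  exact length_four_term (Q.homologyι p).hom (Q.fromOpcycles p q).hom (Q.pOpcycles q).hom
    ((ModuleCat.mono_iff_injective _).mp inferInstance) ex1 ex2
    ((ModuleCat.epi_iff_surjective _).mp inferInstance)

/-- `len T_p(M) + len (P_q ⊗ M) = len (Z'_p ⊗ M) + len (Z'_q ⊗ M)`. -/
lemma length_T_add (P : HomologicalComplex (ModuleCat.{u} A) c) (p q : ι) (hpq : c.Rel p q)
    (M : ModuleCat.{u} A) :
    Module.length A (CohIII.T P p M) + Module.length A (TensorProduct A (P.X q) M) =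
      Module.length A (TensorProduct A (P.opcycles p) M) +
        Module.length A (TensorProduct A (P.opcycles q) M) := by
  have h := length_homology_add (CohIII.tensorObj P M) p q hpq
  have e : ∀ i, Module.length A ((CohIII.tensorObj P M).opcycles i) =
      Module.length A (TensorProduct A (P.opcycles i) M) := fun i =>
    (opcyclesTensorIso P i M).toLinearEquiv.length_eq
  rw [e, e] at h
  exact h

end LengthFour

section ArtinLocal
variable {A : Type u} [CommRing A] [IsLocalRing A]

lemma length_tensor_residue (N : Type*) [AddCommGroup N] [Module A N] [Module.Finite A N] :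
    Module.length A (TensorProduct A N (IsLocalRing.ResidueField A)) =
      (Module.finrank (IsLocalRing.ResidueField A) (IsLocalRing.ResidueField A ⊗[A] N) : ℕ∞) := by
  rw [(TensorProduct.comm A N (IsLocalRing.ResidueField A)).length_eq,
    Module.length_eq_of_surjective (S := A) (R := IsLocalRing.ResidueField A)
      (IsLocalRing.residue_surjective (R := A)),
    Module.length_eq_finrank]

lemma exists_surjective_fin (N : Type*) [AddCommGroup N] [Module A N] [Module.Finite A N] :
    ∃ g : (Fin (Module.finrank (IsLocalRing.ResidueField A)
      (IsLocalRing.ResidueField A ⊗[A] N)) → A) →ₗ[A] N, Function.Surjective g := by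
  let b := Module.finBasis (IsLocalRing.ResidueField A) (IsLocalRing.ResidueField A ⊗[A] N)
  have hs := TensorProduct.mk_surjective A N (IsLocalRing.ResidueField A)
    (IsLocalRing.residue_surjective (R := A))
  choose f hf using fun i => hs (b i)
  have hspan := IsLocalRing.span_eq_top_of_tmul_eq_basis f b hf
  refine ⟨Fintype.linearCombination A f, ?_⟩
  rw [← LinearMap.range_eq_top, Fintype.range_linearCombination, hspan]

variable [IsArtinianRing A]

omit [IsLocalRing A] in
lemma length_self_ne_top : Module.length A A ≠ ⊤ := Module.length_ne_top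

omit [IsArtinianRing A] in
lemma length_le_mul (N : Type*) [AddCommGroup N] [Module A N] [Module.Finite A N] :
    Module.length A N ≤
      Module.length A (TensorProduct A N (IsLocalRing.ResidueField A)) * Module.length A A := by
  obtain ⟨g, hg⟩ := exists_surjective_fin (A := A) N
  rw [length_tensor_residue]
  calc Module.length A N ≤ Module.length A (Fin _ → A) := Module.length_le_of_surjective g hg
    _ = _ := by rw [Module.length_pi]; simp

lemma free_of_length_eq (N : Type u) [AddCommGroup N] [Module A N] [Module.Finite A N]
    (h : Module.length A N =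
      Module.length A (TensorProduct A N (IsLocalRing.ResidueField A)) * Module.length A A) :
    Module.Free A N := by
  obtain ⟨g, hg⟩ := exists_surjective_fin (A := A) N
  rw [length_tensor_residue] at h
  have h1 := Module.length_eq_add_of_exact (LinearMap.ker g).subtype g
    (Submodule.subtype_injective _) hg (LinearMap.exact_subtype_ker_map g)
  have h2 : Module.length A (Fin (Module.finrank (IsLocalRing.ResidueField A)
      (IsLocalRing.ResidueField A ⊗[A] N)) → A) = Module.length A N := by
    rw [h, Module.length_pi]; simp
  have hfin : Module.length A N ≠ ⊤ := by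
    rw [h]
    exact WithTop.mul_ne_top (ENat.natCast_ne_top _) length_self_ne_top
  rw [h2] at h1
  have h3 : Module.length A (LinearMap.ker g) = 0 := by
    by_contra hne
    have : Module.length A N < Module.length A (LinearMap.ker g) + Module.length A N := by
      obtain ⟨n, hn⟩ := ENat.ne_top_iff_exists.mp hfin
      rw [← hn]
      cases hk : Module.length A (LinearMap.ker g) with
      | top => simp
      | coe m =>
        have hm : m ≠ 0 := by
          rintro rfl
          exact hne (by simpa using hk)
        norm_cast
        omega
    exact absurd h1 (ne_of_lt this)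
  rw [Module.length_eq_zero_iff, Submodule.subsingleton_iff_eq_bot] at h3
  have hinj : Function.Injective g := LinearMap.ker_eq_bot.mp h3
  exact Module.Free.of_equiv (LinearEquiv.ofBijective g ⟨hinj, hg⟩)

omit [IsArtinianRing A] in
lemma length_eq_mul_of_free (N : Type*) [AddCommGroup N] [Module A N] [Module.Finite A N]
    [Module.Free A N] :
    Module.length A N =
      Module.length A (TensorProduct A N (IsLocalRing.ResidueField A)) * Module.length A A := by
  rw [length_tensor_residue, Module.length_of_free_of_finite, Module.finrank_baseChange]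

end ArtinLocal

section ArtinFormula
variable {A : Type u} [CommRing A] [IsLocalRing A] [IsArtinianRing A] {ι : Type}
  {c : ComplexShape ι}

theorem exact_iff_length_formula_artinian (P : HomologicalComplex (ModuleCat.{u} A) c)
    (hP : ∀ i, Module.Finite A (P.X i) ∧ Module.Flat A (P.X i)) (p q : ι) (hpq : c.Rel p q) :
    ((CohIII.TFun P p).PreservesMonomorphisms ∧ (CohIII.TFun P p).PreservesEpimorphisms) ↔
      Module.length A (CohIII.T P p (ModuleCat.of A A)) =
        Module.length A (CohIII.T P p (ModuleCat.of A (IsLocalRing.ResidueField A))) *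
          Module.length A A := by
  have hPf : ∀ i, Module.Finite A (P.X i) := fun i => (hP i).1
  have hPfl : ∀ i, Module.Flat A (P.X i) := fun i => (hP i).2
  have := finite_opcycles P hPf p
  have := finite_opcycles P hPf q
  have := hPf q
  have := hPfl q
  have : Module.Free A (P.X q) := Module.free_of_flat_of_isLocalRing
  rw [exact_iff_flat_opcycles P hPfl p q hpq]
  have hA := length_T_add P p q hpq (ModuleCat.of A A)
  have hk := length_T_add P p q hpq (ModuleCat.of A (IsLocalRing.ResidueField A))
  have rid : ∀ (N : Type u) [AddCommGroup N] [Module A N],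
      Module.length A (TensorProduct A N (ModuleCat.of A A)) = Module.length A N := fun N _ _ =>
    (TensorProduct.rid A N).length_eq
  rw [rid, rid, rid] at hA
  have hr := length_eq_mul_of_free (A := A) (P.X q)
  have ha := length_le_mul (A := A) (P.opcycles p)
  have hb := length_le_mul (A := A) (P.opcycles q)
  have za := length_tensor_residue (A := A) (P.opcycles p)
  have zb := length_tensor_residue (A := A) (P.opcycles q)
  have zr := length_tensor_residue (A := A) (P.X q)
  obtain ⟨l, hl⟩ := ENat.ne_top_iff_exists.mp (length_self_ne_top (A := A))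
  set na := Module.finrank (IsLocalRing.ResidueField A)
    (IsLocalRing.ResidueField A ⊗[A] (P.opcycles p))
  set nb := Module.finrank (IsLocalRing.ResidueField A)
    (IsLocalRing.ResidueField A ⊗[A] (P.opcycles q))
  set nr := Module.finrank (IsLocalRing.ResidueField A)
    (IsLocalRing.ResidueField A ⊗[A] (P.X q))
  change _ + Module.length A (TensorProduct A (P.X q) (IsLocalRing.ResidueField A)) =
    Module.length A (TensorProduct A (P.opcycles p) (IsLocalRing.ResidueField A)) +
    Module.length A (TensorProduct A (P.opcycles q) (IsLocalRing.ResidueField A)) at hk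
  constructor
  · rintro ⟨h1, h2⟩
    have : Module.Free A (P.opcycles p) := Module.free_of_flat_of_isLocalRing
    have : Module.Free A (P.opcycles q) := Module.free_of_flat_of_isLocalRing
    have ea := length_eq_mul_of_free (A := A) (P.opcycles p)
    have eb := length_eq_mul_of_free (A := A) (P.opcycles q)
    rw [za, ← hl] at ea
    rw [zb, ← hl] at eb
    rw [zr, ← hl] at hr
    rw [za, zb, zr] at hk
    rw [ea, eb, hr] at hA
    rw [← hl]
    have hd : Module.length A (CohIII.T P p (ModuleCat.of A (IsLocalRing.ResidueField A))) ≠ ⊤ := by
      intro htop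
      rw [htop, top_add] at hk
      exact ENat.natCast_ne_top _ (by exact_mod_cast hk.symm)
    have ht : Module.length A (CohIII.T P p (ModuleCat.of A A)) ≠ ⊤ := by
      intro htop
      rw [htop, top_add] at hA
      exact ENat.natCast_ne_top _ (by exact_mod_cast hA.symm)
    obtain ⟨d, hd'⟩ := ENat.ne_top_iff_exists.mp hd
    obtain ⟨t, ht'⟩ := ENat.ne_top_iff_exists.mp ht
    rw [← hd'] at hk ⊢
    rw [← ht'] at hA ⊢
    norm_cast at hk hA ⊢
    have : (d + nr) * l = (na + nb) * l := by rw [hk]
    nlinarith
  · intro h
    rw [za, ← hl] at ha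
    rw [zb, ← hl] at hb
    rw [zr, ← hl] at hr
    rw [za, zb, zr] at hk
    rw [hr] at hA
    rw [← hl] at h
    have hd : Module.length A (CohIII.T P p (ModuleCat.of A (IsLocalRing.ResidueField A))) ≠ ⊤ := by
      intro htop
      rw [htop, top_add] at hk
      exact ENat.natCast_ne_top _ (by exact_mod_cast hk.symm)
    obtain ⟨d, hd'⟩ := ENat.ne_top_iff_exists.mp hd
    rw [← hd'] at hk h
    have hafin : Module.length A (P.opcycles p) ≠ ⊤ := ne_top_of_le_ne_top (by
      exact_mod_cast ENat.natCast_ne_top (na * l)) ha
    have hbfin : Module.length A (P.opcycles q) ≠ ⊤ := ne_top_of_le_ne_top (by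
      exact_mod_cast ENat.natCast_ne_top (nb * l)) hb
    obtain ⟨a, ha'⟩ := ENat.ne_top_iff_exists.mp hafin
    obtain ⟨b, hb'⟩ := ENat.ne_top_iff_exists.mp hbfin
    rw [h, ← ha', ← hb'] at hA
    rw [← ha'] at ha
    rw [← hb'] at hb
    norm_cast at hk hA ha hb
    have hmul : (d + nr) * l = (na + nb) * l := by rw [hk]
    have ea : a = na * l := by nlinarith
    have eb : b = nb * l := by nlinarith
    have f1 : Module.Free A (P.opcycles p) := by
      apply free_of_length_eq
      rw [za, ← hl, ← ha']
      exact_mod_cast ea
    have f2 : Module.Free A (P.opcycles q) := by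
      apply free_of_length_eq
      rw [zb, ← hl, ← hb']
      exact_mod_cast eb
    exact ⟨inferInstance, inferInstance⟩

end ArtinFormula
end Groth.Agent.Lib.Helper12.FlatCx
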