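import Groth.Agent.Lib.Helper29.DepthLoc2
import Groth.Agent.Lib.Helper29.DepthSelf
import Groth.Prelude.Def_EGA4b

/-!
# Depth of an `(S₂)` fibre local ring along a locus of fibre-codimension `≥ 2` (helper12)
-/

set_option autoImplicit false
universe u

namespace Groth.Agent.Lib.Helper12.FibS2Depth

open IsLocalRing LocCoh

section Inj

variable {C : Type*} [CommRing C]

/-- Contraction of ideals from a quotient of a localization is injective. -/
theorem comap_algebraMap_quot_injective (M : Submonoid C) (S : Type*) [CommRing S] [Algebra C S]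
    [IsLocalization M S] (I : Ideal S) :
    Function.Injective (Ideal.comap (algebraMap C (S ⧸ I))) := by
  intro a b h
  have h1 : algebraMap C (S ⧸ I) = (Ideal.Quotient.mk I).comp (algebraMap C S) :=
    IsScalarTower.algebraMap_eq C S (S ⧸ I)
  rw [h1, ← Ideal.comap_comap, ← Ideal.comap_comap] at h
  have h2 := (IsLocalization.orderEmbedding M S).injective h
  exact Ideal.comap_injective_of_surjective _ Ideal.Quotient.mk_surjective h2

end Inj

section Main

variable (R C : Type u) [CommRing R] [CommRing C] [Algebra R C]

theorem fibLocRing_ideal_ne_top (q : Ideal C) [q.IsPrime] :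
    (q.comap (algebraMap R C)).map (algebraMap R (Localization.AtPrime q)) ≠ ⊤ := by
  intro h
  have hle : (q.comap (algebraMap R C)).map (algebraMap R (Localization.AtPrime q)) ≤
      maximalIdeal (Localization.AtPrime q) := by
    rw [Ideal.map_le_iff_le_comap]
    intro r hr
    rw [Ideal.mem_comap, IsScalarTower.algebraMap_apply R C (Localization.AtPrime q),
      IsLocalization.AtPrime.to_map_mem_maximal_iff (Localization.AtPrime q) q]
    exact hr
  rw [h] at hle
  exact (maximalIdeal.isMaximal (Localization.AtPrime q)).ne_top (top_le_iff.mp hle)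

instance nontrivial_fibLocRing (q : Ideal C) [q.IsPrime] : Nontrivial (EGA4.FibLocRing R C q) :=
  Ideal.Quotient.nontrivial_iff.mpr (fibLocRing_ideal_ne_top R C q)

instance isLocalRing_fibLocRing (q : Ideal C) [q.IsPrime] : IsLocalRing (EGA4.FibLocRing R C q) :=
  IsLocalRing.of_surjective' (Ideal.Quotient.mk _) Ideal.Quotient.mk_surjective

/-- The contraction to `C` of the maximal ideal of the fibre local ring at `q` is `q`. -/
theorem comap_maximalIdeal_fibLocRing (q : Ideal C) [q.IsPrime] :
    (maximalIdeal (EGA4.FibLocRing R C q)).comap (algebraMap C (EGA4.FibLocRing R C q)) = q := by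
  have h1 : algebraMap C (EGA4.FibLocRing R C q) =
      (Ideal.Quotient.mk _).comp (algebraMap C (Localization.AtPrime q)) :=
    IsScalarTower.algebraMap_eq C (Localization.AtPrime q) (EGA4.FibLocRing R C q)
  haveI : IsLocalHom (Ideal.Quotient.mk
      ((q.comap (algebraMap R C)).map (algebraMap R (Localization.AtPrime q)))) :=
    IsLocalHom.of_surjective _ Ideal.Quotient.mk_surjective
  rw [h1, ← Ideal.comap_comap, IsLocalRing.maximalIdeal_comap]
  exact IsLocalization.AtPrime.under_maximalIdeal (Localization.AtPrime q) q

variable [IsNoetherianRing C] (n : Ideal C) [n.IsPrime]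

/-- Height comparison: for a prime `P` of the fibre local ring at `n` with contraction `q`, the
dimension of the fibre local ring at `q` is at most the height of `P`. -/
theorem ringKrullDim_fibLocRing_le_height (P : Ideal (EGA4.FibLocRing R C n)) [P.IsPrime]
    (q : Ideal C) [q.IsPrime] (hq : q = P.comap (algebraMap C (EGA4.FibLocRing R C n))) :
    ringKrullDim (EGA4.FibLocRing R C q) ≤ (P.height : WithBot ℕ∞) := by
  have hψL : algebraMap C (EGA4.FibLocRing R C n) =
      (Ideal.Quotient.mk _).comp (algebraMap C (Localization.AtPrime n)) :=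
    IsScalarTower.algebraMap_eq C (Localization.AtPrime n) (EGA4.FibLocRing R C n)
  -- `q ≤ n`
  have hqn : q ≤ n := by
    intro x hx
    by_contra hxn
    have hu : IsUnit (algebraMap C (Localization.AtPrime n) x) :=
      IsLocalization.map_units (Localization.AtPrime n) (⟨x, hxn⟩ : n.primeCompl)
    have hu' : IsUnit (algebraMap C (EGA4.FibLocRing R C n) x) := by
      rw [hψL, RingHom.comp_apply]
      exact RingHom.isUnit_map _ hu
    rw [hq] at hx
    exact (inferInstance : P.IsPrime).ne_top (Ideal.eq_top_of_isUnit_mem _ hx hu')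
  -- contraction to `R`
  have hnq : n.comap (algebraMap R C) ≤ q.comap (algebraMap R C) := by
    intro r hr
    rw [Ideal.mem_comap, hq, Ideal.mem_comap, hψL, RingHom.comp_apply,
      ← IsScalarTower.algebraMap_apply R C (Localization.AtPrime n)]
    have : Ideal.Quotient.mk ((n.comap (algebraMap R C)).map
        (algebraMap R (Localization.AtPrime n))) (algebraMap R (Localization.AtPrime n) r) = 0 :=
      Ideal.Quotient.eq_zero_iff_mem.mpr (Ideal.mem_map_of_mem _ hr)
    rw [this]
    exact P.zero_mem
  -- the map `C_n → C_q`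
  have hle : n.primeCompl ≤ q.primeCompl.comap (RingHom.id C) := fun x hx hxq => hx (hqn hxq)
  let g : Localization.AtPrime n →+* Localization.AtPrime q :=
    IsLocalization.map (Localization.AtPrime q) (RingHom.id C) hle
  have hg : ∀ x, g (algebraMap C (Localization.AtPrime n) x) =
      algebraMap C (Localization.AtPrime q) x := fun x => IsLocalization.map_eq hle x
  have hI : (n.comap (algebraMap R C)).map (algebraMap R (Localization.AtPrime n)) ≤
      ((q.comap (algebraMap R C)).map (algebraMap R (Localization.AtPrime q))).comap g := by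
    rw [Ideal.map_le_iff_le_comap]
    intro r hr
    rw [Ideal.mem_comap, Ideal.mem_comap, IsScalarTower.algebraMap_apply R C (Localization.AtPrime n),
      hg, ← IsScalarTower.algebraMap_apply R C (Localization.AtPrime q)]
    exact Ideal.mem_map_of_mem _ (hnq hr)
  let χ : EGA4.FibLocRing R C n →+* EGA4.FibLocRing R C q := Ideal.quotientMap _ g hI
  have hχ : χ.comp (algebraMap C (EGA4.FibLocRing R C n)) =
      algebraMap C (EGA4.FibLocRing R C q) := by
    ext x
    rw [RingHom.comp_apply, hψL, RingHom.comp_apply]
    show Ideal.quotientMap _ g hI (Ideal.Quotient.mk _ _) = _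
    rw [Ideal.quotientMap_mk, hg]
    rfl
  -- strict monotonicity of `comap χ`
  have hinj : Function.Injective (PrimeSpectrum.comap χ) := by
    intro x y hxy
    have h1 : x.asIdeal.comap (algebraMap C (EGA4.FibLocRing R C q)) =
        y.asIdeal.comap (algebraMap C (EGA4.FibLocRing R C q)) := by
      rw [← hχ, ← Ideal.comap_comap, ← Ideal.comap_comap]
      exact congrArg (fun z : PrimeSpectrum _ => z.asIdeal.comap _) hxy
    exact PrimeSpectrum.ext (comap_algebraMap_quot_injective q.primeCompl
      (Localization.AtPrime q) _ h1)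
  have hmono : StrictMono (PrimeSpectrum.comap χ) := by
    intro x y hxy
    refine lt_of_le_of_ne ?_ (fun h => hxy.ne (hinj h))
    exact Ideal.comap_mono hxy.le
  -- the closed point goes to `P`
  have hP : PrimeSpectrum.comap χ (closedPoint (EGA4.FibLocRing R C q)) = ⟨P, inferInstance⟩ := by
    apply PrimeSpectrum.ext
    apply comap_algebraMap_quot_injective n.primeCompl (Localization.AtPrime n)
    show ((maximalIdeal (EGA4.FibLocRing R C q)).comap χ).comap
      (algebraMap C (EGA4.FibLocRing R C n)) = P.comap (algebraMap C (EGA4.FibLocRing R C n))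
    rw [Ideal.comap_comap, hχ, comap_maximalIdeal_fibLocRing, hq]
  have h1 := Order.height_le_height_apply_of_strictMono _ hmono
    (closedPoint (EGA4.FibLocRing R C q))
  rw [hP, ← PrimeSpectrum.height_eq_orderHeight, ← PrimeSpectrum.height_eq_orderHeight] at h1
  rw [← IsLocalRing.maximalIdeal_height_eq_ringKrullDim]
  exact_mod_cast h1

/-- If the fibre local ring at `n` is `(S₂)` and the fibre local rings at the primes containing `J`
have dimension `≥ 2`, then the fibre local ring at `n` has `J`-depth `≥ 2`. -/
theorem two_le_idealDepth_fibLocRing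
    (hS2 : HasSk 2 (EGA4.FibLocRing R C n) (EGA4.FibLocRing R C n)) (J : Ideal C)
    (hcodim : ∀ q : PrimeSpectrum C, J ≤ q.asIdeal →
      (2 : WithBot ℕ∞) ≤ ringKrullDim (EGA4.FibLocRing R C q.asIdeal)) :
    2 ≤ idealDepth (J.map (algebraMap C (EGA4.FibLocRing R C n))) (EGA4.FibLocRing R C n) := by
  rw [Groth.Agent.Lib.Helper29.idealDepth_eq_iInf_depth_localization]
  refine le_iInf₂ fun P hP => ?_
  rw [Groth.Agent.Lib.Helper29.depth_localizedModule_self]
  have h1 := (Groth.Agent.Lib.Helper29.hasSk_self_iff 2 (EGA4.FibLocRing R C n)).mp hS2 P.asIdeal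
  refine le_trans (le_min le_rfl ?_) h1
  have hJq : J ≤ P.asIdeal.comap (algebraMap C (EGA4.FibLocRing R C n)) :=
    Ideal.map_le_iff_le_comap.mp hP
  have h2 := hcodim ⟨P.asIdeal.comap (algebraMap C (EGA4.FibLocRing R C n)), inferInstance⟩ hJq
  have h3 := ringKrullDim_fibLocRing_le_height R C n P.asIdeal
    (P.asIdeal.comap (algebraMap C (EGA4.FibLocRing R C n))) rfl
  have h4 : ((2 : ℕ∞) : WithBot ℕ∞) ≤ (P.asIdeal.height : WithBot ℕ∞) := le_trans h2 h3
  exact WithBot.coe_le_coe.mp h4

end Main

end Groth.Agent.Lib.Helper12.FibS2Depth
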