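import Groth.Agent.Lib.Helper12.FlatCxRank3
open CategoryTheory CategoryTheory.Limits MonoidalCategory TensorProduct
universe u
namespace Groth.Agent.Lib.Helper12.FlatCx

section FdBaseChange
variable {A : Type u} [CommRing A]

lemma fd_congr {M N : Type u} [AddCommGroup M] [Module A M] [AddCommGroup N] [Module A N]
    (e : M ≃ₗ[A] N) (x : PrimeSpectrum A) : fd M x = fd N x :=
  (LinearEquiv.baseChange A x.asIdeal.ResidueField M N e).finrank_eq

lemma fd_baseChange {B : Type u} [CommRing B] [Algebra A B] (M : Type u) [AddCommGroup M]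
    [Module A M] (x' : PrimeSpectrum B) :
    fd (B ⊗[A] M) x' = fd M (PrimeSpectrum.comap (algebraMap A B) x') := by
  set x := PrimeSpectrum.comap (algebraMap A B) x'
  set κ := x.asIdeal.ResidueField
  set κ' := x'.asIdeal.ResidueField
  let ψ : κ →+* κ' := Ideal.ResidueField.map x.asIdeal x'.asIdeal (algebraMap A B) rfl
  let _ : Algebra κ κ' := ψ.toAlgebra
  have : IsScalarTower A κ κ' := IsScalarTower.of_algebraMap_eq fun a => by
    rw [IsScalarTower.algebraMap_apply A B κ']
    exact (Ideal.ResidueField.map_algebraMap x.asIdeal x'.asIdeal (algebraMap A B) rfl a).symm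
  let e1 : κ' ⊗[B] (B ⊗[A] M) ≃ₗ[κ'] κ' ⊗[A] M :=
    AlgebraTensorModule.cancelBaseChange A B κ' κ' M
  let e2 : κ' ⊗[κ] (κ ⊗[A] M) ≃ₗ[κ'] κ' ⊗[A] M :=
    AlgebraTensorModule.cancelBaseChange A κ κ' κ' M
  unfold fd
  rw [e1.finrank_eq, ← e2.finrank_eq, Module.finrank_baseChange]

lemma IsLocallyConstant.eq_of_specializes {X Y : Type*} [TopologicalSpace X] {f : X → Y}
    (hf : IsLocallyConstant f) {x y : X} (h : x ⤳ y) : f x = f y := by
  have hopen : IsOpen {z | f z = f y} := hf.isOpen_fiber (f y)
  exact h.mem_open hopen rfl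

/-- Over a reduced ring, a finite module with locally constant fibre dimension is flat. -/
theorem flat_of_fd_isLocallyConstant [IsReduced A] (M : Type u) [AddCommGroup M] [Module A M]
    [Module.Finite A M] (h : IsLocallyConstant (fd (A := A) M)) : Module.Flat A M := by
  apply Module.flat_of_localized_maximal
  intro P hP
  let Ap := Localization.AtPrime P
  let Mp := LocalizedModule P.primeCompl M
  have hfd : ∀ q' : PrimeSpectrum Ap,
      fd Mp q' = fd M (PrimeSpectrum.comap (algebraMap A Ap) q') := fun q' => by
    rw [fd_congr (LocalizedModule.equivTensorProduct P.primeCompl M) q', fd_baseChange]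
  have hfree : Module.Free Ap Mp := by
    apply free_of_fd_eq
    intro q' _
    rw [hfd, hfd]
    apply IsLocallyConstant.eq_of_specializes h
    apply Specializes.map _ (PrimeSpectrum.continuous_comap (algebraMap A Ap))
    exact (PrimeSpectrum.le_iff_specializes _ _).mp
      (IsLocalRing.le_maximalIdeal q'.2.ne_top)
  exact Module.Flat.trans A Ap Mp

end FdBaseChange

section LocConst
variable {A : Type u} [CommRing A] {ι : Type} {c : ComplexShape ι}

theorem dRank_locallyConstant_iff_exact [IsNoetherianRing A]
    (P : HomologicalComplex (ModuleCat.{u} A) c)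
    (hP : ∀ i, Module.Finite A (P.X i) ∧ Module.Flat A (P.X i)) (p q : ι) (hpq : c.Rel p q) :
    ((CohIII.TFun P p).PreservesMonomorphisms ∧ (CohIII.TFun P p).PreservesEpimorphisms →
        IsLocallyConstant (CohIII.dRank P p)) ∧
      (IsReduced A → IsLocallyConstant (CohIII.dRank P p) →
        (CohIII.TFun P p).PreservesMonomorphisms ∧ (CohIII.TFun P p).PreservesEpimorphisms) := by
  have hPf : ∀ i, Module.Finite A (P.X i) := fun i => (hP i).1
  have hPfl : ∀ i, Module.Flat A (P.X i) := fun i => (hP i).2
  have := finite_opcycles P hPf p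
  have := finite_opcycles P hPf q
  have := hPf q
  have := hPfl q
  rw [exact_iff_flat_opcycles P hPfl p q hpq]
  have hr := fd_isLocallyConstant (A := A) (P.X q)
  constructor
  · rintro ⟨h1, h2⟩
    have ha := fd_isLocallyConstant (A := A) (P.opcycles p)
    have hb := fd_isLocallyConstant (A := A) (P.opcycles q)
    rw [IsLocallyConstant.iff_eventually_eq]
    intro x
    filter_upwards [ha.eventually_eq x, hb.eventually_eq x, hr.eventually_eq x] with x' e1 e2 e3
    have d1 := dRank_add P hPf p q hpq x
    have d2 := dRank_add P hPf p q hpq x'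
    omega
  · intro hred hd
    have ha : IsLocallyConstant (fd (A := A) (P.opcycles p)) := by
      rw [IsLocallyConstant.iff_eventually_eq]
      intro x
      filter_upwards [fd_eventually_le (P.opcycles p) x, fd_eventually_le (P.opcycles q) x,
        hr.eventually_eq x, hd.eventually_eq x] with x' e1 e2 e3 e4
      have d1 := dRank_add P hPf p q hpq x
      have d2 := dRank_add P hPf p q hpq x'
      omega
    have hb : IsLocallyConstant (fd (A := A) (P.opcycles q)) := by
      rw [IsLocallyConstant.iff_eventually_eq]
      intro x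
      filter_upwards [fd_eventually_le (P.opcycles p) x, fd_eventually_le (P.opcycles q) x,
        hr.eventually_eq x, hd.eventually_eq x] with x' e1 e2 e3 e4
      have d1 := dRank_add P hPf p q hpq x
      have d2 := dRank_add P hPf p q hpq x'
      omega
    exact ⟨flat_of_fd_isLocallyConstant _ ha, flat_of_fd_isLocallyConstant _ hb⟩

end LocConst
end Groth.Agent.Lib.Helper12.FlatCx
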