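import Mathlib
import Groth.Agent.Lib.Helper12.FlatCxRank4
open TensorProduct
universe u
namespace Groth.Agent.Lib.Helper12.FibreRange
open Groth.Agent.Lib.Helper12.FlatCx

variable {B : Type u} [CommRing B] {K K' : Type u} [AddCommGroup K] [Module B K]
  [AddCommGroup K'] [Module B K'] [Module.Finite B K']

/-- rank of the image of `φ_y` plus fibre dimension of the cokernel equals fibre dimension of the
target. -/
theorem finrank_range_add_fd (φ : K →ₗ[B] K') (y : PrimeSpectrum B) :
    Module.finrank y.asIdeal.ResidueField
      ↥(LinearMap.range (φ.baseChange y.asIdeal.ResidueField)) +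
      fd (K' ⧸ LinearMap.range φ) y = fd K' y := by
  have hex : Function.Exact (φ.baseChange y.asIdeal.ResidueField)
      ((LinearMap.range φ).mkQ.baseChange y.asIdeal.ResidueField) :=
    lTensor_exact y.asIdeal.ResidueField (LinearMap.exact_map_mkQ_range φ)
      (Submodule.mkQ_surjective _)
  have hsurj : Function.Surjective ((LinearMap.range φ).mkQ.baseChange y.asIdeal.ResidueField) :=
    LinearMap.lTensor_surjective y.asIdeal.ResidueField (Submodule.mkQ_surjective _)
  have e := LinearMap.finrank_range_add_finrank_ker
    ((LinearMap.range φ).mkQ.baseChange y.asIdeal.ResidueField)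
  rw [hex.linearMap_ker_eq, LinearMap.range_eq_top.mpr hsurj, finrank_top] at e
  unfold fd
  omega

theorem lowerSemicontinuous_finrank_range [IsNoetherianRing B] [Module.Flat B K']
    (φ : K →ₗ[B] K') :
    LowerSemicontinuous (fun y : PrimeSpectrum B => Module.finrank y.asIdeal.ResidueField
      ↥(LinearMap.range (φ.baseChange y.asIdeal.ResidueField))) := by
  intro x a ha
  have h1 := (fd_isLocallyConstant (A := B) K').eventually_eq x
  have h2 := fd_eventually_le (K' ⧸ LinearMap.range φ) x
  filter_upwards [h1, h2] with x' e1 e2
  have d1 := finrank_range_add_fd φ x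
  have d2 := finrank_range_add_fd φ x'
  simp only at ha ⊢
  omega

theorem projective_coker_and_range [IsNoetherianRing B] [IsReduced B] [Module.Flat B K']
    (φ : K →ₗ[B] K')
    (hconst : ∃ c : ℕ, ∀ y : PrimeSpectrum B, Module.finrank y.asIdeal.ResidueField
      ↥(LinearMap.range (φ.baseChange y.asIdeal.ResidueField)) = c) :
    Module.Projective B (K' ⧸ LinearMap.range φ) ∧ Module.Projective B ↥(LinearMap.range φ) := by
  obtain ⟨c, hc⟩ := hconst
  have hlc : IsLocallyConstant (fd (A := B) (K' ⧸ LinearMap.range φ)) := by
    rw [IsLocallyConstant.iff_eventually_eq]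
    intro x
    filter_upwards [(fd_isLocallyConstant (A := B) K').eventually_eq x] with x' e1
    have d1 := finrank_range_add_fd φ x
    have d2 := finrank_range_add_fd φ x'
    rw [hc] at d1 d2
    omega
  have hflat : Module.Flat B (K' ⧸ LinearMap.range φ) := flat_of_fd_isLocallyConstant _ hlc
  have hfp : Module.FinitePresentation B (K' ⧸ LinearMap.range φ) :=
    Module.finitePresentation_of_finite B _
  have hproj : Module.Projective B (K' ⧸ LinearMap.range φ) :=
    Module.Flat.projective_of_finitePresentation
  have hfp' : Module.FinitePresentation B K' := Module.finitePresentation_of_finite B _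
  have hproj' : Module.Projective B K' := Module.Flat.projective_of_finitePresentation
  refine ⟨hproj, ?_⟩
  obtain ⟨s, hs⟩ := Module.projective_lifting_property (LinearMap.range φ).mkQ LinearMap.id
    (Submodule.mkQ_surjective _)
  have hs' : ∀ z, (LinearMap.range φ).mkQ (s z) = z := fun z => by
    have := congrArg (fun ψ => ψ z) hs
    simpa using this
  have hmem : ∀ x : K', ((LinearMap.id : K' →ₗ[B] K') - s ∘ₗ (LinearMap.range φ).mkQ) x ∈
      LinearMap.range φ := by
    intro x
    rw [← Submodule.Quotient.mk_eq_zero, ← Submodule.mkQ_apply, LinearMap.sub_apply, map_sub,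
      LinearMap.comp_apply, hs']
    simp
  refine Module.Projective.of_split (LinearMap.range φ).subtype
    (LinearMap.codRestrict (LinearMap.range φ)
      ((LinearMap.id : K' →ₗ[B] K') - s ∘ₗ (LinearMap.range φ).mkQ) hmem)
    (LinearMap.ext fun x => ?_)
  apply Subtype.ext
  rw [LinearMap.comp_apply, LinearMap.codRestrict_apply, LinearMap.sub_apply, LinearMap.comp_apply,
    Submodule.subtype_apply]
  have : (LinearMap.range φ).mkQ (x : K') = 0 := by
    rw [Submodule.mkQ_apply, Submodule.Quotient.mk_eq_zero]
    exact x.2
  rw [this, map_zero]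
  simp

end Groth.Agent.Lib.Helper12.FibreRange
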