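import Mathlib
import Groth.Agent.Lib.Helper12.FourTermFlat

/-!
# A map onto a finite flat algebra which is an isomorphism on fibres (helper12)
-/

set_option autoImplicit false
universe u

namespace Groth.Agent.Lib.Helper12.FiniteFlatIso

open TensorProduct

section L
variable {R : Type*} [CommRing R] (k : Type*) [CommRing k] [Algebra R k]
  (hs : Function.Surjective (algebraMap R k)) (M : Type*) [AddCommGroup M] [Module R M]

include hs in
theorem exists_eq_one_tmul (z : k ⊗[R] M) : ∃ y : M, z = (1 : k) ⊗ₜ[R] y := by
  induction z with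
  | zero => exact ⟨0, by simp⟩
  | tmul c y =>
    obtain ⟨r, rfl⟩ := hs c
    refine ⟨r • y, ?_⟩
    rw [Algebra.algebraMap_eq_smul_one, TensorProduct.smul_tmul]
  | add a b ha hb =>
    obtain ⟨y, rfl⟩ := ha
    obtain ⟨y', rfl⟩ := hb
    exact ⟨y + y', by rw [TensorProduct.tmul_add]⟩

include hs in
theorem mem_smul_top_of_one_tmul_eq_zero (y : M) (h : (1 : k) ⊗ₜ[R] y = 0) :
    y ∈ RingHom.ker (algebraMap R k) • (⊤ : Submodule R M) := by
  let e₀ : (R ⧸ RingHom.ker (Algebra.ofId R k)) ≃ₐ[R] k :=
    Ideal.quotientKerAlgEquivOfSurjective (f := Algebra.ofId R k) hs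
  let e : k ⊗[R] M ≃ₗ[R] M ⧸ (RingHom.ker (algebraMap R k) • (⊤ : Submodule R M)) :=
    (TensorProduct.congr e₀.symm.toLinearEquiv (LinearEquiv.refl R M)) ≪≫ₗ
      TensorProduct.quotTensorEquivQuotSMul M (RingHom.ker (algebraMap R k))
  have h1 : e ((1 : k) ⊗ₜ[R] y) = Submodule.Quotient.mk y := by
    simp only [e, LinearEquiv.trans_apply, TensorProduct.congr_tmul, AlgEquiv.toLinearEquiv_apply,
      map_one, LinearEquiv.refl_apply]
    exact TensorProduct.quotTensorEquivQuotSMul_mk_one_tmul _ y
  rw [h, map_zero] at h1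
  exact (Submodule.Quotient.mk_eq_zero _).mp h1.symm

end L

/-- A finite module which equals `m • ⊤` for every maximal ideal is zero. -/
theorem subsingleton_of_forall_maximal {R M : Type*} [CommRing R] [AddCommGroup M] [Module R M]
    [Module.Finite R M]
    (h : ∀ (m : Ideal R) [m.IsMaximal], (⊤ : Submodule R M) ≤ m • (⊤ : Submodule R M)) :
    Subsingleton M := by
  by_contra hne
  have hann : Module.annihilator R M ≠ ⊤ := by
    intro htop
    exact hne (Module.annihilator_eq_top_iff.mp htop)
  obtain ⟨m, hm, hle⟩ := Ideal.exists_le_maximal _ hann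
  obtain ⟨r, hr1, hr⟩ := Submodule.exists_sub_one_mem_and_smul_eq_zero_of_fg_of_le_smul m
    (⊤ : Submodule R M) Module.Finite.fg_top (h m)
  have hrann : r ∈ Module.annihilator R M :=
    Module.mem_annihilator.mpr (fun x => hr x trivial)
  have : (1 : R) ∈ m := by
    have := m.sub_mem (hle hrann) hr1
    simpa using this
  exact hm.ne_top ((Ideal.eq_top_iff_one _).mpr this)

/-- Step 1: surjectivity from surjectivity on closed fibres. -/
theorem surjective_of_forall_maximal {R A B : Type*} [CommRing R] [CommRing A] [CommRing B]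
    [Algebra R A] [Algebra R B] [Module.Finite R A] (f : B →ₐ[R] A)
    (hmax : ∀ (m : Ideal R) [m.IsMaximal],
      Function.Surjective (LinearMap.lTensor m.ResidueField f.toLinearMap)) :
    Function.Surjective f := by
  set N : Submodule R A := LinearMap.range f.toLinearMap with hN
  haveI : Subsingleton (A ⧸ N) := by
    apply subsingleton_of_forall_maximal (R := R)
    intro m _
    rintro x -
    obtain ⟨a, rfl⟩ := Submodule.Quotient.mk_surjective N x
    have hs := Ideal.algebraMap_residueField_surjective m
    obtain ⟨z, hz⟩ := hmax m ((1 : m.ResidueField) ⊗ₜ[R] a)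
    obtain ⟨b, rfl⟩ := exists_eq_one_tmul m.ResidueField hs B z
    rw [LinearMap.lTensor_tmul] at hz
    have h0 : (1 : m.ResidueField) ⊗ₜ[R] (a - f b) = 0 := by
      rw [TensorProduct.tmul_sub, ← hz]
      simp
    have hmem := mem_smul_top_of_one_tmul_eq_zero m.ResidueField hs A (a - f b) h0
    rw [Ideal.ker_algebraMap_residueField] at hmem
    have hmk : (Submodule.Quotient.mk a : A ⧸ N) = Submodule.Quotient.mk (a - f b) := by
      rw [Submodule.Quotient.mk_sub]
      have : (Submodule.Quotient.mk (f b) : A ⧸ N) = 0 :=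
        (Submodule.Quotient.mk_eq_zero N).mpr ⟨b, rfl⟩
      rw [this, sub_zero]
    rw [hmk]
    have hmap : (m • (⊤ : Submodule R A)).map N.mkQ = m • (⊤ : Submodule R (A ⧸ N)) := by
      rw [Submodule.map_smul'', Submodule.map_top, Submodule.range_mkQ]
    rw [← hmap]
    exact Submodule.mem_map_of_mem hmem
  intro a
  have : (Submodule.Quotient.mk a : A ⧸ N) = 0 := Subsingleton.elim _ _
  obtain ⟨b, hb⟩ := (Submodule.Quotient.mk_eq_zero N).mp this
  exact ⟨b, hb⟩

/-- Step 2, local form. -/
theorem local_key {R₀ A₀ B₀ : Type u} [CommRing R₀] [IsLocalRing R₀] [CommRing A₀] [CommRing B₀]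
    [Algebra R₀ A₀] [Algebra R₀ B₀] [Module.Finite R₀ A₀] [Module.Flat R₀ A₀]
    [Algebra.FiniteType R₀ B₀] (f₀ : B₀ →ₐ[R₀] A₀) (hsurj : Function.Surjective f₀)
    (hinj : Function.Injective
      (LinearMap.lTensor (IsLocalRing.ResidueField R₀) f₀.toLinearMap)) :
    ∃ b : B₀, b - 1 ∈ (IsLocalRing.maximalIdeal R₀).map (algebraMap R₀ B₀) ∧
      ∀ y, f₀ y = 0 → b * y = 0 := by
  haveI : Module.Free R₀ A₀ := Module.free_of_flat_of_isLocalRing
  haveI : Module.FinitePresentation R₀ A₀ := Module.finitePresentation_of_projective R₀ A₀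
  haveI : Algebra.FinitePresentation R₀ A₀ := inferInstance
  -- the kernel is finitely generated
  have hKfg : (RingHom.ker f₀.toRingHom).FG := by
    obtain ⟨n, g, hg⟩ := Algebra.FiniteType.iff_quotient_mvPolynomial''.mp
      (inferInstance : Algebra.FiniteType R₀ B₀)
    have h1 := Algebra.FinitePresentation.ker_fg_of_mvPolynomial (f₀.comp g) (hsurj.comp hg)
    have h2 : RingHom.ker f₀.toRingHom =
        (RingHom.ker (f₀.comp g).toRingHom).map g.toRingHom := by
      simp_rw [RingHom.ker_eq_comap_bot, AlgHom.toRingHom_eq_coe, AlgHom.comp_toRingHom]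
      rw [← Ideal.comap_comap,
        Ideal.map_comap_of_surjective (g : MvPolynomial (Fin n) R₀ →+* B₀) hg]
    rw [h2]
    exact h1.map _
  -- the kernel lies in `m B₀`
  have hres : Function.Surjective (algebraMap R₀ (IsLocalRing.ResidueField R₀)) :=
    IsLocalRing.residue_surjective
  have hker : RingHom.ker (algebraMap R₀ (IsLocalRing.ResidueField R₀)) =
      IsLocalRing.maximalIdeal R₀ := IsLocalRing.ker_residue
  have hKm : ∀ y, f₀ y = 0 → y ∈ (IsLocalRing.maximalIdeal R₀).map (algebraMap R₀ B₀) := by
    intro y hy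
    have h0 : (1 : IsLocalRing.ResidueField R₀) ⊗ₜ[R₀] y = 0 := by
      apply hinj
      rw [LinearMap.lTensor_tmul, map_zero]
      change (1 : IsLocalRing.ResidueField R₀) ⊗ₜ[R₀] (f₀ y) = 0
      rw [hy, TensorProduct.tmul_zero]
    have hmem := mem_smul_top_of_one_tmul_eq_zero (IsLocalRing.ResidueField R₀) hres B₀ y h0
    rw [hker, Ideal.smul_top_eq_map] at hmem
    exact hmem
  -- purity
  letI : Algebra B₀ A₀ := f₀.toRingHom.toAlgebra
  haveI : IsScalarTower R₀ B₀ A₀ := IsScalarTower.of_algebraMap_eq (fun r => (f₀.commutes r).symm)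
  set K : Ideal B₀ := RingHom.ker f₀.toRingHom with hK
  have hpure : ∀ z : K, z ∈ (IsLocalRing.maximalIdeal R₀).map (algebraMap R₀ B₀) •
      (⊤ : Submodule B₀ K) := by
    intro z
    apply Groth.Agent.Lib.Helper12.FourTermFlat.mem_smul_top_of_flat_coker (A := R₀) (B := B₀)
      (Submodule.subtype K) (Algebra.linearMap B₀ A₀) (Submodule.injective_subtype K)
      ?_ hsurj (IsLocalRing.maximalIdeal R₀) z ?_
    · intro y
      constructor
      · intro hy
        exact ⟨⟨y, hy⟩, rfl⟩
      · rintro ⟨w, rfl⟩
        exact w.2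
    · rw [Ideal.smul_top_eq_map, Algebra.algebraMap_self, Ideal.map_id]
      exact hKm z.1 z.2
  -- Nakayama
  haveI : Module.Finite B₀ K := Module.Finite.iff_fg.mpr hKfg
  obtain ⟨r, hr1, hr⟩ := Submodule.exists_sub_one_mem_and_smul_eq_zero_of_fg_of_le_smul
    ((IsLocalRing.maximalIdeal R₀).map (algebraMap R₀ B₀)) (⊤ : Submodule B₀ K)
    Module.Finite.fg_top (fun z _ => hpure z)
  refine ⟨r, hr1, fun y hy => ?_⟩
  have := hr ⟨y, hy⟩ trivial
  exact congrArg Subtype.val this

section glob
variable {R A B : Type u} [CommRing R] [CommRing A] [CommRing B] [Algebra R A] [Algebra R B]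

/-- transfer of fibrewise injectivity to the localized base. -/
theorem lTensor_localized_injective (f : B →ₐ[R] A) (p : Ideal R) [p.IsPrime]
    (hκ : Function.Injective (LinearMap.lTensor p.ResidueField f.toLinearMap)) :
    Function.Injective (LinearMap.lTensor (IsLocalRing.ResidueField (Localization.AtPrime p))
      (Algebra.TensorProduct.map (AlgHom.id (Localization.AtPrime p) (Localization.AtPrime p))
        f).toLinearMap) := by
  have hcomm : (AlgebraTensorModule.cancelBaseChange R (Localization.AtPrime p)
        (Localization.AtPrime p) (IsLocalRing.ResidueField (Localization.AtPrime p)) A).toLinearMap ∘ₗ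
      LinearMap.lTensor (IsLocalRing.ResidueField (Localization.AtPrime p))
        (Algebra.TensorProduct.map (AlgHom.id (Localization.AtPrime p) (Localization.AtPrime p))
          f).toLinearMap =
      (AlgebraTensorModule.lTensor (Localization.AtPrime p)
        (IsLocalRing.ResidueField (Localization.AtPrime p)) f.toLinearMap) ∘ₗ
      (AlgebraTensorModule.cancelBaseChange R (Localization.AtPrime p)
        (Localization.AtPrime p) (IsLocalRing.ResidueField (Localization.AtPrime p))
          B).toLinearMap := by
    ext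
    simp
  intro z w hzw
  apply (AlgebraTensorModule.cancelBaseChange R (Localization.AtPrime p)
        (Localization.AtPrime p) (IsLocalRing.ResidueField (Localization.AtPrime p)) B).injective
  apply hκ
  have h1 := LinearMap.congr_fun hcomm z
  have h2 := LinearMap.congr_fun hcomm w
  simp only [LinearMap.coe_comp, LinearEquiv.coe_coe, Function.comp_apply] at h1 h2
  change (AlgebraTensorModule.lTensor (Localization.AtPrime p)
        (IsLocalRing.ResidueField (Localization.AtPrime p)) f.toLinearMap) _ =
    (AlgebraTensorModule.lTensor (Localization.AtPrime p)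
        (IsLocalRing.ResidueField (Localization.AtPrime p)) f.toLinearMap) _
  rw [← h1, ← h2, hzw]

end glob

section glob2
variable {R A B : Type u} [CommRing R] [CommRing A] [CommRing B] [Algebra R A] [Algebra R B]
  [Module.Finite R A] [Module.Flat R A] [Algebra.FiniteType R B]

theorem exists_notMem_mul_eq_zero (f : B →ₐ[R] A) (hsurj : Function.Surjective f)
    (q : Ideal B) [q.IsPrime] (p : Ideal R) [p.IsPrime] [q.LiesOver p]
    (hκ : Function.Injective (LinearMap.lTensor p.ResidueField f.toLinearMap)) (x : B)
    (hx : f x = 0) : ∃ s : B, s ∉ q ∧ s * x = 0 := by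
  set fp := Algebra.TensorProduct.map (AlgHom.id (Localization.AtPrime p) (Localization.AtPrime p))
    f with hfp
  have hfpsurj : Function.Surjective fp := by
    intro z
    induction z with
    | zero => exact ⟨0, map_zero _⟩
    | tmul c a =>
      obtain ⟨b, rfl⟩ := hsurj a
      exact ⟨c ⊗ₜ b, by simp [hfp]⟩
    | add z w hz hw =>
      obtain ⟨z', rfl⟩ := hz
      obtain ⟨w', rfl⟩ := hw
      exact ⟨z' + w', map_add _ _ _⟩
  obtain ⟨b, hb1, hb⟩ := local_key fp hfpsurj (lTensor_localized_injective f p hκ)
  have hb0 : b * ((1 : Localization.AtPrime p) ⊗ₜ[R] x) = 0 := by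
    apply hb
    simp [hfp, hx]
  -- write `b` as a fraction
  obtain ⟨⟨b', r⟩, hr⟩ := IsLocalizedModule.surj p.primeCompl
    (TensorProduct.mk R (Localization.AtPrime p) B 1) b
  simp only [TensorProduct.mk_apply] at hr
  have h1 : (1 : Localization.AtPrime p) ⊗ₜ[R] (b' * x) = 0 := by
    have : (1 : Localization.AtPrime p) ⊗ₜ[R] (b' * x) =
        ((1 : Localization.AtPrime p) ⊗ₜ[R] b') * ((1 : Localization.AtPrime p) ⊗ₜ[R] x) := by
      rw [Algebra.TensorProduct.tmul_mul_tmul, one_mul]
    rw [this, ← hr, smul_mul_assoc, hb0, smul_zero]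
  obtain ⟨r', hr'⟩ := (IsLocalizedModule.eq_zero_iff p.primeCompl
    (TensorProduct.mk R (Localization.AtPrime p) B 1)).mp h1
  refine ⟨algebraMap R B r'.1 * b', ?_, ?_⟩
  · -- not in `q`
    intro hmem
    have hr'q : algebraMap R B r'.1 ∉ q := by
      intro h
      have : r'.1 ∈ q.under R := h
      rw [← Ideal.LiesOver.over (p := p) (P := q)] at this
      exact r'.2 this
    have hb'q : b' ∈ q := (Ideal.IsPrime.mem_or_mem inferInstance hmem).resolve_left hr'q
    -- the map to the local ring of `q`
    letI := Localization.AtPrime.algebraOfLiesOver p q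
    let θ : Localization.AtPrime p ⊗[R] B →ₐ[R] Localization.AtPrime q :=
      Algebra.TensorProduct.lift
        (IsScalarTower.toAlgHom R (Localization.AtPrime p) (Localization.AtPrime q))
        (IsScalarTower.toAlgHom R B (Localization.AtPrime q)) (fun _ _ => Commute.all _ _)
    have hθm : ∀ y ∈ (IsLocalRing.maximalIdeal (Localization.AtPrime p)).map
        (algebraMap (Localization.AtPrime p) (Localization.AtPrime p ⊗[R] B)),
        θ y ∈ IsLocalRing.maximalIdeal (Localization.AtPrime q) := by
      intro y hy
      have hle : (IsLocalRing.maximalIdeal (Localization.AtPrime p)).map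
          (algebraMap (Localization.AtPrime p) (Localization.AtPrime p ⊗[R] B)) ≤
          (IsLocalRing.maximalIdeal (Localization.AtPrime q)).comap θ.toRingHom := by
        rw [Ideal.map_le_iff_le_comap]
        intro c hc
        rw [Ideal.mem_comap, Ideal.mem_comap]
        change θ (algebraMap _ _ c) ∈ _
        rw [Algebra.TensorProduct.algebraMap_apply, Algebra.algebraMap_self, RingHom.id_apply]
        simp only [θ, Algebra.TensorProduct.lift_tmul, map_one, mul_one]
        change algebraMap (Localization.AtPrime p) (Localization.AtPrime q) c ∈ _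
        rw [IsLocalRing.mem_maximalIdeal, mem_nonunits_iff] at hc ⊢
        exact fun hu => hc (isUnit_of_map_unit _ c hu)
      exact hle hy
    have hθb : IsUnit (θ b) := by
      rw [← IsLocalRing.notMem_maximalIdeal]
      intro hmem'
      have h2 := hθm _ hb1
      rw [map_sub, map_one] at h2
      have : (1 : Localization.AtPrime q) ∈ IsLocalRing.maximalIdeal (Localization.AtPrime q) := by
        have := (IsLocalRing.maximalIdeal (Localization.AtPrime q)).sub_mem hmem' h2
        simpa using this
      exact (IsLocalRing.maximalIdeal.isMaximal _).ne_top ((Ideal.eq_top_iff_one _).mpr this)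
    have hrq : algebraMap R B r.1 ∉ q := by
      intro h
      have : r.1 ∈ q.under R := h
      rw [← Ideal.LiesOver.over (p := p) (P := q)] at this
      exact r.2 this
    have h3 : θ ((r : R) • b) = algebraMap B (Localization.AtPrime q) (algebraMap R B r.1) * θ b := by
      rw [map_smul, Algebra.smul_def, IsScalarTower.algebraMap_apply R B (Localization.AtPrime q)]
    have h4 : θ ((1 : Localization.AtPrime p) ⊗ₜ[R] b') = algebraMap B (Localization.AtPrime q) b' := by
      simp [θ]
    have hu : IsUnit (algebraMap B (Localization.AtPrime q) b') := by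
      rw [← h4, ← hr]
      change IsUnit (θ ((r : R) • b))
      rw [h3]
      exact (IsLocalization.map_units (Localization.AtPrime q)
        (⟨algebraMap R B r.1, hrq⟩ : q.primeCompl)).mul hθb
    have hnu : algebraMap B (Localization.AtPrime q) b' ∈
        IsLocalRing.maximalIdeal (Localization.AtPrime q) :=
      (IsLocalization.AtPrime.to_map_mem_maximal_iff (Localization.AtPrime q) q b').mpr hb'q
    exact (IsLocalRing.mem_maximalIdeal _).mp hnu hu
  · have : (r' : R) • (b' * x) = 0 := hr'
    rw [mul_assoc, ← Algebra.smul_def]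
    exact this

end glob2

end Groth.Agent.Lib.Helper12.FiniteFlatIso
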