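import Groth.Prelude.Def_ega3
import Mathlib

/-!
# Helper library: homological functors `T_p(M) = H_p(P ⊗_A M)` of a complex of flat modules.
-/

namespace Groth.Agent.Lib.Helper12.FlatCx

open CategoryTheory CategoryTheory.Limits MonoidalCategory

universe u

variable {A : Type u} [CommRing A] {ι : Type} {c : ComplexShape ι}

lemma tensorMap_f (P : HomologicalComplex (ModuleCat.{u} A) c) {M N : ModuleCat.{u} A} (g : M ⟶ N)
    (i : ι) : (CohIII.tensorMap P g).f i = P.X i ◁ g := rfl

lemma tensorObj_X (P : HomologicalComplex (ModuleCat.{u} A) c) (M : ModuleCat.{u} A)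
    (i : ι) : (CohIII.tensorObj P M).X i = P.X i ⊗ M := rfl

lemma tensorObj_d (P : HomologicalComplex (ModuleCat.{u} A) c) (M : ModuleCat.{u} A)
    (i j : ι) : (CohIII.tensorObj P M).d i j = P.d i j ▷ M := rfl

lemma TFun_map (P : HomologicalComplex (ModuleCat.{u} A) c) (p : ι) {M N : ModuleCat.{u} A}
    (g : M ⟶ N) :
    (CohIII.TFun P p).map g = HomologicalComplex.homologyMap (CohIII.tensorMap P g) p := rfl

lemma TFun_obj (P : HomologicalComplex (ModuleCat.{u} A) c) (p : ι) (M : ModuleCat.{u} A) :
    (CohIII.TFun P p).obj M = (CohIII.tensorObj P M).homology p := rfl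

/-- The short complex of complexes `P ⊗ S`. -/
noncomputable def tensorSC (P : HomologicalComplex (ModuleCat.{u} A) c)
    (S : ShortComplex (ModuleCat.{u} A)) : ShortComplex (HomologicalComplex (ModuleCat.{u} A) c) :=
  ShortComplex.mk (CohIII.tensorMap P S.f) (CohIII.tensorMap P S.g) (by
    ext i : 1
    change (P.X i ◁ S.f ≫ P.X i ◁ S.g : P.X i ⊗ S.X₁ ⟶ P.X i ⊗ S.X₃) = 0
    rw [← MonoidalCategory.whiskerLeft_comp, S.zero, MonoidalPreadditive.whiskerLeft_zero])

lemma tensorSC_shortExact (P : HomologicalComplex (ModuleCat.{u} A) c)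
    (hP : ∀ i, Module.Flat A (P.X i))
    (S : ShortComplex (ModuleCat.{u} A)) (hS : S.ShortExact) : (tensorSC P S).ShortExact := by
  apply HomologicalComplex.shortExact_of_degreewise_shortExact
  intro i
  have hex : Function.Exact S.f.hom S.g.hom :=
    (ShortComplex.ShortExact.moduleCat_exact_iff_function_exact S).mp hS.exact
  have hinj : Function.Injective S.f.hom := (ModuleCat.mono_iff_injective _).mp hS.mono_f
  have hsurj : Function.Surjective S.g.hom := (ModuleCat.epi_iff_surjective _).mp hS.epi_g
  have := hP i
  apply ModuleCat.shortComplex_shortExact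
  · show Function.Exact (P.X i ◁ S.f).hom (P.X i ◁ S.g).hom
    rw [ModuleCat.hom_whiskerLeft, ModuleCat.hom_whiskerLeft]
    exact lTensor_exact _ hex hsurj
  · show Function.Injective (P.X i ◁ S.f).hom
    rw [ModuleCat.hom_whiskerLeft]
    exact Module.Flat.lTensor_preserves_injective_linearMap _ hinj
  · show Function.Surjective (P.X i ◁ S.g).hom
    rw [ModuleCat.hom_whiskerLeft]
    exact LinearMap.lTensor_surjective _ hsurj

/-- `T_p` preserves epimorphisms iff `T_q` preserves monomorphisms, when `c.Rel p q`. -/
theorem preservesEpi_iff_preservesMono_of_rel (P : HomologicalComplex (ModuleCat.{u} A) c)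
    (hP : ∀ i, Module.Flat A (P.X i)) (p q : ι) (hpq : c.Rel p q) :
    (CohIII.TFun P p).PreservesEpimorphisms ↔ (CohIII.TFun P q).PreservesMonomorphisms := by
  constructor
  · intro h
    refine ⟨fun {M' M} f hf => ?_⟩
    let S : ShortComplex (ModuleCat.{u} A) :=
      ShortComplex.mk f (cokernel.π f) (cokernel.condition f)
    have hS : S.ShortExact :=
      { exact := ShortComplex.exact_cokernel f, mono_f := hf, epi_g := inferInstance }
    have hT := tensorSC_shortExact P hP S hS
    have h3 := hT.homology_exact₃ p q hpq
    have h1 := hT.homology_exact₁ p q hpq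
    have : Epi (HomologicalComplex.homologyMap (tensorSC P S).g p) :=
      h.preserves (cokernel.π f)
    have hδ : hT.δ p q hpq = 0 := (h3.epi_f_iff).mp this
    exact (h1.mono_g_iff).mpr hδ
  · intro h
    refine ⟨fun {M M''} g hg => ?_⟩
    let S : ShortComplex (ModuleCat.{u} A) :=
      ShortComplex.mk (kernel.ι g) g (kernel.condition g)
    have hS : S.ShortExact :=
      { exact := ShortComplex.exact_kernel g, mono_f := inferInstance, epi_g := hg }
    have hT := tensorSC_shortExact P hP S hS
    have h3 := hT.homology_exact₃ p q hpq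
    have h1 := hT.homology_exact₁ p q hpq
    have : Mono (HomologicalComplex.homologyMap (tensorSC P S).f q) :=
      h.preserves (kernel.ι g)
    have hδ : hT.δ p q hpq = 0 := (h1.mono_g_iff).mp this
    exact (h3.epi_f_iff).mpr hδ

section Opcycles

variable (P : HomologicalComplex (ModuleCat.{u} A) c) (p : ι)

/-- `opcycles (P ⊗ M) ≅ opcycles P ⊗ M`, since `- ⊗ M` preserves cokernels. -/
noncomputable def opcyclesTensorIso (M : ModuleCat.{u} A) :
    (CohIII.tensorObj P M).opcycles p ≅ P.opcycles p ⊗ M :=
  IsColimit.coconePointUniqueUpToIso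
    ((CohIII.tensorObj P M).opcyclesIsCokernel (c.prev p) p rfl)
    (CokernelCofork.mapIsColimit _ (P.opcyclesIsCokernel (c.prev p) p rfl) (tensorRight M))

@[reassoc]
lemma pOpcycles_opcyclesTensorIso_hom (M : ModuleCat.{u} A) :
    (CohIII.tensorObj P M).pOpcycles p ≫ (opcyclesTensorIso P p M).hom = P.pOpcycles p ▷ M :=
  IsColimit.comp_coconePointUniqueUpToIso_hom
    ((CohIII.tensorObj P M).opcyclesIsCokernel (c.prev p) p rfl)
    (CokernelCofork.mapIsColimit _ (P.opcyclesIsCokernel (c.prev p) p rfl) (tensorRight M))
    WalkingParallelPair.one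

@[reassoc]
lemma opcyclesTensorIso_hom_naturality {M N : ModuleCat.{u} A} (f : M ⟶ N) :
    HomologicalComplex.opcyclesMap (CohIII.tensorMap P f) p ≫ (opcyclesTensorIso P p N).hom =
      (opcyclesTensorIso P p M).hom ≫ P.opcycles p ◁ f := by
  rw [← cancel_epi ((CohIII.tensorObj P M).pOpcycles p), HomologicalComplex.p_opcyclesMap_assoc]
  have h1 := pOpcycles_opcyclesTensorIso_hom P p N
  have h2 := pOpcycles_opcyclesTensorIso_hom_assoc P p M (P.opcycles p ◁ f)
  rw [h2, h1]
  exact whisker_exchange (P.pOpcycles p) f

lemma mono_opcyclesMap_iff {M N : ModuleCat.{u} A} (f : M ⟶ N) :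
    Mono (HomologicalComplex.opcyclesMap (CohIII.tensorMap P f) p) ↔ Mono (P.opcycles p ◁ f) := by
  have h := opcyclesTensorIso_hom_naturality P p f
  constructor
  · intro _
    have : Mono ((opcyclesTensorIso P p M).hom ≫ P.opcycles p ◁ f) := by
      rw [← h]; infer_instance
    have e : P.opcycles p ◁ f = (opcyclesTensorIso P p M).inv ≫
        ((opcyclesTensorIso P p M).hom ≫ P.opcycles p ◁ f) := by simp
    rw [e]; infer_instance
  · intro _
    have : Mono (HomologicalComplex.opcyclesMap (CohIII.tensorMap P f) p ≫
        (opcyclesTensorIso P p N).hom) := by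
      rw [h]; infer_instance
    exact mono_of_mono _ (opcyclesTensorIso P p N).hom

lemma mono_whiskerLeft_iff (W : ModuleCat.{u} A) {M N : ModuleCat.{u} A} (f : M ⟶ N) :
    Mono (W ◁ f) ↔ Function.Injective (f.hom.lTensor W) := by
  rw [ModuleCat.mono_iff_injective]
  rfl

lemma opcyclesMap_fromOpcycles {K L : HomologicalComplex (ModuleCat.{u} A) c} (φ : K ⟶ L)
    (i j : ι) :
    HomologicalComplex.opcyclesMap φ i ≫ L.fromOpcycles i j = K.fromOpcycles i j ≫ φ.f j := by
  rw [← cancel_epi (K.pOpcycles i), HomologicalComplex.p_opcyclesMap_assoc,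
    HomologicalComplex.p_fromOpcycles, HomologicalComplex.p_fromOpcycles_assoc, φ.comm]

/-- `T_p` preserves monomorphisms iff the `p`-th opcycles of `P` are flat. -/
theorem preservesMono_iff_flat_opcycles (hP : ∀ i, Module.Flat A (P.X i)) :
    (CohIII.TFun P p).PreservesMonomorphisms ↔ Module.Flat A (P.opcycles p) := by
  constructor
  · intro h
    rw [Module.Flat.iff_lTensor_preserves_injective_linearMap'.{u}]
    intro N N' _ _ _ _ f hf
    let g : ModuleCat.of A N ⟶ ModuleCat.of A N' := ModuleCat.ofHom f
    have hg : Mono g := (ModuleCat.mono_iff_injective _).mpr hf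
    have hT : Mono (HomologicalComplex.homologyMap (CohIII.tensorMap P g) p) := h.preserves g
    have hj : Mono ((CohIII.tensorMap P g).f (c.next p)) := by
      have := hP (c.next p)
      exact (mono_whiskerLeft_iff _ g).mpr
        (Module.Flat.lTensor_preserves_injective_linearMap _ hf)
    have hm : Mono (HomologicalComplex.opcyclesMap (CohIII.tensorMap P g) p) := by
      apply Preadditive.mono_of_cancel_zero
      intro Z z hz
      have hz1 : z ≫ (CohIII.tensorObj P (ModuleCat.of A N)).fromOpcycles p (c.next p) = 0 := by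
        rw [← cancel_mono ((CohIII.tensorMap P g).f (c.next p)), Category.assoc,
          ← opcyclesMap_fromOpcycles, reassoc_of% hz, zero_comp, zero_comp]
      let hk := (CohIII.tensorObj P (ModuleCat.of A N)).homologyIsKernel p (c.next p) rfl
      obtain ⟨z', hz'⟩ := KernelFork.IsLimit.lift' hk z hz1
      have hz'' : z' ≫ (CohIII.tensorObj P (ModuleCat.of A N)).homologyι p = z := hz'
      have : z' = 0 := by
        rw [← cancel_mono (HomologicalComplex.homologyMap (CohIII.tensorMap P g) p),
          ← cancel_mono ((CohIII.tensorObj P (ModuleCat.of A N')).homologyι p), Category.assoc,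
          HomologicalComplex.homologyι_naturality, reassoc_of% hz'', hz, zero_comp, zero_comp]
      rw [← hz'', this, zero_comp]
    exact (mono_whiskerLeft_iff _ g).mp ((mono_opcyclesMap_iff P p g).mp hm)
  · intro h
    refine ⟨fun {M N} f hf => ?_⟩
    have hinj := (ModuleCat.mono_iff_injective _).mp hf
    have hm : Mono (HomologicalComplex.opcyclesMap (CohIII.tensorMap P f) p) := by
      rw [mono_opcyclesMap_iff, mono_whiskerLeft_iff]
      exact Module.Flat.lTensor_preserves_injective_linearMap _ hinj
    have : Mono (HomologicalComplex.homologyMap (CohIII.tensorMap P f) p ≫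
        (CohIII.tensorObj P N).homologyι p) := by
      rw [HomologicalComplex.homologyι_naturality]; infer_instance
    show Mono (HomologicalComplex.homologyMap (CohIII.tensorMap P f) p)
    exact mono_of_mono _ ((CohIII.tensorObj P N).homologyι p)

end Opcycles

section LocalCrit

variable (P : HomologicalComplex (ModuleCat.{u} A) c) (p : ι)

/-- If `T_p(f)` is a monomorphism for a monomorphism `f`, then `Z'_p ⊗ f` is a monomorphism. -/
lemma mono_whiskerLeft_opcycles_of_mono_TFun_map (hP : ∀ i, Module.Flat A (P.X i))
    {M N : ModuleCat.{u} A} (g : M ⟶ N) [hg : Mono g]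
    (hT : Mono ((CohIII.TFun P p).map g)) : Mono (P.opcycles p ◁ g) := by
  have hT : Mono (HomologicalComplex.homologyMap (CohIII.tensorMap P g) p) := hT
  have hf := (ModuleCat.mono_iff_injective _).mp hg
  have hj : Mono ((CohIII.tensorMap P g).f (c.next p)) := by
    have := hP (c.next p)
    exact (mono_whiskerLeft_iff _ g).mpr
      (Module.Flat.lTensor_preserves_injective_linearMap _ hf)
  have hm : Mono (HomologicalComplex.opcyclesMap (CohIII.tensorMap P g) p) := by
    apply Preadditive.mono_of_cancel_zero
    intro Z z hz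
    have hz1 : z ≫ (CohIII.tensorObj P M).fromOpcycles p (c.next p) = 0 := by
      rw [← cancel_mono ((CohIII.tensorMap P g).f (c.next p)), Category.assoc,
        ← opcyclesMap_fromOpcycles, reassoc_of% hz, zero_comp, zero_comp]
    let hk := (CohIII.tensorObj P M).homologyIsKernel p (c.next p) rfl
    obtain ⟨z', hz'⟩ := KernelFork.IsLimit.lift' hk z hz1
    have hz'' : z' ≫ (CohIII.tensorObj P M).homologyι p = z := hz'
    have : z' = 0 := by
      rw [← cancel_mono (HomologicalComplex.homologyMap (CohIII.tensorMap P g) p),
        ← cancel_mono ((CohIII.tensorObj P N).homologyι p), Category.assoc,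
        HomologicalComplex.homologyι_naturality, reassoc_of% hz'', hz, zero_comp, zero_comp]
    rw [← hz'', this, zero_comp]
  exact (mono_opcyclesMap_iff P p g).mp hm

variable [IsLocalRing A]

/-- The short exact sequence `0 → 𝔪 → A → k → 0`. -/
noncomputable def residueSC (A : Type u) [CommRing A] [IsLocalRing A] :
    ShortComplex (ModuleCat.{u} A) :=
  ShortComplex.mk
    (ModuleCat.ofHom (IsLocalRing.maximalIdeal A).subtype :
      ModuleCat.of A (IsLocalRing.maximalIdeal A) ⟶ ModuleCat.of A A)
    (ModuleCat.ofHom (Algebra.linearMap A (IsLocalRing.ResidueField A)) :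
      ModuleCat.of A A ⟶ ModuleCat.of A (IsLocalRing.ResidueField A))
    (by
      ext x
      exact (IsLocalRing.residue_eq_zero_iff _).mpr x.2)

lemma residueSC_shortExact (A : Type u) [CommRing A] [IsLocalRing A] :
    (residueSC A).ShortExact := by
  apply ModuleCat.shortComplex_shortExact
  · intro (x : A)
    show IsLocalRing.residue A x = 0 ↔ x ∈ Set.range (IsLocalRing.maximalIdeal A).subtype
    rw [IsLocalRing.residue_eq_zero_iff]
    simp
  · exact Subtype.val_injective
  · exact (IsLocalRing.residue_surjective : Function.Surjective (IsLocalRing.residue A))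

/-- Over a Noetherian local ring, for a complex of finite flat modules:
`T_p(A) → T_p(k)` surjective iff `T_p` preserves epimorphisms. -/
theorem preservesEpi_iff_surjective_residue [IsNoetherianRing A]
    (hP : ∀ i, Module.Finite A (P.X i) ∧ Module.Flat A (P.X i)) (p q : ι) (hpq : c.Rel p q) :
    (CohIII.TFun P p).PreservesEpimorphisms ↔
      Function.Surjective ((CohIII.TFun P p).map (ModuleCat.ofHom
        (Algebra.linearMap A (IsLocalRing.ResidueField A)))).hom := by
  have hPf : ∀ i, Module.Flat A (P.X i) := fun i => (hP i).2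
  constructor
  · intro h
    have : Epi (ModuleCat.ofHom (Algebra.linearMap A (IsLocalRing.ResidueField A))) :=
      (ModuleCat.epi_iff_surjective _).mpr IsLocalRing.residue_surjective
    exact (ModuleCat.epi_iff_surjective _).mp (h.preserves _)
  · intro h
    rw [preservesEpi_iff_preservesMono_of_rel P hPf p q hpq,
      preservesMono_iff_flat_opcycles P q hPf]
    have hT := tensorSC_shortExact P hPf (residueSC A) (residueSC_shortExact A)
    have h3 := hT.homology_exact₃ p q hpq
    have h1 := hT.homology_exact₁ p q hpq
    have : Epi (HomologicalComplex.homologyMap (tensorSC P (residueSC A)).g p) :=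
      (ModuleCat.epi_iff_surjective _).mpr h
    have hδ : hT.δ p q hpq = 0 := (h3.epi_f_iff).mp this
    have hm : Mono ((CohIII.TFun P q).map (residueSC A).f) := (h1.mono_g_iff).mpr hδ
    have : Mono (residueSC A).f := (residueSC_shortExact A).mono_f
    have hW := mono_whiskerLeft_opcycles_of_mono_TFun_map P q hPf (residueSC A).f hm
    rw [mono_whiskerLeft_iff] at hW
    have : Module.Finite A (P.opcycles q) := by
      have := (hP q).1
      exact Module.Finite.of_surjective (P.pOpcycles q).hom
        ((ModuleCat.epi_iff_surjective _).mp inferInstance)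
    have : Module.FinitePresentation A (P.opcycles q) := Module.finitePresentation_of_finite A _
    have : Module.Free A (P.opcycles q) := by
      apply Module.free_of_maximalIdeal_rTensor_injective
      rw [← LinearMap.lTensor_inj_iff_rTensor_inj]
      exact hW
    infer_instance

end LocalCrit

end Groth.Agent.Lib.Helper12.FlatCx
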