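import Groth.Agent.Lib.Helper12.FlatCxArtin2
import Groth.Agent.Lib.Helper12.FlatCxBounded

/-!
# Helper library: `T_p` over an Artinian local ring — length inequality.
-/

open CategoryTheory CategoryTheory.Limits MonoidalCategory TensorProduct
universe u
namespace Groth.Agent.Lib.Helper12.FlatCx

section SubadditiveLength
variable {A : Type u} [CommRing A] [IsLocalRing A]

open IsLocalRing Module Submodule in
/-- A subadditive, isomorphism-invariant `ℕ∞`-valued function on modules is `≤ length · ℓ(k)` on
modules of finite length. -/
theorem subadditive_le_length_mul (ℓ : ModuleCat.{u} A → ℕ∞)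
    (hiso : ∀ {M N : ModuleCat.{u} A}, (M ≅ N) → ℓ M = ℓ N)
    (h0 : ∀ M : ModuleCat.{u} A, Subsingleton M → ℓ M = 0)
    (hadd : ∀ S : ShortComplex (ModuleCat.{u} A), S.ShortExact → ℓ S.X₂ ≤ ℓ S.X₁ + ℓ S.X₃)
    (M : ModuleCat.{u} A) (hM : IsFiniteLength A M) :
    ℓ M ≤ Module.length A M * ℓ (ModuleCat.of A (ResidueField A)) := by
  obtain ⟨s, hs_bot, hs_top⟩ := isFiniteLength_iff_exists_compositionSeries.mp hM
  rw [← length_compositionSeries s hs_bot hs_top]
  suffices ∀ k, ℓ (ModuleCat.of A (s k)) ≤ k * ℓ (ModuleCat.of A (ResidueField A)) by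
    have h1 := this (Fin.last s.length)
    rw [Fin.val_last] at h1
    refine le_trans (le_of_eq ?_) h1
    have : s (Fin.last s.length) = ⊤ := hs_top
    rw [this]
    exact hiso (Submodule.topEquiv (R := A) (M := M)).toModuleIso.symm
  intro k
  induction k using Fin.induction with
  | zero =>
    have : s 0 = ⊥ := hs_bot
    rw [this]
    simp only [Fin.val_zero, Nat.cast_zero, zero_mul]
    exact le_of_eq (h0 _ (by show Subsingleton (⊥ : Submodule A M); infer_instance))
  | succ i hi =>
    have h := s.step i
    let f : s i.castSucc →ₗ[A] s i.succ := inclusion h.le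
    have key : IsSimpleModule A (s i.succ ⧸ LinearMap.range f) := by
      rwa [range_inclusion, ← covBy_iff_quot_is_simple h.le]
    obtain ⟨m, hm, ⟨e⟩⟩ := isSimpleModule_iff_quot_maximal.mp key
    rw [eq_maximalIdeal hm] at e
    let g : s i.succ →ₗ[A] ResidueField A := e.toLinearMap.comp (LinearMap.range f).mkQ
    have hf : Function.Injective f := inclusion_injective _
    have hg : Function.Surjective g := e.surjective.comp (LinearMap.range f).mkQ_surjective
    have hfg : Function.Exact f g :=
      LinearMap.exact_iff.mpr ((e.ker_comp (LinearMap.range f).mkQ).trans (LinearMap.range f).ker_mkQ)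
    let S : ShortComplex (ModuleCat.{u} A) :=
      ShortComplex.mk (ModuleCat.ofHom f) (ModuleCat.ofHom g) (by
        ext x
        exact hfg.apply_apply_eq_zero x)
    have hS : S.ShortExact := ModuleCat.shortComplex_shortExact S hfg hf hg
    have := hadd S hS
    simp only [S] at this
    refine le_trans this ?_
    simp only [Fin.val_succ, Nat.cast_add, Nat.cast_one, add_mul, one_mul]
    gcongr
    simpa using hi

end SubadditiveLength

section ArtinIneq
variable {A : Type u} [CommRing A] [IsLocalRing A] [IsArtinianRing A] {ι : Type}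
  {c : ComplexShape ι}

omit [IsLocalRing A] [IsArtinianRing A] in
/-- Lengths of `T_p` are subadditive on short exact sequences (half exactness). -/
lemma length_T_subadditive (P : HomologicalComplex (ModuleCat.{u} A) c)
    (hP : ∀ i, Module.Flat A (P.X i)) (p : ι)
    (S : ShortComplex (ModuleCat.{u} A)) (hS : S.ShortExact) :
    Module.length A (CohIII.T P p S.X₂) ≤
      Module.length A (CohIII.T P p S.X₁) + Module.length A (CohIII.T P p S.X₃) := by
  have hT := tensorSC_shortExact P hP S hS
  have h2 := hT.homology_exact₂ p
  rw [ShortComplex.ShortExact.moduleCat_exact_iff_function_exact] at h2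
  let f' := ((CohIII.TFun P p).map S.f).hom
  let g' := ((CohIII.TFun P p).map S.g).hom
  have hex : Function.Exact f' g' := h2
  have rn_g := Module.length_eq_add_of_exact (LinearMap.ker g').subtype g'.rangeRestrict
    (Submodule.subtype_injective _) g'.surjective_rangeRestrict
    (LinearMap.exact_iff.mpr (by rw [LinearMap.ker_rangeRestrict, Submodule.range_subtype]))
  rw [hex.linearMap_ker_eq] at rn_g
  have le_g : Module.length A (LinearMap.range g') ≤ Module.length A (CohIII.T P p S.X₃) :=
    Module.length_le_of_injective (LinearMap.range g').subtype (Submodule.subtype_injective _)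
  have le_f : Module.length A (LinearMap.range f') ≤ Module.length A (CohIII.T P p S.X₁) :=
    Module.length_le_of_surjective f'.rangeRestrict f'.surjective_rangeRestrict
  calc Module.length A (CohIII.T P p S.X₂)
      = Module.length A (LinearMap.range f') + Module.length A (LinearMap.range g') := rn_g
    _ ≤ _ := add_le_add le_f le_g

omit [IsArtinianRing A] in
/-- The length inequality `len T_p(M) ≤ len T_p(k) · len M`. -/
theorem length_T_le (P : HomologicalComplex (ModuleCat.{u} A) c)
    (hP : ∀ i, Module.Flat A (P.X i)) (p : ι) (M : ModuleCat.{u} A)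
    (hM : Module.length A M ≠ ⊤) :
    Module.length A (CohIII.T P p M) ≤
      Module.length A (CohIII.T P p (ModuleCat.of A (IsLocalRing.ResidueField A))) *
        Module.length A M := by
  have := subadditive_le_length_mul (A := A) (fun M => Module.length A (CohIII.T P p M))
    (fun {M N} e => ((CohIII.TFun P p).mapIso e).toLinearEquiv.length_eq)
    (fun M hM => by
      have hz : IsZero M := ModuleCat.isZero_of_subsingleton M
      have hz' : IsZero ((CohIII.TFun P p).obj M) := (CohIII.TFun P p).map_isZero hz
      have := ModuleCat.subsingleton_of_isZero hz'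
      exact Module.length_eq_zero_iff.mpr this)
    (fun S hS => length_T_subadditive P hP p S hS) M (Module.length_ne_top_iff.mp hM)
  rw [mul_comm]
  exact this

theorem surjective_and_flat_of_length_eq_artinian
    (P : HomologicalComplex (ModuleCat.{u} A) c)
    (hP : ∀ i, Module.Flat A (P.X i)) (p q pm : ι) (hqp : c.Rel q p) (hpm : c.Rel p pm)
    (hd : Module.length A (CohIII.T P p (ModuleCat.of A (IsLocalRing.ResidueField A))) ≠ ⊤)
    (hj : Module.length A (CohIII.T P p (ModuleCat.of A A)) =
      Module.length A (CohIII.T P p (ModuleCat.of A (IsLocalRing.ResidueField A))) *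
        Module.length A A) :
    Function.Surjective ((CohIII.TFun P p).map
        (ModuleCat.ofHom (Algebra.linearMap A (IsLocalRing.ResidueField A)))).hom ∧
      Module.Flat A (CohIII.T P p (ModuleCat.of A A)) := by
  set d := Module.length A (CohIII.T P p (ModuleCat.of A (IsLocalRing.ResidueField A))) with hd_def
  have hL : Module.length A A ≠ ⊤ := length_self_ne_top
  have hLm := length_self_eq_maximalIdeal_add_one (A := A)
  have hmfin : Module.length A (IsLocalRing.maximalIdeal A) ≠ ⊤ := by
    intro htop
    rw [htop, top_add] at hLm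
    exact hL hLm
  have hA := hj
  have hm' := length_T_le P hP p (ModuleCat.of A (IsLocalRing.maximalIdeal A)) hmfin
  have hT := tensorSC_shortExact P hP (residueSC A) (residueSC_shortExact A)
  have h2 := hT.homology_exact₂ p
  rw [ShortComplex.ShortExact.moduleCat_exact_iff_function_exact] at h2
  let f' := ((CohIII.TFun P p).map (residueSC A).f).hom
  let g' := ((CohIII.TFun P p).map (residueSC A).g).hom
  have hex : Function.Exact f' g' := h2
  have rn_g := Module.length_eq_add_of_exact (LinearMap.ker g').subtype g'.rangeRestrict
    (Submodule.subtype_injective _) g'.surjective_rangeRestrict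
    (LinearMap.exact_iff.mpr (by rw [LinearMap.ker_rangeRestrict, Submodule.range_subtype]))
  have rn_f := Module.length_eq_add_of_exact (LinearMap.ker f').subtype f'.rangeRestrict
    (Submodule.subtype_injective _) f'.surjective_rangeRestrict
    (LinearMap.exact_iff.mpr (by rw [LinearMap.ker_rangeRestrict, Submodule.range_subtype]))
  rw [hex.linearMap_ker_eq] at rn_g
  have le_g : Module.length A (LinearMap.range g') ≤ d :=
    Module.length_le_of_injective (LinearMap.range g').subtype (Submodule.subtype_injective _)
  have hA' : Module.length A (CohIII.T P p (ModuleCat.of A A)) =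
      d * Module.length A (IsLocalRing.maximalIdeal A) + d := by
    rw [hA, hLm, mul_add, mul_one]
  have hA'' : Module.length A (LinearMap.range f') + Module.length A (LinearMap.range g') =
      d * Module.length A (IsLocalRing.maximalIdeal A) + d := by
    rw [← hA']; exact rn_g.symm
  have hm'' : Module.length A (LinearMap.ker f') + Module.length A (LinearMap.range f') ≤
      d * Module.length A (IsLocalRing.maximalIdeal A) := by
    rw [← rn_f]; exact hm'
  obtain ⟨dn, hdn⟩ := ENat.ne_top_iff_exists.mp hd
  obtain ⟨mn, hmn⟩ := ENat.ne_top_iff_exists.mp hmfin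
  rw [← hdn, ← hmn] at hA'' hm''
  rw [← hdn] at le_g
  have hgfin : Module.length A (LinearMap.range g') ≠ ⊤ :=
    ne_top_of_le_ne_top (ENat.natCast_ne_top dn) le_g
  obtain ⟨gn, hgn⟩ := ENat.ne_top_iff_exists.mp hgfin
  have hffin : Module.length A (LinearMap.range f') ≠ ⊤ := by
    intro htop
    rw [htop, top_add] at hA''
    exact ENat.natCast_ne_top _ (by exact_mod_cast hA''.symm)
  obtain ⟨fn, hfn⟩ := ENat.ne_top_iff_exists.mp hffin
  have hkfin : Module.length A (LinearMap.ker f') ≠ ⊤ := by
    intro htop
    rw [htop, top_add] at hm''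
    exact ENat.natCast_ne_top (dn * mn) (top_le_iff.mp (by exact_mod_cast hm''))
  obtain ⟨kn, hkn⟩ := ENat.ne_top_iff_exists.mp hkfin
  rw [← hgn, ← hfn] at hA''
  rw [← hkn, ← hfn] at hm''
  rw [← hgn] at le_g
  norm_cast at hA'' hm'' le_g
  have hk0 : kn = 0 := by omega
  have hgd : gn = dn := by omega
  have hsurj : Function.Surjective g' := by
    rw [← LinearMap.range_eq_top]
    by_contra hne
    have hfl : IsFiniteLength A ((CohIII.TFun P p).obj (residueSC A).X₃) :=
      Module.length_ne_top_iff.mp hd
    obtain ⟨hN, hAr⟩ := isFiniteLength_iff_isNoetherian_isArtinian.mp hfl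
    have hlt : Module.length A (LinearMap.range g') <
        Module.length A ((CohIII.TFun P p).obj (residueSC A).X₃) := Submodule.length_lt hne
    have e : Module.length A ((CohIII.TFun P p).obj (residueSC A).X₃) = d := rfl
    rw [e, ← hgn, ← hdn, hgd] at hlt
    exact lt_irrefl _ hlt
  have hinj : Function.Injective f' := by
    rw [← LinearMap.ker_eq_bot, ← Submodule.subsingleton_iff_eq_bot,
      ← Module.length_eq_zero_iff (R := A), ← hkn, hk0]
    rfl
  refine ⟨hsurj, ?_⟩
  have he : (CohIII.TFun P p).PreservesEpimorphisms :=
    (preservesEpi_iff_surjective_residue_artinian P hP p pm hpm).mpr hsurj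
  have e1 := hT.homology_exact₁ q p hqp
  have e3 := hT.homology_exact₃ q p hqp
  have hmono : Mono (HomologicalComplex.homologyMap (tensorSC P (residueSC A)).f p) :=
    (ModuleCat.mono_iff_injective _).mpr hinj
  have hδ : hT.δ q p hqp = 0 := (e1.mono_g_iff).mp hmono
  have hepi : Epi (HomologicalComplex.homologyMap (tensorSC P (residueSC A)).g q) :=
    (e3.epi_f_iff).mpr hδ
  have heq : (CohIII.TFun P q).PreservesEpimorphisms :=
    (preservesEpi_iff_surjective_residue_artinian P hP q p hqp).mpr
      ((ModuleCat.epi_iff_surjective _).mp hepi)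
  have hm : (CohIII.TFun P p).PreservesMonomorphisms :=
    (preservesEpi_iff_preservesMono_of_rel P hP q p hqp).mp heq
  exact (preservesMono_iff_flat_obj_self P hP p pm hpm he).mp hm

end ArtinIneq
end Groth.Agent.Lib.Helper12.FlatCx
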