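import Groth.Agent.Lib.Helper12.FlatCxRank4
open CategoryTheory CategoryTheory.Limits MonoidalCategory TensorProduct
universe u
namespace Groth.Agent.Lib.Helper12.FlatCx

section BcExact
variable {A B : Type u} [CommRing A] [CommRing B] [Algebra A B] {ι : Type} {c : ComplexShape ι}

lemma flat_bcCx_X (P : HomologicalComplex (ModuleCat.{u} A) c)
    (hP : ∀ i, Module.Flat A (P.X i)) (i : ι) :
    Module.Flat B ((CohIII.bcCx (algebraMap A B) P).X i) := by
  have := hP i
  exact Module.Flat.of_linearEquiv (extendScalarsObjEquiv (S := B) (P.X i))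

/-- `Z'_p(P_B) ≃ B ⊗ Z'_p(P)`. -/
noncomputable def opcyclesBcEquiv (P : HomologicalComplex (ModuleCat.{u} A) c) (p : ι) :
    (CohIII.bcCx (algebraMap A B) P).opcycles p ≃ₗ[B] B ⊗[A] (P.opcycles p) :=
  (opcyclesBcIso (algebraMap A B) P p).toLinearEquiv ≪≫ₗ extendScalarsObjEquiv (P.opcycles p)

lemma preservesMono_bcCx_iff (P : HomologicalComplex (ModuleCat.{u} A) c)
    (hP : ∀ i, Module.Flat A (P.X i)) (p : ι) :
    (CohIII.TFun (CohIII.bcCx (algebraMap A B) P) p).PreservesMonomorphisms ↔
      Module.Flat B (B ⊗[A] (P.opcycles p)) := by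
  rw [preservesMono_iff_flat_opcycles _ p (flat_bcCx_X P hP)]
  exact ⟨fun _ => Module.Flat.of_linearEquiv (opcyclesBcEquiv (B := B) P p).symm,
    fun _ => Module.Flat.of_linearEquiv (opcyclesBcEquiv (B := B) P p)⟩

lemma preservesEpi_bcCx_iff (P : HomologicalComplex (ModuleCat.{u} A) c)
    (hP : ∀ i, Module.Flat A (P.X i)) (p q : ι) (hpq : c.Rel p q) :
    (CohIII.TFun (CohIII.bcCx (algebraMap A B) P) p).PreservesEpimorphisms ↔
      Module.Flat B (B ⊗[A] (P.opcycles q)) := by
  rw [preservesEpi_iff_preservesMono_of_rel _ (flat_bcCx_X P hP) p q hpq,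
    preservesMono_bcCx_iff P hP q]

end BcExact

section FFDescent
variable {A B : Type u} [CommRing A] [CommRing B] [Algebra A B]

/-- Flatness descends along faithfully flat base change. -/
theorem flat_of_flat_baseChange [Module.FaithfullyFlat A B] (M : Type u) [AddCommGroup M]
    [Module A M] (h : Module.Flat B (B ⊗[A] M)) : Module.Flat A M := by
  have hA : Module.Flat A (B ⊗[A] M) := Module.Flat.trans A B (B ⊗[A] M)
  rw [Module.Flat.iff_lTensor_preserves_injective_linearMap'.{u}]
  intro N N' _ _ _ _ f hf
  rw [← Module.FaithfullyFlat.lTensor_injective_iff_injective A B]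
  have h1 : Function.Injective (f.lTensor (B ⊗[A] M)) :=
    Module.Flat.lTensor_preserves_injective_linearMap f hf
  rw [LinearMap.lTensor_tensor] at h1
  intro x y hxy
  obtain ⟨x', rfl⟩ := (TensorProduct.assoc A B M N).surjective x
  obtain ⟨y', rfl⟩ := (TensorProduct.assoc A B M N).surjective y
  have : x' = y' := h1 (by
    simp only [LinearMap.coe_comp, LinearEquiv.coe_coe, Function.comp_apply]
    exact congrArg _ hxy)
  rw [this]

variable {ι : Type} {c : ComplexShape ι}

theorem preservesEpi_iff_of_faithfullyFlat [Module.FaithfullyFlat A B]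
    (P : HomologicalComplex (ModuleCat.{u} A) c) (hP : ∀ i, Module.Flat A (P.X i))
    (p q : ι) (hpq : c.Rel p q) :
    ((CohIII.TFun (CohIII.bcCx (algebraMap A B) P) p).PreservesEpimorphisms ↔
        (CohIII.TFun P p).PreservesEpimorphisms) ∧
      ((CohIII.TFun (CohIII.bcCx (algebraMap A B) P) p).PreservesMonomorphisms ↔
        (CohIII.TFun P p).PreservesMonomorphisms) := by
  have key : ∀ i, Module.Flat B (B ⊗[A] (P.opcycles i)) ↔ Module.Flat A (P.opcycles i) :=
    fun i => ⟨fun h => flat_of_flat_baseChange _ h, fun _ => inferInstance⟩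
  constructor
  · rw [preservesEpi_bcCx_iff P hP p q hpq, key,
      preservesEpi_iff_preservesMono_of_rel P hP p q hpq, preservesMono_iff_flat_opcycles P q hP]
  · rw [preservesMono_bcCx_iff P hP p, key, preservesMono_iff_flat_opcycles P p hP]

theorem preservesEpi_mono_bcCx_of_base
    (P : HomologicalComplex (ModuleCat.{u} A) c) (hP : ∀ i, Module.Flat A (P.X i))
    (p q : ι) (hpq : c.Rel p q) :
    ((CohIII.TFun P p).PreservesEpimorphisms →
        (CohIII.TFun (CohIII.bcCx (algebraMap A B) P) p).PreservesEpimorphisms) ∧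
      ((CohIII.TFun P p).PreservesMonomorphisms →
        (CohIII.TFun (CohIII.bcCx (algebraMap A B) P) p).PreservesMonomorphisms) := by
  constructor
  · rw [preservesEpi_bcCx_iff P hP p q hpq,
      preservesEpi_iff_preservesMono_of_rel P hP p q hpq, preservesMono_iff_flat_opcycles P q hP]
    intro _
    infer_instance
  · rw [preservesMono_bcCx_iff P hP p, preservesMono_iff_flat_opcycles P p hP]
    intro _
    infer_instance

end FFDescent

section OpenLocus
variable {A : Type u} [CommRing A] {ι : Type} {c : ComplexShape ι}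

theorem isOpen_rightExact_locus [IsNoetherianRing A] (P : HomologicalComplex (ModuleCat.{u} A) c)
    (hP : ∀ i, Module.Finite A (P.X i) ∧ Module.Flat A (P.X i)) (p q : ι) (hpq : c.Rel p q) :
    IsOpen {y : PrimeSpectrum A |
      (CohIII.TFun (CohIII.bcCx (algebraMap A (Localization.AtPrime y.asIdeal)) P)
        p).PreservesEpimorphisms} := by
  have hPf : ∀ i, Module.Finite A (P.X i) := fun i => (hP i).1
  have hPfl : ∀ i, Module.Flat A (P.X i) := fun i => (hP i).2
  have := finite_opcycles P hPf q
  have : Module.FinitePresentation A (P.opcycles q) := Module.finitePresentation_of_finite A _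
  have : {y : PrimeSpectrum A |
      (CohIII.TFun (CohIII.bcCx (algebraMap A (Localization.AtPrime y.asIdeal)) P)
        p).PreservesEpimorphisms} = Module.freeLocus A (P.opcycles q) := by
    ext y
    rw [Set.mem_ofPred_eq, preservesEpi_bcCx_iff P hPfl p q hpq,
      Module.mem_freeLocus_iff_tensor y (Localization.AtPrime y.asIdeal)]
    exact ⟨fun _ => Module.free_of_flat_of_isLocalRing, fun _ => Module.Flat.of_free⟩
  rw [this]
  exact Module.isOpen_freeLocus

end OpenLocus
end Groth.Agent.Lib.Helper12.FlatCx
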