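import Groth.Agent.Lib.Helper12.FlatCxRank2
open CategoryTheory CategoryTheory.Limits MonoidalCategory TensorProduct
universe u
namespace Groth.Agent.Lib.Helper12.FlatCx

section FreeCrit
variable {A : Type u} [CommRing A]

/-- A presentation adapted to a point: `fd M x` elements generating `M` near `x`. -/
lemma exists_linearMap_notMem_support (M : Type u) [AddCommGroup M] [Module A M]
    [Module.Finite A M] (x : PrimeSpectrum A) :
    ∃ g : (Fin (fd M x) → A) →ₗ[A] M, x ∉ Module.support A (M ⧸ LinearMap.range g) := by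
  set κ := x.asIdeal.ResidueField
  obtain ⟨r, hr', w, hw, hspan⟩ : ∃ r : ℕ, r = Module.finrank κ (κ ⊗[A] M) ∧
      ∃ w : Fin r → κ ⊗[A] M, (∀ i, w i ∈ Set.range fun m : M => (1 : κ) ⊗ₜ[A] m) ∧
        Submodule.span κ (Set.range w) = ⊤ := by
    obtain ⟨w, hw, hspan, -⟩ := Submodule.exists_fun_fin_finrank_span_eq κ
      (Set.range fun m : M => (1 : κ) ⊗ₜ[A] m)
    refine ⟨_, ?_, w, hw, hspan.trans (span_range_one_tmul κ M)⟩
    rw [span_range_one_tmul, finrank_top]
  have hr : r = fd M x := hr'
  subst hr
  choose v hv using hw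
  let g : (Fin (fd M x) → A) →ₗ[A] M := Fintype.linearCombination A v
  have hgsurj : Function.Surjective (g.baseChange κ) := by
    rw [← LinearMap.range_eq_top, eq_top_iff, ← hspan, Submodule.span_le]
    rintro _ ⟨i, rfl⟩
    refine ⟨(1 : κ) ⊗ₜ[A] Pi.single i 1, ?_⟩
    rw [LinearMap.baseChange_tmul, ← hv i]
    congr 1
    simp [g, Fintype.linearCombination_apply_single]
  refine ⟨g, ?_⟩
  rw [Module.mem_support_iff_nontrivial_residueField_tensorProduct, not_nontrivial_iff_subsingleton]
  exact (subsingleton_tensor_quotient_iff κ g).mpr hgsurj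

lemma fd_fin_fun (n : ℕ) (x : PrimeSpectrum A) : fd (Fin n → A) x = n := by
  have : Nontrivial A := x.nontrivial
  unfold fd
  rw [Module.finrank_baseChange, Module.finrank_fin_fun]

/-- Over a reduced local ring, a finite module whose fibre dimension at every minimal prime
equals the one at the closed point is free. -/
theorem free_of_fd_eq [IsLocalRing A] [IsReduced A] (M : Type u) [AddCommGroup M] [Module A M]
    [Module.Finite A M]
    (h : ∀ q : PrimeSpectrum A, q.asIdeal ∈ minimalPrimes A →
      fd M q = fd M (IsLocalRing.closedPoint A)) : Module.Free A M := by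
  obtain ⟨r, hr, g, hg⟩ : ∃ r : ℕ, r = fd M (IsLocalRing.closedPoint A) ∧
      ∃ g : (Fin r → A) →ₗ[A] M,
        IsLocalRing.closedPoint A ∉ Module.support A (M ⧸ LinearMap.range g) :=
    ⟨_, rfl, exists_linearMap_notMem_support M (IsLocalRing.closedPoint A)⟩
  -- `g` is surjective
  have hsub : Subsingleton (M ⧸ LinearMap.range g) := by
    rw [← Module.support_eq_empty_iff (R := A), Set.eq_empty_iff_forall_notMem]
    intro y hy
    exact hg (Module.mem_support_mono (IsLocalRing.le_maximalIdeal y.2.ne_top) hy)
  have hgs : Function.Surjective g := by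
    rw [← LinearMap.range_eq_top]
    exact Submodule.Quotient.subsingleton_iff.mp hsub
  -- `g` is injective
  have hgi : Function.Injective g := by
    rw [injective_iff_map_eq_zero]
    intro y hy
    funext i
    have hmem : y i ∈ nilradical A := by
      rw [nilradical, ← Ideal.sInf_minimalPrimes, Ideal.mem_sInf]
      intro q hq
      have hqp : q.IsPrime := hq.1.1
      let Q : PrimeSpectrum A := ⟨q, hqp⟩
      set K := Q.asIdeal.ResidueField
      have hsurj : Function.Surjective (g.baseChange K) := by
        rw [LinearMap.baseChange_eq_ltensor]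
        exact LinearMap.lTensor_surjective _ hgs
      have hfin : Module.finrank K (K ⊗[A] (Fin r → A)) = Module.finrank K (K ⊗[A] M) := by
        have h1 : fd (Fin r → A) Q = r := fd_fin_fun r Q
        have h2 : fd M Q = r := (h Q hq).trans hr.symm
        exact h1.trans h2.symm
      have hinj : Function.Injective (g.baseChange K) :=
        (LinearMap.injective_iff_surjective_of_finrank_eq_finrank hfin).mpr hsurj
      have h0 : (1 : K) ⊗ₜ[A] y = 0 := by
        apply hinj
        rw [LinearMap.baseChange_tmul, hy, tmul_zero, map_zero]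
      have h1 := congrArg (TensorProduct.piScalarRight A K K (Fin r)) h0
      rw [map_zero] at h1
      have h2 := congrFun h1 i
      rw [TensorProduct.piScalarRight_apply, TensorProduct.piScalarRightHom_tmul] at h2
      simp only [Pi.zero_apply] at h2
      rw [Algebra.smul_def, mul_one] at h2
      exact Ideal.algebraMap_residueField_eq_zero.mp h2
    rw [nilradical_eq_zero] at hmem
    exact hmem
  exact Module.Free.of_equiv (LinearEquiv.ofBijective g ⟨hgi, hgs⟩)

lemma fd_le_of_le (M : Type u) [AddCommGroup M] [Module A M] [Module.Finite A M]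
    {x y : PrimeSpectrum A} (h : x ≤ y) : fd M x ≤ fd M y := by
  have hs : x ⤳ y := (PrimeSpectrum.le_iff_specializes x y).mp h
  have h1 : {x' | fd M x' ≤ fd M y} ∈ nhds y := fd_eventually_le M y
  have h2 : {x' | fd M x' ≤ fd M y} ∈ nhds x := hs h1
  have h3 : x ∈ {x' | fd M x' ≤ fd M y} := mem_of_mem_nhds h2
  exact h3

end FreeCrit

section ExactCrit
variable {A : Type u} [CommRing A] {ι : Type} {c : ComplexShape ι}

lemma exact_iff_flat_opcycles (P : HomologicalComplex (ModuleCat.{u} A) c)
    (hP : ∀ i, Module.Flat A (P.X i)) (p q : ι) (hpq : c.Rel p q) :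
    ((CohIII.TFun P p).PreservesMonomorphisms ∧ (CohIII.TFun P p).PreservesEpimorphisms) ↔
      (Module.Flat A (P.opcycles p) ∧ Module.Flat A (P.opcycles q)) := by
  rw [preservesEpi_iff_preservesMono_of_rel P hP p q hpq, preservesMono_iff_flat_opcycles P p hP,
    preservesMono_iff_flat_opcycles P q hP]

theorem exact_iff_dRank_eq_at_minimal_primes [IsNoetherianRing A] [IsLocalRing A] [IsReduced A]
    (P : HomologicalComplex (ModuleCat.{u} A) c)
    (hP : ∀ i, Module.Finite A (P.X i) ∧ Module.Flat A (P.X i)) (p q : ι) (hpq : c.Rel p q) :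
    ((CohIII.TFun P p).PreservesMonomorphisms ∧ (CohIII.TFun P p).PreservesEpimorphisms) ↔
      ∀ Q : PrimeSpectrum A, Q.asIdeal ∈ minimalPrimes A →
        CohIII.dRank P p Q = CohIII.dRank P p (IsLocalRing.closedPoint A) := by
  have hPf : ∀ i, Module.Finite A (P.X i) := fun i => (hP i).1
  have hPfl : ∀ i, Module.Flat A (P.X i) := fun i => (hP i).2
  have := finite_opcycles P hPf p
  have := finite_opcycles P hPf q
  have := hPf q
  have := hPfl q
  rw [exact_iff_flat_opcycles P hPfl p q hpq]
  have hle : ∀ Q : PrimeSpectrum A, Q ≤ IsLocalRing.closedPoint A := fun Q =>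
    IsLocalRing.le_maximalIdeal Q.2.ne_top
  have hr : ∀ Q : PrimeSpectrum A, fd (P.X q) Q = fd (P.X q) (IsLocalRing.closedPoint A) := by
    intro Q
    rw [fd_eq_rankAtStalk, fd_eq_rankAtStalk]
    exact Module.rankAtStalk_eq_of_le_of_finite_of_flat _ (hle Q)
  constructor
  · rintro ⟨h1, h2⟩ Q -
    have e1 : fd (P.opcycles p) Q = fd (P.opcycles p) (IsLocalRing.closedPoint A) := by
      rw [fd_eq_rankAtStalk, fd_eq_rankAtStalk]
      exact Module.rankAtStalk_eq_of_le_of_finite_of_flat _ (hle Q)
    have e2 : fd (P.opcycles q) Q = fd (P.opcycles q) (IsLocalRing.closedPoint A) := by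
      rw [fd_eq_rankAtStalk, fd_eq_rankAtStalk]
      exact Module.rankAtStalk_eq_of_le_of_finite_of_flat _ (hle Q)
    have d1 := dRank_add P hPf p q hpq Q
    have d2 := dRank_add P hPf p q hpq (IsLocalRing.closedPoint A)
    have := hr Q
    omega
  · intro h
    have key : ∀ Q : PrimeSpectrum A, Q.asIdeal ∈ minimalPrimes A →
        fd (P.opcycles p) Q = fd (P.opcycles p) (IsLocalRing.closedPoint A) ∧
        fd (P.opcycles q) Q = fd (P.opcycles q) (IsLocalRing.closedPoint A) := by
      intro Q hQ
      have d1 := dRank_add P hPf p q hpq Q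
      have d2 := dRank_add P hPf p q hpq (IsLocalRing.closedPoint A)
      have := hr Q
      have := h Q hQ
      have := fd_le_of_le (P.opcycles p) (hle Q)
      have := fd_le_of_le (P.opcycles q) (hle Q)
      omega
    have f1 : Module.Free A (P.opcycles p) := free_of_fd_eq _ fun Q hQ => (key Q hQ).1
    have f2 : Module.Free A (P.opcycles q) := free_of_fd_eq _ fun Q hQ => (key Q hQ).2
    exact ⟨inferInstance, inferInstance⟩

end ExactCrit
end Groth.Agent.Lib.Helper12.FlatCx
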