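import Groth.Agent.Lib.Helper12.FlatOverSections
import Groth.Agent.Lib.Helper45.LocalizingOn
open TensorProduct AlgebraicGeometry CategoryTheory
universe u
set_option linter.style.haveILetI false

namespace Groth.Agent.Lib.Helper12.FlatOver

variable {X Y : Scheme.{u}}

/-- `isFlatOverAt_of_flat_sections` for modules which merely localize correctly on `W`. -/
theorem isFlatOverAt_of_flat_sections' (u : X ⟶ Y) (F : X.Modules)
    {V : Y.Opens} (hV : IsAffineOpen V) {W : X.Opens} (hW : IsAffineOpen W) (e : W ≤ u ⁻¹ᵁ V)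
    (hF : Groth.Agent.Lib.Helper45.IsLocalizingOn F W)
    (hflat : letI : Module Γ(Y, V) Γ(F, W) := Module.compHom _ (u.appLE V W e).hom
      Module.Flat Γ(Y, V) Γ(F, W)) (x : W) : FlatMod.IsFlatOverAt u F (x : X) := by
  rw [isFlatOverAt_iff_flat_stalk u F hV e x]
  letI algRS : Algebra Γ(Y, V) Γ(X, W) := (u.appLE V W e).hom.toAlgebra
  letI modRM : Module Γ(Y, V) Γ(F, W) := Module.compHom _ (u.appLE V W e).hom
  haveI : IsScalarTower Γ(Y, V) Γ(X, W) Γ(F, W) := IsScalarTower.of_compHom _ _ _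
  letI modSN : Module Γ(X, W) (F.presheaf.stalk (x : X)) :=
    Groth.Agent.Lib.Helper45.stalkModuleSections F x
  letI modRN : Module Γ(Y, V) (F.presheaf.stalk (x : X)) := stalkModuleBase u F e x
  haveI : IsScalarTower Γ(Y, V) Γ(X, W) (F.presheaf.stalk (x : X)) := by
    refine ⟨fun r s n => ?_⟩
    change algebraMap Γ(X, W) (X.presheaf.stalk (x : X)) (r • s) • n =
      ((algebraMap Γ(X, W) (X.presheaf.stalk (x : X))).comp (algebraMap Γ(Y, V) Γ(X, W))) r •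
        (algebraMap Γ(X, W) (X.presheaf.stalk (x : X)) s • n)
    rw [Algebra.smul_def, map_mul, mul_smul]
    rfl
  haveI hloc := Groth.Agent.Lib.Helper45.isLocalizedModule_germₗ_of_isLocalizingOn hW F x hF
  exact flat_of_isLocalizedModule (hW.primeIdealOf x).asIdeal.primeCompl
    (Groth.Agent.Lib.Helper45.germₗ F x)

/-- `flat_sections_of_isFlatOverAt` for modules which merely localize correctly on `W`. -/
theorem flat_sections_of_isFlatOverAt' (u : X ⟶ Y) (F : X.Modules)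
    {V : Y.Opens} (hV : IsAffineOpen V) {W : X.Opens} (hW : IsAffineOpen W) (e : W ≤ u ⁻¹ᵁ V)
    (hF : Groth.Agent.Lib.Helper45.IsLocalizingOn F W)
    (h : ∀ x : W, FlatMod.IsFlatOverAt u F (x : X)) :
    letI : Module Γ(Y, V) Γ(F, W) := Module.compHom _ (u.appLE V W e).hom
    Module.Flat Γ(Y, V) Γ(F, W) := by
  letI algRS : Algebra Γ(Y, V) Γ(X, W) := (u.appLE V W e).hom.toAlgebra
  letI modRM : Module Γ(Y, V) Γ(F, W) := Module.compHom _ (u.appLE V W e).hom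
  haveI : IsScalarTower Γ(Y, V) Γ(X, W) Γ(F, W) := IsScalarTower.of_compHom _ _ _
  let pt : ∀ (P : Ideal Γ(X, W)) [P.IsMaximal], W := fun P hP =>
    pointOfPrime hW ⟨P, hP.isPrime⟩
  letI modSN : ∀ (P : Ideal Γ(X, W)) [P.IsMaximal],
      Module Γ(X, W) (F.presheaf.stalk ((pt P : W) : X)) := fun P _ =>
    Groth.Agent.Lib.Helper45.stalkModuleSections F (pt P)
  letI modRN : ∀ (P : Ideal Γ(X, W)) [P.IsMaximal],
      Module Γ(Y, V) (F.presheaf.stalk ((pt P : W) : X)) := fun P _ =>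
    stalkModuleBase u F e (pt P)
  haveI tower : ∀ (P : Ideal Γ(X, W)) [P.IsMaximal],
      IsScalarTower Γ(Y, V) Γ(X, W) (F.presheaf.stalk ((pt P : W) : X)) := fun P _ => by
    refine ⟨fun r s n => ?_⟩
    change algebraMap Γ(X, W) (X.presheaf.stalk ((pt P : W) : X)) (r • s) • n =
      ((algebraMap Γ(X, W) (X.presheaf.stalk ((pt P : W) : X))).comp
        (algebraMap Γ(Y, V) Γ(X, W))) r •
        (algebraMap Γ(X, W) (X.presheaf.stalk ((pt P : W) : X)) s • n)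
    rw [Algebra.smul_def, map_mul, mul_smul]
    rfl
  haveI hloc : ∀ (P : Ideal Γ(X, W)) [P.IsMaximal],
      IsLocalizedModule.AtPrime P (Groth.Agent.Lib.Helper45.germₗ F (pt P)) := fun P hP => by
    have h1 := Groth.Agent.Lib.Helper45.isLocalizedModule_germₗ_of_isLocalizingOn hW F (pt P) hF
    rw [primeIdealOf_pointOfPrime hW ⟨P, hP.isPrime⟩] at h1
    exact h1
  refine @Module.flat_of_isLocalized_maximal Γ(Y, V) Γ(X, W) _ _ algRS Γ(F, W) _ modRM _ _
    (fun P _ => F.presheaf.stalk ((pt P : W) : X)) (fun P _ => inferInstance)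
    (fun P _ => modRN P) (fun P _ => modSN P) (fun P _ => tower P)
    (fun P _ => Groth.Agent.Lib.Helper45.germₗ F (pt P)) (fun P _ => hloc P) (fun P _ => ?_)
  exact (isFlatOverAt_iff_flat_stalk u F hV e (pt P)).mp (h (pt P))


section Push
variable {S : Scheme.{u}}

/-- The two `Γ(S, V)`-module structures on `Γ(f_* F, W) = Γ(F, f⁻¹ W)` agree. -/
theorem flat_sections_pushforward_iff (f : X ⟶ Y) (q : Y ⟶ S) (F : X.Modules) {V : S.Opens}
    {W : Y.Opens} (eW : W ≤ q ⁻¹ᵁ V) (eU : f ⁻¹ᵁ W ≤ (f ≫ q) ⁻¹ᵁ V) :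
    (@Module.Flat Γ(S, V) Γ((Scheme.Modules.pushforward f).obj F, W) _ _
        (Module.compHom _ (q.appLE V W eW).hom)) ↔
    (@Module.Flat Γ(S, V) Γ(F, f ⁻¹ᵁ W) _ _
        (Module.compHom _ ((f ≫ q).appLE V (f ⁻¹ᵁ W) eU).hom)) := by
  have key : (Module.compHom Γ((Scheme.Modules.pushforward f).obj F, W) (q.appLE V W eW).hom :
      Module Γ(S, V) Γ(F, f ⁻¹ᵁ W)) =
      Module.compHom Γ(F, f ⁻¹ᵁ W) ((f ≫ q).appLE V (f ⁻¹ᵁ W) eU).hom := by
    apply Module.ext'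
    intro a m
    change (f.app W ((q.appLE V W eW).hom a)) • (show Γ(F, f ⁻¹ᵁ W) from m) =
      ((f ≫ q).appLE V (f ⁻¹ᵁ W) eU).hom a • (show Γ(F, f ⁻¹ᵁ W) from m)
    congr 1
    have h1 := Scheme.Hom.appLE_comp_appLE f q V W (f ⁻¹ᵁ W) eW le_rfl
    rw [Scheme.Hom.appLE_eq_app] at h1
    exact congrArg (fun φ => φ.hom a) h1
  change @Module.Flat Γ(S, V) Γ(F, f ⁻¹ᵁ W) _ _
    (Module.compHom Γ((Scheme.Modules.pushforward f).obj F, W) (q.appLE V W eW).hom) ↔ _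
  rw [key]
  exact Iff.rfl

/-- For an affine morphism `f : X ⟶ Y` and a quasi-coherent `F` on `X`, flatness of `F` over `S`
(along `f ≫ q`) is flatness of `f_* F` over `S` (along `q`). -/
theorem isFlatOver_comp_iff_pushforward (f : X ⟶ Y) [IsAffineHom f] (q : Y ⟶ S)
    (F : X.Modules) [F.IsQuasicoherent] :
    FlatMod.IsFlatOver (f ≫ q) F ↔
      FlatMod.IsFlatOver q ((Scheme.Modules.pushforward f).obj F) := by
  constructor
  · intro h y
    obtain ⟨V, hV, hyV⟩ : ∃ V : S.Opens, IsAffineOpen V ∧ q.base y ∈ V := by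
      obtain ⟨_, ⟨V, hV : IsAffineOpen V, rfl⟩, hxV, -⟩ :=
        S.isBasis_affineOpens.exists_subset_of_mem_open (Set.mem_univ (q.base y)) isOpen_univ
      exact ⟨V, hV, hxV⟩
    obtain ⟨W, hW, hyW, eW⟩ : ∃ W : Y.Opens, IsAffineOpen W ∧ y ∈ W ∧ W ≤ q ⁻¹ᵁ V := by
      obtain ⟨_, ⟨W, hW : IsAffineOpen W, rfl⟩, hyW, hWV⟩ :=
        Y.isBasis_affineOpens.exists_subset_of_mem_open
          (show y ∈ ((q ⁻¹ᵁ V : Y.Opens) : Set Y) from hyV) (q ⁻¹ᵁ V).isOpen
      exact ⟨W, hW, hyW, hWV⟩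
    have hU : IsAffineOpen (f ⁻¹ᵁ W) := hW.preimage f
    have eU : f ⁻¹ᵁ W ≤ (f ≫ q) ⁻¹ᵁ V := fun x hx => eW hx
    have h1 := flat_sections_of_isFlatOverAt (f ≫ q) F hV hU eU (fun x => h x)
    have h2 := (flat_sections_pushforward_iff f q F eW eU).mpr h1
    exact isFlatOverAt_of_flat_sections' q _ hV hW eW
      (Groth.Agent.Lib.Helper45.isLocalizingOn_pushforward f F hW) h2 ⟨y, hyW⟩
  · intro h x
    obtain ⟨V, hV, hyV⟩ : ∃ V : S.Opens, IsAffineOpen V ∧ q.base (f.base x) ∈ V := by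
      obtain ⟨_, ⟨V, hV : IsAffineOpen V, rfl⟩, hxV, -⟩ :=
        S.isBasis_affineOpens.exists_subset_of_mem_open (Set.mem_univ (q.base (f.base x)))
          isOpen_univ
      exact ⟨V, hV, hxV⟩
    obtain ⟨W, hW, hyW, eW⟩ : ∃ W : Y.Opens, IsAffineOpen W ∧ f.base x ∈ W ∧ W ≤ q ⁻¹ᵁ V := by
      obtain ⟨_, ⟨W, hW : IsAffineOpen W, rfl⟩, hyW, hWV⟩ :=
        Y.isBasis_affineOpens.exists_subset_of_mem_open
          (show f.base x ∈ ((q ⁻¹ᵁ V : Y.Opens) : Set Y) from hyV) (q ⁻¹ᵁ V).isOpen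
      exact ⟨W, hW, hyW, hWV⟩
    have hU : IsAffineOpen (f ⁻¹ᵁ W) := hW.preimage f
    have eU : f ⁻¹ᵁ W ≤ (f ≫ q) ⁻¹ᵁ V := fun x hx => eW hx
    have h1 := flat_sections_of_isFlatOverAt' q _ hV hW eW
      (Groth.Agent.Lib.Helper45.isLocalizingOn_pushforward f F hW) (fun y => h y)
    have h2 := (flat_sections_pushforward_iff f q F eW eU).mp h1
    exact isFlatOverAt_of_flat_sections (f ≫ q) F hV hU eU h2 ⟨x, hyW⟩

end Push

end Groth.Agent.Lib.Helper12.FlatOver
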