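import Mathlib
import Groth.Agent.H34.FlatBC
import Groth.Agent.H76.SquareFlat

/-!
# Universality of the flattening ideal for arbitrary local base changes (helper12)

Let `(R, 𝔪)` be a local ring, `S` an `R`-algebra, `M` an `S`-module and `I ⊆ 𝔪` a finitely generated
ideal which is least among the ideals `J` such that `(M/JM)_q` is `R/J`-flat at all primes `q` of
`S` over `𝔪`.  Let `R → R'` be a local homomorphism to an arbitrary local ring, `S' = S ⊗ R'`,
`M' = M ⊗ R'`.  If `M'` is `R'`-flat at all primes of `S'` over `𝔪'`, then `I R' = 0`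
(`le_ker_of_flat`).

Proof (no limit argument).  If `I R' ≠ 0`, Nakayama gives `v₀ ∈ I` whose image is not in
`𝔪' I R'`; choose a `κ'`-linear functional on `I R'/𝔪' I R'` with value `1` at `v₀` and compose with
an `R`-linear retraction `κ' → κ` to get `μ : I → κ` with `μ v₀ = 1`.  Put `I₁ = ker μ`, a
hyperplane in `I` containing `𝔪 I`.  Flatness of `M'` at the primes over `𝔪'` gives: `v₀ m ∈ I₁ M`
implies `m ∈ 𝔪 M`; by the nilpotent local criterion `M/I₁M` is flat over `R/I₁` at the primes over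
`𝔪`, contradicting the minimality of `I`.
-/

set_option autoImplicit false
universe u
open TensorProduct

namespace Groth.Agent.Lib.Helper12.FlatUnivLocal

open Groth.Agent.H34.FlatBC

section Functional

variable {R R' : Type u} [CommRing R] [IsLocalRing R] [CommRing R'] [IsLocalRing R']
  [Algebra R R'] [IsLocalHom (algebraMap R R')]

/-- An `R`-linear retraction of the residue field extension `κ → κ'`. -/
theorem exists_retraction :
    ∃ ρ : (R' ⧸ IsLocalRing.maximalIdeal R') →ₗ[R] (R ⧸ IsLocalRing.maximalIdeal R),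
      ρ 1 = 1 := by
  classical
  letI := Ideal.Quotient.field (IsLocalRing.maximalIdeal R)
  letI := Ideal.Quotient.field (IsLocalRing.maximalIdeal R')
  let f : (R ⧸ IsLocalRing.maximalIdeal R) →ₗ[R ⧸ IsLocalRing.maximalIdeal R]
      (R' ⧸ IsLocalRing.maximalIdeal R') :=
    Algebra.linearMap _ _
  have hf : LinearMap.ker f = ⊥ := by
    rw [LinearMap.ker_eq_bot]
    exact (algebraMap (R ⧸ IsLocalRing.maximalIdeal R) (R' ⧸ IsLocalRing.maximalIdeal R')).injective
  obtain ⟨g, hg⟩ := LinearMap.exists_leftInverse_of_injective f hf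
  refine ⟨g.restrictScalars R, ?_⟩
  have := congrArg (fun h => h 1) hg
  simp only [f, LinearMap.comp_apply, Algebra.linearMap_apply, map_one,
    LinearMap.id_apply] at this
  exact this

variable (R) in
/-- A functional on a submodule `𝔟` of `R'` with values in the residue field, normalised at an
element outside `𝔪' 𝔟`. -/
theorem exists_functional (𝔟 : Ideal R') (b₀ : R') (hb₀ : b₀ ∈ 𝔟)
    (hb₀' : b₀ ∉ IsLocalRing.maximalIdeal R' * 𝔟) :
    ∃ Θ : 𝔟 →ₗ[R'] (R' ⧸ IsLocalRing.maximalIdeal R'), Θ ⟨b₀, hb₀⟩ = 1 := by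
  classical
  letI := Ideal.Quotient.field (IsLocalRing.maximalIdeal R')
  set P : Submodule R' 𝔟 := IsLocalRing.maximalIdeal R' • (⊤ : Submodule R' 𝔟) with hP
  have hv : (⟨b₀, hb₀⟩ : 𝔟) ∉ P := by
    intro hmem
    apply hb₀'
    have h1 : (𝔟.subtype) ⟨b₀, hb₀⟩ ∈ Submodule.map 𝔟.subtype P := Submodule.mem_map_of_mem hmem
    rw [hP, Submodule.map_smul'', Submodule.map_top, Submodule.range_subtype] at h1
    exact h1
  let v' : (𝔟 ⧸ P) := Submodule.Quotient.mk ⟨b₀, hb₀⟩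
  have hv' : v' ≠ 0 := by
    intro h
    exact hv ((Submodule.Quotient.mk_eq_zero P).mp h)
  let f : (R' ⧸ IsLocalRing.maximalIdeal R') →ₗ[R' ⧸ IsLocalRing.maximalIdeal R'] (𝔟 ⧸ P) :=
    LinearMap.toSpanSingleton _ _ v'
  have hf : LinearMap.ker f = ⊥ := by
    rw [LinearMap.ker_eq_bot]
    intro a b hab
    have h1 : (a - b) • v' = 0 := by
      rw [sub_smul]
      have := hab
      simp only [f, LinearMap.toSpanSingleton_apply] at this
      rw [this, sub_self]
    rcases smul_eq_zero.mp h1 with h | h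
    · exact sub_eq_zero.mp h
    · exact absurd h hv'
  obtain ⟨g, hg⟩ := LinearMap.exists_leftInverse_of_injective f hf
  refine ⟨{ toFun := fun b => g (Submodule.Quotient.mk b), map_add' := ?_, map_smul' := ?_ }, ?_⟩
  · intro x y
    rw [Submodule.Quotient.mk_add, map_add]
  · intro r x
    have h1 : (Submodule.Quotient.mk (r • x) : 𝔟 ⧸ P) =
        (Ideal.Quotient.mk (IsLocalRing.maximalIdeal R') r) • (Submodule.Quotient.mk x : 𝔟 ⧸ P) :=
      rfl
    rw [h1, map_smul, RingHom.id_apply, Algebra.smul_def]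
    rfl
  · have := congrArg (fun h => h 1) hg
    simp only [f, LinearMap.comp_apply, LinearMap.toSpanSingleton_apply, one_smul,
      LinearMap.id_apply] at this
    exact this

end Functional

/-- The `R`-linear map `I → I R'`. -/
def mapI {R R' : Type u} [CommRing R] [CommRing R'] [Algebra R R'] (I : Ideal R) :
    I →ₗ[R] (I.map (algebraMap R R')) where
  toFun := fun x => ⟨algebraMap R R' x, Ideal.mem_map_of_mem _ x.2⟩
  map_add' := fun x y => by
    apply Subtype.ext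
    simp
  map_smul' := fun r x => by
    apply Subtype.ext
    simp [Algebra.smul_def]

section Main

variable {R S R' S' : Type u} [CommRing R] [IsLocalRing R] [CommRing S] [CommRing R']
  [IsLocalRing R'] [CommRing S'] [Algebra R S] [Algebra R R'] [IsLocalHom (algebraMap R R')]
  [Algebra S S'] [Algebra R' S'] [Algebra R S'] [IsScalarTower R S S'] [IsScalarTower R R' S']
  [Algebra.IsPushout R S R' S']
  {M M' : Type u} [AddCommGroup M] [Module S M] [Module R M] [IsScalarTower R S M]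
  [AddCommGroup M'] [Module S' M'] [Module R' M'] [IsScalarTower R' S' M'] [Module S M']
  [IsScalarTower S S' M']
  (f : M →ₗ[S] M') (hf : IsBaseChange S' f)

omit [IsLocalRing R] [CommRing S] [Algebra R S] [Algebra R R'] [IsLocalHom (algebraMap R R')]
  [Algebra S S'] [Algebra R S'] [IsScalarTower R S S'] [IsScalarTower R R' S']
  [Algebra.IsPushout R S R' S'] [Module S M'] [IsScalarTower S S' M'] [CommRing R] in
/-- An element of `M'/𝔪'M'` which vanishes locally at all primes over `𝔪'` is zero. -/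
theorem eq_zero_of_locally (w : M' ⊗[R'] (R' ⧸ IsLocalRing.maximalIdeal R'))
    (h : ∀ (q' : Ideal S') [q'.IsPrime],
      q'.comap (algebraMap R' S') = IsLocalRing.maximalIdeal R' →
      ∃ s ∈ q'.primeCompl, s • w = 0) : w = 0 := by
  by_contra hw
  let ann : Ideal S' := LinearMap.ker (LinearMap.toSpanSingleton S' _ w)
  have hmem : ∀ s : S', s ∈ ann ↔ s • w = 0 := by
    intro s
    simp only [ann, LinearMap.mem_ker, LinearMap.toSpanSingleton_apply]
  have hann : ann ≠ ⊤ := by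
    intro htop
    have h1 : (1 : S') ∈ ann := by rw [htop]; trivial
    rw [hmem, one_smul] at h1
    exact hw h1
  obtain ⟨𝔫, h𝔫max, h𝔫le⟩ := Ideal.exists_le_maximal ann hann
  haveI : 𝔫.IsPrime := h𝔫max.isPrime
  have hkill : ∀ a ∈ IsLocalRing.maximalIdeal R', ∀ w : M' ⊗[R'] (R' ⧸ IsLocalRing.maximalIdeal R'),
      a • w = 0 := by
    intro a ha w
    induction w with
    | zero => rw [smul_zero]
    | tmul x c =>
      rw [TensorProduct.smul_tmul', TensorProduct.smul_tmul]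
      have : a • c = 0 := by
        rw [Algebra.smul_def]
        have : algebraMap R' (R' ⧸ IsLocalRing.maximalIdeal R') a = 0 :=
          Ideal.Quotient.eq_zero_iff_mem.mpr ha
        rw [this, zero_mul]
      rw [this, TensorProduct.tmul_zero]
    | add x y hx hy => rw [smul_add, hx, hy, add_zero]
  have hcomap : 𝔫.comap (algebraMap R' S') = IsLocalRing.maximalIdeal R' := by
    have hle : IsLocalRing.maximalIdeal R' ≤ 𝔫.comap (algebraMap R' S') := by
      intro a ha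
      rw [Ideal.mem_comap]
      apply h𝔫le
      rw [hmem, algebraMap_smul]
      exact hkill a ha w
    have hne : 𝔫.comap (algebraMap R' S') ≠ ⊤ := Ideal.IsPrime.ne_top inferInstance
    exact ((IsLocalRing.maximalIdeal.isMaximal R').eq_of_le hne hle).symm
  obtain ⟨s, hs, hsw⟩ := h 𝔫 hcomap
  exact hs (h𝔫le ((hmem s).mpr hsw))

omit [IsLocalRing R] [CommRing S] [Algebra R S] [IsLocalHom (algebraMap R R')]
  [Module S M] [IsScalarTower R S M] [CommRing R'] [IsLocalRing R'] [Algebra R R'] in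
/-- Elements of `I₁ M` come from `M ⊗ I₁`. -/
theorem exists_tmul_of_mem_smul_top (I₁ : Ideal R) (n : M)
    (hn : n ∈ I₁ • (⊤ : Submodule R M)) :
    ∃ t : M ⊗[R] I₁, TensorProduct.rid R M ((I₁.subtype.lTensor M) t) = n := by
  induction hn using Submodule.smul_induction_on' with
  | smul r hr m _ =>
    refine ⟨m ⊗ₜ ⟨r, hr⟩, ?_⟩
    simp
  | add x _ y _ hx hy =>
    obtain ⟨t₁, ht₁⟩ := hx
    obtain ⟨t₂, ht₂⟩ := hy
    exact ⟨t₁ + t₂, by rw [map_add, map_add, ht₁, ht₂]⟩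

include hf in
/-- **Key claim**: if `M'` is flat at all primes over `𝔪'`, then multiplication by `v₀`
is injective `M/𝔪M → M/I₁M`. -/
theorem mem_smul_top_of_smul_mem
    (H : ∀ (q' : Ideal S') [q'.IsPrime],
      q'.comap (algebraMap R' S') = IsLocalRing.maximalIdeal R' →
      Module.Flat R' (LocalizedModule q'.primeCompl M'))
    (I I₁ : Ideal R) (hI₁ : I₁ ≤ I)
    (Θ : (I.map (algebraMap R R')) →ₗ[R'] (R' ⧸ IsLocalRing.maximalIdeal R'))
    (ρ : (R' ⧸ IsLocalRing.maximalIdeal R') →ₗ[R] (R ⧸ IsLocalRing.maximalIdeal R))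
    (v₀ : R) (hv₀ : v₀ ∈ I)
    (hμv : (ρ ∘ₗ (Θ.restrictScalars R) ∘ₗ mapI I) ⟨v₀, hv₀⟩ = 1)
    (hμ₁ : (ρ ∘ₗ (Θ.restrictScalars R) ∘ₗ mapI I) ∘ₗ Submodule.inclusion hI₁ = 0)
    (m₁ : M) (hm₁ : v₀ • m₁ ∈ I₁ • (⊤ : Submodule R M)) :
    m₁ ∈ IsLocalRing.maximalIdeal R • (⊤ : Submodule R M) := by
  let φI : I →ₗ[R] (I.map (algebraMap R R')) := mapI I
  let θ : I →ₗ[R] (R' ⧸ IsLocalRing.maximalIdeal R') := (Θ.restrictScalars R) ∘ₗ φI
  let μ : I →ₗ[R] (R ⧸ IsLocalRing.maximalIdeal R) := ρ ∘ₗ θ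
  obtain ⟨t, ht⟩ := exists_tmul_of_mem_smul_top I₁ _ hm₁
  set z₀ : M ⊗[R] I := m₁ ⊗ₜ ⟨v₀, hv₀⟩ - ((Submodule.inclusion hI₁).lTensor M) t with hz₀
  have hz₀0 : (I.subtype.lTensor M) z₀ = 0 := by
    apply (TensorProduct.rid R M).injective
    rw [map_zero, hz₀, map_sub, map_sub, LinearMap.lTensor_tmul, TensorProduct.rid_tmul,
      ← LinearMap.lTensor_comp_apply]
    have : I.subtype ∘ₗ Submodule.inclusion hI₁ = I₁.subtype := rfl
    rw [this, ht]
    exact sub_self _
  set z : M' ⊗[R'] (I.map (algebraMap R R')) := psi R R' f hf (I.map (algebraMap R R')) ((φI.lTensor M) z₀) with hz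
  have hzker : ((I.map (algebraMap R R')).subtype.lTensor M') z = 0 := by
    rw [hz, ← psi_lTensor, ← LinearMap.lTensor_comp_apply]
    have h1 : ((I.map (algebraMap R R')).subtype.restrictScalars R) ∘ₗ φI = (Algebra.linearMap R R') ∘ₗ I.subtype := by
      ext x
      rfl
    rw [h1, LinearMap.lTensor_comp_apply, hz₀0, map_zero, map_zero]
  let Ψ : M' ⊗[R'] (I.map (algebraMap R R')) →ₗ[S'] M' ⊗[R'] (R' ⧸ IsLocalRing.maximalIdeal R') :=
    AlgebraTensorModule.lTensor S' M' Θ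
  have hΨ : ∀ y, Ψ y = (Θ.lTensor M') y := fun y => rfl
  have hw : Ψ z = 0 := by
    apply eq_zero_of_locally (S' := S')
    intro q' _ hq'
    haveI := H q' hq'
    obtain ⟨s, hs, hsz⟩ := exists_smul_eq_zero_of_lTensor_localized_injective q'.primeCompl
      (I.map (algebraMap R R')).subtype (Module.Flat.lTensor_preserves_injective_linearMap _ Subtype.val_injective) z hzker
    exact ⟨s, hs, by rw [← map_smul, hsz, map_zero]⟩
  have hθ : (θ.lTensor M) z₀ = 0 := by
    apply (psi R R' f hf (R' ⧸ IsLocalRing.maximalIdeal R')).injective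
    rw [map_zero]
    have : θ = (Θ.restrictScalars R) ∘ₗ φI := rfl
    rw [this, LinearMap.lTensor_comp_apply, psi_lTensor, ← hz, ← hΨ]
    exact hw
  have hμ : (μ.lTensor M) z₀ = 0 := by
    have : μ = ρ ∘ₗ θ := rfl
    rw [this, LinearMap.lTensor_comp_apply, hθ, map_zero]
  have hμincl : μ ∘ₗ Submodule.inclusion hI₁ = 0 := hμ₁
  rw [hz₀, map_sub, LinearMap.lTensor_tmul, ← LinearMap.lTensor_comp_apply, hμincl,
    LinearMap.lTensor_zero, LinearMap.zero_apply, sub_zero] at hμ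
  have hμ1 : μ ⟨v₀, hv₀⟩ = 1 := hμv
  rw [hμ1] at hμ
  have h2 := congrArg (TensorProduct.tensorQuotEquivQuotSMul M (IsLocalRing.maximalIdeal R)) hμ
  rw [map_zero, ← map_one (Ideal.Quotient.mk (IsLocalRing.maximalIdeal R)),
    TensorProduct.tensorQuotEquivQuotSMul_tmul_mk, one_smul] at h2
  exact (Submodule.Quotient.mk_eq_zero _).mp h2

end Main

section Local

variable {R S : Type u} [CommRing R] [CommRing S] [Algebra R S]
  {M : Type u} [AddCommGroup M] [Module S M] [Module R M] [IsScalarTower R S M]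
  (q : Ideal S) [q.IsPrime]

omit [q.IsPrime] in
/-- `J M` is stable under the action of `S`. -/
theorem smul_mem_smul_top (J : Ideal R) (s : S) (n : M) (hn : n ∈ J • (⊤ : Submodule R M)) :
    s • n ∈ J • (⊤ : Submodule R M) := by
  induction hn using Submodule.smul_induction_on' with
  | smul r hr m _ =>
    rw [smul_comm]
    exact Submodule.smul_mem_smul hr trivial
  | add x _ y _ hx hy =>
    rw [smul_add]
    exact Submodule.add_mem _ hx hy

/-- Elements of `J M_q` have numerators in `J M`. -/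
theorem exists_mk_of_mem_smul_top (J : Ideal R) (x : LocalizedModule q.primeCompl M)
    (hx : x ∈ J • (⊤ : Submodule R (LocalizedModule q.primeCompl M))) :
    ∃ (n : M) (s : q.primeCompl), n ∈ J • (⊤ : Submodule R M) ∧ x = LocalizedModule.mk n s := by
  induction hx using Submodule.smul_induction_on' with
  | smul r hr m _ =>
    induction m with | _ m s
    refine ⟨r • m, s, Submodule.smul_mem_smul hr trivial, ?_⟩
    rw [LocalizedModule.smul'_mk]
  | add x _ y _ hx hy =>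
    obtain ⟨n₁, s₁, hn₁, rfl⟩ := hx
    obtain ⟨n₂, s₂, hn₂, rfl⟩ := hy
    refine ⟨(s₂ : S) • n₁ + (s₁ : S) • n₂, s₁ * s₂, ?_, ?_⟩
    · exact Submodule.add_mem _ (smul_mem_smul_top J _ _ hn₁) (smul_mem_smul_top J _ _ hn₂)
    · rw [LocalizedModule.mk_add_mk]
      rfl

/-- Fractions with numerator in `J M` lie in `J M_q`. -/
theorem mk_mem_smul_top (J : Ideal R) (n : M) (hn : n ∈ J • (⊤ : Submodule R M))
    (s : q.primeCompl) :
    LocalizedModule.mk n s ∈ J • (⊤ : Submodule R (LocalizedModule q.primeCompl M)) := by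
  induction hn using Submodule.smul_induction_on' with
  | smul r hr m _ =>
    rw [← LocalizedModule.smul'_mk]
    exact Submodule.smul_mem_smul hr trivial
  | add x _ y _ hx hy =>
    have : LocalizedModule.mk (x + y) s = LocalizedModule.mk x s + LocalizedModule.mk y s := by
      rw [LocalizedModule.mk_add_mk]
      rw [LocalizedModule.mk_eq]
      refine ⟨1, ?_⟩
      simp only [one_smul, smul_add, Submonoid.smul_def, Submonoid.coe_mul, mul_smul]
    rw [this]
    exact Submodule.add_mem _ hx hy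

/-- The local form of the key claim. -/
theorem local_claim (𝔪 I₁ : Ideal R) (v₀ : R)
    (hglob : ∀ m₁ : M, v₀ • m₁ ∈ I₁ • (⊤ : Submodule R M) → m₁ ∈ 𝔪 • (⊤ : Submodule R M))
    (x : LocalizedModule q.primeCompl M)
    (hx : v₀ • x ∈ I₁ • (⊤ : Submodule R (LocalizedModule q.primeCompl M))) :
    x ∈ 𝔪 • (⊤ : Submodule R (LocalizedModule q.primeCompl M)) := by
  induction x with | _ m₀ s
  rw [LocalizedModule.smul'_mk] at hx
  obtain ⟨n, s', hn, hmk⟩ := exists_mk_of_mem_smul_top q I₁ _ hx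
  obtain ⟨u, hu⟩ := LocalizedModule.mk_eq.mp hmk
  -- `u • s' • (v₀ • m₀) = u • s • n`
  have h1 : v₀ • ((u : S) • (s' : S) • m₀) ∈ I₁ • (⊤ : Submodule R M) := by
    have h2 : v₀ • ((u : S) • (s' : S) • m₀) = (u : S) • (s : S) • n := by
      rw [smul_comm v₀ (u : S), smul_comm v₀ (s' : S)]
      exact hu
    rw [h2]
    exact smul_mem_smul_top I₁ _ _ (smul_mem_smul_top I₁ _ _ hn)
  have h3 := hglob _ h1
  have h4 : LocalizedModule.mk m₀ s =
      LocalizedModule.mk ((u : S) • (s' : S) • m₀) (u * s' * s) := by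
    rw [LocalizedModule.mk_eq]
    refine ⟨1, ?_⟩
    simp only [one_smul, Submonoid.smul_def, Submonoid.coe_mul, mul_smul]
    rw [smul_comm (s : S) (u : S), smul_comm (s : S) (s' : S)]
  rw [h4]
  exact mk_mem_smul_top q 𝔪 _ h3 _

end Local

section Square

variable {R : Type u} [CommRing R] (𝔪 I I₁ : Ideal R) (N : Type u) [AddCommGroup N] [Module R N]

/-- Square-zero step: if `I = I₁ + R v₀`, `𝔪 I ⊆ I₁`, `N/IN` is flat over `R/I` and multiplication
by `v₀` is injective `N/𝔪N → N/I₁N`, then `N/I₁N` is flat over `R/I₁`. -/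
theorem flat_quotient_of_claim (hIm : I ≤ 𝔪) (hmI : 𝔪 * I ≤ I₁) (v₀ : R) (hv₀ : v₀ ∈ I)
    (hspan : ∀ y ∈ I, ∃ r : R, y - r * v₀ ∈ I₁)
    [Module.Flat (R ⧸ I) ((R ⧸ I) ⊗[R] N)]
    (hloc : ∀ x : N, v₀ • x ∈ I₁ • (⊤ : Submodule R N) → x ∈ 𝔪 • (⊤ : Submodule R N)) :
    Module.Flat (R ⧸ I₁) ((R ⧸ I₁) ⊗[R] N) := by
  haveI := Groth.Agent.H76.SquareFlat.flat_residue I N I₁
  have hnil : IsNilpotent (I.map (Ideal.Quotient.mk I₁)) := by
    refine ⟨2, ?_⟩
    rw [← Ideal.map_pow, Ideal.zero_eq_bot, Ideal.map_eq_bot_iff_le_ker, Ideal.mk_ker, pow_two]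
    exact le_trans (Ideal.mul_mono_left hIm) hmI
  refine Groth.Agent.H76.NilFlat.flat_of_nilpotent (I.map (Ideal.Quotient.mk I₁))
    ((R ⧸ I₁) ⊗[R] N) ?_ hnil
  set Ī : Ideal (R ⧸ I₁) := I.map (Ideal.Quotient.mk I₁) with hĪ
  let vb : Ī := ⟨Ideal.Quotient.mk I₁ v₀, Ideal.mem_map_of_mem _ hv₀⟩
  -- every element of `A ⊗ N` is `1 ⊗ x`
  have hone : ∀ n : (R ⧸ I₁) ⊗[R] N, ∃ x : N, n = (1 : R ⧸ I₁) ⊗ₜ[R] x := by
    intro n
    obtain ⟨x, hx⟩ := TensorProduct.mk_surjective R N (R ⧸ I₁) Ideal.Quotient.mk_surjective n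
    exact ⟨x, hx.symm⟩
  have hsm : ∀ (r : R) (x : N), (Ideal.Quotient.mk I₁ r) • ((1 : R ⧸ I₁) ⊗ₜ[R] x) =
      (1 : R ⧸ I₁) ⊗ₜ[R] (r • x) := by
    intro r x
    rw [TensorProduct.smul_tmul', smul_eq_mul, mul_one, ← TensorProduct.smul_tmul]
    congr 1
    rw [Algebra.smul_def, mul_one]
    rfl
  -- every element of `Ī ⊗ (A ⊗ N)` is `vb ⊗ (1 ⊗ x)`
  have hform : ∀ t : Ī ⊗[R ⧸ I₁] ((R ⧸ I₁) ⊗[R] N),
      ∃ x : N, t = vb ⊗ₜ[R ⧸ I₁] ((1 : R ⧸ I₁) ⊗ₜ[R] x) := by
    intro t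
    induction t with
    | zero => exact ⟨0, by rw [TensorProduct.tmul_zero, TensorProduct.tmul_zero]⟩
    | tmul ī n =>
      obtain ⟨x', rfl⟩ := hone n
      obtain ⟨a, ha⟩ := ī
      obtain ⟨y, hy, rfl⟩ := (Ideal.mem_map_iff_of_surjective _ Ideal.Quotient.mk_surjective).mp ha
      obtain ⟨r, hr⟩ := hspan y hy
      have h1 : (⟨Ideal.Quotient.mk I₁ y, ha⟩ : Ī) = (Ideal.Quotient.mk I₁ r) • vb := by
        apply Subtype.ext
        change Ideal.Quotient.mk I₁ y = Ideal.Quotient.mk I₁ r * Ideal.Quotient.mk I₁ v₀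
        rw [← map_mul, ← sub_eq_zero, ← map_sub]
        exact Ideal.Quotient.eq_zero_iff_mem.mpr hr
      refine ⟨r • x', ?_⟩
      rw [h1, TensorProduct.smul_tmul, hsm]
    | add t₁ t₂ h₁ h₂ =>
      obtain ⟨x₁, rfl⟩ := h₁
      obtain ⟨x₂, rfl⟩ := h₂
      exact ⟨x₁ + x₂, by rw [TensorProduct.tmul_add, TensorProduct.tmul_add]⟩
  -- `vb ⊗ (1 ⊗ x) = 0` for `x ∈ 𝔪 N`
  have hzero : ∀ x ∈ 𝔪 • (⊤ : Submodule R N),
      vb ⊗ₜ[R ⧸ I₁] ((1 : R ⧸ I₁) ⊗ₜ[R] x) = 0 := by
    intro x hx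
    induction hx using Submodule.smul_induction_on' with
    | smul a ha x' _ =>
      rw [← hsm, ← TensorProduct.smul_tmul]
      have h1 : (Ideal.Quotient.mk I₁ a) • vb = 0 := by
        apply Subtype.ext
        change Ideal.Quotient.mk I₁ a * Ideal.Quotient.mk I₁ v₀ = 0
        rw [← map_mul]
        exact Ideal.Quotient.eq_zero_iff_mem.mpr (hmI (Ideal.mul_mem_mul ha hv₀))
      rw [h1, TensorProduct.zero_tmul]
    | add x₁ _ x₂ _ h₁ h₂ =>
      rw [TensorProduct.tmul_add, TensorProduct.tmul_add, h₁, h₂, add_zero]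
  rw [injective_iff_map_eq_zero]
  intro t ht
  obtain ⟨x, rfl⟩ := hform t
  apply hzero
  apply hloc
  rw [LinearMap.rTensor_tmul, Submodule.subtype_apply] at ht
  have h2 := congrArg (TensorProduct.lid (R ⧸ I₁) ((R ⧸ I₁) ⊗[R] N)) ht
  rw [map_zero, TensorProduct.lid_tmul] at h2
  change (Ideal.Quotient.mk I₁ v₀) • ((1 : R ⧸ I₁) ⊗ₜ[R] x) = 0 at h2
  rw [hsm] at h2
  have h3 := congrArg (TensorProduct.quotTensorEquivQuotSMul N I₁) h2
  rw [map_zero, TensorProduct.quotTensorEquivQuotSMul_mk_one_tmul] at h3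
  exact (Submodule.Quotient.mk_eq_zero _).mp h3

end Square

section Final

variable {R S R' S' : Type u} [CommRing R] [IsLocalRing R] [CommRing S] [CommRing R']
  [IsLocalRing R'] [CommRing S'] [Algebra R S] [Algebra R R'] [IsLocalHom (algebraMap R R')]
  [Algebra S S'] [Algebra R' S'] [Algebra R S'] [IsScalarTower R S S'] [IsScalarTower R R' S']
  [Algebra.IsPushout R S R' S']
  {M M' : Type u} [AddCommGroup M] [Module S M] [Module R M] [IsScalarTower R S M]
  [AddCommGroup M'] [Module S' M'] [Module R' M'] [IsScalarTower R' S' M'] [Module S M']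
  [IsScalarTower S S' M']
  (f : M →ₗ[S] M') (hf : IsBaseChange S' f)

include hf in
/-- **Universality of the flattening ideal for an arbitrary local base change.** -/
theorem le_ker_of_flat (I : Ideal R) (hIfg : I.FG) (hIm : I ≤ IsLocalRing.maximalIdeal R)
    (hI : ∀ (q : Ideal S) [q.IsPrime], q.comap (algebraMap R S) = IsLocalRing.maximalIdeal R →
      Module.Flat (R ⧸ I) ((R ⧸ I) ⊗[R] LocalizedModule q.primeCompl M))
    (hmin : ∀ J : Ideal R, (∀ (q : Ideal S) [q.IsPrime],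
      q.comap (algebraMap R S) = IsLocalRing.maximalIdeal R →
        Module.Flat (R ⧸ J) ((R ⧸ J) ⊗[R] LocalizedModule q.primeCompl M)) → I ≤ J)
    (H : ∀ (q' : Ideal S') [q'.IsPrime],
      q'.comap (algebraMap R' S') = IsLocalRing.maximalIdeal R' →
      Module.Flat R' (LocalizedModule q'.primeCompl M')) :
    I ≤ RingHom.ker (algebraMap R R') := by
  by_contra hne
  set 𝔪' := IsLocalRing.maximalIdeal R' with h𝔪'
  have h𝔟ne : I.map (algebraMap R R') ≠ ⊥ := by
    intro h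
    exact hne ((Ideal.map_eq_bot_iff_le_ker _).mp h)
  have h𝔟fg : (I.map (algebraMap R R')).FG := hIfg.map _
  -- Nakayama
  have hnak : ¬ I.map (algebraMap R R') ≤ 𝔪' * I.map (algebraMap R R') := by
    intro hle
    apply h𝔟ne
    exact Submodule.eq_bot_of_le_smul_of_le_jacobson_bot 𝔪' _ h𝔟fg hle
      (IsLocalRing.maximalIdeal_le_jacobson _)
  obtain ⟨v₀, hv₀, hv₀'⟩ : ∃ v₀ ∈ I, algebraMap R R' v₀ ∉ 𝔪' * I.map (algebraMap R R') := by
    by_contra hcon
    push Not at hcon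
    apply hnak
    rw [Ideal.map_le_iff_le_comap]
    intro x hx
    exact hcon x hx
  obtain ⟨Θ, hΘ⟩ := exists_functional (I.map (algebraMap R R')) (algebraMap R R' v₀)
    (Ideal.mem_map_of_mem _ hv₀) hv₀'
  obtain ⟨ρ, hρ⟩ := exists_retraction (R := R) (R' := R')
  set μ : I →ₗ[R] (R ⧸ IsLocalRing.maximalIdeal R) := ρ ∘ₗ (Θ.restrictScalars R) ∘ₗ mapI I with hμ
  have hμv : μ ⟨v₀, hv₀⟩ = 1 := by
    change ρ (Θ ⟨algebraMap R R' v₀, _⟩) = 1
    rw [hΘ, hρ]
  let I₁ : Ideal R := Submodule.map I.subtype (LinearMap.ker μ)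
  have hI₁ : I₁ ≤ I := by
    rintro _ ⟨x, -, rfl⟩
    exact x.2
  have hmemI₁ : ∀ (y : R) (hy : y ∈ I), y ∈ I₁ ↔ μ ⟨y, hy⟩ = 0 := by
    intro y hy
    constructor
    · rintro ⟨x, hx, hxy⟩
      have : x = ⟨y, hy⟩ := Subtype.ext hxy
      rw [← this]
      exact hx
    · intro h
      exact ⟨⟨y, hy⟩, h, rfl⟩
  have hμ₁ : μ ∘ₗ Submodule.inclusion hI₁ = 0 := by
    ext y
    exact (hmemI₁ y.1 (hI₁ y.2)).mp y.2
  have hsmul : ∀ (a : R) (c : R ⧸ IsLocalRing.maximalIdeal R),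
      a • c = Ideal.Quotient.mk _ a * c := fun a c => by
    rw [Algebra.smul_def]; rfl
  have hmI : IsLocalRing.maximalIdeal R * I ≤ I₁ := by
    rw [Ideal.mul_le]
    intro a ha y hy
    rw [hmemI₁ (a * y) (I.mul_mem_left a hy)]
    have h1 : (⟨a * y, I.mul_mem_left a hy⟩ : I) = a • ⟨y, hy⟩ := rfl
    rw [h1, map_smul, hsmul, Ideal.Quotient.eq_zero_iff_mem.mpr ha, zero_mul]
  have hv₀I₁ : v₀ ∉ I₁ := by
    intro h
    have h1 := (hmemI₁ v₀ hv₀).mp h
    rw [hμv] at h1
    exact one_ne_zero h1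
  have hspan : ∀ y ∈ I, ∃ r : R, y - r * v₀ ∈ I₁ := by
    intro y hy
    obtain ⟨r, hr⟩ := Ideal.Quotient.mk_surjective (μ ⟨y, hy⟩)
    refine ⟨r, ?_⟩
    rw [hmemI₁ _ (I.sub_mem hy (I.mul_mem_left r hv₀))]
    have h1 : (⟨y - r * v₀, I.sub_mem hy (I.mul_mem_left r hv₀)⟩ : I) =
        ⟨y, hy⟩ - r • ⟨v₀, hv₀⟩ := rfl
    rw [h1, map_sub, map_smul, hμv, hsmul, mul_one, hr, sub_self]
  have hglob := mem_smul_top_of_smul_mem f hf H I I₁ hI₁ Θ ρ v₀ hv₀ hμv hμ₁
  have hflat : ∀ (q : Ideal S) [q.IsPrime],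
      q.comap (algebraMap R S) = IsLocalRing.maximalIdeal R →
      Module.Flat (R ⧸ I₁) ((R ⧸ I₁) ⊗[R] LocalizedModule q.primeCompl M) := by
    intro q _ hq
    haveI := hI q hq
    exact flat_quotient_of_claim (IsLocalRing.maximalIdeal R) I I₁
      (LocalizedModule q.primeCompl M) hIm hmI v₀ hv₀ hspan
      (local_claim q (IsLocalRing.maximalIdeal R) I₁ v₀ hglob)
  exact hv₀I₁ (hmin I₁ hflat hv₀)

end Final

end Groth.Agent.Lib.Helper12.FlatUnivLocal
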