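import Groth.Agent.Lib.Helper12.FlatUnivLocal
import Groth.Agent.H76.AdicFlat

/-!
# Pointed universality of the flattening ideal (helper12)

Same as `FlatUnivLocal.le_ker_of_flat`, but `S` is a Noetherian local ring, `M` a finite
`S`-module, and flatness of `M' = M ⊗ R'` over the local ring `R'` is only assumed at the primes
`q'` of `S' = S ⊗ R'` lying over the maximal ideal of `S` **and** over the maximal ideal of `R'`.
No condition on the residue field extension is needed: from `(1 - j) z = 0` with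
`j ∈ 𝔫 S' + 𝔪' S'` one gets that the relevant class lies in `⋂ 𝔫^k (M/𝔪M) = 0` (Krull).
-/

set_option autoImplicit false
universe u
open TensorProduct

namespace Groth.Agent.Lib.Helper12.FlatUnivLocalPt

open Groth.Agent.H34.FlatBC Groth.Agent.Lib.Helper12.FlatUnivLocal

section Main

variable {R S R' S' : Type u} [CommRing R] [IsLocalRing R] [CommRing S] [CommRing R']
  [IsLocalRing R'] [CommRing S'] [Algebra R S] [Algebra R R'] [IsLocalHom (algebraMap R R')]
  [Algebra S S'] [Algebra R' S'] [Algebra R S'] [IsScalarTower R S S'] [IsScalarTower R R' S']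
  [Algebra.IsPushout R S R' S']
  {M M' : Type u} [AddCommGroup M] [Module S M] [Module R M] [IsScalarTower R S M]
  [AddCommGroup M'] [Module S' M'] [Module R' M'] [IsScalarTower R' S' M'] [Module S M']
  [IsScalarTower S S' M']
  (f : M →ₗ[S] M') (hf : IsBaseChange S' f)

/-- Elements of `𝔪' S'` kill `M' ⊗ κ'`. -/
theorem smul_eq_zero_of_mem_map (j : S') (hj : j ∈ (IsLocalRing.maximalIdeal R').map (algebraMap R' S'))
    (w : M' ⊗[R'] (R' ⧸ IsLocalRing.maximalIdeal R')) : j • w = 0 := by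
  have hkill : ∀ a ∈ IsLocalRing.maximalIdeal R',
      ∀ w : M' ⊗[R'] (R' ⧸ IsLocalRing.maximalIdeal R'), a • w = 0 := by
    intro a ha w
    induction w with
    | zero => rw [smul_zero]
    | tmul x c =>
      rw [TensorProduct.smul_tmul', TensorProduct.smul_tmul]
      have : a • c = 0 := by
        rw [Algebra.smul_def]
        have : algebraMap R' (R' ⧸ IsLocalRing.maximalIdeal R') a = 0 :=
          Ideal.Quotient.eq_zero_iff_mem.mpr ha
        rw [this, zero_mul]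
      rw [this, TensorProduct.tmul_zero]
    | add x y hx hy => rw [smul_add, hx, hy, add_zero]
  revert w
  refine Submodule.span_induction (p := fun j _ => ∀ w : M' ⊗[R'] (R' ⧸ IsLocalRing.maximalIdeal R'),
    j • w = 0) ?_ ?_ ?_ ?_ hj
  · rintro _ ⟨a, ha, rfl⟩ w
    rw [algebraMap_smul]
    exact hkill a ha w
  · intro w; rw [zero_smul]
  · intro x y _ _ hx hy w; rw [add_smul, hx, hy, add_zero]
  · intro s x _ hx w
    rw [smul_eq_mul, mul_smul, hx, smul_zero]

include hf in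
/-- Transport of the action of `J S'` through `psi`. -/
theorem psi_symm_smul_mem (X : Type u) [AddCommGroup X] [Module R' X] [Module R X]
    [IsScalarTower R R' X] (J : Ideal S) (j : S') (hj : j ∈ J.map (algebraMap S S'))
    (t : M ⊗[R] X) :
    (psi R R' f hf X).symm (j • psi R R' f hf X t) ∈ J • (⊤ : Submodule S (M ⊗[R] X)) := by
  revert t
  refine Submodule.span_induction (p := fun j _ => ∀ t : M ⊗[R] X,
    (psi R R' f hf X).symm (j • psi R R' f hf X t) ∈ J • (⊤ : Submodule S (M ⊗[R] X)))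
    ?_ ?_ ?_ ?_ hj
  · rintro _ ⟨n, hn, rfl⟩ t
    rw [← psi_smul, AddEquiv.symm_apply_apply]
    exact Submodule.smul_mem_smul hn trivial
  · intro t
    rw [zero_smul, map_zero]
    exact Submodule.zero_mem _
  · intro x y _ _ hx hy t
    rw [add_smul, map_add]
    exact Submodule.add_mem _ (hx t) (hy t)
  · intro s x _ hx t
    rw [smul_eq_mul, mul_comm, mul_smul]
    have := hx ((psi R R' f hf X).symm (s • psi R R' f hf X t))
    rw [AddEquiv.apply_symm_apply] at this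
    exact this

variable [IsNoetherianRing S] [IsLocalRing S] [Module.Finite S M]

include hf in
/-- **Pointed key claim.** -/
theorem mem_smul_top_of_smul_mem
    (H : ∀ (q' : Ideal S') [q'.IsPrime],
      q'.comap (algebraMap S S') = IsLocalRing.maximalIdeal S →
      q'.comap (algebraMap R' S') = IsLocalRing.maximalIdeal R' →
      Module.Flat R' (LocalizedModule q'.primeCompl M'))
    (I I₁ : Ideal R) (hI₁ : I₁ ≤ I)
    (Θ : (I.map (algebraMap R R')) →ₗ[R'] (R' ⧸ IsLocalRing.maximalIdeal R'))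
    (ρ : (R' ⧸ IsLocalRing.maximalIdeal R') →ₗ[R] (R ⧸ IsLocalRing.maximalIdeal R))
    (v₀ : R) (hv₀ : v₀ ∈ I)
    (hμv : (ρ ∘ₗ (Θ.restrictScalars R) ∘ₗ mapI I) ⟨v₀, hv₀⟩ = 1)
    (hμ₁ : (ρ ∘ₗ (Θ.restrictScalars R) ∘ₗ mapI I) ∘ₗ Submodule.inclusion hI₁ = 0)
    (m₁ : M) (hm₁ : v₀ • m₁ ∈ I₁ • (⊤ : Submodule R M)) :
    m₁ ∈ IsLocalRing.maximalIdeal R • (⊤ : Submodule R M) := by
  let φI : I →ₗ[R] (I.map (algebraMap R R')) := mapI I
  let θ : I →ₗ[R] (R' ⧸ IsLocalRing.maximalIdeal R') := (Θ.restrictScalars R) ∘ₗ φI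
  let μ : I →ₗ[R] (R ⧸ IsLocalRing.maximalIdeal R) := ρ ∘ₗ θ
  obtain ⟨t, ht⟩ := exists_tmul_of_mem_smul_top I₁ _ hm₁
  set z₀ : M ⊗[R] I := m₁ ⊗ₜ ⟨v₀, hv₀⟩ - ((Submodule.inclusion hI₁).lTensor M) t with hz₀
  have hz₀0 : (I.subtype.lTensor M) z₀ = 0 := by
    apply (TensorProduct.rid R M).injective
    rw [map_zero, hz₀, map_sub, map_sub, LinearMap.lTensor_tmul, TensorProduct.rid_tmul,
      ← LinearMap.lTensor_comp_apply]
    have : I.subtype ∘ₗ Submodule.inclusion hI₁ = I₁.subtype := rfl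
    rw [this, ht]
    exact sub_self _
  set z : M' ⊗[R'] (I.map (algebraMap R R')) :=
    psi R R' f hf (I.map (algebraMap R R')) ((φI.lTensor M) z₀) with hz
  have hzker : ((I.map (algebraMap R R')).subtype.lTensor M') z = 0 := by
    rw [hz, ← psi_lTensor, ← LinearMap.lTensor_comp_apply]
    have h1 : ((I.map (algebraMap R R')).subtype.restrictScalars R) ∘ₗ φI =
        (Algebra.linearMap R R') ∘ₗ I.subtype := by
      ext x
      rfl
    rw [h1, LinearMap.lTensor_comp_apply, hz₀0, map_zero, map_zero]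
  let Ψ : M' ⊗[R'] (I.map (algebraMap R R')) →ₗ[S']
      M' ⊗[R'] (R' ⧸ IsLocalRing.maximalIdeal R') :=
    AlgebraTensorModule.lTensor S' M' Θ
  have hΨ : ∀ y, Ψ y = (Θ.lTensor M') y := fun y => rfl
  set 𝔫 := IsLocalRing.maximalIdeal S with h𝔫
  -- Step 1: `(1 - (j₁ + j₂)) z = 0`
  obtain ⟨j₁, hj₁, j₂, hj₂, hjz⟩ : ∃ j₁ ∈ 𝔫.map (algebraMap S S'),
      ∃ j₂ ∈ (IsLocalRing.maximalIdeal R').map (algebraMap R' S'),
        (1 - (j₁ + j₂)) • z = 0 := by
    let ann : Ideal S' := LinearMap.ker (LinearMap.toSpanSingleton S' _ z)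
    have hmem : ∀ s : S', s ∈ ann ↔ s • z = 0 := by
      intro s
      simp only [ann, LinearMap.mem_ker, LinearMap.toSpanSingleton_apply]
    have htop : ann ⊔ 𝔫.map (algebraMap S S') ⊔
        (IsLocalRing.maximalIdeal R').map (algebraMap R' S') = ⊤ := by
      by_contra hne
      obtain ⟨𝔮, h𝔮max, h𝔮le⟩ := Ideal.exists_le_maximal _ hne
      haveI : 𝔮.IsPrime := h𝔮max.isPrime
      have h1 : 𝔮.comap (algebraMap S S') = 𝔫 := by
        have hle : 𝔫 ≤ 𝔮.comap (algebraMap S S') := by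
          rw [← Ideal.map_le_iff_le_comap]
          exact le_trans (le_trans le_sup_right le_sup_left) h𝔮le
        have hne' : 𝔮.comap (algebraMap S S') ≠ ⊤ := Ideal.IsPrime.ne_top inferInstance
        exact ((IsLocalRing.maximalIdeal.isMaximal S).eq_of_le hne' hle).symm
      have h2 : 𝔮.comap (algebraMap R' S') = IsLocalRing.maximalIdeal R' := by
        have hle : IsLocalRing.maximalIdeal R' ≤ 𝔮.comap (algebraMap R' S') := by
          rw [← Ideal.map_le_iff_le_comap]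
          exact le_trans le_sup_right h𝔮le
        have hne' : 𝔮.comap (algebraMap R' S') ≠ ⊤ := Ideal.IsPrime.ne_top inferInstance
        exact ((IsLocalRing.maximalIdeal.isMaximal R').eq_of_le hne' hle).symm
      haveI := H 𝔮 h1 h2
      obtain ⟨s, hs, hsz⟩ := exists_smul_eq_zero_of_lTensor_localized_injective 𝔮.primeCompl
        (I.map (algebraMap R R')).subtype
        (Module.Flat.lTensor_preserves_injective_linearMap _ Subtype.val_injective) z hzker
      exact hs (h𝔮le (Submodule.mem_sup_left (Submodule.mem_sup_left ((hmem s).mpr hsz))))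
    have h1 : (1 : S') ∈ ann ⊔ 𝔫.map (algebraMap S S') ⊔
        (IsLocalRing.maximalIdeal R').map (algebraMap R' S') := by
      rw [htop]; trivial
    obtain ⟨x, hx, j₂, hj₂, hxj⟩ := Submodule.mem_sup.mp h1
    obtain ⟨a, ha, j₁, hj₁, haj⟩ := Submodule.mem_sup.mp hx
    refine ⟨j₁, hj₁, j₂, hj₂, ?_⟩
    have : (1 : S') - (j₁ + j₂) = a := by
      rw [← hxj, ← haj]; ring
    rw [this]
    exact (hmem a).mp ha
  -- Step 2/3: `w = j₁ ^ k • w`
  set w := Ψ z with hw
  have hw1 : w = j₁ • w := by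
    have h1 : (1 - (j₁ + j₂)) • w = 0 := by rw [hw, ← map_smul, hjz, map_zero]
    rw [sub_smul, one_smul, add_smul, smul_eq_zero_of_mem_map j₂ hj₂ w, add_zero,
      sub_eq_zero] at h1
    exact h1
  have hwk : ∀ k : ℕ, w = j₁ ^ k • w := by
    intro k
    induction k with
    | zero => rw [pow_zero, one_smul]
    | succ k ih => rw [pow_succ, mul_smul, ← hw1]; exact ih
  -- Step 4: transport to `M ⊗ κ'`
  set w₀ : M ⊗[R] (R' ⧸ IsLocalRing.maximalIdeal R') := (θ.lTensor M) z₀ with hw₀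
  have hpsi : psi R R' f hf (R' ⧸ IsLocalRing.maximalIdeal R') w₀ = w := by
    have : θ = (Θ.restrictScalars R) ∘ₗ φI := rfl
    rw [hw₀, this, LinearMap.lTensor_comp_apply, psi_lTensor, ← hz, ← hΨ]
  have hw₀k : ∀ k : ℕ, w₀ ∈ 𝔫 ^ k •
      (⊤ : Submodule S (M ⊗[R] (R' ⧸ IsLocalRing.maximalIdeal R'))) := by
    intro k
    have h1 : j₁ ^ k ∈ (𝔫 ^ k).map (algebraMap S S') := by
      rw [Ideal.map_pow]
      exact Ideal.pow_mem_pow hj₁ k
    have h2 := psi_symm_smul_mem (R' := R') f hf (R' ⧸ IsLocalRing.maximalIdeal R') (𝔫 ^ k) (j₁ ^ k) h1 w₀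
    rw [hpsi, ← hwk k, ← hpsi, AddEquiv.symm_apply_apply] at h2
    exact h2
  -- Step 5: apply the retraction
  let ρM : M ⊗[R] (R' ⧸ IsLocalRing.maximalIdeal R') →ₗ[S]
      M ⊗[R] (R ⧸ IsLocalRing.maximalIdeal R) := AlgebraTensorModule.lTensor S M ρ
  have hρM : ∀ y, ρM y = (ρ.lTensor M) y := fun y => rfl
  haveI : Module.Finite S (M ⊗[R] (R ⧸ IsLocalRing.maximalIdeal R)) :=
    Groth.Agent.H76.AdicFlat.finite_tensor M (R ⧸ IsLocalRing.maximalIdeal R)
  have hmemk : ∀ k : ℕ, ρM w₀ ∈ 𝔫 ^ k •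
      (⊤ : Submodule S (M ⊗[R] (R ⧸ IsLocalRing.maximalIdeal R))) := by
    intro k
    have h1 : ρM w₀ ∈ Submodule.map ρM (𝔫 ^ k • ⊤) := Submodule.mem_map_of_mem (hw₀k k)
    rw [Submodule.map_smul''] at h1
    exact Submodule.smul_mono le_rfl le_top h1
  have hzero : ρM w₀ = 0 := by
    have h1 : ρM w₀ ∈ (⨅ i : ℕ, 𝔫 ^ i • ⊤ :
        Submodule S (M ⊗[R] (R ⧸ IsLocalRing.maximalIdeal R))) :=
      (Submodule.mem_iInf _).mpr hmemk
    rw [Ideal.iInf_pow_smul_eq_bot_of_isLocalRing 𝔫 (Ideal.IsPrime.ne_top inferInstance)] at h1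
    exact (Submodule.mem_bot _).mp h1
  have hμ : (μ.lTensor M) z₀ = 0 := by
    have : μ = ρ ∘ₗ θ := rfl
    rw [this, LinearMap.lTensor_comp_apply, ← hw₀, ← hρM]
    exact hzero
  have hμincl : μ ∘ₗ Submodule.inclusion hI₁ = 0 := hμ₁
  rw [hz₀, map_sub, LinearMap.lTensor_tmul, ← LinearMap.lTensor_comp_apply, hμincl,
    LinearMap.lTensor_zero, LinearMap.zero_apply, sub_zero] at hμ
  have hμ1 : μ ⟨v₀, hv₀⟩ = 1 := hμv
  rw [hμ1] at hμ
  have h2 := congrArg (TensorProduct.tensorQuotEquivQuotSMul M (IsLocalRing.maximalIdeal R)) hμ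
  rw [map_zero, ← map_one (Ideal.Quotient.mk (IsLocalRing.maximalIdeal R)),
    TensorProduct.tensorQuotEquivQuotSMul_tmul_mk, one_smul] at h2
  exact (Submodule.Quotient.mk_eq_zero _).mp h2

include hf in
/-- **Pointed universality of the flattening ideal**: flatness of `M'` is only assumed at the
primes over the closed point of `S` and the closed point of `R'`. -/
theorem le_ker_of_flat (I : Ideal R) (hIfg : I.FG) (hIm : I ≤ IsLocalRing.maximalIdeal R)
    (hI : ∀ (q : Ideal S) [q.IsPrime], q.comap (algebraMap R S) = IsLocalRing.maximalIdeal R →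
      Module.Flat (R ⧸ I) ((R ⧸ I) ⊗[R] LocalizedModule q.primeCompl M))
    (hmin : ∀ J : Ideal R, (∀ (q : Ideal S) [q.IsPrime],
      q.comap (algebraMap R S) = IsLocalRing.maximalIdeal R →
        Module.Flat (R ⧸ J) ((R ⧸ J) ⊗[R] LocalizedModule q.primeCompl M)) → I ≤ J)
    (H : ∀ (q' : Ideal S') [q'.IsPrime],
      q'.comap (algebraMap S S') = IsLocalRing.maximalIdeal S →
      q'.comap (algebraMap R' S') = IsLocalRing.maximalIdeal R' →
      Module.Flat R' (LocalizedModule q'.primeCompl M')) :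
    I ≤ RingHom.ker (algebraMap R R') := by
  by_contra hne
  set 𝔪' := IsLocalRing.maximalIdeal R' with h𝔪'
  have h𝔟ne : I.map (algebraMap R R') ≠ ⊥ := by
    intro h
    exact hne ((Ideal.map_eq_bot_iff_le_ker _).mp h)
  have h𝔟fg : (I.map (algebraMap R R')).FG := hIfg.map _
  -- Nakayama
  have hnak : ¬ I.map (algebraMap R R') ≤ 𝔪' * I.map (algebraMap R R') := by
    intro hle
    apply h𝔟ne
    exact Submodule.eq_bot_of_le_smul_of_le_jacobson_bot 𝔪' _ h𝔟fg hle
      (IsLocalRing.maximalIdeal_le_jacobson _)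
  obtain ⟨v₀, hv₀, hv₀'⟩ : ∃ v₀ ∈ I, algebraMap R R' v₀ ∉ 𝔪' * I.map (algebraMap R R') := by
    by_contra hcon
    push Not at hcon
    apply hnak
    rw [Ideal.map_le_iff_le_comap]
    intro x hx
    exact hcon x hx
  obtain ⟨Θ, hΘ⟩ := exists_functional (I.map (algebraMap R R')) (algebraMap R R' v₀)
    (Ideal.mem_map_of_mem _ hv₀) hv₀'
  obtain ⟨ρ, hρ⟩ := exists_retraction (R := R) (R' := R')
  set μ : I →ₗ[R] (R ⧸ IsLocalRing.maximalIdeal R) := ρ ∘ₗ (Θ.restrictScalars R) ∘ₗ mapI I with hμ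
  have hμv : μ ⟨v₀, hv₀⟩ = 1 := by
    change ρ (Θ ⟨algebraMap R R' v₀, _⟩) = 1
    rw [hΘ, hρ]
  let I₁ : Ideal R := Submodule.map I.subtype (LinearMap.ker μ)
  have hI₁ : I₁ ≤ I := by
    rintro _ ⟨x, -, rfl⟩
    exact x.2
  have hmemI₁ : ∀ (y : R) (hy : y ∈ I), y ∈ I₁ ↔ μ ⟨y, hy⟩ = 0 := by
    intro y hy
    constructor
    · rintro ⟨x, hx, hxy⟩
      have : x = ⟨y, hy⟩ := Subtype.ext hxy
      rw [← this]
      exact hx
    · intro h
      exact ⟨⟨y, hy⟩, h, rfl⟩
  have hμ₁ : μ ∘ₗ Submodule.inclusion hI₁ = 0 := by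
    ext y
    exact (hmemI₁ y.1 (hI₁ y.2)).mp y.2
  have hsmul : ∀ (a : R) (c : R ⧸ IsLocalRing.maximalIdeal R),
      a • c = Ideal.Quotient.mk _ a * c := fun a c => by
    rw [Algebra.smul_def]; rfl
  have hmI : IsLocalRing.maximalIdeal R * I ≤ I₁ := by
    rw [Ideal.mul_le]
    intro a ha y hy
    rw [hmemI₁ (a * y) (I.mul_mem_left a hy)]
    have h1 : (⟨a * y, I.mul_mem_left a hy⟩ : I) = a • ⟨y, hy⟩ := rfl
    rw [h1, map_smul, hsmul, Ideal.Quotient.eq_zero_iff_mem.mpr ha, zero_mul]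
  have hv₀I₁ : v₀ ∉ I₁ := by
    intro h
    have h1 := (hmemI₁ v₀ hv₀).mp h
    rw [hμv] at h1
    exact one_ne_zero h1
  have hspan : ∀ y ∈ I, ∃ r : R, y - r * v₀ ∈ I₁ := by
    intro y hy
    obtain ⟨r, hr⟩ := Ideal.Quotient.mk_surjective (μ ⟨y, hy⟩)
    refine ⟨r, ?_⟩
    rw [hmemI₁ _ (I.sub_mem hy (I.mul_mem_left r hv₀))]
    have h1 : (⟨y - r * v₀, I.sub_mem hy (I.mul_mem_left r hv₀)⟩ : I) =
        ⟨y, hy⟩ - r • ⟨v₀, hv₀⟩ := rfl
    rw [h1, map_sub, map_smul, hμv, hsmul, mul_one, hr, sub_self]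
  have hglob := mem_smul_top_of_smul_mem f hf H I I₁ hI₁ Θ ρ v₀ hv₀ hμv hμ₁
  have hflat : ∀ (q : Ideal S) [q.IsPrime],
      q.comap (algebraMap R S) = IsLocalRing.maximalIdeal R →
      Module.Flat (R ⧸ I₁) ((R ⧸ I₁) ⊗[R] LocalizedModule q.primeCompl M) := by
    intro q _ hq
    haveI := hI q hq
    exact flat_quotient_of_claim (IsLocalRing.maximalIdeal R) I I₁
      (LocalizedModule q.primeCompl M) hIm hmI v₀ hv₀ hspan
      (local_claim q (IsLocalRing.maximalIdeal R) I₁ v₀ hglob)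
  exact hv₀I₁ (hmin I₁ hflat hv₀)


end Main

end Groth.Agent.Lib.Helper12.FlatUnivLocalPt
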