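import Groth.Agent.Lib.Helper12.FourTermLocal
import Groth.Agent.Lib.Helper12.FibreDepthBC

/-!
# Four-term exact sequences under base change (helper12)

* `projective_ker_of_exact`, `projective_localizedModule_ker`: kernels in exact sequences of
  projectives.
* `le_idealDepth_of_isBaseChange`: depth does not decrease under flat base change.
* `le_idealDepth_fibLocRing_baseChange`: the `J`-depth of the fibre local rings of a base change
  `A' → B' = A' ⊗_A B` is bounded below by the depth of the fibre local rings of `A → B` on `V(J)`.
-/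

set_option autoImplicit false
universe u

namespace Groth.Agent.Lib.Helper12.FourTermBC

open IsLocalRing RingTheory.Sequence TensorProduct LocCoh
open scoped Pointwise

section Proj

variable {R : Type*} [CommRing R] {P0 P1 Q : Type*} [AddCommGroup P0] [Module R P0]
  [AddCommGroup P1] [Module R P1] [AddCommGroup Q] [Module R Q]

/-- The kernel of a surjection of projective modules is projective. -/
theorem projective_ker_of_surjective (g : P1 →ₗ[R] Q) (hg : Function.Surjective g)
    [Module.Projective R P1] [Module.Projective R Q] : Module.Projective R (LinearMap.ker g) := by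
  obtain ⟨s, hs⟩ := Module.projective_lifting_property g LinearMap.id hg
  have hs' : ∀ y, g (s y) = y := fun y => LinearMap.congr_fun hs y
  let π : P1 →ₗ[R] LinearMap.ker g :=
    (LinearMap.id - s ∘ₗ g).codRestrict (LinearMap.ker g) (fun x => by
      rw [LinearMap.mem_ker, LinearMap.sub_apply, map_sub, LinearMap.id_apply,
        LinearMap.comp_apply, hs', sub_self])
  refine Module.Projective.of_split (LinearMap.ker g).subtype π ?_
  ext x
  simp only [LinearMap.coe_comp, Function.comp_apply, Submodule.subtype_apply, LinearMap.id_apply]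
  change x.1 - s (g x.1) = x.1
  rw [LinearMap.mem_ker.mp x.2, map_zero, sub_zero]

/-- In an exact sequence `P0 → P1 → Q → 0` of projectives, the kernel of `P0 → P1` is
projective. -/
theorem projective_ker_of_exact (u : P0 →ₗ[R] P1) (v : P1 →ₗ[R] Q) (huv : Function.Exact u v)
    (hv : Function.Surjective v) [Module.Projective R P0] [Module.Projective R P1]
    [Module.Projective R Q] : Module.Projective R (LinearMap.ker u) := by
  haveI := projective_ker_of_surjective v hv
  let uh : P0 →ₗ[R] LinearMap.ker v :=
    u.codRestrict (LinearMap.ker v) (fun x => huv.apply_apply_eq_zero x)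
  have huh : Function.Surjective uh := by
    rintro ⟨z, hz⟩
    obtain ⟨y, rfl⟩ := (huv z).1 hz
    exact ⟨y, rfl⟩
  haveI := projective_ker_of_surjective uh huh
  have hker : LinearMap.ker uh = LinearMap.ker u := by
    ext x
    rw [LinearMap.mem_ker, LinearMap.mem_ker]
    constructor
    · intro h
      exact congrArg Subtype.val h
    · intro h
      exact Subtype.ext h
  exact Module.Projective.of_equiv (LinearEquiv.ofEq _ _ hker)

end Proj

section LocKer

variable {B : Type u} [CommRing B] (S : Submonoid B) {E0 E1 G : Type u}
  [AddCommGroup E0] [Module B E0] [AddCommGroup E1] [Module B E1] [AddCommGroup G] [Module B G]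
  (u : E0 →ₗ[B] E1) (v : E1 →ₗ[B] G)

/-- The localized kernel of `u` is projective when `E⁰, E¹` are projective and the localized
cokernel is projective. -/
theorem projective_localizedModule_ker (huv : Function.Exact u v) (hv : Function.Surjective v)
    [Module.Projective B E0] [Module.Projective B E1]
    [Module.Projective (Localization S) (LocalizedModule S G)] :
    Module.Projective (Localization S) (LocalizedModule S (LinearMap.ker u)) := by
  haveI := projective_ker_of_exact (LocalizedModule.map S u) (LocalizedModule.map S v)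
    (LocalizedModule.map_exact S u v huv) (LocalizedModule.map_surjective S v hv)
  have hι : Function.Injective (LocalizedModule.map S (LinearMap.ker u).subtype) :=
    LocalizedModule.map_injective S (LinearMap.ker u).subtype Subtype.val_injective
  have hex : Function.Exact (LocalizedModule.map S (LinearMap.ker u).subtype)
      (LocalizedModule.map S u) :=
    LocalizedModule.map_exact S (LinearMap.ker u).subtype u (LinearMap.exact_subtype_ker_map u)
  let e : LocalizedModule S (LinearMap.ker u) ≃ₗ[Localization S]
      LinearMap.ker (LocalizedModule.map S u) :=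
    (LinearEquiv.ofInjective _ hι).trans (LinearEquiv.ofEq _ _ (LinearMap.exact_iff.1 hex).symm)
  exact Module.Projective.of_equiv e.symm

end LocKer

section BaseChangeDepth

variable {R S : Type*} [CommRing R] [CommRing S] [Algebra R S] [Module.Flat R S]
  {M N : Type*} [AddCommGroup M] [Module R M] [AddCommGroup N] [Module R N] [Module S N]
  [IsScalarTower R S N]

/-- Depth does not decrease under flat base change. -/
theorem le_idealDepth_of_isBaseChange (f : M →ₗ[R] N) (hf : IsBaseChange S f) (I : Ideal R)
    (n : ℕ) (h : (n : ℕ∞) ≤ idealDepth I M) :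
    (n : ℕ∞) ≤ idealDepth (I.map (algebraMap R S)) N := by
  rw [Groth.Agent.Lib.Helper93.Depth.natCast_le_idealDepth_iff] at h ⊢
  rcases h with h | ⟨rs, hlen, hmem, hreg⟩
  · left
    rw [eq_top_iff]
    intro x _
    refine hf.inductionOn x (motive := fun x => x ∈ (I.map (algebraMap R S)) •
      (⊤ : Submodule S N)) (Submodule.zero_mem _) ?_ ?_ ?_
    · intro m
      have hm : m ∈ I • (⊤ : Submodule R M) := by rw [h]; trivial
      refine Submodule.smul_induction_on hm ?_ ?_
      · intro a ha y _
        rw [map_smul, ← algebraMap_smul S a (f y)]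
        exact Submodule.smul_mem_smul (Ideal.mem_map_of_mem _ ha) Submodule.mem_top
      · intro a b ha hb
        rw [map_add]
        exact Submodule.add_mem _ ha hb
    · intro s y hy
      exact Submodule.smul_mem _ s hy
    · intro a b ha hb
      exact Submodule.add_mem _ ha hb
  · right
    refine ⟨rs.map (algebraMap R S), by rw [List.length_map, hlen], ?_, ?_⟩
    · intro r hr
      rw [List.mem_map] at hr
      obtain ⟨a, ha, rfl⟩ := hr
      exact Ideal.mem_map_of_mem _ (hmem a ha)
    · exact hreg.of_flat_of_isBaseChange hf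

end BaseChangeDepth

section Quot

variable (A B A' B' : Type u) [CommRing A] [CommRing B] [CommRing A'] [CommRing B']
  [Algebra A B] [Algebra A A'] [Algebra B B'] [Algebra A' B'] [Algebra A B']
  [IsScalarTower A B B'] [IsScalarTower A A' B'] [Algebra.IsPushout A B A' B'] (p' : Ideal A')

attribute [local instance] Algebra.TensorProduct.rightAlgebra

instance isScalarTower_quot_tensor : IsScalarTower A (A' ⧸ p') (B' ⊗[A'] (A' ⧸ p')) := by
  refine IsScalarTower.of_algebraMap_eq fun a => ?_
  rw [Algebra.TensorProduct.algebraMap_apply, Algebra.TensorProduct.right_algebraMap_apply,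
    IsScalarTower.algebraMap_apply A A' B', Algebra.algebraMap_eq_smul_one (algebraMap A A' a),
    TensorProduct.smul_tmul, IsScalarTower.algebraMap_apply A A' (A' ⧸ p'),
    Algebra.algebraMap_eq_smul_one (algebraMap A A' a)]

theorem isPushout_tensor_quotient :
    Algebra.IsPushout A B (A' ⧸ p') (B' ⊗[A'] (A' ⧸ p')) := by
  haveI : Algebra.IsPushout A A' B B' := Algebra.IsPushout.symm inferInstance
  have h : Algebra.IsPushout A (A' ⧸ p') B (B' ⊗[A'] (A' ⧸ p')) :=
    (Algebra.IsPushout.comp_iff A A' B (S' := B') (T := A' ⧸ p')
      (T' := B' ⊗[A'] (A' ⧸ p'))).mpr inferInstance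
  exact h.symm

end Quot

section FibBC

variable (A B A' B' : Type u) [CommRing A] [CommRing B] [CommRing A'] [CommRing B']
  [IsNoetherianRing A] [IsNoetherianRing B] [IsNoetherianRing B']
  [Algebra A B] [Algebra A A'] [Algebra B B'] [Algebra A' B'] [Algebra A B']
  [IsScalarTower A B B'] [IsScalarTower A A' B'] [Algebra.IsPushout A B A' B'] [Module.Flat A B]
  (J : Ideal B)

attribute [local instance] Algebra.TensorProduct.rightAlgebra

/-- `depth_{JB'} (B'/p'B') ≥ n` for every ideal `p'` of `A'`, when the fibre local rings of
`A → B` along `V(J)` have depth `≥ n`. -/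
theorem le_idealDepth_quotient_baseChange (n : ℕ)
    (hZ : ∀ q : PrimeSpectrum B, J ≤ q.asIdeal →
      (n : ℕ∞) ≤ LocCoh.idealDepth (q.asIdeal.map (algebraMap B (EGA4.FibLocRing A B q.asIdeal)))
        (EGA4.FibLocRing A B q.asIdeal)) (p' : Ideal A') :
    (n : ℕ∞) ≤ idealDepth (J.map (algebraMap B B')) (B' ⧸ p'.map (algebraMap A' B')) := by
  haveI := isPushout_tensor_quotient A B A' B' p'
  let e := Algebra.TensorProduct.quotIdealMapEquivTensorQuot B' p'
  haveI : IsNoetherianRing (B' ⊗[A'] (A' ⧸ p')) := isNoetherianRing_of_ringEquiv _ e.toRingEquiv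
  have h1 := Groth.Agent.Lib.Helper12.FibreDepthBC.le_idealDepth_baseChange_self_of_fibLocRing
    A B (A' ⧸ p') (B' ⊗[A'] (A' ⧸ p')) J n hZ
  have hs : Function.Surjective (algebraMap B' (B' ⊗[A'] (A' ⧸ p'))) := by
    intro x
    obtain ⟨y, rfl⟩ := e.surjective x
    obtain ⟨b, rfl⟩ := Ideal.Quotient.mk_surjective y
    exact ⟨b, (e.commutes b).symm⟩
  have h2 := Groth.Agent.Lib.Helper12.FibreDepth.le_idealDepth_of_surjective (R := B')
    (R' := B' ⊗[A'] (A' ⧸ p')) (B' ⊗[A'] (A' ⧸ p')) hs (J.map (algebraMap B B')) n
    (by rw [Ideal.map_map, ← IsScalarTower.algebraMap_eq]; exact h1)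
  rw [Groth.Agent.Lib.Helper29.idealDepth_congr _ e.toLinearEquiv]
  exact h2

/-- The fibre local rings of `A' → B'` have `J`-depth `≥ n` at every prime. -/
theorem le_idealDepth_fibLocRing_baseChange (n : ℕ)
    (hZ : ∀ q : PrimeSpectrum B, J ≤ q.asIdeal →
      (n : ℕ∞) ≤ LocCoh.idealDepth (q.asIdeal.map (algebraMap B (EGA4.FibLocRing A B q.asIdeal)))
        (EGA4.FibLocRing A B q.asIdeal)) (q' : Ideal B') [q'.IsPrime] :
    (n : ℕ∞) ≤ idealDepth
      ((J.map (algebraMap B B')).map (algebraMap B' (EGA4.FibLocRing A' B' q')))
      (EGA4.FibLocRing A' B' q') := by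
  have h1 := le_idealDepth_quotient_baseChange A B A' B' J n hZ (q'.comap (algebraMap A' B'))
  have h2 := le_idealDepth_of_isBaseChange
    (Submodule.toLocalizedQuotient' (Localization.AtPrime q') q'.primeCompl
      (Algebra.linearMap B' (Localization.AtPrime q'))
      ((q'.comap (algebraMap A' B')).map (algebraMap A' B')))
    (IsLocalizedModule.isBaseChange q'.primeCompl (Localization.AtPrime q') _)
    (J.map (algebraMap B B')) n h1
  have hI : Submodule.localized' (Localization.AtPrime q') q'.primeCompl
      (Algebra.linearMap B' (Localization.AtPrime q'))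
      ((q'.comap (algebraMap A' B')).map (algebraMap A' B')) =
      (q'.comap (algebraMap A' B')).map (algebraMap A' (Localization.AtPrime q')) := by
    rw [Ideal.localized'_eq_map, Ideal.map_map, ← IsScalarTower.algebraMap_eq]
  rw [Groth.Agent.Lib.Helper29.idealDepth_congr _ (Submodule.quotEquivOfEq _ _ hI)] at h2
  have h3 := Groth.Agent.Lib.Helper12.FourTermLocal.le_idealDepth_map
    (R := Localization.AtPrime q') (R' := EGA4.FibLocRing A' B' q') (EGA4.FibLocRing A' B' q')
    _ n h2
  rwa [Ideal.map_map, ← IsScalarTower.algebraMap_eq] at h3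

end FibBC

end Groth.Agent.Lib.Helper12.FourTermBC
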