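import Groth.Agent.Lib.Helper12.FibreDepth
import Groth.Agent.Lib.Helper12.BaseChangeFree
import Groth.Agent.S18708

/-!
# Four-term exact sequences: from the local criterion to a global one (helper12)

`A → B` flat, Noetherian; `0 → F → E⁰ → E¹ → G → 0` exact with `E⁰, E¹` finite projective, `G` free
off `V(J)`; all fibre local rings of `J`-depth `≥ 2`.  Then `G` is `A`-flat iff `F` is `A`-flat with
fibre stalks of `J`-depth `≥ 2` (`global_iff`); `local_step` is the statement at one prime.
-/

set_option autoImplicit false
universe u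

namespace Groth.Agent.Lib.Helper12.FourTermLocal

open IsLocalRing RingTheory.Sequence TensorProduct LocCoh
open scoped Pointwise

section Surj

variable {R R' : Type*} [CommRing R] [CommRing R'] [Algebra R R']
  (M : Type*) [AddCommGroup M] [Module R M] [Module R' M] [IsScalarTower R R' M]

/-- Depth over the ring bounds depth over an algebra w.r.t. the extended ideal (same module). -/
theorem le_idealDepth_map (I : Ideal R)
    (n : ℕ) (h : (n : ℕ∞) ≤ idealDepth I M) :
    (n : ℕ∞) ≤ idealDepth (I.map (algebraMap R R')) M := by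
  rw [Groth.Agent.Lib.Helper93.Depth.natCast_le_idealDepth_iff] at h ⊢
  rcases h with h | ⟨rs, hlen, hmem, hreg⟩
  · left
    rw [eq_top_iff]
    intro x _
    have hx : x ∈ I • (⊤ : Submodule R M) := by rw [h]; trivial
    exact (Groth.Agent.Lib.Helper93.DepthFlat.mem_map_smul_top_iff (S := R') (N := M) I x).mpr hx
  · right
    refine ⟨rs.map (algebraMap R R'), by rw [List.length_map, hlen], ?_, ?_⟩
    · intro r hr
      rw [List.mem_map] at hr
      obtain ⟨a, ha, rfl⟩ := hr
      exact Ideal.mem_map_of_mem _ (hmem a ha)
    · exact (isWeaklyRegular_map_algebraMap_iff R' M rs).mpr hreg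

end Surj

section FlatTensor

variable {R : Type*} [CommRing R] (I : Ideal R) (M P : Type*) [AddCommGroup M] [Module R M]
  [AddCommGroup P] [Module R P] [Module.Flat R P]

/-- Tensoring with a flat module does not decrease depth. -/
theorem le_idealDepth_tensor_of_flat (n : ℕ) (h : (n : ℕ∞) ≤ idealDepth I M) :
    (n : ℕ∞) ≤ idealDepth I (M ⊗[R] P) := by
  rw [Groth.Agent.Lib.Helper93.Depth.natCast_le_idealDepth_iff] at h ⊢
  rcases h with h | ⟨rs, hlen, hmem, hreg⟩
  · left
    rw [eq_top_iff]
    intro t ht
    clear ht
    induction t using TensorProduct.induction_on with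
    | zero => exact Submodule.zero_mem _
    | add a b ha hb => exact Submodule.add_mem _ ha hb
    | tmul m x =>
      have hm : m ∈ I • (⊤ : Submodule R M) := by rw [h]; trivial
      refine Submodule.smul_induction_on hm ?_ ?_
      · intro a ha y _
        rw [← TensorProduct.smul_tmul']
        exact Submodule.smul_mem_smul ha Submodule.mem_top
      · intro a b ha hb
        rw [TensorProduct.add_tmul]
        exact Submodule.add_mem _ ha hb
  · right
    exact ⟨rs, hlen, hmem, IsWeaklyRegular.isWeaklyRegular_rTensor (M₂ := P) hreg⟩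

end FlatTensor

section DoubleLoc

variable (B : Type u) [CommRing B] (q : Ideal B) [q.IsPrime] (G : Type u) [AddCommGroup G]
  [Module B G] (Q : Ideal (Localization.AtPrime q)) [Q.IsPrime]

/-- If `G` is free at the prime `Q ∩ B`, then `(G_q)_Q` is flat over `B_q`. -/
theorem flat_localizedModule_localizedModule
    [Module.Free (Localization.AtPrime (Q.comap (algebraMap B (Localization.AtPrime q))))
      (LocalizedModule (Q.comap (algebraMap B (Localization.AtPrime q))).primeCompl G)] :
    Module.Flat (Localization.AtPrime q)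
      (LocalizedModule Q.primeCompl (LocalizedModule q.primeCompl G)) := by
  haveI := Groth.Agent.Lib.Helper12.BaseChangeFree.free_localizedModule_baseChange B
    (Localization.AtPrime q) Q G
  haveI : Module.Flat (Localization.AtPrime q)
      (LocalizedModule Q.primeCompl (Localization.AtPrime q ⊗[B] G)) :=
    Module.Flat.trans (Localization.AtPrime q) (Localization.AtPrime Q) _
  let e : LocalizedModule q.primeCompl G ≃ₗ[Localization.AtPrime q]
      Localization.AtPrime q ⊗[B] G :=
    (LocalizedModule.isBaseChange q.primeCompl G).equiv.symm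
  let eQ := IsLocalizedModule.linearEquiv Q.primeCompl
    (LocalizedModule.mkLinearMap Q.primeCompl (LocalizedModule q.primeCompl G))
    ((LocalizedModule.mkLinearMap Q.primeCompl (Localization.AtPrime q ⊗[B] G)) ∘ₗ
      e.toLinearMap)
  exact Module.Flat.of_linearEquiv eQ

end DoubleLoc

section Local

variable (A B : Type u) [CommRing A] [CommRing B] [IsNoetherianRing A] [IsNoetherianRing B]
  [Algebra A B] [Module.Flat A B] (J : Ideal B)
  {F E0 E1 G : Type u} [AddCommGroup F] [Module B F] [Module A F] [IsScalarTower A B F]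
  [Module.Finite B F]
  [AddCommGroup E0] [Module B E0] [Module.Finite B E0] [Module.Projective B E0]
  [AddCommGroup E1] [Module B E1] [Module.Finite B E1] [Module.Projective B E1]
  [AddCommGroup G] [Module B G] [Module A G] [IsScalarTower A B G] [Module.Finite B G]
  (f : F →ₗ[B] E0) (u : E0 →ₗ[B] E1) (v : E1 →ₗ[B] G)
  (hf : Function.Injective f) (hfu : Function.Exact f u) (huv : Function.Exact u v)
  (hv : Function.Surjective v)
  (hGU : ∀ q : PrimeSpectrum B, ¬ J ≤ q.asIdeal →
    Module.Free (Localization.AtPrime q.asIdeal) (LocalizedModule q.asIdeal.primeCompl G))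
  (q : Ideal B) [q.IsPrime]

local notation "Ap" => Localization.AtPrime (Ideal.comap (algebraMap A B) q)
local notation "Bq" => Localization.AtPrime q

include hf hfu huv hv hGU in
/-- The local step: at a prime `q`, with fibre local ring of `J`-depth `≥ 2`. -/
theorem local_step
    (hq : 2 ≤ idealDepth (J.map (algebraMap B (EGA4.FibLocRing A B q))) (EGA4.FibLocRing A B q)) :
    (2 ≤ idealDepth (J.map (algebraMap B (EGA4.FibLocRing A B q))) (EGA4.FibLocMod A B q F) ↔
      Module.Flat A (LocalizedModule q.primeCompl G)) ∧
    (Module.Flat A (LocalizedModule q.primeCompl G) →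
      Module.Flat A (LocalizedModule q.primeCompl F)) := by
  haveI hlies : q.LiesOver (q.comap (algebraMap A B)) := ⟨rfl⟩
  letI alg := Localization.AtPrime.algebraOfLiesOver (q.comap (algebraMap A B)) q
  haveI hNp : IsNoetherianRing Ap :=
    IsLocalization.isNoetherianRing (q.comap (algebraMap A B)).primeCompl _ inferInstance
  haveI hNq : IsNoetherianRing Bq :=
    IsLocalization.isNoetherianRing q.primeCompl _ inferInstance
  haveI hloc : IsLocalHom (algebraMap Ap Bq) := by
    rw [Localization.AtPrime.IsLiesOverAlgebra.algebraMap_eq]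
    exact Localization.isLocalHom_localRingHom _ _ _ _
  have hmap : (maximalIdeal Ap).map (algebraMap Ap Bq) =
      (q.comap (algebraMap A B)).map (algebraMap A Bq) := by
    rw [← Localization.AtPrime.map_eq_maximalIdeal, Ideal.map_map,
      ← IsScalarTower.algebraMap_eq]
  -- module structures over `A_p`
  letI mF : Module Ap (LocalizedModule q.primeCompl F) :=
    Module.compHom _ (algebraMap Ap Bq)
  haveI tF : IsScalarTower Ap Bq (LocalizedModule q.primeCompl F) :=
    IsScalarTower.of_algebraMap_smul fun _ _ => rfl
  haveI tAF : IsScalarTower A Ap (LocalizedModule q.primeCompl F) := by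
    refine ⟨fun a r x => ?_⟩
    change algebraMap Ap Bq (a • r) • x = a • (algebraMap Ap Bq r • x)
    rw [Algebra.smul_def, map_mul, ← IsScalarTower.algebraMap_apply, mul_smul,
      algebraMap_smul]
  letI mE0 : Module Ap (LocalizedModule q.primeCompl E0) :=
    Module.compHom _ (algebraMap Ap Bq)
  haveI tE0 : IsScalarTower Ap Bq (LocalizedModule q.primeCompl E0) :=
    IsScalarTower.of_algebraMap_smul fun _ _ => rfl
  letI mE1 : Module Ap (LocalizedModule q.primeCompl E1) :=
    Module.compHom _ (algebraMap Ap Bq)
  haveI tE1 : IsScalarTower Ap Bq (LocalizedModule q.primeCompl E1) :=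
    IsScalarTower.of_algebraMap_smul fun _ _ => rfl
  letI mG : Module Ap (LocalizedModule q.primeCompl G) :=
    Module.compHom _ (algebraMap Ap Bq)
  haveI tG : IsScalarTower Ap Bq (LocalizedModule q.primeCompl G) :=
    IsScalarTower.of_algebraMap_smul fun _ _ => rfl
  haveI tAG : IsScalarTower A Ap (LocalizedModule q.primeCompl G) := by
    refine ⟨fun a r x => ?_⟩
    change algebraMap Ap Bq (a • r) • x = a • (algebraMap Ap Bq r • x)
    rw [Algebra.smul_def, map_mul, ← IsScalarTower.algebraMap_apply, mul_smul,
      algebraMap_smul]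
  haveI fE0 : Module.Flat Ap (LocalizedModule q.primeCompl E0) := Module.Flat.trans Ap Bq _
  haveI fE1 : Module.Flat Ap (LocalizedModule q.primeCompl E1) := Module.Flat.trans Ap Bq _
  -- the localized sequence
  have hfq := LocalizedModule.map_injective q.primeCompl f hf
  have hfuq := LocalizedModule.map_exact q.primeCompl f u hfu
  have huvq := LocalizedModule.map_exact q.primeCompl u v huv
  have hvq := LocalizedModule.map_surjective q.primeCompl v hv
  -- flatness of `G_q` off `V(J)`
  have hGUq : ∀ Q : PrimeSpectrum Bq, ¬ J.map (algebraMap B Bq) ≤ Q.asIdeal →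
      FlatCA.FlatAt Ap Q.asIdeal (LocalizedModule q.primeCompl G) := by
    intro Q hQ
    have hq1 : ¬ J ≤ Q.asIdeal.comap (algebraMap B Bq) := fun h =>
      hQ (Ideal.map_le_iff_le_comap.mpr h)
    haveI := hGU ⟨Q.asIdeal.comap (algebraMap B Bq), inferInstance⟩ hq1
    haveI := flat_localizedModule_localizedModule B q G Q.asIdeal
    exact Module.Flat.trans Ap Bq _
  -- depth of the fibre ring over `B_q`
  have hq1 : ((2 : ℕ) : ℕ∞) ≤ idealDepth (J.map (algebraMap B Bq)) (EGA4.FibLocRing A B q) := by
    refine Groth.Agent.Lib.Helper12.FibreDepth.le_idealDepth_of_surjective (R := Bq)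
      (R' := EGA4.FibLocRing A B q) (EGA4.FibLocRing A B q) Ideal.Quotient.mk_surjective
      (J.map (algebraMap B Bq)) 2 ?_
    rw [Ideal.map_map, ← IsScalarTower.algebraMap_eq]
    exact hq
  have hdepthE : ∀ (E : Type u) [AddCommGroup E] [Module Bq E] [Module.Flat Bq E] (n : ℕ),
      (n : ℕ∞) ≤ 2 → (n : ℕ∞) ≤ idealDepth (J.map (algebraMap B Bq))
        (E ⧸ ((maximalIdeal Ap).map (algebraMap Ap Bq) • (⊤ : Submodule Bq E))) := by
    intro E _ _ _ n hn
    have h1 := le_idealDepth_tensor_of_flat (J.map (algebraMap B Bq)) (EGA4.FibLocRing A B q) E n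
      (le_trans hn hq1)
    rw [Groth.Agent.Lib.Helper29.idealDepth_congr _
      (TensorProduct.quotTensorEquivQuotSMul E
        ((q.comap (algebraMap A B)).map (algebraMap A Bq)))] at h1
    rw [hmap]
    exact h1
  have h0 : 2 ≤ idealDepth (J.map (algebraMap B Bq))
      (EGA4.FibMod Ap Bq (LocalizedModule q.primeCompl E0)) :=
    hdepthE (LocalizedModule q.primeCompl E0) 2 le_rfl
  have h1 : 1 ≤ idealDepth (J.map (algebraMap B Bq))
      (EGA4.FibMod Ap Bq (LocalizedModule q.primeCompl E1)) := by
    have := hdepthE (LocalizedModule q.primeCompl E1) 1 (by norm_num)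
    simpa using this
  have key := Groth.Agent.S18708.result Ap Bq (J.map (algebraMap B Bq))
    (LocalizedModule q.primeCompl F) (LocalizedModule q.primeCompl E0)
    (LocalizedModule q.primeCompl E1) (LocalizedModule q.primeCompl G)
    (LocalizedModule.map q.primeCompl f) (LocalizedModule.map q.primeCompl u)
    (LocalizedModule.map q.primeCompl v) hfq hfuq huvq hvq hGUq h0 h1
  have hflatG : Module.Flat Ap (LocalizedModule q.primeCompl G) ↔
      Module.Flat A (LocalizedModule q.primeCompl G) :=
    Module.flat_iff_of_isLocalization Ap (q.comap (algebraMap A B)).primeCompl _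
  have hflatF : Module.Flat Ap (LocalizedModule q.primeCompl F) ↔
      Module.Flat A (LocalizedModule q.primeCompl F) :=
    Module.flat_iff_of_isLocalization Ap (q.comap (algebraMap A B)).primeCompl _
  have hJmap : (J.map (algebraMap B Bq)).map (algebraMap Bq (EGA4.FibLocRing A B q)) =
      J.map (algebraMap B (EGA4.FibLocRing A B q)) := by
    rw [Ideal.map_map, ← IsScalarTower.algebraMap_eq]
  have hcongr : idealDepth (J.map (algebraMap B Bq))
      (EGA4.FibMod Ap Bq (LocalizedModule q.primeCompl F)) =
      idealDepth (J.map (algebraMap B Bq)) (EGA4.FibLocMod A B q F) :=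
    Groth.Agent.Lib.Helper29.idealDepth_congr _ (Submodule.quotEquivOfEq _ _ (by rw [EGA4.mB, hmap]))
  have hbridge : 2 ≤ idealDepth (J.map (algebraMap B Bq))
      (EGA4.FibMod Ap Bq (LocalizedModule q.primeCompl F)) ↔
      2 ≤ idealDepth (J.map (algebraMap B (EGA4.FibLocRing A B q))) (EGA4.FibLocMod A B q F) := by
    rw [hcongr, ← hJmap]
    constructor
    · intro h
      exact le_idealDepth_map (R := Bq) (R' := EGA4.FibLocRing A B q) (EGA4.FibLocMod A B q F)
        (J.map (algebraMap B Bq)) 2 h
    · intro h
      exact Groth.Agent.Lib.Helper12.FibreDepth.le_idealDepth_of_surjective (R := Bq)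
        (R' := EGA4.FibLocRing A B q) (EGA4.FibLocMod A B q F) Ideal.Quotient.mk_surjective
        (J.map (algebraMap B Bq)) 2 h
  refine ⟨?_, ?_⟩
  · rw [← hbridge, ← hflatG]
    exact key.1
  · intro hG
    rw [← hflatF]
    exact key.2.2 (hflatG.mpr hG)

include hf hfu huv hv hGU in
/-- Global form: with all fibre local rings of `J`-depth `≥ 2`, the cokernel `G` is `A`-flat iff
`F` is `A`-flat with fibre stalks of `J`-depth `≥ 2` at every prime. -/
theorem global_iff
    (hfib : ∀ q : PrimeSpectrum B,
      2 ≤ idealDepth (J.map (algebraMap B (EGA4.FibLocRing A B q.asIdeal)))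
        (EGA4.FibLocRing A B q.asIdeal)) :
    (∀ q : PrimeSpectrum B, FlatCA.FlatAt A q.asIdeal F ∧
        2 ≤ idealDepth (J.map (algebraMap B (EGA4.FibLocRing A B q.asIdeal)))
          (EGA4.FibLocMod A B q.asIdeal F)) ↔
      Module.Flat A G := by
  constructor
  · intro h
    refine Module.flat_of_isLocalized_maximal B G (fun P _ => LocalizedModule P.primeCompl G)
      (fun P _ => LocalizedModule.mkLinearMap P.primeCompl G) ?_
    intro P hP
    exact ((local_step A B J f u v hf hfu huv hv hGU P (hfib ⟨P, inferInstance⟩)).1).mp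
      (h ⟨P, inferInstance⟩).2
  · intro hG q
    haveI := hG
    have hGq : Module.Flat A (LocalizedModule q.asIdeal.primeCompl G) :=
      Groth.Agent.Lib.Helper12.FibreDepth.flat_localizedModule q.asIdeal.primeCompl G
    have := local_step A B J f u v hf hfu huv hv hGU q.asIdeal (hfib q)
    exact ⟨this.2 hGq, this.1.mpr hGq⟩

end Local

end Groth.Agent.Lib.Helper12.FourTermLocal
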