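import Groth.Agent.Lib.Helper12.FourTermLocal
import Groth.Agent.S0387

/-!
# Four-term exact sequences: the pointwise criterion (helper12)

`A → B` Noetherian; `0 → F → E⁰ → E¹ → G → 0` exact with `E⁰, E¹` finite and `A`-flat.  At a prime
`q` of `B` such that `G` is `A`-flat at all primes strictly below `q`, and the fibre stalks of
`E⁰`, `E¹` at `q` have depth `≥ 2`, `≥ 1`: `G_q` is `A`-flat iff the fibre stalk of `F` at `q` has
depth `≥ 2`, and then `F_q` is `A`-flat.
-/

set_option autoImplicit false
universe u

namespace Groth.Agent.Lib.Helper12.FourTermPoint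

open IsLocalRing RingTheory.Sequence TensorProduct LocCoh
open scoped Pointwise

section DoubleLoc

variable (A B : Type u) [CommRing A] [CommRing B] [Algebra A B] (q : Ideal B) [q.IsPrime]
  (G : Type u) [AddCommGroup G] [Module B G] [Module A G] [IsScalarTower A B G]
  (Q : Ideal (Localization.AtPrime q)) [Q.IsPrime]

/-- If `G` is `A`-flat at the prime `Q ∩ B`, then `(G_q)_Q` is `A`-flat. -/
theorem flat_localizedModule_localizedModule
    [Module.Flat A (LocalizedModule (Q.comap (algebraMap B (Localization.AtPrime q))).primeCompl G)] :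
    Module.Flat A (LocalizedModule Q.primeCompl (LocalizedModule q.primeCompl G)) := by
  have h1 : IsBaseChange (Localization.AtPrime q) (LocalizedModule.mkLinearMap q.primeCompl G) :=
    LocalizedModule.isBaseChange q.primeCompl G
  have h2 : IsBaseChange (Localization.AtPrime Q)
      (LocalizedModule.mkLinearMap Q.primeCompl (LocalizedModule q.primeCompl G)) :=
    LocalizedModule.isBaseChange Q.primeCompl _
  have h12 := IsBaseChange.comp h1 h2
  haveI : IsLocalizedModule (Q.comap (algebraMap B (Localization.AtPrime q))).primeCompl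
      (((LocalizedModule.mkLinearMap Q.primeCompl
        (LocalizedModule q.primeCompl G)).restrictScalars B).comp
          (LocalizedModule.mkLinearMap q.primeCompl G)) :=
    (isLocalizedModule_iff_isBaseChange
      (Q.comap (algebraMap B (Localization.AtPrime q))).primeCompl (Localization.AtPrime Q) _).mpr h12
  have e := IsLocalizedModule.iso (Q.comap (algebraMap B (Localization.AtPrime q))).primeCompl
      (((LocalizedModule.mkLinearMap Q.primeCompl
        (LocalizedModule q.primeCompl G)).restrictScalars B).comp
          (LocalizedModule.mkLinearMap q.primeCompl G))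
  exact Module.Flat.of_linearEquiv (e.restrictScalars A).symm

end DoubleLoc

section Local

variable (A B : Type u) [CommRing A] [CommRing B] [IsNoetherianRing A] [IsNoetherianRing B]
  [Algebra A B]
  {F E0 E1 G : Type u} [AddCommGroup F] [Module B F] [Module A F] [IsScalarTower A B F]
  [Module.Finite B F]
  [AddCommGroup E0] [Module B E0] [Module A E0] [IsScalarTower A B E0] [Module.Finite B E0]
  [Module.Flat A E0]
  [AddCommGroup E1] [Module B E1] [Module A E1] [IsScalarTower A B E1] [Module.Finite B E1]
  [Module.Flat A E1]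
  [AddCommGroup G] [Module B G] [Module A G] [IsScalarTower A B G] [Module.Finite B G]
  (f : F →ₗ[B] E0) (u : E0 →ₗ[B] E1) (v : E1 →ₗ[B] G)
  (hf : Function.Injective f) (hfu : Function.Exact f u) (huv : Function.Exact u v)
  (hv : Function.Surjective v)
  (q : Ideal B) [q.IsPrime]

local notation "Ap" => Localization.AtPrime (Ideal.comap (algebraMap A B) q)
local notation "Bq" => Localization.AtPrime q

include hf hfu huv hv in
/-- The pointwise step: at a prime `q` such that `G` is flat at all smaller primes. -/
theorem local_step_point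
    (hlt : ∀ q' : PrimeSpectrum B, q'.asIdeal < q →
      Module.Flat A (LocalizedModule q'.asIdeal.primeCompl G))
    (h0q : 2 ≤ idealDepth (q.map (algebraMap B (EGA4.FibLocRing A B q))) (EGA4.FibLocMod A B q E0))
    (h1q : 1 ≤ idealDepth (q.map (algebraMap B (EGA4.FibLocRing A B q))) (EGA4.FibLocMod A B q E1)) :
    (2 ≤ idealDepth (q.map (algebraMap B (EGA4.FibLocRing A B q))) (EGA4.FibLocMod A B q F) ↔
      Module.Flat A (LocalizedModule q.primeCompl G)) ∧
    (Module.Flat A (LocalizedModule q.primeCompl G) →
      Module.Flat A (LocalizedModule q.primeCompl F)) := by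
  haveI hlies : q.LiesOver (q.comap (algebraMap A B)) := ⟨rfl⟩
  letI alg := Localization.AtPrime.algebraOfLiesOver (q.comap (algebraMap A B)) q
  haveI hNp : IsNoetherianRing Ap :=
    IsLocalization.isNoetherianRing (q.comap (algebraMap A B)).primeCompl _ inferInstance
  haveI hNq : IsNoetherianRing Bq :=
    IsLocalization.isNoetherianRing q.primeCompl _ inferInstance
  haveI hloc : IsLocalHom (algebraMap Ap Bq) := by
    rw [Localization.AtPrime.IsLiesOverAlgebra.algebraMap_eq]
    exact Localization.isLocalHom_localRingHom _ _ _ _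
  have hmap : (maximalIdeal Ap).map (algebraMap Ap Bq) =
      (q.comap (algebraMap A B)).map (algebraMap A Bq) := by
    rw [← Localization.AtPrime.map_eq_maximalIdeal, Ideal.map_map,
      ← IsScalarTower.algebraMap_eq]
  -- module structures over `A_p`
  have hAp : ∀ (X : Type u) [AddCommGroup X] [Module B X] [Module A X] [IsScalarTower A B X],
      letI : Module Ap (LocalizedModule q.primeCompl X) := Module.compHom _ (algebraMap Ap Bq)
      IsScalarTower A Ap (LocalizedModule q.primeCompl X) := by
    intro X _ _ _ _
    letI : Module Ap (LocalizedModule q.primeCompl X) := Module.compHom _ (algebraMap Ap Bq)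
    refine ⟨fun a r x => ?_⟩
    change algebraMap Ap Bq (a • r) • x = a • (algebraMap Ap Bq r • x)
    rw [Algebra.smul_def, map_mul, ← IsScalarTower.algebraMap_apply, mul_smul,
      algebraMap_smul]
  letI mF : Module Ap (LocalizedModule q.primeCompl F) :=
    Module.compHom _ (algebraMap Ap Bq)
  haveI tF : IsScalarTower Ap Bq (LocalizedModule q.primeCompl F) :=
    IsScalarTower.of_algebraMap_smul fun _ _ => rfl
  haveI tAF : IsScalarTower A Ap (LocalizedModule q.primeCompl F) := hAp F
  letI mE0 : Module Ap (LocalizedModule q.primeCompl E0) :=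
    Module.compHom _ (algebraMap Ap Bq)
  haveI tE0 : IsScalarTower Ap Bq (LocalizedModule q.primeCompl E0) :=
    IsScalarTower.of_algebraMap_smul fun _ _ => rfl
  haveI tAE0 : IsScalarTower A Ap (LocalizedModule q.primeCompl E0) := hAp E0
  letI mE1 : Module Ap (LocalizedModule q.primeCompl E1) :=
    Module.compHom _ (algebraMap Ap Bq)
  haveI tE1 : IsScalarTower Ap Bq (LocalizedModule q.primeCompl E1) :=
    IsScalarTower.of_algebraMap_smul fun _ _ => rfl
  haveI tAE1 : IsScalarTower A Ap (LocalizedModule q.primeCompl E1) := hAp E1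
  letI mG : Module Ap (LocalizedModule q.primeCompl G) :=
    Module.compHom _ (algebraMap Ap Bq)
  haveI tG : IsScalarTower Ap Bq (LocalizedModule q.primeCompl G) :=
    IsScalarTower.of_algebraMap_smul fun _ _ => rfl
  haveI tAG : IsScalarTower A Ap (LocalizedModule q.primeCompl G) := hAp G
  have hflatX : ∀ (X : Type u) [AddCommGroup X] [Module Ap X] [Module A X] [IsScalarTower A Ap X],
      Module.Flat Ap X ↔ Module.Flat A X := fun X _ _ _ _ =>
    Module.flat_iff_of_isLocalization Ap (q.comap (algebraMap A B)).primeCompl X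
  haveI fE0 : Module.Flat Ap (LocalizedModule q.primeCompl E0) :=
    (hflatX _).mpr (Groth.Agent.Lib.Helper12.FibreDepth.flat_localizedModule q.primeCompl E0)
  haveI fE1 : Module.Flat Ap (LocalizedModule q.primeCompl E1) :=
    (hflatX _).mpr (Groth.Agent.Lib.Helper12.FibreDepth.flat_localizedModule q.primeCompl E1)
  -- the localized sequence
  have hfq := LocalizedModule.map_injective q.primeCompl f hf
  have hfuq := LocalizedModule.map_exact q.primeCompl f u hfu
  have huvq := LocalizedModule.map_exact q.primeCompl u v huv
  have hvq := LocalizedModule.map_surjective q.primeCompl v hv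
  -- flatness of `G_q` off the closed point
  have hGUq : ∀ Q : PrimeSpectrum Bq, ¬ q.map (algebraMap B Bq) ≤ Q.asIdeal →
      FlatCA.FlatAt Ap Q.asIdeal (LocalizedModule q.primeCompl G) := by
    intro Q hQ
    have hle : Q.asIdeal.comap (algebraMap B Bq) ≤ q := by
      have h1 : Q.asIdeal ≤ maximalIdeal Bq := IsLocalRing.le_maximalIdeal Q.2.ne_top
      have h2 := Ideal.comap_mono (f := algebraMap B Bq) h1
      have h3 : (maximalIdeal Bq).comap (algebraMap B Bq) = q :=
        IsLocalization.AtPrime.under_maximalIdeal Bq q
      exact le_of_le_of_eq h2 h3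
    have hne : Q.asIdeal.comap (algebraMap B Bq) ≠ q := fun h =>
      hQ (le_trans (Ideal.map_mono (le_of_eq h.symm)) Ideal.map_comap_le)
    haveI := hlt ⟨Q.asIdeal.comap (algebraMap B Bq), inferInstance⟩ (lt_of_le_of_ne hle hne)
    have hA := flat_localizedModule_localizedModule A B q G Q.asIdeal
    change Module.Flat Ap (LocalizedModule Q.asIdeal.primeCompl (LocalizedModule q.primeCompl G))
    exact (hflatX _).mpr hA
  have hJmap : (q.map (algebraMap B Bq)).map (algebraMap Bq (EGA4.FibLocRing A B q)) =
      q.map (algebraMap B (EGA4.FibLocRing A B q)) := by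
    rw [Ideal.map_map, ← IsScalarTower.algebraMap_eq]
  have hbridge : ∀ (X : Type u) [AddCommGroup X] [Module B X] (n : ℕ),
      (n : ℕ∞) ≤ idealDepth (q.map (algebraMap B Bq))
        (EGA4.FibMod Ap Bq (LocalizedModule q.primeCompl X)) ↔
      (n : ℕ∞) ≤ idealDepth (q.map (algebraMap B (EGA4.FibLocRing A B q)))
        (EGA4.FibLocMod A B q X) := by
    intro X _ _ n
    have hcongr : idealDepth (q.map (algebraMap B Bq))
        (EGA4.FibMod Ap Bq (LocalizedModule q.primeCompl X)) =
        idealDepth (q.map (algebraMap B Bq)) (EGA4.FibLocMod A B q X) :=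
      Groth.Agent.Lib.Helper29.idealDepth_congr _
        (Submodule.quotEquivOfEq _ _ (by rw [EGA4.mB, hmap]))
    rw [hcongr, ← hJmap]
    constructor
    · intro h
      exact Groth.Agent.Lib.Helper12.FourTermLocal.le_idealDepth_map (R := Bq)
        (R' := EGA4.FibLocRing A B q) (EGA4.FibLocMod A B q X)
        (q.map (algebraMap B Bq)) n h
    · intro h
      exact Groth.Agent.Lib.Helper12.FibreDepth.le_idealDepth_of_surjective (R := Bq)
        (R' := EGA4.FibLocRing A B q) (EGA4.FibLocMod A B q X) Ideal.Quotient.mk_surjective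
        (q.map (algebraMap B Bq)) n h
  have h0 : 2 ≤ idealDepth (q.map (algebraMap B Bq))
      (EGA4.FibMod Ap Bq (LocalizedModule q.primeCompl E0)) :=
    (hbridge E0 2).mpr h0q
  have h1 : 1 ≤ idealDepth (q.map (algebraMap B Bq))
      (EGA4.FibMod Ap Bq (LocalizedModule q.primeCompl E1)) := by
    have := (hbridge E1 1).mpr (by simpa using h1q)
    simpa using this
  have key := Groth.Agent.S18708.result Ap Bq (q.map (algebraMap B Bq))
    (LocalizedModule q.primeCompl F) (LocalizedModule q.primeCompl E0)
    (LocalizedModule q.primeCompl E1) (LocalizedModule q.primeCompl G)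
    (LocalizedModule.map q.primeCompl f) (LocalizedModule.map q.primeCompl u)
    (LocalizedModule.map q.primeCompl v) hfq hfuq huvq hvq hGUq h0 h1
  refine ⟨?_, ?_⟩
  · rw [← hflatX (LocalizedModule q.primeCompl G)]
    exact ((hbridge F 2).symm).trans key.1
  · intro hG
    rw [← hflatX (LocalizedModule q.primeCompl F)]
    exact key.2.2 ((hflatX _).mpr hG)

end Local

section FlatF

variable (A B : Type u) [CommRing A] [CommRing B] [Algebra A B]
  {F E0 E1 G : Type u} [AddCommGroup F] [Module B F] [Module A F] [IsScalarTower A B F]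
  [AddCommGroup E0] [Module B E0] [Module A E0] [IsScalarTower A B E0] [Module.Flat A E0]
  [AddCommGroup E1] [Module B E1] [Module A E1] [IsScalarTower A B E1] [Module.Flat A E1]
  [AddCommGroup G] [Module B G] [Module A G] [IsScalarTower A B G]
  (f : F →ₗ[B] E0) (u : E0 →ₗ[B] E1) (v : E1 →ₗ[B] G)
  (hf : Function.Injective f) (hfu : Function.Exact f u) (huv : Function.Exact u v)
  (hv : Function.Surjective v)

include hf hfu huv hv in
/-- In a four-term exact sequence with flat middle terms, `G` flat implies `F` flat. -/
theorem flat_F_of_flat_G [Module.Flat A G] : Module.Flat A F := by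
  haveI : Module.Flat A (LinearMap.ker (v.restrictScalars A)) :=
    Groth.Agent.Lib.Helper71.flat_ker_of_surjective (v.restrictScalars A) hv
  let uh : E0 →ₗ[A] LinearMap.ker (v.restrictScalars A) :=
    (u.restrictScalars A).codRestrict _ (fun x => huv.apply_apply_eq_zero x)
  have huh : Function.Surjective uh := by
    rintro ⟨z, hz⟩
    obtain ⟨y, rfl⟩ := (huv z).1 hz
    exact ⟨y, rfl⟩
  haveI : Module.Flat A (LinearMap.ker uh) :=
    Groth.Agent.Lib.Helper71.flat_ker_of_surjective uh huh
  have hker : LinearMap.range (f.restrictScalars A) = LinearMap.ker uh := by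
    ext y
    rw [LinearMap.mem_ker, LinearMap.mem_range]
    constructor
    · rintro ⟨x, rfl⟩
      exact Subtype.ext (hfu.apply_apply_eq_zero x)
    · intro h
      exact (hfu y).1 (congrArg Subtype.val h)
  let e : F ≃ₗ[A] LinearMap.ker uh :=
    (LinearEquiv.ofInjective (f.restrictScalars A) hf).trans (LinearEquiv.ofEq _ _ hker)
  exact Module.Flat.of_linearEquiv e

include hf hfu huv hv in
/-- Localized version. -/
theorem flat_F_localized_of_flat_G (q : Ideal B) [q.IsPrime]
    [Module.Flat A (LocalizedModule q.primeCompl G)] :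
    Module.Flat A (LocalizedModule q.primeCompl F) := by
  haveI : Module.Flat A (LocalizedModule q.primeCompl E0) :=
    Groth.Agent.Lib.Helper12.FibreDepth.flat_localizedModule q.primeCompl E0
  haveI : Module.Flat A (LocalizedModule q.primeCompl E1) :=
    Groth.Agent.Lib.Helper12.FibreDepth.flat_localizedModule q.primeCompl E1
  exact flat_F_of_flat_G A (Localization.AtPrime q)
    (LocalizedModule.map q.primeCompl f) (LocalizedModule.map q.primeCompl u)
    (LocalizedModule.map q.primeCompl v)
    (LocalizedModule.map_injective q.primeCompl f hf)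
    (LocalizedModule.map_exact q.primeCompl f u hfu)
    (LocalizedModule.map_exact q.primeCompl u v huv)
    (LocalizedModule.map_surjective q.primeCompl v hv)

end FlatF

section Global

variable (A B : Type u) [CommRing A] [CommRing B] [IsNoetherianRing A] [IsNoetherianRing B]
  [Algebra A B] (hft : Algebra.FiniteType A B) (J : Ideal B)
  {F E0 E1 G : Type u} [AddCommGroup F] [Module B F] [Module A F] [IsScalarTower A B F]
  [Module.Finite B F]
  [AddCommGroup E0] [Module B E0] [Module A E0] [IsScalarTower A B E0] [Module.Finite B E0]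
  [Module.Flat A E0]
  [AddCommGroup E1] [Module B E1] [Module A E1] [IsScalarTower A B E1] [Module.Finite B E1]
  [Module.Flat A E1]
  [AddCommGroup G] [Module B G] [Module A G] [IsScalarTower A B G] [Module.Finite B G]
  (f : F →ₗ[B] E0) (u : E0 →ₗ[B] E1) (v : E1 →ₗ[B] G)
  (hf : Function.Injective f) (hfu : Function.Exact f u) (huv : Function.Exact u v)
  (hv : Function.Surjective v)
  (hGU : ∀ q : PrimeSpectrum B, ¬ J ≤ q.asIdeal → FlatCA.FlatAt A q.asIdeal G)
  (h0 : ∀ q : PrimeSpectrum B, J ≤ q.asIdeal →
    2 ≤ idealDepth (q.asIdeal.map (algebraMap B (EGA4.FibLocRing A B q.asIdeal)))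
      (EGA4.FibLocMod A B q.asIdeal E0))
  (h1 : ∀ q : PrimeSpectrum B, J ≤ q.asIdeal →
    1 ≤ idealDepth (q.asIdeal.map (algebraMap B (EGA4.FibLocRing A B q.asIdeal)))
      (EGA4.FibLocMod A B q.asIdeal E1))

include hft hf hfu huv hv hGU h0 h1 in
theorem flatAt_iff_exists_basicOpen (n : PrimeSpectrum B) :
    FlatCA.FlatAt A n.asIdeal G ↔
      ∃ s : B, s ∉ n.asIdeal ∧ ∀ q : PrimeSpectrum B, s ∉ q.asIdeal →
        FlatCA.FlatAt A q.asIdeal F ∧
        (J ≤ q.asIdeal →
          2 ≤ idealDepth (q.asIdeal.map (algebraMap B (EGA4.FibLocRing A B q.asIdeal)))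
            (EGA4.FibLocMod A B q.asIdeal F)) := by
  haveI : Algebra.FiniteType A B := hft
  haveI : Algebra.FinitePresentation A B := Algebra.FinitePresentation.of_finiteType.mp hft
  haveI : Module.FinitePresentation B G := Module.finitePresentation_of_finite B G
  have hopen := Groth.Agent.S0387.result (R := A) (S := B) (M := G)
  set U : Set (PrimeSpectrum B) := {q : PrimeSpectrum B |
    Module.Flat A (LocalizedModule q.asIdeal.primeCompl G)} with hU
  constructor
  · intro hn
    have hnU : n ∈ U := hn
    obtain ⟨W, ⟨s, rfl⟩, hnW, hWU⟩ :=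
      PrimeSpectrum.isTopologicalBasis_basic_opens.exists_subset_of_mem_open hnU hopen
    refine ⟨s, hnW, fun q hq => ?_⟩
    have hqU : q ∈ U := hWU hq
    haveI : Module.Flat A (LocalizedModule q.asIdeal.primeCompl G) := hqU
    refine ⟨flat_F_localized_of_flat_G A B f u v hf hfu huv hv q.asIdeal, fun hJq => ?_⟩
    have hlt : ∀ q' : PrimeSpectrum B, q'.asIdeal < q.asIdeal →
        Module.Flat A (LocalizedModule q'.asIdeal.primeCompl G) := by
      intro q' hq'
      have hspec : q' ⤳ q := (PrimeSpectrum.le_iff_specializes q' q).mp (le_of_lt hq')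
      exact hopen.stableUnderGeneralization hspec hqU
    exact ((local_step_point A B f u v hf hfu huv hv q.asIdeal hlt (h0 q hJq) (h1 q hJq)).1).mpr hqU
  · rintro ⟨s, hsn, hs⟩
    have key : ∀ (h : ℕ∞) (q : PrimeSpectrum B), q.asIdeal.height = h → s ∉ q.asIdeal →
        Module.Flat A (LocalizedModule q.asIdeal.primeCompl G) := by
      intro h
      induction h using WellFoundedLT.induction with
      | ind h ih =>
        intro q hqh hsq
        by_cases hJq : J ≤ q.asIdeal
        · have hlt : ∀ q' : PrimeSpectrum B, q'.asIdeal < q.asIdeal →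
              Module.Flat A (LocalizedModule q'.asIdeal.primeCompl G) := by
            intro q' hq'
            refine ih q'.asIdeal.height ?_ q' rfl (fun hs' => hsq (le_of_lt hq' hs'))
            rw [← hqh]
            exact Ideal.height_strict_mono_of_isPrime hq'
          exact ((local_step_point A B f u v hf hfu huv hv q.asIdeal hlt (h0 q hJq)
            (h1 q hJq)).1).mp ((hs q hsq).2 hJq)
        · exact hGU q hJq
    exact key _ n rfl hsn

end Global

end Groth.Agent.Lib.Helper12.FourTermPoint
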