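import Mathlib

/-!
# Content ideal criterion for flatness over a nilpotent thickening (helper12)

Let `N` be a nilpotent ideal of `R` and `M` an `R`-module such that `(R/N) ⊗ M` is free over `R/N`.
Lift a basis to a family `e : ι → M`; the induced map `φ : R^(ι) → M` is surjective with kernel `K`
inside `N R^(ι)`.  Let `J` be the content ideal of `K` (generated by all coordinates of all elements
of `K`).  Then for every `R`-algebra `A'`, the module `A' ⊗ M` is flat over `A'` iff `J A' = 0`
(`exists_ideal_flat_iff`).
-/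

namespace Groth.Agent.Lib.Helper12.GenFlatIdeal

open TensorProduct

universe u v

section Nak

variable {R : Type*} [CommRing R] {M : Type*} [AddCommGroup M] [Module R M]

/-- Nakayama for a nilpotent ideal. -/
theorem eq_top_of_sup_smul_top_of_isNilpotent (N : Ideal R) (hN : IsNilpotent N)
    (P : Submodule R M) (h : P ⊔ N • (⊤ : Submodule R M) = ⊤) : P = ⊤ := by
  obtain ⟨k, hk⟩ := hN
  have key : ∀ j : ℕ, P ⊔ N ^ j • (⊤ : Submodule R M) = ⊤ := by
    intro j
    induction j with
    | zero => simp
    | succ j ih =>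
      refine eq_top_iff.mpr (le_of_eq_of_le ih.symm ?_)
      refine sup_le le_sup_left ?_
      calc N ^ j • (⊤ : Submodule R M) = N ^ j • (P ⊔ N • (⊤ : Submodule R M)) := by rw [h]
        _ = N ^ j • P ⊔ N ^ j • (N • (⊤ : Submodule R M)) := Submodule.smul_sup _ _ _
        _ ≤ P ⊔ N ^ (j + 1) • (⊤ : Submodule R M) := by
          refine sup_le_sup Submodule.smul_le_right ?_
          rw [← Submodule.mul_smul, ← pow_succ]
  have := key k
  rw [hk, Ideal.zero_eq_bot, Submodule.bot_smul, sup_bot_eq] at this
  exact this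

/-- A submodule contained in its multiple by a nilpotent ideal vanishes. -/
theorem eq_bot_of_le_smul_of_isNilpotent (N : Ideal R) (hN : IsNilpotent N)
    (K : Submodule R M) (h : K ≤ N • K) : K = ⊥ := by
  obtain ⟨k, hk⟩ := hN
  have key : ∀ j : ℕ, K ≤ N ^ j • K := by
    intro j
    induction j with
    | zero => simp
    | succ j ih =>
      calc K ≤ N ^ j • K := ih
        _ ≤ N ^ j • (N • K) := Submodule.smul_mono le_rfl h
        _ = N ^ (j + 1) • K := by rw [← Submodule.mul_smul, ← pow_succ]
  have := key k
  rw [hk, Ideal.zero_eq_bot, Submodule.bot_smul] at this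
  exact le_bot_iff.mp this

end Nak

section Main

variable {R : Type u} [CommRing R] (N : Ideal R) {M : Type v} [AddCommGroup M] [Module R M]
  {ι : Type*} (b : Module.Basis ι (R ⧸ N) ((R ⧸ N) ⊗[R] M)) (e : ι → M)
  (he : ∀ i, (1 : R ⧸ N) ⊗ₜ[R] e i = b i)

include he in
theorem one_tmul_linearCombination (x : ι →₀ R) :
    (1 : R ⧸ N) ⊗ₜ[R] (Finsupp.linearCombination R e x) =
      b.repr.symm (Finsupp.mapRange (Ideal.Quotient.mk N) (map_zero _) x) := by
  induction x using Finsupp.induction_linear with
  | zero => simp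
  | add x y hx hy =>
    rw [map_add, TensorProduct.tmul_add, hx, hy, Finsupp.mapRange_add (by intro a b; exact map_add _ a b),
      map_add]
  | single i r =>
    rw [Finsupp.linearCombination_single, Finsupp.mapRange_single, Module.Basis.repr_symm_single,
      ← he i, TensorProduct.tmul_smul, ← Ideal.Quotient.algebraMap_eq, algebraMap_smul]

include he in
/-- coordinates of elements of the kernel lie in `N` -/
theorem coord_mem_of_mem_ker {x : ι →₀ R} (hx : Finsupp.linearCombination R e x = 0) (i : ι) :
    x i ∈ N := by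
  have h1 := one_tmul_linearCombination N b e he x
  rw [hx, TensorProduct.tmul_zero] at h1
  have h2 : Finsupp.mapRange (Ideal.Quotient.mk N) (map_zero _) x = 0 := by
    apply b.repr.symm.injective
    rw [← h1, map_zero]
  have h3 := DFunLike.congr_fun h2 i
  rw [Finsupp.mapRange_apply, Finsupp.zero_apply] at h3
  exact Ideal.Quotient.eq_zero_iff_mem.mp h3

include he in
theorem linearCombination_surjective (hN : IsNilpotent N) :
    Function.Surjective (Finsupp.linearCombination R e) := by
  rw [← LinearMap.range_eq_top]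
  apply eq_top_of_sup_smul_top_of_isNilpotent N hN
  rw [eq_top_iff]
  intro m _
  obtain ⟨c, hc⟩ := Finsupp.mapRange_surjective (Ideal.Quotient.mk N) (map_zero _)
    Ideal.Quotient.mk_surjective (b.repr ((1 : R ⧸ N) ⊗ₜ[R] m))
  have h1 := one_tmul_linearCombination N b e he c
  rw [hc, LinearEquiv.symm_apply_apply] at h1
  have h2 : (1 : R ⧸ N) ⊗ₜ[R] (m - Finsupp.linearCombination R e c) = 0 := by
    rw [TensorProduct.tmul_sub, h1, sub_self]
  have h3 : m - Finsupp.linearCombination R e c ∈ N • (⊤ : Submodule R M) := by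
    have := congrArg (TensorProduct.quotTensorEquivQuotSMul M N) h2
    rw [TensorProduct.quotTensorEquivQuotSMul_mk_one_tmul, map_zero,
      Submodule.Quotient.mk_eq_zero] at this
    exact this
  have h4 : m = Finsupp.linearCombination R e c + (m - Finsupp.linearCombination R e c) := by abel
  rw [h4]
  exact Submodule.add_mem_sup (LinearMap.mem_range_self _ _) h3

end Main

section BaseChange

variable {R : Type u} [CommRing R] (N : Ideal R) {M : Type v} [AddCommGroup M] [Module R M]
  {ι : Type*} (e : ι → M) (A' : Type*) [CommRing A'] [Algebra R A']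

/-- the standard basis of the base change of `R^(ι)` -/
noncomputable def bcBasis (ι : Type*) (R : Type*) [CommRing R] (A' : Type*) [CommRing A']
    [Algebra R A'] : Module.Basis ι A' (A' ⊗[R] (ι →₀ R)) :=
  (Finsupp.basisSingleOne (R := R) (ι := ι)).baseChange A'

theorem bcBasis_repr_tmul (a : A') (x : ι →₀ R) (i : ι) :
    (bcBasis ι R A').repr (a ⊗ₜ x) i = x i • a := by
  simp [bcBasis]

theorem bcBasis_apply (i : ι) : bcBasis ι R A' i = 1 ⊗ₜ Finsupp.single i 1 := by
  simp [bcBasis]

/-- the content ideal of the kernel of `R^(ι) → M` -/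
def contentIdeal : Ideal R :=
  Ideal.span {r | ∃ x : ι →₀ R, Finsupp.linearCombination R e x = 0 ∧ ∃ i, x i = r}

theorem contentIdeal_le (hK : ∀ x : ι →₀ R, Finsupp.linearCombination R e x = 0 → ∀ i, x i ∈ N) :
    contentIdeal e ≤ N := by
  rw [contentIdeal, Ideal.span_le]
  rintro _ ⟨x, hx, i, rfl⟩
  exact hK x hx i

theorem ker_lTensor_eq_general {P : Type*} [AddCommGroup P] [Module R P] (ψ : P →ₗ[R] M)
    (hsurj : Function.Surjective ψ) :
    LinearMap.ker (ψ.lTensor A') = LinearMap.range ((LinearMap.ker ψ).subtype.lTensor A') := by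
  have h1 : Function.Exact (LinearMap.ker ψ).subtype ψ := LinearMap.exact_subtype_ker_map _
  have h2 := lTensor_exact A' h1 hsurj
  exact h2.linearMap_ker_eq

theorem ker_lTensor_eq (hsurj : Function.Surjective (Finsupp.linearCombination R e)) :
    LinearMap.ker ((Finsupp.linearCombination R e).lTensor A') =
      LinearMap.range ((LinearMap.ker (Finsupp.linearCombination R e)).subtype.lTensor A') :=
  ker_lTensor_eq_general A' (Finsupp.linearCombination R e) hsurj

theorem repr_mem_of_mem_ker
    (hK : ∀ x : ι →₀ R, Finsupp.linearCombination R e x = 0 → ∀ i, x i ∈ N)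
    (hsurj : Function.Surjective (Finsupp.linearCombination R e))
    {y : A' ⊗[R] (ι →₀ R)} (hy : (Finsupp.linearCombination R e).baseChange A' y = 0) (i : ι) :
    (bcBasis ι R A').repr y i ∈ N.map (algebraMap R A') := by
  have hy' : y ∈ LinearMap.ker ((Finsupp.linearCombination R e).lTensor A') := by
    rw [LinearMap.mem_ker, ← hy]
    rfl
  rw [ker_lTensor_eq e A' hsurj] at hy'
  obtain ⟨w, rfl⟩ := hy'
  clear hy
  induction w using TensorProduct.induction_on with
  | zero => simp
  | tmul a k =>
    rw [LinearMap.lTensor_tmul, bcBasis_repr_tmul, Algebra.smul_def]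
    exact Ideal.mul_mem_right _ _ (Ideal.mem_map_of_mem _ (hK k.1 k.2 i))
  | add x y hx hy =>
    rw [map_add, map_add, Finsupp.add_apply]
    exact Ideal.add_mem _ hx hy

theorem mem_smul_ker_of_flat [Module.Flat A' (A' ⊗[R] M)]
    (hsurj : Function.Surjective (Finsupp.linearCombination R e)) (I' : Ideal A')
    {y : A' ⊗[R] (ι →₀ R)} (hy : (Finsupp.linearCombination R e).baseChange A' y = 0)
    (hI : ∀ i, (bcBasis ι R A').repr y i ∈ I') :
    y ∈ I' • LinearMap.ker ((Finsupp.linearCombination R e).baseChange A') := by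
  classical
  set φ' := (Finsupp.linearCombination R e).baseChange A' with hφ'
  have hsurj' : Function.Surjective φ' := by
    have : Function.Surjective ((Finsupp.linearCombination R e).lTensor A') :=
      LinearMap.lTensor_surjective A' hsurj
    exact this
  let b' := bcBasis ι R A'
  let s := (b'.repr y).support
  let c : s → A' := fun i => b'.repr y i
  let z : s → A' ⊗[R] M := fun i => φ' (b' i)
  have hy1 : y = ∑ i : s, c i • b' i := by
    conv_lhs => rw [← b'.linearCombination_repr y, Finsupp.linearCombination_apply, Finsupp.sum]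
    exact (Finset.sum_coe_sort s (fun i => b'.repr y i • b' i)).symm
  have hrel : ∑ i : s, c i • z i = 0 := by
    have : φ' y = ∑ i : s, c i • z i := by
      conv_lhs => rw [hy1]
      rw [map_sum]
      exact Finset.sum_congr rfl fun i _ => map_smul _ _ _
    rw [← this, hy]
  obtain ⟨k, a, w', hz, ha⟩ := Module.Flat.isTrivialRelation_of_sum_smul_eq_zero hrel
  choose w hw using fun j => hsurj' (w' j)
  let κ : s → A' ⊗[R] (ι →₀ R) := fun i => b' i - ∑ j, a i j • w j
  have hκ : ∀ i, κ i ∈ LinearMap.ker φ' := by
    intro i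
    rw [LinearMap.mem_ker, map_sub, map_sum]
    have : ∀ j, φ' (a i j • w j) = a i j • w' j := fun j => by rw [map_smul, hw]
    simp_rw [this]
    rw [← hz i, sub_self]
  have hy2 : y = ∑ i : s, c i • κ i := by
    have h1 : ∑ i : s, c i • κ i = ∑ i : s, c i • b' i - ∑ j, (∑ i : s, c i * a i j) • w j := by
      simp only [κ, smul_sub, Finset.sum_sub_distrib, Finset.smul_sum, Finset.sum_smul, mul_smul]
      congr 1
      exact Finset.sum_comm
    rw [h1, ← hy1]
    have h2 : ∀ j, (∑ i : s, c i * a i j) • w j = 0 := fun j => by rw [ha j, zero_smul]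
    rw [Finset.sum_congr rfl (fun j _ => h2 j), Finset.sum_const_zero, sub_zero]
  rw [hy2]
  exact Submodule.sum_mem _ fun i _ => Submodule.smul_mem_smul (hI i) (hκ i)

/-- **Content ideal criterion.** -/
theorem flat_iff_map_contentIdeal_eq_bot (hN : IsNilpotent N)
    (hK : ∀ x : ι →₀ R, Finsupp.linearCombination R e x = 0 → ∀ i, x i ∈ N)
    (hsurj : Function.Surjective (Finsupp.linearCombination R e)) :
    Module.Flat A' (A' ⊗[R] M) ↔ (contentIdeal e).map (algebraMap R A') = ⊥ := by
  set φ' := (Finsupp.linearCombination R e).baseChange A' with hφ'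
  have hsurj' : Function.Surjective φ' := by
    have : Function.Surjective ((Finsupp.linearCombination R e).lTensor A') :=
      LinearMap.lTensor_surjective A' hsurj
    exact this
  constructor
  · intro hflat
    have hN' : IsNilpotent (N.map (algebraMap R A')) := by
      obtain ⟨k, hk⟩ := hN
      refine ⟨k, ?_⟩
      rw [← Ideal.map_pow, hk, Ideal.zero_eq_bot, Ideal.map_bot]
      rfl
    have hker : LinearMap.ker φ' = ⊥ := by
      apply eq_bot_of_le_smul_of_isNilpotent _ hN'
      intro y hy
      exact mem_smul_ker_of_flat e A' hsurj _ hy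
        (fun i => repr_mem_of_mem_ker N e A' hK hsurj hy i)
    rw [contentIdeal, Ideal.map_span, Ideal.span_eq_bot]
    rintro _ ⟨_, ⟨x, hx, i, rfl⟩, rfl⟩
    have h1 : (1 : A') ⊗ₜ[R] x ∈ LinearMap.ker φ' := by
      rw [LinearMap.mem_ker, hφ', LinearMap.baseChange_tmul, hx, TensorProduct.tmul_zero]
    rw [hker, Submodule.mem_bot] at h1
    have h2 := bcBasis_repr_tmul A' (1 : A') x i
    rw [h1, map_zero, Finsupp.zero_apply, Algebra.smul_def, mul_one] at h2
    exact h2.symm
  · intro hJ
    have h0 : ∀ x : ι →₀ R, Finsupp.linearCombination R e x = 0 → ∀ i, algebraMap R A' (x i) = 0 := by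
      intro x hx i
      have : algebraMap R A' (x i) ∈ (contentIdeal e).map (algebraMap R A') :=
        Ideal.mem_map_of_mem _ (Ideal.subset_span ⟨x, hx, i, rfl⟩)
      rw [hJ] at this
      exact this
    have hker : LinearMap.ker φ' = ⊥ := by
      rw [eq_bot_iff]
      intro y hy
      have hy' : y ∈ LinearMap.ker ((Finsupp.linearCombination R e).lTensor A') := hy
      rw [ker_lTensor_eq e A' hsurj] at hy'
      obtain ⟨w, rfl⟩ := hy'
      rw [Submodule.mem_bot]
      clear hy
      induction w using TensorProduct.induction_on with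
      | zero => simp
      | tmul a k =>
        rw [LinearMap.lTensor_tmul]
        apply (bcBasis ι R A').repr.injective
        ext i
        rw [bcBasis_repr_tmul, map_zero, Finsupp.zero_apply, Algebra.smul_def,
          Submodule.subtype_apply, h0 k.1 k.2 i, zero_mul]
      | add x y hx hy => rw [map_add, hx, hy, add_zero]
    let E : A' ⊗[R] (ι →₀ R) ≃ₗ[A'] A' ⊗[R] M :=
      LinearEquiv.ofBijective φ' ⟨LinearMap.ker_eq_bot.mp hker, hsurj'⟩
    haveI : Module.Free A' (A' ⊗[R] (ι →₀ R)) := Module.Free.of_basis (bcBasis ι R A')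
    exact Module.Flat.of_linearEquiv E.symm

end BaseChange

section Exists

universe w

/-- **Content ideal criterion, existence form.** If `N` is nilpotent and `(R/N) ⊗ M` is free over
`R/N`, there is an ideal `J ⊆ N` such that for every `R`-algebra `A'`, `A' ⊗ M` is `A'`-flat iff
`J A' = 0`. -/
theorem exists_ideal_flat_iff {R : Type u} [CommRing R] (N : Ideal R) (hN : IsNilpotent N)
    (M : Type v) [AddCommGroup M] [Module R M] [Module.Free (R ⧸ N) ((R ⧸ N) ⊗[R] M)] :
    ∃ J : Ideal R, J ≤ N ∧ ∀ (A' : Type w) [CommRing A'] [Algebra R A'],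
      (Module.Flat A' (A' ⊗[R] M) ↔ J.map (algebraMap R A') = ⊥) := by
  let b := Module.Free.chooseBasis (R ⧸ N) ((R ⧸ N) ⊗[R] M)
  have hex : ∀ i, ∃ m : M, (1 : R ⧸ N) ⊗ₜ[R] m = b i := fun i =>
    TensorProduct.mk_surjective R M (R ⧸ N) Ideal.Quotient.mk_surjective (b i)
  choose e he using hex
  have hK := fun (x : _ →₀ R) hx i => coord_mem_of_mem_ker N b e he (x := x) hx i
  have hsurj := linearCombination_surjective N b e he hN
  exact ⟨contentIdeal e, contentIdeal_le N e hK, fun A' _ _ =>
    flat_iff_map_contentIdeal_eq_bot N e A' hN hK hsurj⟩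

end Exists

end Groth.Agent.Lib.Helper12.GenFlatIdeal
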