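import Mathlib
import Groth.Agent.Lib.Helper12.GenFlatIdealA
import Groth.Agent.Lib.Helper91.GenericFreeness

/-!
# Generic flattening ideal: the Noetherian core (helper12)

`A` Noetherian with prime nilradical, `C` a finite type `A`-algebra.  There are a non-nilpotent
`h ∈ A` and an ideal `J ⊆ nil(A)` such that for every `A`-algebra `A'` in which `h` is invertible,
`A' ⊗ C` is `A'`-flat iff `J A' = 0` (`noeth_core`).
-/

namespace Groth.Agent.Lib.Helper12.GenFlatIdeal

open TensorProduct

universe u

section Aux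

variable {A : Type*} [CommRing A]

theorem map_nilradical_le {R : Type*} [CommRing R] (f : A →+* R) :
    (nilradical A).map f ≤ nilradical R := by
  rw [Ideal.map_le_iff_le_comap]
  intro a ha
  rw [Ideal.mem_comap, mem_nilradical]
  exact (mem_nilradical.mp ha).map f

/-- pulling an ideal of `A_h` inside the nilradical back to an ideal of `A` inside the nilradical
with the same extension -/
theorem exists_ideal_of_away (h : A) (R : Type*) [CommRing R] [Algebra A R]
    [IsLocalization.Away h R] (JR : Ideal R) (hJR : JR ≤ nilradical R) :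
    ∃ J : Ideal A, J ≤ nilradical A ∧ J.map (algebraMap A R) = JR := by
  refine ⟨Ideal.span {h} * JR.comap (algebraMap A R), ?_, ?_⟩
  · rw [Ideal.mul_le]
    intro r hr s hs
    obtain ⟨c, rfl⟩ := Ideal.mem_span_singleton'.mp hr
    have hs' : IsNilpotent (algebraMap A R s) := mem_nilradical.mp (hJR hs)
    obtain ⟨m, hm⟩ := hs'
    rw [← map_pow] at hm
    obtain ⟨⟨_, j, rfl⟩, hj⟩ :=
      (IsLocalization.map_eq_zero_iff (Submonoid.powers h) R (s ^ m)).mp hm
    have h1 : IsNilpotent (h * s) := by
      refine ⟨j + m, ?_⟩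
      have : (h * s) ^ (j + m) = (h ^ j * s ^ m) * (h ^ m * s ^ j) := by ring
      rw [this, hj, zero_mul]
    rw [mul_assoc]
    exact Ideal.mul_mem_left _ c (mem_nilradical.mpr h1)
  · have hunit : IsUnit (algebraMap A R h) := IsLocalization.Away.algebraMap_isUnit h
    rw [Ideal.map_mul, Ideal.map_span, Set.image_singleton,
      Ideal.span_singleton_eq_top.mpr hunit, Ideal.top_mul,
      ← Ideal.under_def, IsLocalization.map_under (Submonoid.powers h) R JR]

end Aux

section Core

variable {A : Type u} [CommRing A] [IsNoetherianRing A]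
  (C : Type u) [CommRing C] [Algebra A C] [Algebra.FiniteType A C]

set_option maxHeartbeats 1600000 in
theorem noeth_core (hn : (nilradical A).IsPrime) :
    ∃ h : A, ¬ IsNilpotent h ∧ ∃ J : Ideal A, J ≤ nilradical A ∧
      ∀ (A' : Type u) [CommRing A'] [Algebra A A'], IsUnit (algebraMap A A' h) →
        (Module.Flat A' (A' ⊗[A] C) ↔ J.map (algebraMap A A') = ⊥) := by
  classical
  haveI := hn
  let Abar := A ⧸ nilradical A
  haveI : IsDomain Abar := Ideal.Quotient.isDomain (nilradical A)
  let S := Abar ⊗[A] C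
  obtain ⟨fbar, hf0, -, hfree, -, -⟩ :=
    Groth.Agent.Lib.Helper91.generic_freeness (R := Abar) (S := S) (M := S)
  obtain ⟨h, rfl⟩ := Ideal.Quotient.mk_surjective fbar
  have hh : ¬ IsNilpotent h := by
    intro hnil
    apply hf0
    exact Ideal.Quotient.eq_zero_iff_mem.mpr (mem_nilradical.mpr hnil)
  refine ⟨h, hh, ?_⟩
  let R := Localization.Away h
  let N : Ideal R := (nilradical A).map (algebraMap A R)
  have hN : IsNilpotent N := by
    obtain ⟨k, hk⟩ := IsNoetherianRing.isNilpotent_nilradical A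
    refine ⟨k, ?_⟩
    rw [← Ideal.map_pow, hk, Ideal.zero_eq_bot, Ideal.map_bot]
    rfl
  have hNle : N ≤ nilradical R := map_nilradical_le _
  let k := R ⧸ N
  have hvan : ∀ a ∈ nilradical A, algebraMap A k a = 0 := by
    intro a ha
    rw [IsScalarTower.algebraMap_apply A R k, Ideal.Quotient.algebraMap_eq,
      Ideal.Quotient.eq_zero_iff_mem]
    exact Ideal.mem_map_of_mem _ ha
  let ρ : Abar →+* k := Ideal.Quotient.lift (nilradical A) (algebraMap A k) hvan
  letI algAbark : Algebra Abar k := ρ.toAlgebra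
  haveI : IsScalarTower A Abar k := IsScalarTower.of_algebraMap_eq (fun a => rfl)
  let L := Localization.Away (Ideal.Quotient.mk (nilradical A) h)
  have hunitk : IsUnit (algebraMap Abar k (Ideal.Quotient.mk (nilradical A) h)) := by
    have h1 : algebraMap Abar k (Ideal.Quotient.mk (nilradical A) h) =
        Ideal.Quotient.mk N (algebraMap A R h) := rfl
    rw [h1]
    exact (IsLocalization.Away.algebraMap_isUnit h).map _
  letI algLk : Algebra L k := (IsLocalization.Away.lift (Ideal.Quotient.mk (nilradical A) h)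
    hunitk).toAlgebra
  haveI : IsScalarTower Abar L k := IsScalarTower.of_algebraMap_eq
    (fun x => (IsLocalization.Away.lift_eq (Ideal.Quotient.mk (nilradical A) h) hunitk x).symm)
  -- freeness of `k ⊗_R (R ⊗_A C)`
  haveI : Module.Free L (L ⊗[Abar] S) := hfree
  haveI hfree1 : Module.Free k (k ⊗[L] (L ⊗[Abar] S)) := inferInstance
  let e1 : k ⊗[L] (L ⊗[Abar] S) ≃ₗ[k] k ⊗[Abar] S :=
    AlgebraTensorModule.cancelBaseChange Abar L k k S
  let e2 : k ⊗[Abar] (Abar ⊗[A] C) ≃ₗ[k] k ⊗[A] C :=
    AlgebraTensorModule.cancelBaseChange A Abar k k C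
  let e3 : k ⊗[R] (R ⊗[A] C) ≃ₗ[k] k ⊗[A] C :=
    AlgebraTensorModule.cancelBaseChange A R k k C
  haveI hfree2 : Module.Free k (k ⊗[R] (R ⊗[A] C)) :=
    Module.Free.of_equiv (e1.trans (e2.trans e3.symm))
  obtain ⟨JR, hJRN, hJR⟩ := exists_ideal_flat_iff.{u, u, u} N hN (R ⊗[A] C)
  obtain ⟨J, hJle, hJmap⟩ := exists_ideal_of_away h R JR (hJRN.trans hNle)
  refine ⟨J, hJle, ?_⟩
  intro A' _ _ hunit'
  letI algRA' : Algebra R A' := (IsLocalization.Away.lift h hunit').toAlgebra
  haveI : IsScalarTower A R A' := IsScalarTower.of_algebraMap_eq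
    (fun x => (IsLocalization.Away.lift_eq h hunit' x).symm)
  let e : A' ⊗[R] (R ⊗[A] C) ≃ₗ[A'] A' ⊗[A] C :=
    AlgebraTensorModule.cancelBaseChange A R A' A' C
  rw [← Module.Flat.equiv_iff e, hJR A', ← hJmap, Ideal.map_map,
    ← IsScalarTower.algebraMap_eq A R A']

end Core

end Groth.Agent.Lib.Helper12.GenFlatIdeal
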