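import Mathlib
import Groth.Agent.Lib.Helper12.GenFlatIdealB

/-!
# Generic flattening ideal: ring-level statements (helper12)

* `alg_version`: `A` with prime nilradical, `C` a finitely presented `A`-algebra (Noetherian descent
  via the core of a presentation).
* `module_version`: `B` a finitely presented `A`-algebra, `M` a finitely presented `B`-module (via
  the trivial square-zero extension over a polynomial ring).
* `family_version`: finitely many such pairs at once.
-/

namespace Groth.Agent.Lib.Helper12.GenFlatIdeal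

open TensorProduct

universe u

section FlatProd

variable {R : Type*} [CommRing R]

/-- (as in helper35's `TA.flat_prod`) -/
theorem flat_prod' {M N : Type*} [AddCommGroup M] [Module R M] [AddCommGroup N] [Module R N]
    [Module.Flat R M] [Module.Flat R N] : Module.Flat R (M × N) := by
  rw [Module.Flat.iff_rTensor_injective']
  intro I
  rw [injective_iff_map_eq_zero]
  intro x hx
  have h1 : (LinearMap.fst R M N).lTensor I x = 0 := by
    apply (Module.Flat.iff_rTensor_injective'.mp (inferInstance : Module.Flat R M)) I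
    rw [map_zero, ← LinearMap.comp_apply, LinearMap.rTensor_comp_lTensor,
      ← LinearMap.lTensor_comp_rTensor, LinearMap.comp_apply, hx, map_zero]
  have h2 : (LinearMap.snd R M N).lTensor I x = 0 := by
    apply (Module.Flat.iff_rTensor_injective'.mp (inferInstance : Module.Flat R N)) I
    rw [map_zero, ← LinearMap.comp_apply, LinearMap.rTensor_comp_lTensor,
      ← LinearMap.lTensor_comp_rTensor, LinearMap.comp_apply, hx, map_zero]
  have h3 : (LinearMap.inl R M N) ∘ₗ (LinearMap.fst R M N) +
      (LinearMap.inr R M N) ∘ₗ (LinearMap.snd R M N) = LinearMap.id := by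
    ext <;> simp
  have h4 : x = (LinearMap.id : M × N →ₗ[R] M × N).lTensor I x := by simp
  rw [h4, ← h3, LinearMap.lTensor_add, LinearMap.add_apply, LinearMap.lTensor_comp,
    LinearMap.lTensor_comp, LinearMap.comp_apply, LinearMap.comp_apply, h1, h2, map_zero,
    map_zero, add_zero]

theorem flat_prod_iff_of_flat_left {M N : Type*} [AddCommGroup M] [Module R M] [AddCommGroup N]
    [Module R N] [Module.Flat R M] : Module.Flat R (M × N) ↔ Module.Flat R N := by
  constructor
  · intro h
    exact Module.Flat.of_retract (LinearMap.inr R M N) (LinearMap.snd R M N) (by ext; simp)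
  · intro h
    exact flat_prod'

end FlatProd

section Alg

theorem alg_version {A : Type u} [CommRing A] (hn : (nilradical A).IsPrime)
    (C : Type u) [CommRing C] [Algebra A C] [Algebra.FinitePresentation A C] :
    ∃ h : A, ¬ IsNilpotent h ∧ ∃ J : Ideal A, J.FG ∧ J ≤ nilradical A ∧
      ∀ (A' : Type u) [CommRing A'] [Algebra A A'], IsUnit (algebraMap A A' h) →
        (Module.Flat A' (A' ⊗[A] C) ↔ J.map (algebraMap A A') = ⊥) := by
  classical
  let P := Algebra.Presentation.ofFinitePresentation A C
  let A₀ := P.Core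
  let C₀ := P.ModelOfHasCoeffs A₀
  haveI : IsNoetherianRing A₀ := Algebra.FiniteType.isNoetherianRing ℤ A₀
  haveI : Algebra.FinitePresentation A₀ C₀ := inferInstance
  haveI : Algebra.FiniteType A₀ C₀ := inferInstance
  have hinj : Function.Injective (algebraMap A₀ A) := FaithfulSMul.algebraMap_injective A₀ A
  have hn₀ : (nilradical A₀).IsPrime := by
    have h1 : nilradical A₀ = (nilradical A).comap (algebraMap A₀ A) := by
      ext x
      rw [Ideal.mem_comap, mem_nilradical, mem_nilradical]
      exact (IsNilpotent.map_iff hinj).symm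
    rw [h1]
    haveI := hn
    exact Ideal.comap_isPrime _ _
  obtain ⟨h₀, hh₀, J₀, hJ₀, H⟩ := noeth_core C₀ hn₀
  refine ⟨algebraMap A₀ A h₀, ?_, J₀.map (algebraMap A₀ A), ?_, ?_, ?_⟩
  · rwa [IsNilpotent.map_iff hinj]
  · exact Ideal.FG.map (IsNoetherian.noetherian J₀) (algebraMap A₀ A)
  · exact (Ideal.map_mono hJ₀).trans (map_nilradical_le _)
  · intro A' _ _ hunit
    letI algA₀A' : Algebra A₀ A' := ((algebraMap A A').comp (algebraMap A₀ A)).toAlgebra
    haveI : IsScalarTower A₀ A A' := IsScalarTower.of_algebraMap_eq (fun _ => rfl)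
    let e1 : A' ⊗[A] (A ⊗[A₀] C₀) ≃ₗ[A'] A' ⊗[A] C :=
      AlgebraTensorModule.congr (LinearEquiv.refl A' A')
        (P.tensorModelOfHasCoeffsEquiv A₀).toLinearEquiv
    let e2 : A' ⊗[A] (A ⊗[A₀] C₀) ≃ₗ[A'] A' ⊗[A₀] C₀ :=
      AlgebraTensorModule.cancelBaseChange A₀ A A' A' C₀
    have hunit' : IsUnit (algebraMap A₀ A' h₀) := hunit
    rw [Module.Flat.equiv_iff (e1.symm.trans e2), H A' hunit', Ideal.map_map]
    rfl

end Alg

section Mod

set_option maxHeartbeats 1600000 in
theorem module_version {A : Type u} [CommRing A] (hn : (nilradical A).IsPrime)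
    (B : Type u) [CommRing B] [Algebra A B] [Algebra.FinitePresentation A B]
    (M : Type u) [AddCommGroup M] [Module A M] [Module B M] [IsScalarTower A B M]
    [Module.FinitePresentation B M] :
    ∃ h : A, ¬ IsNilpotent h ∧ ∃ J : Ideal A, J.FG ∧ J ≤ nilradical A ∧
      ∀ (A' : Type u) [CommRing A'] [Algebra A A'], IsUnit (algebraMap A A' h) →
        (Module.Flat A' (A' ⊗[A] M) ↔ J.map (algebraMap A A') = ⊥) := by
  classical
  obtain ⟨n, f, hfsurj, hfker⟩ := Algebra.FinitePresentation.out (R := A) (A := B)
  let P := MvPolynomial (Fin n) A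
  letI algPB : Algebra P B := f.toRingHom.toAlgebra
  haveI : IsScalarTower A P B := IsScalarTower.of_algebraMap_eq (fun a => (f.commutes a).symm)
  letI modPM : Module P M := Module.compHom M f.toRingHom
  haveI : IsScalarTower P B M := ⟨fun p b m => by
    change (f p * b) • m = f p • (b • m)
    rw [mul_smul]⟩
  haveI : IsScalarTower A P M := ⟨fun a p m => by
    change f (a • p) • m = a • (f p • m)
    rw [map_smul, smul_assoc]⟩
  haveI : Module.FinitePresentation P B := by
    refine Module.finitePresentation_of_surjective (Algebra.linearMap P B) hfsurj ?_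
    exact hfker
  haveI : Module.FinitePresentation P M := Module.FinitePresentation.trans P M B
  letI : Module Pᵐᵒᵖ M := Module.compHom M ((RingEquiv.toOpposite P).symm : Pᵐᵒᵖ →+* P)
  haveI : IsCentralScalar P M := ⟨fun a m => rfl⟩
  let T := TrivSqZeroExt P M
  haveI : Module.FinitePresentation P T :=
    (inferInstance : Module.FinitePresentation P (P × M))
  haveI : Algebra.FinitePresentation P T := inferInstance
  haveI : Algebra.FinitePresentation A T := Algebra.FinitePresentation.trans A P T
  obtain ⟨h, hh, J, hJfg, hJle, H⟩ := alg_version hn T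
  refine ⟨h, hh, J, hJfg, hJle, fun A' _ _ hunit => ?_⟩
  rw [← H A' hunit]
  let e : A' ⊗[A] (P × M) ≃ₗ[A'] (A' ⊗[A] P) × (A' ⊗[A] M) :=
    TensorProduct.prodRight A A' A' P M
  haveI : Module.Free A' (A' ⊗[A] P) := inferInstance
  have h1 : Module.Flat A' (A' ⊗[A] T) ↔ Module.Flat A' (A' ⊗[A] (P × M)) := Iff.rfl
  rw [h1, Module.Flat.equiv_iff e, flat_prod_iff_of_flat_left]

end Mod

section Family

theorem family_version {A : Type u} [CommRing A] (hn : (nilradical A).IsPrime)
    {ι : Type*} [Finite ι] (B : ι → Type u) [∀ i, CommRing (B i)] [∀ i, Algebra A (B i)]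
    [∀ i, Algebra.FinitePresentation A (B i)]
    (M : ι → Type u) [∀ i, AddCommGroup (M i)] [∀ i, Module A (M i)] [∀ i, Module (B i) (M i)]
    [∀ i, IsScalarTower A (B i) (M i)] [∀ i, Module.FinitePresentation (B i) (M i)] :
    ∃ h : A, ¬ IsNilpotent h ∧ ∃ J : Ideal A, J.FG ∧ J ≤ nilradical A ∧
      ∀ (A' : Type u) [CommRing A'] [Algebra A A'], IsUnit (algebraMap A A' h) →
        ((∀ i, Module.Flat A' (A' ⊗[A] M i)) ↔ J.map (algebraMap A A') = ⊥) := by
  classical
  cases nonempty_fintype ι
  choose h hh J hJfg hJle H using fun i => module_version hn (B i) (M i)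
  haveI := hn
  refine ⟨∏ i, h i, ?_, ⨆ i, J i, Submodule.fg_iSup _ hJfg, iSup_le hJle, ?_⟩
  · rw [← mem_nilradical, Ideal.IsPrime.prod_mem_iff]
    rintro ⟨i, -, hi⟩
    exact hh i (mem_nilradical.mp hi)
  · intro A' _ _ hunit
    have hu : ∀ i, IsUnit (algebraMap A A' (h i)) := fun i =>
      isUnit_of_dvd_unit (map_dvd (algebraMap A A') (Finset.dvd_prod_of_mem h (Finset.mem_univ i)))
        hunit
    rw [Ideal.map_iSup, iSup_eq_bot]
    exact forall_congr' fun i => H i A' (hu i)

end Family

end Groth.Agent.Lib.Helper12.GenFlatIdeal
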