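import Mathlib
import Groth.Prelude.Def_FlatMod2
import Groth.Agent.Lib.Helper12.FlatOverSections
import Groth.Agent.Lib.Helper16.FlatPull.Chart

/-!
# Flatness of a pulled back module over an affine base change, on affine charts (helper12)

Let `f : X ⟶ S`, `g : S' ⟶ S` with `S`, `S'` affine, `F` a quasi-coherent `O_X`-module and `W ⊆ X`
an affine open.  Then the pullback of `F` to `X ×_S S'` is flat over `S'` at all points of the
preimage of `W` iff `Γ(S', ⊤) ⊗_{Γ(S, ⊤)} Γ(F, W)` is a flat `Γ(S', ⊤)`-module.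
-/

set_option autoImplicit false
set_option linter.style.haveILetI false
universe u

open AlgebraicGeometry CategoryTheory Limits TensorProduct

namespace Groth.Agent.Lib.Helper12.GenFlatSch

variable {X S S' : Scheme.{u}}

/-- `Γ(S', ⊤)` as an algebra over `Γ(S, ⊤)` -/
noncomputable abbrev baseAlgebra (g : S' ⟶ S) : Algebra Γ(S, ⊤) Γ(S', ⊤) :=
  (g.appLE ⊤ ⊤ le_top).hom.toAlgebra

/-- `Γ(X, W)` as an algebra over `Γ(S, ⊤)` -/
noncomputable abbrev sectionsAlgebra (f : X ⟶ S) (W : X.Opens) : Algebra Γ(S, ⊤) Γ(X, W) :=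
  (f.appLE ⊤ W le_top).hom.toAlgebra

/-- `Γ(F, W)` as a module over `Γ(S, ⊤)` -/
noncomputable abbrev sectionsModule (f : X ⟶ S) (F : X.Modules) (W : X.Opens) :
    Module Γ(S, ⊤) Γ(F, W) :=
  Module.compHom _ (f.appLE ⊤ W le_top).hom

variable (f : X ⟶ S) (g : S' ⟶ S) (F : X.Modules) [F.IsQuasicoherent]

theorem isAffineOpen_preimage_fst [IsAffine S] [IsAffine S'] {W : X.Opens} (hW : IsAffineOpen W) :
    IsAffineOpen (pullback.fst f g ⁻¹ᵁ W) := by
  haveI : IsAffineHom g := inferInstance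
  haveI : IsAffineHom (pullback.fst f g) := MorphismProperty.pullback_fst _ _ ‹_›
  exact hW.preimage (pullback.fst f g)

set_option maxHeartbeats 1600000 in
/-- the sections of the pullback over the preimage of `W`, as a `Γ(S', ⊤)`-module -/
theorem exists_sections_equiv [IsAffine S] [IsAffine S'] {W : X.Opens} (hW : IsAffineOpen W) :
    letI := baseAlgebra g
    letI := sectionsModule f F W
    letI : Module Γ(S', ⊤) Γ((Scheme.Modules.pullback (pullback.fst f g)).obj F,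
        pullback.fst f g ⁻¹ᵁ W) :=
      Module.compHom _ ((pullback.snd f g).appLE ⊤ (pullback.fst f g ⁻¹ᵁ W) le_top).hom
    Nonempty (Γ((Scheme.Modules.pullback (pullback.fst f g)).obj F, pullback.fst f g ⁻¹ᵁ W)
      ≃ₗ[Γ(S', ⊤)] Γ(S', ⊤) ⊗[Γ(S, ⊤)] Γ(F, W)) := by
  let q := pullback.fst f g
  let p' := pullback.snd f g
  let W' : (pullback f g).Opens := q ⁻¹ᵁ W
  have hW' : IsAffineOpen W' := isAffineOpen_preimage_fst f g hW
  let F' := (Scheme.Modules.pullback q).obj F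
  -- the rings
  letI algA : Algebra Γ(S, ⊤) Γ(S', ⊤) := baseAlgebra g
  letI algB : Algebra Γ(S, ⊤) Γ(X, W) := sectionsAlgebra f W
  letI algBB' : Algebra Γ(X, W) Γ(pullback f g, W') := (q.appLE W W' le_rfl).hom.toAlgebra
  letI algA'B' : Algebra Γ(S', ⊤) Γ(pullback f g, W') := (p'.appLE ⊤ W' le_top).hom.toAlgebra
  letI algAB' : Algebra Γ(S, ⊤) Γ(pullback f g, W') :=
    ((q.appLE W W' le_rfl).hom.comp (f.appLE ⊤ W le_top).hom).toAlgebra
  haveI tow1 : IsScalarTower Γ(S, ⊤) Γ(X, W) Γ(pullback f g, W') :=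
    IsScalarTower.of_algebraMap_eq' rfl
  have hsq : f.appLE ⊤ W le_top ≫ q.appLE W W' le_rfl =
      g.appLE ⊤ ⊤ le_top ≫ p'.appLE ⊤ W' le_top := by
    rw [Scheme.Hom.appLE_comp_appLE, Scheme.Hom.appLE_comp_appLE]
    congr 1
    exact pullback.condition
  haveI tow2 : IsScalarTower Γ(S, ⊤) Γ(S', ⊤) Γ(pullback f g, W') :=
    IsScalarTower.of_algebraMap_eq' (congrArg CommRingCat.Hom.hom hsq)
  -- the pushout square
  have H : IsPullback q p' f g := IsPullback.of_hasPullback f g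
  have hUY : W' = q ⁻¹ᵁ W ⊓ p' ⁻¹ᵁ ⊤ := by simp [W']
  have hiso := isIso_pushoutSection_of_isAffineOpen H (US := ⊤) (UT := ⊤) (UX := W) le_top le_top
    hUY (isAffineOpen_top S) (isAffineOpen_top S') hW
  have hpo := ((isIso_pushoutSection_iff H le_top le_top hUY).mp hiso).flip
  haveI hpush : Algebra.IsPushout Γ(S, ⊤) Γ(S', ⊤) Γ(X, W) Γ(pullback f g, W') :=
    CommRingCat.isPushout_iff_isPushout.mp hpo
  -- the modules
  letI modAM : Module Γ(S, ⊤) Γ(F, W) := sectionsModule f F W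
  haveI tow3 : IsScalarTower Γ(S, ⊤) Γ(X, W) Γ(F, W) := IsScalarTower.of_compHom _ _ _
  letI modBM' : Module Γ(X, W) Γ(F', W') := Module.compHom _ (q.appLE W W' le_rfl).hom
  haveI tow4 : IsScalarTower Γ(X, W) Γ(pullback f g, W') Γ(F', W') :=
    IsScalarTower.of_compHom _ _ _
  letI modA'M' : Module Γ(S', ⊤) Γ(F', W') := Module.compHom _ (p'.appLE ⊤ W' le_top).hom
  haveI tow5 : IsScalarTower Γ(S', ⊤) Γ(pullback f g, W') Γ(F', W') :=
    IsScalarTower.of_compHom _ _ _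
  obtain ⟨ψ, hψ⟩ := Groth.Agent.Lib.Helper16.FlatPull.exists_isBaseChange_sections q hW hW'
    (le_refl W') F
  let e1 : Γ(pullback f g, W') ⊗[Γ(X, W)] Γ(F, W) ≃ₗ[Γ(S', ⊤)] Γ(F', W') :=
    hψ.equiv.restrictScalars Γ(S', ⊤)
  let e2 : Γ(pullback f g, W') ⊗[Γ(X, W)] Γ(F, W) ≃ₗ[Γ(S', ⊤)] Γ(S', ⊤) ⊗[Γ(S, ⊤)] Γ(F, W) :=
    Algebra.IsPushout.cancelBaseChange Γ(S, ⊤) Γ(S', ⊤) Γ(X, W) Γ(pullback f g, W') Γ(F, W)
  exact ⟨e1.symm.trans e2⟩

/-- flatness of the pullback over the chart `fst ⁻¹ W` -/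
theorem isFlatOverAt_chart_iff [IsAffine S] [IsAffine S'] {W : X.Opens} (hW : IsAffineOpen W) :
    (∀ x : (pullback.fst f g ⁻¹ᵁ W : (pullback f g).Opens),
      FlatMod.IsFlatOverAt (pullback.snd f g)
        ((Scheme.Modules.pullback (pullback.fst f g)).obj F) (x : ↥(pullback f g))) ↔
    (letI := baseAlgebra g
     letI := sectionsModule f F W
     Module.Flat Γ(S', ⊤) (Γ(S', ⊤) ⊗[Γ(S, ⊤)] Γ(F, W))) := by
  haveI : ((Scheme.Modules.pullback (pullback.fst f g)).obj F).IsQuasicoherent :=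
    Groth.Agent.Lib.Helper16.FlatPull.isQuasicoherent_pullback (pullback.fst f g) F
  have hW' := isAffineOpen_preimage_fst f g hW
  obtain ⟨E⟩ := exists_sections_equiv f g F hW
  letI := baseAlgebra g
  letI := sectionsModule f F W
  letI : Module Γ(S', ⊤) Γ((Scheme.Modules.pullback (pullback.fst f g)).obj F,
      pullback.fst f g ⁻¹ᵁ W) :=
    Module.compHom _ ((pullback.snd f g).appLE ⊤ (pullback.fst f g ⁻¹ᵁ W) le_top).hom
  constructor
  · intro h
    haveI := Groth.Agent.Lib.Helper12.FlatOver.flat_sections_of_isFlatOverAt (pullback.snd f g)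
      ((Scheme.Modules.pullback (pullback.fst f g)).obj F) (isAffineOpen_top S') hW' le_top h
    exact Module.Flat.of_linearEquiv E.symm
  · intro h x
    haveI := h
    exact Groth.Agent.Lib.Helper12.FlatOver.isFlatOverAt_of_flat_sections (pullback.snd f g)
      ((Scheme.Modules.pullback (pullback.fst f g)).obj F) (isAffineOpen_top S') hW' le_top
      (Module.Flat.of_linearEquiv E) x

/-- flatness of the pullback over an affine base change, in terms of an affine cover of `X` -/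
theorem isFlatOver_pullback_iff [IsAffine S] [IsAffine S'] (𝒲 : Set X.Opens)
    (h𝒲 : ∀ W ∈ 𝒲, IsAffineOpen W) (hcov : ∀ x : X, ∃ W ∈ 𝒲, x ∈ W) :
    FlatMod.IsFlatOver (pullback.snd f g)
        ((Scheme.Modules.pullback (pullback.fst f g)).obj F) ↔
      ∀ W ∈ 𝒲, (letI := baseAlgebra g
                letI := sectionsModule f F W
                Module.Flat Γ(S', ⊤) (Γ(S', ⊤) ⊗[Γ(S, ⊤)] Γ(F, W))) := by
  constructor
  · intro h W hW
    exact (isFlatOverAt_chart_iff f g F (h𝒲 W hW)).mp (fun x => h x)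
  · intro h x'
    obtain ⟨W, hW, hx⟩ := hcov (pullback.fst f g x')
    exact (isFlatOverAt_chart_iff f g F (h𝒲 W hW)).mpr (h W hW) ⟨x', hx⟩

end Groth.Agent.Lib.Helper12.GenFlatSch
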