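import Mathlib
import Groth.Agent.Lib.Helper91.GenericFreeness

/-!
# Generic exactness of fibres (helper12)

For a domain `R`, a finite type `R`-algebra `B` and finite `B`-modules `F → G → H` whose generic
fibre sequence is exact, the fibre sequences over a nonempty basic open of `Spec R` are exact
(EGA IV 9.4.2, affine form).  Uses helper91's generic freeness.
-/
open TensorProduct
universe u
namespace Groth.Agent.Lib.Helper12.GenericExact


section Loc
variable {R : Type*} [CommRing R] (S₀ : Submonoid R) (L : Type*) [CommRing L] [Algebra R L]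
  [IsLocalization S₀ L]

theorem isLocalizedModule_mk (M : Type*) [AddCommGroup M] [Module R M] :
    IsLocalizedModule S₀ (TensorProduct.mk R L M 1) :=
  (isLocalizedModule_iff_isBaseChange S₀ L _).mpr (TensorProduct.isBaseChange R M L)

theorem exists_smul_eq_zero_of_tmul_eq_zero {M : Type*} [AddCommGroup M] [Module R M] (m : M)
    (h : (1 : L) ⊗ₜ[R] m = 0) : ∃ s ∈ S₀, s • m = 0 := by
  have := isLocalizedModule_mk S₀ L M
  obtain ⟨c, hc⟩ := (IsLocalizedModule.eq_zero_iff S₀ (TensorProduct.mk R L M 1)).mp h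
  exact ⟨c.1, c.2, hc⟩

theorem exists_smul_eq_one_tmul {M : Type*} [AddCommGroup M] [Module R M] (y : L ⊗[R] M) :
    ∃ (m : M) (s : R), s ∈ S₀ ∧ s • y = (1 : L) ⊗ₜ[R] m := by
  have := isLocalizedModule_mk S₀ L M
  obtain ⟨⟨m, s⟩, hs⟩ := IsLocalizedModule.surj S₀ (TensorProduct.mk R L M 1) y
  exact ⟨m, s.1, s.2, hs⟩

variable {F G H : Type*} [AddCommGroup F] [Module R F] [AddCommGroup G] [Module R G]
  [AddCommGroup H] [Module R H] (u : F →ₗ[R] G) (v : G →ₗ[R] H)

/-- Exactness after localization gives exactness up to denominators. -/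
theorem exists_smul_mem_range_of_exact
    (hex : Function.Exact (u.baseChange L) (v.baseChange L)) (g : G) (hg : v g = 0) :
    ∃ s ∈ S₀, s • g ∈ LinearMap.range u := by
  have h1 : v.baseChange L ((1 : L) ⊗ₜ[R] g) = 0 := by
    rw [LinearMap.baseChange_tmul, hg, tmul_zero]
  obtain ⟨y, hy⟩ := (hex _).mp h1
  obtain ⟨x, s, hs, hsy⟩ := exists_smul_eq_one_tmul S₀ L y
  have h2 : (1 : L) ⊗ₜ[R] (s • g - u x) = 0 := by
    rw [tmul_sub, ← LinearMap.baseChange_tmul, ← hsy, tmul_smul, ← hy, sub_eq_zero]
    rw [← algebraMap_smul L s y, map_smul, algebraMap_smul]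
  obtain ⟨s', hs', h3⟩ := exists_smul_eq_zero_of_tmul_eq_zero S₀ L _ h2
  refine ⟨s' * s, S₀.mul_mem hs' hs, ⟨s' • x, ?_⟩⟩
  rw [map_smul, mul_smul]
  rw [smul_sub, sub_eq_zero] at h3
  exact h3.symm

/-- Exactness up to denominators gives exactness after localization. -/
theorem exact_baseChange_of_exists_smul
    (h1 : ∀ x : F, ∃ s ∈ S₀, s • v (u x) = 0)
    (h2 : ∀ g : G, v g = 0 → ∃ s ∈ S₀, s • g ∈ LinearMap.range u) :
    Function.Exact (u.baseChange L) (v.baseChange L) := by
  have hunit : ∀ s ∈ S₀, IsUnit (algebraMap R L s) := fun s hs =>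
    IsLocalization.map_units L (⟨s, hs⟩ : S₀)
  intro y
  constructor
  · intro hy
    obtain ⟨g, s, hs, hsy⟩ := exists_smul_eq_one_tmul S₀ L y
    have h3 : (1 : L) ⊗ₜ[R] v g = 0 := by
      rw [← LinearMap.baseChange_tmul, ← hsy, ← algebraMap_smul L s y, map_smul, hy, smul_zero]
    obtain ⟨s', hs', h4⟩ := exists_smul_eq_zero_of_tmul_eq_zero S₀ L _ h3
    rw [← map_smul] at h4
    obtain ⟨s'', hs'', x, hx⟩ := h2 _ h4
    have hu := (hunit _ (S₀.mul_mem hs'' (S₀.mul_mem hs' hs)))
    refine ⟨(hu.unit⁻¹ : Lˣ).val • ((1 : L) ⊗ₜ[R] x), ?_⟩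
    rw [map_smul, LinearMap.baseChange_tmul, hx]
    have h5 : (1 : L) ⊗ₜ[R] (s'' • s' • g) = algebraMap R L (s'' * (s' * s)) • y := by
      rw [algebraMap_smul, mul_smul, mul_smul, hsy, tmul_smul, tmul_smul]
    rw [h5, ← mul_smul, IsUnit.val_inv_mul, one_smul]
  · rintro ⟨z, rfl⟩
    induction z using TensorProduct.induction_on with
    | zero => simp
    | add a b ha hb => rw [map_add, map_add, ha, hb, add_zero]
    | tmul l x =>
      rw [LinearMap.baseChange_tmul, LinearMap.baseChange_tmul]
      obtain ⟨s, hs, hsx⟩ := h1 x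
      have hu := hunit s hs
      have : l ⊗ₜ[R] v (u x) = ((hu.unit⁻¹ : Lˣ).val * l) ⊗ₜ[R] (s • v (u x)) := by
        rw [tmul_smul, smul_tmul', Algebra.smul_def, ← mul_assoc,
          IsUnit.mul_val_inv, one_mul]
      rw [this, hsx, tmul_zero]

end Loc



section Clear
variable {R B N : Type*} [CommRing R] [CommRing B] [Algebra R B] [AddCommGroup N] [Module B N]
  [Module R N] [IsScalarTower R B N]

/-- Clearing finitely many denominators at once. -/
theorem exists_smul_mem_of_finite (S₀ : Submonoid R) (P : Submodule B N) (X : Set N)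
    (hX : X.Finite) (h : ∀ n ∈ X, ∃ s ∈ S₀, s • n ∈ P) :
    ∃ s ∈ S₀, ∀ n ∈ Submodule.span B X, s • n ∈ P := by
  induction X, hX using Set.Finite.induction_on with
  | empty =>
    refine ⟨1, S₀.one_mem, fun n hn => ?_⟩
    rw [Submodule.span_empty, Submodule.mem_bot] at hn
    rw [hn, smul_zero]
    exact P.zero_mem
  | @insert a X' ha hX' ih =>
    obtain ⟨s₁, hs₁, h₁⟩ := ih (fun n hn => h n (Set.mem_insert_of_mem a hn))
    obtain ⟨s₂, hs₂, h₂⟩ := h a (Set.mem_insert a X')
    refine ⟨s₁ * s₂, S₀.mul_mem hs₁ hs₂, fun n hn => ?_⟩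
    rw [Submodule.mem_span_insert] at hn
    obtain ⟨b, n', hn', rfl⟩ := hn
    rw [smul_add]
    refine P.add_mem ?_ ?_
    · rw [mul_smul, smul_comm s₂ b a, smul_comm s₁ b]
      exact P.smul_mem b (P.smul_of_tower_mem s₁ h₂)
    · rw [mul_comm, mul_smul]
      exact P.smul_of_tower_mem s₂ (h₁ n' hn')

end Clear

section KerGen
variable {B G I : Type*} [CommRing B] [AddCommGroup G] [Module B G] [Module.Finite B G]
  [AddCommGroup I] [Module B I]

/-- If `I` is finitely presented up to powers of `b₀`, the kernel of a surjection from a finite module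
onto `I` is finitely generated up to powers of `b₀`. -/
theorem exists_finite_ker_gen (v' : G →ₗ[B] I) (hv' : Function.Surjective v') (b₀ : B)
    (q : ℕ) (mgen : Fin q → I) (W : Finset (Fin q → B))
    (hgen : Submodule.span B (Set.range mgen) = ⊤) (hW : ∀ w ∈ W, ∑ j, w j • mgen j = 0)
    (hrel : ∀ c : Fin q → B, ∑ j, c j • mgen j = 0 →
      ∃ k : ℕ, b₀ ^ k • c ∈ Submodule.span B (W : Set (Fin q → B))) :
    ∃ X : Set G, X.Finite ∧ (∀ n ∈ X, v' n = 0) ∧
      ∀ g, v' g = 0 → ∃ k : ℕ, b₀ ^ k • g ∈ Submodule.span B X := by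
  classical
  choose γ hγ using fun j => hv' (mgen j)
  obtain ⟨t, y, hy⟩ := Module.Finite.exists_fin (R := B) (M := G)
  have hc : ∀ i, ∃ c : Fin q → B, v' (y i) = ∑ j, c j • mgen j := by
    intro i
    have : v' (y i) ∈ Submodule.span B (Set.range mgen) := hgen ▸ Submodule.mem_top
    obtain ⟨c, hc⟩ := (Submodule.mem_span_range_iff_exists_fun B).mp this
    exact ⟨c, hc.symm⟩
  choose c hc using hc
  let Ψ : (Fin q → B) →ₗ[B] G := Fintype.linearCombination B γ
  have hΨ : ∀ d : Fin q → B, v' (Ψ d) = ∑ j, d j • mgen j := by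
    intro d
    simp only [Ψ, Fintype.linearCombination_apply, map_sum, map_smul, hγ]
  refine ⟨Set.range (fun i => y i - Ψ (c i)) ∪ (Ψ '' (W : Set (Fin q → B))),
    (Set.finite_range _).union (W.finite_toSet.image _), ?_, ?_⟩
  · rintro n (⟨i, rfl⟩ | ⟨w, hw, rfl⟩)
    · simp only [map_sub, hΨ, hc, sub_self]
    · rw [hΨ]; exact hW w hw
  · intro g hg
    have hgs : g ∈ Submodule.span B (Set.range y) := hy ▸ Submodule.mem_top
    obtain ⟨b, rfl⟩ := (Submodule.mem_span_range_iff_exists_fun B).mp hgs
    set d : Fin q → B := ∑ i, b i • c i with hd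
    have hsplit : ∑ i, b i • y i = ∑ i, b i • (y i - Ψ (c i)) + Ψ d := by
      rw [hd, map_sum, ← Finset.sum_add_distrib]
      refine Finset.sum_congr rfl fun i _ => ?_
      rw [map_smul, smul_sub, sub_add_cancel]
    have hΨd : v' (Ψ d) = 0 := by
      have h0 : v' (∑ i, b i • (y i - Ψ (c i))) = 0 := by
        rw [map_sum]
        refine Finset.sum_eq_zero fun i _ => ?_
        rw [map_smul, map_sub, hΨ, hc, sub_self, smul_zero]
      rw [hsplit, map_add, h0, zero_add] at hg
      exact hg
    rw [hΨ] at hΨd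
    obtain ⟨k, hk⟩ := hrel d hΨd
    refine ⟨k, ?_⟩
    rw [hsplit, smul_add]
    refine Submodule.add_mem _ ?_ ?_
    · refine Submodule.smul_mem _ _ (Submodule.sum_mem _ fun i _ => Submodule.smul_mem _ _ ?_)
      exact Submodule.subset_span (Or.inl ⟨i, rfl⟩)
    · rw [← map_smul]
      have : Ψ (b₀ ^ k • d) ∈ Submodule.map Ψ (Submodule.span B (W : Set (Fin q → B))) :=
        Submodule.mem_map_of_mem hk
      rw [Submodule.map_span] at this
      exact Submodule.span_mono Set.subset_union_right this

end KerGen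

section FlatCoker
variable {A : Type*} [CommRing A] {M₁ M₂ M₃ Q : Type*} [AddCommGroup M₁] [Module A M₁]
  [AddCommGroup M₂] [Module A M₂] [AddCommGroup M₃] [Module A M₃] [AddCommGroup Q] [Module A Q]

/-- An exact sequence `M₁ → M₂ → M₃ → Q → 0` with `Q` flat stays exact at `M₂` after tensoring. -/
theorem exact_lTensor_of_flat_coker (a : M₁ →ₗ[A] M₂) (b : M₂ →ₗ[A] M₃) (π : M₃ →ₗ[A] Q)
    (hab : Function.Exact a b) (hbπ : Function.Exact b π) (hπ : Function.Surjective π)
    [Module.Flat A Q] (T : Type*) [AddCommGroup T] [Module A T] :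
    Function.Exact (a.lTensor T) (b.lTensor T) := by
  have hab' : Function.Exact a b.rangeRestrict := by
    intro y
    rw [← hab y]
    constructor
    · intro h; simpa using congrArg Subtype.val h
    · intro h; exact Subtype.ext h
  have h1 : Function.Exact (a.lTensor T) (b.rangeRestrict.lTensor T) :=
    lTensor_exact T hab' b.surjective_rangeRestrict
  have hι : Function.Exact (LinearMap.range b).subtype π := by
    intro y
    rw [hbπ y]
    simp
  have h2 : Function.Injective ((LinearMap.range b).subtype.lTensor T) :=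
    LinearMap.lTensor_injective_of_exact_of_flat π hπ _ (LinearMap.range b).injective_subtype hι T
  have h3 : b.lTensor T = (LinearMap.range b).subtype.lTensor T ∘ₗ b.rangeRestrict.lTensor T := by
    rw [← LinearMap.lTensor_comp, LinearMap.subtype_comp_codRestrict]
  rw [h3]
  exact (Function.Injective.comp_exact_iff_exact h2).mpr h1

end FlatCoker

section Free
variable {R : Type*} [CommRing R] (S₀ : Submonoid R) (a : R) (ha : a ∈ S₀) (L : Type*) [CommRing L]
  [Algebra R L] [IsLocalization S₀ L]
  {N N' : Type*} [AddCommGroup N] [Module R N] [AddCommGroup N'] [Module R N']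
  [Module L N'] [IsScalarTower R L N'] (φ : N →ₗ[R] N') [IsLocalizedModule S₀ φ]

include ha φ in
/-- Variant of helper91's `free_of_linearIndependent_of_span` for any localization inverting `a`. -/
theorem free_of_linearIndependent_of_span' {ι : Type*} (e : ι → N) (hli : LinearIndependent R e)
    (hsp : ∀ y : N, ∃ n : ℕ, a ^ n • y ∈ Submodule.span R (Set.range e)) :
    Module.Free L N' := by
  have hli' : LinearIndependent L (φ ∘ e) := hli.of_isLocalizedModule L S₀ φ
  have hspan : ⊤ ≤ Submodule.span L (Set.range (φ ∘ e)) := by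
    intro x _
    obtain ⟨⟨y, s⟩, h⟩ := IsLocalizedModule.surj S₀ φ x
    obtain ⟨n, hn⟩ := hsp y
    have hs : IsUnit (algebraMap R L (s : R)) := IsLocalization.map_units L s
    have ha' : IsUnit (algebraMap R L (a ^ n)) :=
      IsLocalization.map_units L (⟨a ^ n, S₀.pow_mem ha n⟩ : S₀)
    have h1 : φ (a ^ n • y) ∈ Submodule.span L (Set.range (φ ∘ e)) := by
      have : φ (a ^ n • y) ∈ Submodule.map φ (Submodule.span R (Set.range e)) :=
        Submodule.mem_map_of_mem hn
      rw [Submodule.map_span, ← Set.range_comp] at this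
      exact Submodule.span_subset_span R L _ this
    have h2 : φ (a ^ n • y) = (algebraMap R L (a ^ n) * algebraMap R L (s : R)) • x := by
      rw [map_smul, ← h, Submonoid.smul_def, mul_smul, algebraMap_smul, algebraMap_smul]
    rw [h2] at h1
    have hu : IsUnit (algebraMap R L (a ^ n) * algebraMap R L (s : R)) := ha'.mul hs
    have := Submodule.smul_mem _ (hu.unit⁻¹ : Lˣ).val h1
    rwa [← mul_smul, IsUnit.val_inv_mul, one_smul] at this
  exact Module.Free.of_basis (Module.Basis.mk hli' hspan)

end Free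



section Fibre
variable {R : Type*} [CommRing R] (p : Ideal R) [p.IsPrime]
  {F G H Q : Type*} [AddCommGroup F] [Module R F] [AddCommGroup G] [Module R G]
  [AddCommGroup H] [Module R H] [AddCommGroup Q] [Module R Q]

/-- Transfer along `κ(p) ⊗_{R_p} (R_p ⊗_R M) ≃ κ(p) ⊗_R M`. -/
theorem cancel_ladder (u : F →ₗ[R] G) (z : p.ResidueField ⊗[Localization.AtPrime p]
    (Localization.AtPrime p ⊗[R] F)) :
    u.baseChange p.ResidueField
      (TensorProduct.AlgebraTensorModule.cancelBaseChange R (Localization.AtPrime p)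
        p.ResidueField p.ResidueField F z) =
    TensorProduct.AlgebraTensorModule.cancelBaseChange R (Localization.AtPrime p)
        p.ResidueField p.ResidueField G
      ((u.baseChange (Localization.AtPrime p)).baseChange p.ResidueField z) := by
  induction z using TensorProduct.induction_on with
  | zero => simp
  | add a b ha hb => rw [map_add, map_add, ha, hb, map_add, map_add]
  | tmul t y =>
    induction y using TensorProduct.induction_on with
    | zero => simp
    | add a b ha hb => rw [tmul_add, map_add, map_add, ha, hb, map_add, map_add]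
    | tmul l x =>
      rw [TensorProduct.AlgebraTensorModule.cancelBaseChange_tmul, LinearMap.baseChange_tmul,
        LinearMap.baseChange_tmul, LinearMap.baseChange_tmul,
        TensorProduct.AlgebraTensorModule.cancelBaseChange_tmul]

theorem exact_fibre (u : F →ₗ[R] G) (v : G →ₗ[R] H) (π : H →ₗ[R] Q)
    (hπ : Function.Surjective π) (hvπ : Function.Exact v π)
    (h1 : ∀ x : F, ∃ s ∈ p.primeCompl, s • v (u x) = 0)
    (h2 : ∀ g : G, v g = 0 → ∃ s ∈ p.primeCompl, s • g ∈ LinearMap.range u)
    (hQ : Module.Flat (Localization.AtPrime p) (Localization.AtPrime p ⊗[R] Q)) :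
    Function.Exact (u.baseChange p.ResidueField) (v.baseChange p.ResidueField) := by
  have hL : Function.Exact (u.baseChange (Localization.AtPrime p))
      (v.baseChange (Localization.AtPrime p)) :=
    exact_baseChange_of_exists_smul p.primeCompl (Localization.AtPrime p) u v h1 h2
  have hLπ : Function.Exact (v.baseChange (Localization.AtPrime p))
      (π.baseChange (Localization.AtPrime p)) :=
    lTensor_exact (Localization.AtPrime p) hvπ hπ
  have hπL : Function.Surjective (π.baseChange (Localization.AtPrime p)) :=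
    LinearMap.lTensor_surjective (Localization.AtPrime p) hπ
  have hT : Function.Exact ((u.baseChange (Localization.AtPrime p)).baseChange p.ResidueField)
      ((v.baseChange (Localization.AtPrime p)).baseChange p.ResidueField) :=
    exact_lTensor_of_flat_coker _ _ _ hL hLπ hπL p.ResidueField
  intro y
  have hy := hT ((TensorProduct.AlgebraTensorModule.cancelBaseChange R (Localization.AtPrime p)
        p.ResidueField p.ResidueField G).symm y)
  have e1 := cancel_ladder p v ((TensorProduct.AlgebraTensorModule.cancelBaseChange R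
    (Localization.AtPrime p) p.ResidueField p.ResidueField G).symm y)
  rw [LinearEquiv.apply_symm_apply] at e1
  constructor
  · intro h
    rw [e1, LinearEquiv.map_eq_zero_iff] at h
    obtain ⟨z, hz⟩ := hy.mp h
    refine ⟨TensorProduct.AlgebraTensorModule.cancelBaseChange R (Localization.AtPrime p)
        p.ResidueField p.ResidueField F z, ?_⟩
    rw [cancel_ladder, hz, LinearEquiv.apply_symm_apply]
  · rintro ⟨z, rfl⟩
    have e2 := cancel_ladder p u ((TensorProduct.AlgebraTensorModule.cancelBaseChange R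
      (Localization.AtPrime p) p.ResidueField p.ResidueField F).symm z)
    rw [LinearEquiv.apply_symm_apply] at e2
    rw [e1, LinearEquiv.map_eq_zero_iff]
    apply hy.mpr
    refine ⟨(TensorProduct.AlgebraTensorModule.cancelBaseChange R
      (Localization.AtPrime p) p.ResidueField p.ResidueField F).symm z, ?_⟩
    rw [e2, LinearEquiv.symm_apply_apply]

end Fibre



section Main
variable {R B : Type u} [CommRing R] [IsDomain R] [CommRing B] [Algebra R B]
  [Algebra.FiniteType R B]
  {F G H : Type u} [AddCommGroup F] [Module B F] [Module R F] [IsScalarTower R B F]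
  [Module.Finite B F]
  [AddCommGroup G] [Module B G] [Module R G] [IsScalarTower R B G] [Module.Finite B G]
  [AddCommGroup H] [Module B H] [Module R H] [IsScalarTower R B H] [Module.Finite B H]

theorem generic_exact (u : F →ₗ[B] G) (v : G →ₗ[B] H)
    (hgen : Function.Exact ((u.restrictScalars R).baseChange (FractionRing R))
      ((v.restrictScalars R).baseChange (FractionRing R))) :
    ∃ f : R, f ≠ 0 ∧ ∀ p : PrimeSpectrum R, f ∉ p.asIdeal →
      Function.Exact ((u.restrictScalars R).baseChange p.asIdeal.ResidueField)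
        ((v.restrictScalars R).baseChange p.asIdeal.ResidueField) := by
  classical
  -- (1a)
  have hw : ∀ x : F, ∃ s ∈ nonZeroDivisors R, s • x ∈ LinearMap.ker (v ∘ₗ u) := by
    intro x
    have h0 : ((v.restrictScalars R).baseChange (FractionRing R))
        (((u.restrictScalars R).baseChange (FractionRing R)) ((1 : FractionRing R) ⊗ₜ[R] x)) = 0 :=
      hgen.apply_apply_eq_zero _
    rw [LinearMap.baseChange_tmul, LinearMap.baseChange_tmul] at h0
    obtain ⟨s, hs, hsx⟩ := exists_smul_eq_zero_of_tmul_eq_zero (nonZeroDivisors R)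
      (FractionRing R) _ h0
    refine ⟨s, hs, ?_⟩
    rw [LinearMap.mem_ker, ← algebraMap_smul B s x, map_smul, algebraMap_smul]
    exact hsx
  obtain ⟨gF, hgF⟩ := (Module.Finite.fg_top : (⊤ : Submodule B F).FG)
  obtain ⟨f₁, hf₁, h1a⟩ := exists_smul_mem_of_finite (R := R) (nonZeroDivisors R)
    (LinearMap.ker (v ∘ₗ u)) (gF : Set F) gF.finite_toSet (fun n _ => hw n)
  rw [hgF] at h1a
  -- (1c')
  have h1c' : ∀ g : G, v g = 0 → ∃ s ∈ nonZeroDivisors R, s • g ∈ LinearMap.range u := by
    intro g hg
    obtain ⟨s, hs, x, hx⟩ := exists_smul_mem_range_of_exact (nonZeroDivisors R) (FractionRing R)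
      (u.restrictScalars R) (v.restrictScalars R) hgen g hg
    exact ⟨s, hs, x, hx⟩
  -- (1d)
  obtain ⟨a₁, ha₁, -, ⟨ιQ, eQ, hliQ, hspQ⟩, -, -⟩ :=
    Groth.Agent.Lib.Helper91.generic_freeness_data (R := R) (S := B)
      (M := H ⧸ LinearMap.range v)
  -- (1e)
  obtain ⟨a₂, ha₂, -, -, -, ⟨q, mgen, W, hmgen, hW, hrel⟩⟩ :=
    Groth.Agent.Lib.Helper91.generic_freeness_data (R := R) (S := B)
      (M := LinearMap.range v)
  obtain ⟨X, hXfin, hXker, hXgen⟩ := exists_finite_ker_gen v.rangeRestrict
    v.surjective_rangeRestrict (algebraMap R B a₂) q mgen W hmgen hW hrel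
  obtain ⟨f₂, hf₂, h1c⟩ := exists_smul_mem_of_finite (R := R) (nonZeroDivisors R)
    (LinearMap.range u) X hXfin (fun n hn => h1c' n (by
      have := hXker n hn
      simpa using congrArg Subtype.val this))
  refine ⟨f₁ * a₁ * a₂ * f₂, ?_, fun p hp => ?_⟩
  · exact mul_ne_zero (mul_ne_zero (mul_ne_zero (nonZeroDivisors.ne_zero hf₁) ha₁) ha₂)
      (nonZeroDivisors.ne_zero hf₂)
  · have hf₁p : f₁ ∈ p.asIdeal.primeCompl := fun h => hp
      (p.asIdeal.mul_mem_right _ (p.asIdeal.mul_mem_right _ (p.asIdeal.mul_mem_right _ h)))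
    have ha₁p : a₁ ∈ p.asIdeal.primeCompl := fun h => hp
      (p.asIdeal.mul_mem_right _ (p.asIdeal.mul_mem_right _ (p.asIdeal.mul_mem_left _ h)))
    have ha₂p : a₂ ∈ p.asIdeal.primeCompl := fun h => hp
      (p.asIdeal.mul_mem_right _ (p.asIdeal.mul_mem_left _ h))
    have hf₂p : f₂ ∈ p.asIdeal.primeCompl := fun h => hp (p.asIdeal.mul_mem_left _ h)
    refine exact_fibre p.asIdeal (u.restrictScalars R) (v.restrictScalars R)
      ((LinearMap.range v).mkQ.restrictScalars R) (Submodule.mkQ_surjective _) ?_ ?_ ?_ ?_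
    · intro y
      change (LinearMap.range v).mkQ y = 0 ↔ y ∈ Set.range v
      rw [Submodule.mkQ_apply, Submodule.Quotient.mk_eq_zero]
      rfl
    · intro x
      refine ⟨f₁, hf₁p, ?_⟩
      have := h1a x Submodule.mem_top
      rw [LinearMap.mem_ker, ← algebraMap_smul B f₁ x, map_smul, algebraMap_smul] at this
      exact this
    · intro g hg
      have hg' : v.rangeRestrict g = 0 := Subtype.ext hg
      obtain ⟨k, hk⟩ := hXgen g hg'
      obtain ⟨x, hx⟩ := h1c _ hk
      refine ⟨f₂ * a₂ ^ k, p.asIdeal.primeCompl.mul_mem hf₂p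
        (p.asIdeal.primeCompl.pow_mem ha₂p k), x, ?_⟩
      change u x = _
      rw [hx, mul_smul, ← map_pow, algebraMap_smul]
    · have : IsLocalizedModule p.asIdeal.primeCompl
          (TensorProduct.mk R (Localization.AtPrime p.asIdeal) (H ⧸ LinearMap.range v) 1) :=
        isLocalizedModule_mk _ _ _
      have hfree : Module.Free (Localization.AtPrime p.asIdeal)
          (Localization.AtPrime p.asIdeal ⊗[R] (H ⧸ LinearMap.range v)) :=
        free_of_linearIndependent_of_span' p.asIdeal.primeCompl a₁ ha₁p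
          (Localization.AtPrime p.asIdeal)
          (TensorProduct.mk R (Localization.AtPrime p.asIdeal) (H ⧸ LinearMap.range v) 1)
          eQ hliQ hspQ
      infer_instance

end Main


end Groth.Agent.Lib.Helper12.GenericExact
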