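import Mathlib
import Groth.Agent.Lib.Helper50.GeomScheme

set_option autoImplicit false
open CategoryTheory AlgebraicGeometry CategoryTheory.Limits
universe u

namespace Groth.Agent.Lib.Helper12.GeomAlgClosed

theorem geometricallyIrreducible_of_irreducibleSpace {k : Type u} [Field k] [IsAlgClosed k]
    {X : Scheme.{u}} (f : X ⟶ Spec (CommRingCat.of k)) [IrreducibleSpace X] :
    GeometricallyIrreducible f := by
  constructor
  rw [geometrically_iff_of_commRing_of_isClosedUnderIsomorphisms]
  intro K _ _
  have hK : GeometricallyIrreducible (Spec.map (CommRingCat.ofHom (algebraMap k K))) :=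
    Groth.Agent.Lib.Helper50.geometricallyIrreducible_specMap_of_isSepClosed k K
  infer_instance

theorem geometricallyConnected_of_connectedSpace {k : Type u} [Field k] [IsAlgClosed k]
    {X : Scheme.{u}} (f : X ⟶ Spec (CommRingCat.of k)) [ConnectedSpace X] :
    GeometricallyConnected f := by
  constructor
  rw [geometrically_iff_of_commRing_of_isClosedUnderIsomorphisms]
  intro K _ _
  have hK : GeometricallyConnected (Spec.map (CommRingCat.ofHom (algebraMap k K))) :=
    Groth.Agent.Lib.Helper50.geometricallyConnected_specMap_of_isSepClosed k K
  infer_instance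

end Groth.Agent.Lib.Helper12.GeomAlgClosed
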