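import Mathlib
import Groth.Prelude.Def_FDesc
import Groth.Agent.Lib.Helper12.GeomRedOpen

/-!
# Proper flat morphisms: the locus of geometrically reduced fibres is open (helper12)

EGA IV 12.2.4 (v): `f` proper, flat, of finite presentation; then the set of `y` whose fibre is
geometrically reduced is open.
-/

set_option autoImplicit false
set_option linter.style.haveILetI false
universe u

open AlgebraicGeometry CategoryTheory Limits

namespace Groth.Agent.Lib.Helper12.GeomRedProper

open Groth.Agent.Lib.Helper12.GeomRedLocus Groth.Agent.Lib.Helper12.GeomRedOpen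
open Groth.Agent.Lib.Helper12.GeomRedFibreInv

/-- membership in the locus for a point of a fibre -/
theorem fiberι_mem_locus_iff {X Y : Scheme.{u}} (f : X ⟶ Y) (y : Y) (w : f.fiber y) :
    (f.fiberι y).base w ∈ locus f ↔ FBase.IsGeomReducedAt (f.fiberToSpecResidueField y) w := by
  have H : IsPullback (𝟙 X) f f (𝟙 Y) := IsPullback.of_horiz_isIso ⟨by simp⟩
  have hy : (𝟙 Y : Y ⟶ Y).base (f.base ((f.fiberι y).base w)) = y := by
    have h1 : (f.fiberι y).base w ∈ Set.range (f.fiberι y).base := ⟨w, rfl⟩
    rw [f.range_fiberι y] at h1
    exact h1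
  exact geomReducedAt_fibre_iff_of_isPullback H ((f.fiberι y).base w) y hy w rfl

/-- the fibre is geometrically reduced iff it lies in the locus -/
theorem geometricallyReduced_fibre_iff {X Y : Scheme.{u}} (f : X ⟶ Y) (y : Y) :
    GeometricallyReduced (f.fiberToSpecResidueField y) ↔ f.base ⁻¹' {y} ⊆ locus f := by
  constructor
  · intro h x hx
    have hx' : x ∈ Set.range (f.fiberι y).base := by rw [f.range_fiberι y]; exact hx
    obtain ⟨w, rfl⟩ := hx'
    rw [fiberι_mem_locus_iff]
    exact geomReducedAt_of_geometricallyReduced _ h w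
  · intro h
    apply geometricallyReduced_of_forall_geomReducedAt
    intro w
    rw [← fiberι_mem_locus_iff]
    apply h
    have h1 : (f.fiberι y).base w ∈ Set.range (f.fiberι y).base := ⟨w, rfl⟩
    rw [f.range_fiberι y] at h1
    exact h1

/-- for a closed flat LFP morphism, the set of points with geometrically reduced fibre is open -/
theorem isOpen_setOf_geometricallyReduced_fibre {X Y : Scheme.{u}} (f : X ⟶ Y) [Flat f]
    [LocallyOfFinitePresentation f] (hf : IsClosedMap f.base) :
    IsOpen {y : Y | GeometricallyReduced (f.fiberToSpecResidueField y)} := by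
  have : {y : Y | GeometricallyReduced (f.fiberToSpecResidueField y)} =
      (f.base '' (locus f)ᶜ)ᶜ := by
    ext y
    rw [Set.mem_ofPred_eq, geometricallyReduced_fibre_iff]
    constructor
    · rintro h ⟨x, hx, rfl⟩
      exact hx (h rfl)
    · intro h x hx
      by_contra hxE
      exact h ⟨x, hxE, hx⟩
  rw [this]
  exact (hf _ (isOpen_locus f).isClosed_compl).isOpen_compl

end Groth.Agent.Lib.Helper12.GeomRedProper
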