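import Mathlib
import Groth.Agent.Lib.Helper12.FourTermFlat
import Groth.Agent.S0387

/-!
# Globalising finite presentation of flat modules (helper12)

Let `R → S` be of finite presentation, `K ⊆ S^r` with `S^r / K` flat over `R`.  Suppose `R` embeds
into a finite product of its local rings, and that `K` is "pointwise finitely generated over `R`":
for every prime `p` of `R` there is a finitely generated `K₀ ⊆ K` with `(K / K₀)_p = 0`.
Then `K` is finitely generated.  The proof uses the openness of the flat locus of a finitely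
presented module (S0387) and quasi-compactness of `Spec R`.
-/

set_option autoImplicit false
universe u
open TensorProduct

namespace Groth.Agent.Lib.Helper12.GlobalFP

section Dense
variable {R : Type u} [CommRing R] (s : Finset (PrimeSpectrum R))
  (hs : Function.Injective fun a : R => fun p : s => algebraMap R (Localization.AtPrime p.1.asIdeal) a)

include hs in
/-- An element of a flat module which is torsion at each of the finitely many "dense" primes
vanishes. -/
theorem eq_zero_of_forall_smul_eq_zero {F : Type u} [AddCommGroup F] [Module R F] [Module.Flat R F]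
    (x : F) (hx : ∀ p ∈ s, ∃ f : R, f ∉ p.asIdeal ∧ f • x = 0) : x = 0 := by
  classical
  let Pr := ∀ p : s, Localization.AtPrime p.1.asIdeal
  let ι : R →ₗ[R] Pr :=
    { toFun := fun a p => algebraMap R (Localization.AtPrime p.1.asIdeal) a
      map_add' := fun a b => funext fun p => map_add _ a b
      map_smul' := fun c a => funext fun p => by
        simp only [smul_eq_mul, map_mul, RingHom.id_apply, Algebra.smul_def]
        rfl }
  have hι : Function.Injective ι := hs
  have hinj : Function.Injective (ι.lTensor F) :=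
    Module.Flat.lTensor_preserves_injective_linearMap ι hι
  have h1 : x ⊗ₜ[R] (1 : Pr) = 0 := by
    have hone : (1 : Pr) = ∑ p : s, Pi.single p (1 : Localization.AtPrime p.1.asIdeal) :=
      (Finset.univ_sum_single (1 : Pr)).symm
    rw [hone, TensorProduct.tmul_sum]
    refine Finset.sum_eq_zero fun p _ => ?_
    obtain ⟨f, hf, hfx⟩ := hx p.1 p.2
    have hu : IsUnit (algebraMap R (Localization.AtPrime p.1.asIdeal) f) :=
      IsLocalization.map_units (M := p.1.asIdeal.primeCompl) _ ⟨f, hf⟩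
    obtain ⟨u, hu⟩ := hu
    have : (Pi.single p (1 : Localization.AtPrime p.1.asIdeal) : Pr) =
        f • (Pi.single p ((u⁻¹ : (Localization.AtPrime p.1.asIdeal)ˣ) :
          Localization.AtPrime p.1.asIdeal) : Pr) := by
      rw [← Pi.single_smul, Algebra.smul_def, ← hu, Units.mul_inv]
    rw [this, TensorProduct.tmul_smul, TensorProduct.smul_tmul', hfx, TensorProduct.zero_tmul]
  have h2 : (ι.lTensor F) (x ⊗ₜ[R] (1 : R)) = 0 := by
    rw [LinearMap.lTensor_tmul]
    have : ι 1 = (1 : Pr) := by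
      ext p
      change algebraMap R (Localization.AtPrime p.1.asIdeal) 1 = 1
      exact map_one _
    rw [this, h1]
  have h3 : x ⊗ₜ[R] (1 : R) = 0 := hinj (h2.trans (map_zero _).symm)
  have := congrArg (TensorProduct.rid R F) h3
  simpa using this

end Dense

section Main
variable {R S : Type u} [CommRing R] [CommRing S] [Algebra R S]
  (s : Finset (PrimeSpectrum R))
  (hs : Function.Injective fun a : R => fun p : s => algebraMap R (Localization.AtPrime p.1.asIdeal) a)
  {r : ℕ} (K : Submodule S (Fin r → S))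

include hs in
/-- Step B: where the finitely presented approximation `S^r / K₀` is flat, it agrees with
`S^r / K`. -/
theorem exists_smul_mem_of_flat (K₀ : Submodule S (Fin r → S))
    (hdense : ∀ p ∈ s, ∀ k ∈ K, ∃ f : R, f ∉ p.asIdeal ∧ f • k ∈ K₀)
    (𝔮 : Ideal S) [𝔮.IsPrime]
    [Module.Flat R (LocalizedModule 𝔮.primeCompl ((Fin r → S) ⧸ K₀))]
    {k : Fin r → S} (hk : k ∈ K) : ∃ t : S, t ∉ 𝔮 ∧ t • k ∈ K₀ := by
  have hx : LocalizedModule.mk (K₀.mkQ k) (1 : 𝔮.primeCompl) = 0 := by
    apply eq_zero_of_forall_smul_eq_zero s hs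
    intro p hp
    obtain ⟨f, hf, hfk⟩ := hdense p hp k hk
    refine ⟨f, hf, ?_⟩
    rw [LocalizedModule.smul'_mk]
    have : f • K₀.mkQ k = 0 := by
      rw [Submodule.mkQ_apply, ← Submodule.Quotient.mk_smul]
      exact (Submodule.Quotient.mk_eq_zero K₀).mpr hfk
    rw [this, LocalizedModule.zero_mk]
  rw [← LocalizedModule.zero_mk (1 : 𝔮.primeCompl), LocalizedModule.mk_eq] at hx
  obtain ⟨u, hu⟩ := hx
  refine ⟨u.1, u.2, ?_⟩
  simp only [one_smul, smul_zero] at hu
  have : K₀.mkQ ((u : S) • k) = 0 := by rw [map_smul]; exact hu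
  exact (Submodule.Quotient.mk_eq_zero K₀).mp this

/-- Step C: where `K / K₀` vanishes, the approximation `S^r / K₀` is flat. -/
theorem flat_of_forall_exists_smul_mem [Module.Flat R ((Fin r → S) ⧸ K)]
    (K₀ : Submodule S (Fin r → S)) (hK₀ : K₀ ≤ K) (𝔮 : Ideal S) [𝔮.IsPrime]
    (h : ∀ k ∈ K, ∃ t : S, t ∉ 𝔮 ∧ t • k ∈ K₀) :
    Module.Flat R (LocalizedModule 𝔮.primeCompl ((Fin r → S) ⧸ K₀)) := by
  let φ : ((Fin r → S) ⧸ K₀) →ₗ[S] ((Fin r → S) ⧸ K) := Submodule.factor hK₀
  let g : ((Fin r → S) ⧸ K₀) →ₗ[S] LocalizedModule 𝔮.primeCompl ((Fin r → S) ⧸ K) :=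
    LocalizedModule.mkLinearMap 𝔮.primeCompl _ ∘ₗ φ
  haveI : IsLocalizedModule 𝔮.primeCompl g := by
    refine ⟨fun w => IsLocalizedModule.map_units (LocalizedModule.mkLinearMap 𝔮.primeCompl
      ((Fin r → S) ⧸ K)) w, fun y => ?_, fun {x₁ x₂} hx => ?_⟩
    · induction y using LocalizedModule.induction_on with
      | h m w =>
        obtain ⟨v, rfl⟩ := Submodule.Quotient.mk_surjective _ m
        refine ⟨⟨Submodule.Quotient.mk v, w⟩, ?_⟩
        change w • LocalizedModule.mk (Submodule.Quotient.mk v) w =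
          LocalizedModule.mk (φ (Submodule.Quotient.mk v)) 1
        rw [Submonoid.smul_def, LocalizedModule.smul'_mk, ← Submonoid.smul_def,
          LocalizedModule.mk_cancel]
        rfl
    · obtain ⟨v₁, rfl⟩ := Submodule.Quotient.mk_surjective _ x₁
      obtain ⟨v₂, rfl⟩ := Submodule.Quotient.mk_surjective _ x₂
      have hx' : LocalizedModule.mk (Submodule.Quotient.mk (p := K) v₁) (1 : 𝔮.primeCompl) =
          LocalizedModule.mk (Submodule.Quotient.mk (p := K) v₂) (1 : 𝔮.primeCompl) := hx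
      rw [LocalizedModule.mk_eq] at hx'
      obtain ⟨u, hu⟩ := hx'
      simp only [one_smul] at hu
      have h1 : (u : S) • (v₁ - v₂) ∈ K := by
        rw [← Submodule.Quotient.mk_eq_zero, smul_sub, Submodule.Quotient.mk_sub]
        exact sub_eq_zero.mpr hu
      obtain ⟨t, ht, htk⟩ := h _ h1
      refine ⟨⟨t * u, 𝔮.primeCompl.mul_mem ht u.2⟩, ?_⟩
      change (t * (u : S)) • Submodule.Quotient.mk (p := K₀) v₁ =
        (t * (u : S)) • Submodule.Quotient.mk (p := K₀) v₂
      rw [← sub_eq_zero, ← smul_sub, ← Submodule.Quotient.mk_sub, ← Submodule.Quotient.mk_smul,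
        Submodule.Quotient.mk_eq_zero, mul_smul]
      exact htk
  haveI : Module.Flat R (LocalizedModule 𝔮.primeCompl ((Fin r → S) ⧸ K)) :=
    Groth.Agent.Lib.Helper12.FourTermFlat.flat_localizedModule 𝔮.primeCompl _
  exact Module.Flat.of_linearEquiv ((IsLocalizedModule.iso 𝔮.primeCompl g).restrictScalars R)

include hs in
/-- **Globalisation**: a pointwise (over `Spec R`) finitely generated `K ⊆ S^r` with flat
quotient is finitely generated. -/
theorem fg_of_locally_fg [Algebra.FinitePresentation R S] [Module.Flat R ((Fin r → S) ⧸ K)]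
    (hloc : ∀ p : PrimeSpectrum R, ∃ K₀ : Submodule S (Fin r → S), K₀ ≤ K ∧ K₀.FG ∧
      ∀ k ∈ K, ∃ g : R, g ∉ p.asIdeal ∧ g • k ∈ K₀) : K.FG := by
  classical
  choose Kp hKple hKpfg hKp using hloc
  let K' : Submodule S (Fin r → S) := s.sup Kp
  have hK'le : K' ≤ K := Finset.sup_le fun p _ => hKple p
  have hK'fg : K'.FG := Submodule.fg_finset_sup s Kp (fun p _ => hKpfg p)
  have hdense' : ∀ p ∈ s, ∀ k ∈ K, ∃ f : R, f ∉ p.asIdeal ∧ f • k ∈ K' := fun p hp k hk => by
    obtain ⟨f, hf, hfk⟩ := hKp p k hk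
    exact ⟨f, hf, (Finset.le_sup hp : Kp p ≤ K') hfk⟩
  have key : ∀ q : PrimeSpectrum R, ∃ g : R, g ∉ q.asIdeal ∧
      ∀ k ∈ K, ∃ e : ℕ, g ^ e • k ∈ K' ⊔ Kp q := by
    intro q
    set K₀ := K' ⊔ Kp q with hK₀
    have hK₀le : K₀ ≤ K := sup_le hK'le (hKple q)
    have hK₀fg : K₀.FG := hK'fg.sup (hKpfg q)
    have hdense₀ : ∀ p ∈ s, ∀ k ∈ K, ∃ f : R, f ∉ p.asIdeal ∧ f • k ∈ K₀ := fun p hp k hk => by
      obtain ⟨f, hf, hfk⟩ := hdense' p hp k hk
      exact ⟨f, hf, (le_sup_left : K' ≤ K₀) hfk⟩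
    haveI : Module.FinitePresentation S ((Fin r → S) ⧸ K₀) :=
      Module.finitePresentation_of_free_of_surjective K₀.mkQ (Submodule.mkQ_surjective _)
        (by rw [Submodule.ker_mkQ]; exact hK₀fg)
    have hopen := Groth.Agent.S0387.result (R := R) (S := S) (M := (Fin r → S) ⧸ K₀)
    set U : Set (PrimeSpectrum S) := {𝔮 : PrimeSpectrum S |
      Module.Flat R (LocalizedModule 𝔮.asIdeal.primeCompl ((Fin r → S) ⧸ K₀))} with hU
    let 𝔟 : Ideal S := PrimeSpectrum.vanishingIdeal Uᶜ
    have hZ : PrimeSpectrum.zeroLocus (𝔟 : Set S) = Uᶜ := by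
      rw [PrimeSpectrum.zeroLocus_vanishingIdeal_eq_closure, hopen.isClosed_compl.closure_eq]
    have hex : ∃ g ∈ 𝔟.comap (algebraMap R S), g ∉ q.asIdeal := by
      by_contra hcon
      push_neg at hcon
      have hle : 𝔟.comap (algebraMap R S) ≤ q.asIdeal := fun g hg => hcon g hg
      obtain ⟨q'', hq''min, hq''le⟩ := Ideal.exists_minimalPrimes_le hle
      obtain ⟨𝔮, h𝔮prime, h𝔟𝔮, h𝔮comap⟩ :=
        Ideal.exists_comap_eq_of_mem_minimalPrimes (algebraMap R S) q'' hq''min
      have hmem : (⟨𝔮, h𝔮prime⟩ : PrimeSpectrum S) ∈ Uᶜ := by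
        rw [← hZ]
        exact h𝔟𝔮
      apply hmem
      refine flat_of_forall_exists_smul_mem K K₀ hK₀le 𝔮 (fun k hk => ?_)
      obtain ⟨g, hg, hgk⟩ := hKp q k hk
      refine ⟨algebraMap R S g, fun h => hg (hq''le ?_), ?_⟩
      · rw [← h𝔮comap]
        exact h
      · rw [algebraMap_smul]
        exact (le_sup_right : Kp q ≤ K₀) hgk
    obtain ⟨g, hg𝔟, hgq⟩ := hex
    refine ⟨g, hgq, fun k hk => ?_⟩
    let 𝔞 : Ideal S := K₀.comap (LinearMap.toSpanSingleton S (Fin r → S) k)
    have h𝔞 : ∀ t : S, t ∈ 𝔞 ↔ t • k ∈ K₀ := fun t => by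
      rw [Submodule.mem_comap, LinearMap.toSpanSingleton_apply]
    have hrad : algebraMap R S g ∈ 𝔞.radical := by
      rw [Ideal.radical_eq_sInf, Ideal.mem_sInf]
      rintro 𝔮 ⟨h𝔞𝔮, h𝔮prime⟩
      by_contra hg𝔮
      have h𝔮U : (⟨𝔮, h𝔮prime⟩ : PrimeSpectrum S) ∈ U := by
        by_contra hnU
        have : (⟨𝔮, h𝔮prime⟩ : PrimeSpectrum S) ∈ PrimeSpectrum.zeroLocus (𝔟 : Set S) := by
          rw [hZ]
          exact hnU
        exact hg𝔮 (this hg𝔟)
      haveI : Module.Flat R (LocalizedModule 𝔮.primeCompl ((Fin r → S) ⧸ K₀)) := h𝔮U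
      obtain ⟨t, ht, htk⟩ := exists_smul_mem_of_flat s hs K K₀ hdense₀ 𝔮 hk
      exact ht (h𝔞𝔮 ((h𝔞 t).mpr htk))
    obtain ⟨e, he⟩ := hrad
    refine ⟨e, ?_⟩
    have := (h𝔞 _).mp he
    rwa [← map_pow, algebraMap_smul] at this
  choose g hgq hgK using key
  have hspan : Ideal.span (Set.range g) = ⊤ := by
    by_contra hne
    obtain ⟨m, hm, hle⟩ := Ideal.exists_le_maximal _ hne
    exact hgq ⟨m, hm.isPrime⟩ (hle (Ideal.subset_span ⟨_, rfl⟩))
  obtain ⟨t, ht, htspan⟩ := (Ideal.span_eq_top_iff_finite _).mp hspan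
  have hq : ∀ a : (t : Set R), ∃ q : PrimeSpectrum R, g q = a.1 := fun a => ht a.2
  choose q hq using hq
  let K'' : Submodule S (Fin r → S) := K' ⊔ t.attach.sup (fun a => Kp (q ⟨a.1, a.2⟩))
  have hK''le : K'' ≤ K := sup_le hK'le (Finset.sup_le fun a _ => hKple _)
  have hK''fg : K''.FG := hK'fg.sup (Submodule.fg_finset_sup _ _ fun a _ => hKpfg _)
  have hle : K ≤ K'' := by
    intro k hk
    refine Submodule.mem_of_span_eq_top_of_smul_pow_mem (K''.restrictScalars R) (↑t) htspan k
      (fun a => ?_)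
    obtain ⟨e, he⟩ := hgK (q a) k hk
    refine ⟨e, ?_⟩
    rw [hq a] at he
    have hsub : K' ⊔ Kp (q a) ≤ K'' :=
      sup_le_sup_left (Finset.le_sup (f := fun a => Kp (q ⟨a.1, a.2⟩))
        (Finset.mem_attach t ⟨a.1, a.2⟩)) K'
    exact hsub he
  rw [le_antisymm hle hK''le]
  exact hK''fg

end Main

section Approx
variable {S : Type u} [CommRing S] {N : Type u} [AddCommGroup N] [Module S N] (W : Submonoid S)
  (K : Submodule S N)

/-- If the localization of `K` is finitely generated, `K` is approximated by a finitely generated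
submodule up to `W`-torsion. -/
theorem exists_fg_le_of_localized_fg (h : (K.localized W).FG) :
    ∃ K₀ : Submodule S N, K₀ ≤ K ∧ K₀.FG ∧ ∀ k ∈ K, ∃ w ∈ W, w • k ∈ K₀ := by
  classical
  obtain ⟨T, hT⟩ := h
  have hmem : ∀ x ∈ T, ∃ m ∈ K, ∃ s : W,
      IsLocalizedModule.mk' (LocalizedModule.mkLinearMap W N) m s = x := fun x hx => by
    have : x ∈ K.localized W := hT ▸ Submodule.subset_span hx
    exact this
  choose! m hmK sW hms using hmem
  refine ⟨Submodule.span S (T.image m), ?_, Submodule.fg_span (Finset.finite_toSet _), ?_⟩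
  · rw [Submodule.span_le]
    intro y hy
    simp only [Finset.coe_image, Set.mem_image, Finset.mem_coe] at hy
    obtain ⟨x, hx, rfl⟩ := hy
    exact hmK x hx
  · intro k hk
    have hle : K.localized W ≤ (Submodule.span S (T.image m : Set N)).localized W := by
      rw [← hT, Submodule.span_le]
      intro x hx
      exact ⟨m x, Submodule.subset_span (Finset.mem_image_of_mem m hx), sW x, hms x hx⟩
    have hk' : LocalizedModule.mkLinearMap W N k ∈ K.localized W :=
      ⟨k, hk, 1, IsLocalizedModule.mk'_one W _ k⟩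
    obtain ⟨m', hm', s', hs'⟩ := hle hk'
    rw [IsLocalizedModule.mk'_eq_iff, Submonoid.smul_def, ← map_smul] at hs'
    obtain ⟨c, hc⟩ := (IsLocalizedModule.eq_iff_exists W _).mp hs'
    refine ⟨c * s', W.mul_mem c.2 s'.2, ?_⟩
    have : ((c : S) * (s' : S)) • k = (c : S) • m' := by
      rw [mul_smul]
      exact hc.symm
    rw [this]
    exact Submodule.smul_mem _ _ hm'

end Approx

section Wrapper
variable {R S : Type u} [CommRing R] [CommRing S] [Algebra R S] [Algebra.FinitePresentation R S]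
  {M : Type u} [AddCommGroup M] [Module S M] [Module R M] [IsScalarTower R S M]
  [Module.Finite S M] [Module.Flat R M]
  (s : Finset (PrimeSpectrum R))
  (hs : Function.Injective fun a : R => fun p : s => algebraMap R (Localization.AtPrime p.1.asIdeal) a)

include hs in
/-- **Globalisation of finite presentation** (module form). -/
theorem finitePresentation_of_locally
    (hloc : ∀ (p : Ideal R) [p.IsPrime],
      Module.FinitePresentation (Localization (Algebra.algebraMapSubmonoid S p.primeCompl))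
        (LocalizedModule (Algebra.algebraMapSubmonoid S p.primeCompl) M)) :
    Module.FinitePresentation S M := by
  obtain ⟨r, f, hf⟩ := Module.Finite.exists_fin' S M
  rw [← Module.FinitePresentation.fg_ker_iff f hf]
  haveI : Module.Flat R ((Fin r → S) ⧸ LinearMap.ker f) :=
    Module.Flat.of_linearEquiv ((f.quotKerEquivOfSurjective hf).restrictScalars R)
  refine fg_of_locally_fg s hs (LinearMap.ker f) (fun p => ?_)
  set W := Algebra.algebraMapSubmonoid S p.asIdeal.primeCompl with hW
  haveI := hloc p.asIdeal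
  have hfg : ((LinearMap.ker f).localized W).FG := by
    change ((LinearMap.ker f).localized' (Localization W) W
      (LocalizedModule.mkLinearMap W (Fin r → S))).FG
    rw [LinearMap.localized'_ker_eq_ker_localizedMap (Localization W) W _
      (LocalizedModule.mkLinearMap W M) f]
    apply Module.FinitePresentation.fg_ker
    rw [← LinearMap.range_eq_top] at hf ⊢
    simp [← LinearMap.localized'_range_eq_range_localizedMap (Localization W) W, hf]
  obtain ⟨K₀, hle, hfg₀, h⟩ := exists_fg_le_of_localized_fg W _ hfg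
  refine ⟨K₀, hle, hfg₀, fun k hk => ?_⟩
  obtain ⟨w, ⟨g, hg, rfl⟩, hw⟩ := h k hk
  refine ⟨g, hg, ?_⟩
  rwa [algebraMap_smul] at hw

end Wrapper

end Groth.Agent.Lib.Helper12.GlobalFP
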