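import Mathlib
import Groth.Agent.Lib.Helper12.GlobalFP

set_option autoImplicit false
universe u
open TensorProduct

namespace Groth.Agent.Lib.Helper12.GlobalFPAlg

open Groth.Agent.Lib.Helper12.GlobalFP

section AlgLocal
variable {R S : Type u} [CommRing R] [CommRing S] [Algebra R S] {n : ℕ}
  (π : MvPolynomial (Fin n) R →ₐ[R] S) (hπ : Function.Surjective π)
  (p : Ideal R) [p.IsPrime]
  [Algebra.FinitePresentation (Localization.AtPrime p)
    (Localization (Algebra.algebraMapSubmonoid S p.primeCompl))]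

attribute [local instance] MvPolynomial.algebraMvPolynomial

include hπ in
theorem exists_fg_ideal_le_ker :
    ∃ J₀ : Ideal (MvPolynomial (Fin n) R), J₀ ≤ RingHom.ker π ∧ J₀.FG ∧
      ∀ k ∈ RingHom.ker π, ∃ g : R, g ∉ p ∧ g • k ∈ J₀ := by
  classical
  let Rp := Localization.AtPrime p
  let Sp := Localization (Algebra.algebraMapSubmonoid S p.primeCompl)
  let P := MvPolynomial (Fin n) R
  let Q := MvPolynomial (Fin n) Rp
  let W : Submonoid P := p.primeCompl.map (MvPolynomial.C (σ := Fin n))
  haveI : IsLocalization W Q := MvPolynomial.isLocalization p.primeCompl Rp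
  let φ : Q →ₐ[Rp] Sp := MvPolynomial.aeval (fun i => algebraMap S Sp (π (MvPolynomial.X i)))
  have hφι : ∀ k : P, φ (algebraMap P Q k) = algebraMap S Sp (π k) := by
    intro k
    induction k using MvPolynomial.induction_on with
    | C a =>
      rw [MvPolynomial.algebraMap_def, MvPolynomial.map_C]
      change φ (MvPolynomial.C (algebraMap R Rp a)) = _
      rw [MvPolynomial.aeval_C, ← IsScalarTower.algebraMap_apply R Rp Sp]
      have : π (MvPolynomial.C a) = algebraMap R S a := π.commutes a
      rw [this, ← IsScalarTower.algebraMap_apply R S Sp]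
    | add p q hp hq => rw [map_add, map_add, hp, hq, map_add, map_add]
    | mul_X q i hq =>
      rw [map_mul, map_mul, hq, map_mul, map_mul]
      congr 1
      rw [MvPolynomial.algebraMap_def, MvPolynomial.map_X]
      exact MvPolynomial.aeval_X _ i
  have hCg : ∀ g : R, algebraMap P Q (MvPolynomial.C g) = MvPolynomial.C (algebraMap R Rp g) := by
    intro g
    rw [MvPolynomial.algebraMap_def, MvPolynomial.map_C]
  have hφC : ∀ g : R, φ (MvPolynomial.C (algebraMap R Rp g)) =
      algebraMap S Sp (algebraMap R S g) := by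
    intro g
    rw [← hCg, hφι]
    congr 1
    exact π.commutes g
  have hφsurj : Function.Surjective φ := by
    intro y
    obtain ⟨⟨x, w⟩, hxw⟩ := IsLocalization.surj (Algebra.algebraMapSubmonoid S p.primeCompl) y
    obtain ⟨g, hg, hgw⟩ := w.2
    obtain ⟨k, rfl⟩ := hπ x
    have hu : IsUnit (algebraMap R Rp g) := IsLocalization.map_units (M := p.primeCompl) _ ⟨g, hg⟩
    obtain ⟨u, hu⟩ := hu
    refine ⟨MvPolynomial.C ((u⁻¹ : Rpˣ) : Rp) * algebraMap P Q k, ?_⟩
    rw [map_mul, hφι]
    simp only at hxw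
    rw [← hxw, ← hgw, ← hφC, ← hu, mul_comm y, ← mul_assoc, ← map_mul, ← map_mul,
      Units.inv_mul, map_one, map_one, one_mul]
  have hker : (RingHom.ker φ.toRingHom).FG :=
    Algebra.FinitePresentation.ker_fG_of_surjective φ hφsurj
  obtain ⟨T, hT⟩ := hker
  -- lift generators
  have hlift : ∀ c ∈ T, ∃ k : P, k ∈ RingHom.ker π ∧ ∃ v : Q, IsUnit v ∧ algebraMap P Q k = v * c := by
    intro c hc
    have hcφ : φ c = 0 := by
      have : c ∈ RingHom.ker φ.toRingHom := hT ▸ Ideal.subset_span hc
      exact this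
    obtain ⟨⟨k, w⟩, hkw⟩ := IsLocalization.surj W c
    simp only at hkw
    have h0 : algebraMap S Sp (π k) = 0 := by
      rw [← hφι, ← hkw, map_mul, hcφ, zero_mul]
    obtain ⟨m, hm⟩ := (IsLocalization.map_eq_zero_iff (Algebra.algebraMapSubmonoid S p.primeCompl)
      Sp (π k)).mp h0
    obtain ⟨g, hg, hgm⟩ := m.2
    refine ⟨MvPolynomial.C g * k, ?_, algebraMap P Q (MvPolynomial.C g) * algebraMap P Q w, ?_, ?_⟩
    · rw [RingHom.mem_ker, map_mul]
      have : π (MvPolynomial.C g) = algebraMap R S g := π.commutes g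
      rw [this, hgm]
      exact hm
    · refine IsUnit.mul ?_ (IsLocalization.map_units Q w)
      exact IsLocalization.map_units Q (⟨MvPolynomial.C g, Submonoid.mem_map_of_mem _ hg⟩ : W)
    · rw [map_mul, ← hkw]
      ring
  choose! kc hkcker vc hvc hkc using hlift
  refine ⟨Ideal.span (T.image kc : Set P), ?_, ⟨T.image kc, rfl⟩, ?_⟩
  · rw [Ideal.span_le]
    intro y hy
    simp only [Finset.coe_image, Set.mem_image, Finset.mem_coe] at hy
    obtain ⟨c, hc, rfl⟩ := hy
    exact hkcker c hc
  · intro k hk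
    have hkφ : algebraMap P Q k ∈ RingHom.ker φ.toRingHom := by
      change φ (algebraMap P Q k) = 0
      rw [hφι]
      have : π k = 0 := hk
      rw [this, map_zero]
    have hle : RingHom.ker φ.toRingHom ≤
        (Ideal.span (T.image kc : Set P)).map (algebraMap P Q) := by
      rw [← hT, Ideal.span_le]
      intro c hc
      have h1 : algebraMap P Q (kc c) ∈ (Ideal.span (T.image kc : Set P)).map (algebraMap P Q) :=
        Ideal.mem_map_of_mem _ (Ideal.subset_span (Finset.mem_image_of_mem kc hc))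
      rw [hkc c hc] at h1
      obtain ⟨v, hv⟩ := hvc c hc
      have h2 := Ideal.mul_mem_left _ ((v⁻¹ : Qˣ) : Q) h1
      rwa [← hv, ← mul_assoc, Units.inv_mul, one_mul] at h2
    obtain ⟨⟨j, w⟩, hjw⟩ := (IsLocalization.mem_map_algebraMap_iff W Q).mp (hle hkφ)
    simp only at hjw
    rw [← map_mul] at hjw
    obtain ⟨c, hc⟩ := (IsLocalization.eq_iff_exists W Q).mp hjw
    obtain ⟨g₁, hg₁, hg₁c⟩ := c.2
    obtain ⟨g₂, hg₂, hg₂w⟩ := w.2
    refine ⟨g₁ * g₂, p.primeCompl.mul_mem hg₁ hg₂, ?_⟩
    have : (g₁ * g₂) • k = (c : P) * (k * (w : P)) := by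
      rw [← hg₁c, ← hg₂w, MvPolynomial.smul_eq_C_mul, map_mul]
      ring
    rw [this, hc]
    exact Ideal.mul_mem_left _ _ j.2

end AlgLocal

section AlgWrapper
variable {R S : Type u} [CommRing R] [CommRing S] [Algebra R S] [Algebra.FiniteType R S]
  [Module.Flat R S]
  (s : Finset (PrimeSpectrum R))
  (hs : Function.Injective fun a : R => fun p : s => algebraMap R (Localization.AtPrime p.1.asIdeal) a)

include hs in
/-- **Globalisation of finite presentation** (algebra form). -/
theorem finitePresentation_algebra_of_locally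
    (hloc : ∀ (p : Ideal R) [p.IsPrime],
      Algebra.FinitePresentation (Localization.AtPrime p)
        (Localization (Algebra.algebraMapSubmonoid S p.primeCompl))) :
    Algebra.FinitePresentation R S := by
  obtain ⟨n, π, hπ⟩ := Algebra.FiniteType.iff_quotient_mvPolynomial''.mp
    (inferInstance : Algebra.FiniteType R S)
  let P := MvPolynomial (Fin n) R
  let e : (Fin 1 → P) ≃ₗ[P] P := LinearEquiv.funUnique (Fin 1) P P
  let J : Ideal P := RingHom.ker π
  let K : Submodule P (Fin 1 → P) := Submodule.comap e.toLinearMap J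
  have hKJ : K.map e.toLinearMap = J :=
    Submodule.map_comap_eq_of_surjective e.surjective J
  let e1 : ((Fin 1 → P) ⧸ K) ≃ₗ[P] (P ⧸ J) := Submodule.Quotient.equiv K J e hKJ
  let e2 : (P ⧸ J) ≃ₐ[R] S := Ideal.quotientKerAlgEquivOfSurjective hπ
  haveI : Module.Flat R ((Fin 1 → P) ⧸ K) :=
    Module.Flat.of_linearEquiv ((e1.restrictScalars R).trans e2.toLinearEquiv)
  have hK : K.FG := by
    refine fg_of_locally_fg s hs K (fun q => ?_)
    haveI := hloc q.asIdeal
    obtain ⟨J₀, hle, hfg, h⟩ := exists_fg_ideal_le_ker π hπ q.asIdeal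
    refine ⟨Submodule.comap e.toLinearMap J₀, Submodule.comap_mono hle, ?_, fun k hk => ?_⟩
    · have : Submodule.comap e.toLinearMap J₀ = Submodule.map e.symm.toLinearMap J₀ :=
        Submodule.comap_equiv_eq_map_symm e J₀
      rw [this]
      exact Submodule.FG.map _ hfg
    · obtain ⟨g, hg, hgk⟩ := h (e k) hk
      refine ⟨g, hg, ?_⟩
      change e (g • k) ∈ J₀
      have : e (g • k) = g • e k := by
        rw [← algebraMap_smul P g k, map_smul, algebraMap_smul]
      rw [this]
      exact hgk
  have hJ : J.FG := by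
    rw [← hKJ]
    exact Submodule.FG.map _ hK
  exact Algebra.FinitePresentation.of_surjective hπ hJ

end AlgWrapper

end Groth.Agent.Lib.Helper12.GlobalFPAlg
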