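import Mathlib
import Groth.Agent.Lib.Helper12.IdeallySep

/-!
# Flatness of ideally separated modules: the symbolic power criterion (helper12)

`A` Noetherian, `J` an ideal, `p i` finitely many primes containing `J`.  If `M / J M` is flat
over `A / J` and every `M_{p i}` is flat, then `(A ⧸ 𝔠) ⊗ M` is flat over `A ⧸ 𝔠` for every ideal
`𝔠` containing a power of `J` which is saturated with respect to the complement of `⋃ p i`.

`rTensor_subtype_injective_step'` is helper98's `rTensor_subtype_injective_step` with the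
hypothesis `hb` replaced by its only consequence used in the proof.
-/

set_option autoImplicit false
universe u

open TensorProduct Function

namespace Groth.Agent.Lib.Helper12.IdeallySepSymb

open Groth.Agent.Lib.Helper98 (imgIdeal injective_of_chaseA)

section step
variable {A : Type u} [CommRing A] (I : Ideal A) (M : Type u) [AddCommGroup M] [Module A M]

/-- helper98's inductive step, with the injectivity of `(I/I') ⊗ M → (A/I') ⊗ M` as a
hypothesis. -/
theorem rTensor_subtype_injective_step' (I₀ I' : Ideal A)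
    (hmul : I₀ * I ≤ I')
    (h3 : Injective ((imgIdeal I I').subtype.rTensor M))
    [Module.Flat (A ⧸ I) ((A ⧸ I) ⊗[A] M)]
    [Module.Flat (A ⧸ I₀) ((A ⧸ I₀) ⊗[A] M)]
    (J : Submodule A (A ⧸ I')) : Injective (J.subtype.rTensor M) := by
  let Ibar : Submodule A (A ⧸ I') := imgIdeal I I'
  let K : Submodule A (A ⧸ I') := J ⊓ Ibar
  let ιKJ : K →ₗ[A] J := Submodule.inclusion inf_le_left
  let ιKI : K →ₗ[A] Ibar := Submodule.inclusion inf_le_right
  let π : (A ⧸ I') →ₗ[A] (A ⧸ I') ⧸ Ibar := Submodule.mkQ Ibar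
  let q : J →ₗ[A] (A ⧸ I') ⧸ Ibar := π ∘ₗ J.subtype
  let Q : Submodule A ((A ⧸ I') ⧸ Ibar) := LinearMap.range q
  let q' : J →ₗ[A] Q := q.rangeRestrict
  have hexact : Function.Exact ιKJ q' := by
    intro j
    constructor
    · intro hj
      have hj' : q j = 0 := congrArg Subtype.val hj
      have hjI : (j : A ⧸ I') ∈ Ibar := by
        have : Submodule.Quotient.mk (p := Ibar) (j : A ⧸ I') = 0 := hj'
        rwa [Submodule.Quotient.mk_eq_zero] at this
      exact ⟨⟨j, ⟨j.2, hjI⟩⟩, rfl⟩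
    · rintro ⟨k, rfl⟩
      apply Subtype.ext
      change Submodule.Quotient.mk (p := Ibar) (k : A ⧸ I') = 0
      rw [Submodule.Quotient.mk_eq_zero]
      exact k.2.2
  have hq' : Surjective q' := LinearMap.surjective_rangeRestrict q
  have hIbar : Module.IsTorsionBySet A Ibar (I₀ : Set A) := by
    intro x c
    apply Subtype.ext
    obtain ⟨i, hi, hx⟩ := x.2
    change (c : A) • (x : A ⧸ I') = 0
    rw [← hx]
    change (c : A) • Submodule.Quotient.mk (p := I') i = 0
    rw [← Submodule.Quotient.mk_smul, Submodule.Quotient.mk_eq_zero, smul_eq_mul]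
    exact hmul (Ideal.mul_mem_mul c.2 hi)
  have hK : Module.IsTorsionBySet A K (I₀ : Set A) := by
    intro x c
    apply Subtype.ext
    have := hIbar (x := ⟨x, x.2.2⟩) (a := c)
    exact (congrArg Subtype.val this :)
  have hAI : Module.IsTorsionBySet A ((A ⧸ I') ⧸ Ibar) (I : Set A) := by
    intro x c
    obtain ⟨y, rfl⟩ := Submodule.Quotient.mk_surjective _ x
    obtain ⟨z, rfl⟩ := Submodule.Quotient.mk_surjective _ y
    rw [← Submodule.Quotient.mk_smul, Submodule.Quotient.mk_eq_zero,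
      ← Submodule.Quotient.mk_smul]
    exact ⟨(c : A) • z, I.mul_mem_right _ c.2, rfl⟩
  have hQ : Module.IsTorsionBySet A Q (I : Set A) := by
    intro x c
    apply Subtype.ext
    exact hAI (x := (x : (A ⧸ I') ⧸ Ibar)) (a := c)
  have h1 : Injective (ιKI.rTensor M) :=
    Groth.Agent.Lib.Helper84.rTensor_injective_of_flat_quotient_of_torsion I₀ M hK hIbar ιKI
      (Submodule.inclusion_injective _)
  have h2 : Injective (Q.subtype.rTensor M) :=
    Groth.Agent.Lib.Helper84.rTensor_injective_of_flat_quotient_of_torsion I M hQ hAI Q.subtype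
      Subtype.val_injective
  refine injective_of_chaseA (R := A) (X₁ := K ⊗[A] M) (X₂ := J ⊗[A] M) (X₃ := Q ⊗[A] M)
    (Y₂ := (A ⧸ I') ⊗[A] M) (Y₃ := ((A ⧸ I') ⧸ Ibar) ⊗[A] M)
    (a := ιKJ.rTensor M) (b := q'.rTensor M)
    (β := J.subtype.rTensor M) (d := π.rTensor M) (γ := Q.subtype.rTensor M)
    (rTensor_exact M hexact hq') ?_ h2 ?_
  · rw [← LinearMap.rTensor_comp, ← LinearMap.rTensor_comp]
    rfl
  · have : J.subtype.rTensor M ∘ₗ ιKJ.rTensor M = Ibar.subtype.rTensor M ∘ₗ ιKI.rTensor M := by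
      rw [← LinearMap.rTensor_comp, ← LinearMap.rTensor_comp]
      rfl
    rw [this, LinearMap.coe_comp]
    exact h3.comp h1

/-- Flatness of `M / 𝔠 M` over `A / 𝔠` passes to bigger ideals. -/
theorem flat_quotient_mono (𝔠 𝔡 : Ideal A) (h : 𝔠 ≤ 𝔡)
    [Module.Flat (A ⧸ 𝔠) ((A ⧸ 𝔠) ⊗[A] M)] :
    Module.Flat (A ⧸ 𝔡) ((A ⧸ 𝔡) ⊗[A] M) := by
  apply Groth.Agent.Lib.Helper98.flat_quotient_of_rTensor_injective M 𝔡
  intro J
  have hA : Module.IsTorsionBySet A (A ⧸ 𝔡) (𝔠 : Set A) := by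
    intro x c
    obtain ⟨y, rfl⟩ := Submodule.Quotient.mk_surjective _ x
    rw [← Submodule.Quotient.mk_smul, Submodule.Quotient.mk_eq_zero]
    exact 𝔡.mul_mem_right _ (h c.2)
  have hJ : Module.IsTorsionBySet A J (𝔠 : Set A) := by
    intro x c
    apply Subtype.ext
    exact hA (x := (x : A ⧸ 𝔡)) (a := c)
  exact Groth.Agent.Lib.Helper84.rTensor_injective_of_flat_quotient_of_torsion 𝔠 M hJ hA
    J.subtype Subtype.val_injective

/-- If `z ∈ D ⊗ M` dies in `E ⊗ M` along an injection `D → E` and `S⁻¹ M` is `A`-flat, then `z`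
is killed by an element of `S`. -/
theorem exists_smul_eq_zero_of_rTensor_eq_zero {D E : Type u} [AddCommGroup D] [Module A D]
    [AddCommGroup E] [Module A E] (g : D →ₗ[A] E) (hg : Injective g)
    (S : Submonoid A) [Module.Flat A (LocalizedModule S M)]
    (z : D ⊗[A] M) (hz : g.rTensor M z = 0) : ∃ c ∈ S, c • z = 0 := by
  let ℓ := LocalizedModule.mkLinearMap S M
  have h1 : (g.rTensor (LocalizedModule S M)) (ℓ.lTensor D z) = 0 := by
    rw [← LinearMap.comp_apply, LinearMap.rTensor_comp_lTensor, ← LinearMap.lTensor_comp_rTensor,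
      LinearMap.comp_apply, hz, map_zero]
  have h2 : ℓ.lTensor D z = 0 := by
    apply Module.Flat.rTensor_preserves_injective_linearMap g hg
    rw [h1, map_zero]
  have hcomm : ∀ w : D ⊗[A] M,
      (AlgebraTensorModule.rTensor A D ℓ) (TensorProduct.comm A D M w) =
      TensorProduct.comm A D _ (ℓ.lTensor D w) := by
    intro w
    induction w with
    | zero => simp
    | add a b ha hb => simp only [map_add, ha, hb]
    | tmul n m => simp
  have h3 : (AlgebraTensorModule.rTensor A D ℓ) (TensorProduct.comm A D M z) = 0 := by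
    rw [hcomm z, h2, map_zero]
  obtain ⟨c, hc⟩ := (IsLocalizedModule.eq_zero_iff S (AlgebraTensorModule.rTensor A D ℓ)).mp h3
  refine ⟨c, c.2, ?_⟩
  exact (TensorProduct.comm A D M).injective (by rw [map_smul, map_zero]; exact hc)

end step

section sat
variable {A : Type u} [CommRing A] {r : ℕ} (p : Fin r → Ideal A) [∀ i, (p i).IsPrime]

/-- the complement of `⋃ p i` -/
def S : Submonoid A := ⨅ i, (p i).primeCompl

theorem mem_S {s : A} : s ∈ S p ↔ ∀ i, s ∉ p i := by
  simp [S, Submonoid.mem_iInf, Ideal.mem_primeCompl_iff]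

/-- `𝔠` is saturated with respect to `S p`. -/
def IsSat (𝔠 : Ideal A) : Prop := ∀ s ∈ S p, ∀ a : A, s * a ∈ 𝔠 → a ∈ 𝔠

/-- the saturation of an ideal -/
def sat (𝔟 : Ideal A) : Ideal A where
  carrier := {a | ∃ s ∈ S p, s * a ∈ 𝔟}
  zero_mem' := ⟨1, one_mem _, by simp⟩
  add_mem' := by
    rintro a b ⟨s, hs, hsa⟩ ⟨t, ht, htb⟩
    refine ⟨s * t, mul_mem hs ht, ?_⟩
    have : s * t * (a + b) = t * (s * a) + s * (t * b) := by ring
    rw [this]
    exact add_mem (𝔟.mul_mem_left _ hsa) (𝔟.mul_mem_left _ htb)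
  smul_mem' := by
    rintro c a ⟨s, hs, hsa⟩
    refine ⟨s, hs, ?_⟩
    have : s * (c • a) = c * (s * a) := by simp only [smul_eq_mul]; ring
    rw [this]
    exact 𝔟.mul_mem_left _ hsa

theorem mem_sat {𝔟 : Ideal A} {a : A} : a ∈ sat p 𝔟 ↔ ∃ s ∈ S p, s * a ∈ 𝔟 := Iff.rfl

theorem le_sat (𝔟 : Ideal A) : 𝔟 ≤ sat p 𝔟 := fun a ha => ⟨1, one_mem _, by simpa using ha⟩

theorem isSat_sat (𝔟 : Ideal A) : IsSat p (sat p 𝔟) := by
  rintro s hs a ⟨t, ht, hta⟩
  exact ⟨t * s, mul_mem ht hs, by rwa [mul_assoc]⟩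

theorem mul_sat_le (J 𝔠 : Ideal A) (n : ℕ) (hsat : IsSat p 𝔠) (hJ : J ^ (n + 1) ≤ 𝔠) :
    J * sat p (𝔠 ⊔ J ^ n) ≤ 𝔠 := by
  rw [Ideal.mul_le]
  rintro j hj a ⟨s, hs, hsa⟩
  apply hsat s hs
  obtain ⟨c, hc, b, hb, hcb⟩ := Submodule.mem_sup.mp hsa
  have : s * (j * a) = j * c + j * b := by rw [← mul_add, hcb]; ring
  rw [this]
  refine add_mem (𝔠.mul_mem_left _ hc) (hJ ?_)
  rw [pow_succ']
  exact Ideal.mul_mem_mul hj hb

end sat

section main
variable {A : Type u} [CommRing A] {r : ℕ} (p : Fin r → Ideal A) [∀ i, (p i).IsPrime]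
  (J : Ideal A) (M : Type u) [AddCommGroup M] [Module A M]

theorem rTensor_imgIdeal_injective_of_sat (𝔠 𝔠' : Ideal A) (hJ : J * 𝔠' ≤ 𝔠)
    (hsat : IsSat p 𝔠) [Module.Flat (A ⧸ J) ((A ⧸ J) ⊗[A] M)]
    (hloc : ∀ i, Module.Flat A (LocalizedModule (p i).primeCompl M)) :
    Injective ((imgIdeal 𝔠' 𝔠).subtype.rTensor M) := by
  classical
  rw [injective_iff_map_eq_zero]
  intro z hz
  -- the annihilator of z
  let I : Ideal A := LinearMap.ker (LinearMap.toSpanSingleton A (↥(imgIdeal 𝔠' 𝔠) ⊗[A] M) z)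
  have hI : ∀ a : A, a ∈ I ↔ a • z = 0 := fun a => by
    simp [I, LinearMap.mem_ker, LinearMap.toSpanSingleton_apply]
  have hnot : ¬ ((I : Set A) ⊆
      ⋃ q ∈ (((Finset.univ : Finset (Fin r)).image p : Finset (Ideal A)) : Set (Ideal A)),
        ((fun q : Ideal A => q) q : Set A)) := by
    intro hsub
    have hp : ∀ q ∈ (Finset.univ : Finset (Fin r)).image p, q ≠ (⊥ : Ideal A) → q ≠ (⊥ : Ideal A) →
        ((fun q : Ideal A => q) q).IsPrime := by
      intro q hq _ _
      obtain ⟨i, -, rfl⟩ := Finset.mem_image.mp hq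
      infer_instance
    obtain ⟨q, hq, hle⟩ := (Ideal.subset_union_prime
      (s := (Finset.univ : Finset (Fin r)).image p)
      (f := fun q : Ideal A => q) ⊥ ⊥ hp (I := I)).mp hsub
    obtain ⟨i, -, rfl⟩ := Finset.mem_image.mp hq
    have := hloc i
    obtain ⟨c, hc, hcz⟩ := exists_smul_eq_zero_of_rTensor_eq_zero M (imgIdeal 𝔠' 𝔠).subtype
      Subtype.val_injective (p i).primeCompl z hz
    exact hc (hle ((hI c).mpr hcz))
  obtain ⟨s, hsI, hsU⟩ := Set.not_subset.mp hnot
  have hsS : s ∈ S p := by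
    rw [mem_S]
    intro i hi
    apply hsU
    simp only [Set.mem_iUnion, exists_prop, Finset.coe_image, Finset.coe_univ, Set.image_univ,
      Set.mem_range, SetLike.mem_coe]
    exact ⟨p i, ⟨i, rfl⟩, hi⟩
  -- multiplication by `s` on `D`
  let f : ↥(imgIdeal 𝔠' 𝔠) →ₗ[A] ↥(imgIdeal 𝔠' 𝔠) := LinearMap.lsmul A _ s
  have hf : Injective f := by
    rw [injective_iff_map_eq_zero]
    rintro ⟨x, hx⟩ h0
    apply Subtype.ext
    have h0' : s • x = 0 := congrArg Subtype.val h0
    obtain ⟨a, rfl⟩ := Submodule.Quotient.mk_surjective _ x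
    rw [← Submodule.Quotient.mk_smul, Submodule.Quotient.mk_eq_zero, smul_eq_mul] at h0'
    exact (Submodule.Quotient.mk_eq_zero _).mpr (hsat s hsS a h0')
  have hD : Module.IsTorsionBySet A ↥(imgIdeal 𝔠' 𝔠) (J : Set A) := by
    intro x c
    apply Subtype.ext
    obtain ⟨i, hi, hx⟩ := x.2
    change (c : A) • (x : A ⧸ 𝔠) = 0
    rw [← hx]
    change (c : A) • Submodule.Quotient.mk (p := 𝔠) i = 0
    rw [← Submodule.Quotient.mk_smul, Submodule.Quotient.mk_eq_zero, smul_eq_mul]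
    exact hJ (Ideal.mul_mem_mul c.2 hi)
  have hfM : Injective (f.rTensor M) :=
    Groth.Agent.Lib.Helper84.rTensor_injective_of_flat_quotient_of_torsion J M hD hD f hf
  apply hfM
  rw [map_zero]
  have : f.rTensor M z = s • z := by
    have hfs : f = s • LinearMap.id := by
      ext x; simp [f]
    rw [hfs, LinearMap.rTensor_smul, LinearMap.rTensor_id]
    rfl
  rw [this]
  exact (hI s).mp hsI

/-- **Main induction.**  Flatness of `M / 𝔠 M` over `A / 𝔠` for saturated ideals containing a power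
of `J`. -/
theorem flat_quotient_of_isSat [Module.Flat (A ⧸ J) ((A ⧸ J) ⊗[A] M)]
    (hloc : ∀ i, Module.Flat A (LocalizedModule (p i).primeCompl M)) :
    ∀ (n : ℕ) (𝔠 : Ideal A), IsSat p 𝔠 → J ^ n ≤ 𝔠 →
      Module.Flat (A ⧸ 𝔠) ((A ⧸ 𝔠) ⊗[A] M) := by
  intro n
  induction n with
  | zero =>
    intro 𝔠 _ h
    have hJ : J ≤ 𝔠 := le_trans le_top (by simpa using h)
    exact flat_quotient_mono M J 𝔠 hJ
  | succ n ih =>
    intro 𝔠 hsat h
    have hsat' : IsSat p (sat p (𝔠 ⊔ J ^ n)) := isSat_sat p _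
    have hle' : J ^ n ≤ sat p (𝔠 ⊔ J ^ n) := le_trans le_sup_right (le_sat p _)
    have := ih (sat p (𝔠 ⊔ J ^ n)) hsat' hle'
    have hmul : J * sat p (𝔠 ⊔ J ^ n) ≤ 𝔠 := mul_sat_le p J 𝔠 n hsat h
    have h3 := rTensor_imgIdeal_injective_of_sat p J M 𝔠 (sat p (𝔠 ⊔ J ^ n)) hmul hsat hloc
    exact Groth.Agent.Lib.Helper98.flat_quotient_of_rTensor_injective M 𝔠
      (fun J' => rTensor_subtype_injective_step' (sat p (𝔠 ⊔ J ^ n)) M J 𝔠 hmul h3 J')

/-- the intersection of the `m`-th symbolic powers of the `p i` -/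
def symb (m : ℕ) : Ideal A :=
  ⨅ i, Ideal.comap (algebraMap A (Localization.AtPrime (p i)))
    (IsLocalRing.maximalIdeal (Localization.AtPrime (p i)) ^ m)

theorem isSat_symb (m : ℕ) : IsSat p (symb p m) := by
  intro s hs a hsa
  rw [symb, Ideal.mem_iInf] at hsa ⊢
  intro i
  have h := hsa i
  rw [Ideal.mem_comap, map_mul] at h
  rw [Ideal.mem_comap]
  have hu : IsUnit (algebraMap A (Localization.AtPrime (p i)) s) :=
    IsLocalization.map_units (Localization.AtPrime (p i))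
      (⟨s, (mem_S p).mp hs i⟩ : (p i).primeCompl)
  obtain ⟨u, hu'⟩ := hu
  have : algebraMap A (Localization.AtPrime (p i)) a =
      ↑u⁻¹ * (algebraMap A (Localization.AtPrime (p i)) s *
        algebraMap A (Localization.AtPrime (p i)) a) := by
    rw [← hu', ← mul_assoc, Units.inv_mul, one_mul]
  rw [this]
  exact Ideal.mul_mem_left _ _ h

theorem pow_le_symb (hp : ∀ i, J ≤ p i) (m : ℕ) : J ^ m ≤ symb p m := by
  rw [symb, le_iInf_iff]
  intro i
  rw [← Ideal.map_le_iff_le_comap, Ideal.map_pow]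
  apply Ideal.pow_right_mono
  rw [← Localization.AtPrime.map_eq_maximalIdeal]
  exact Ideal.map_mono (hp i)

end main

section final
variable {A : Type u} [CommRing A] [IsNoetherianRing A] {r : ℕ} (p : Fin r → Ideal A)
  [∀ i, (p i).IsPrime] (J : Ideal A) (M : Type u) [AddCommGroup M] [Module A M]

/-- EGA-style criterion: ideally separated, flat modulo `J`, flat at the `p i`, and the `J`-adic
topology is that of the symbolic powers: then flat. -/
theorem flat_of_ideallySeparated_symb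
    (hsep : ∀ a : Ideal A, IsHausdorff J (↥a ⊗[A] M))
    (hp : ∀ i, J ≤ p i)
    (htop : ∀ n : ℕ, ∃ m : ℕ, symb p m ≤ J ^ n)
    [Module.Flat (A ⧸ J) ((A ⧸ J) ⊗[A] M)]
    (hloc : ∀ i, Module.Flat A (LocalizedModule (p i).primeCompl M)) :
    Module.Flat A M := by
  apply Groth.Agent.Lib.Helper12.IdeallySep.flat_of_ideallySeparated_of_flat_quotient_pow J M hsep
  intro n
  obtain ⟨m, hm⟩ := htop (n + 1)
  have := flat_quotient_of_isSat p J M hloc m (symb p m) (isSat_symb p m) (pow_le_symb p J hp m)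
  exact flat_quotient_mono M (symb p m) (J ^ (n + 1)) hm

end final

end Groth.Agent.Lib.Helper12.IdeallySepSymb
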