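import Groth.Agent.Lib.Helper12.KoszulDepth
import Groth.Agent.Lib.Helper12.KoszulTop
import Groth.Agent.Lib.Helper12.FlatCxBounded
import Groth.Agent.Lib.Helper94.KoszulBridge
import Groth.Agent.Lib.Helper98.LocalFlatNilp
import Groth.Agent.Lib.Helper71.FlatKer

/-!
# Lifting Koszul-regularity and flatness along a nilpotent thickening

`A → B` flat, `J ⊆ A` nilpotent, `rs` a sequence in `B` whose reduction modulo `J B` is
Koszul-regular with quotient flat over `A/J`.  Then `rs` is Koszul-regular and `B/(rs)` is flat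
over `A`.
-/

set_option autoImplicit false

namespace Groth.Agent.Lib.Helper12.KoszulNilp

open CategoryTheory CategoryTheory.Limits CochainComplex CohIII MonoidalCategory TensorProduct
open Groth.Agent.Lib.Helper12.Koszul Groth.Agent.Lib.Helper12.KoszulDepth
open Groth.Agent.Lib.Helper12.FlatCx

universe u

section P1
variable {R S : Type u} [CommRing R] [CommRing S]

/-- the cone of `s • 𝟙` is functorial in isomorphisms. -/
noncomputable def coneIso {K L : CochainComplex (ModuleCat.{u} S) ℤ} (s : S) (e : K ≅ L) :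
    mappingCone (s • 𝟙 K) ≅ mappingCone (s • 𝟙 L) where
  hom := coneMap s e.hom
  inv := coneMap s e.inv
  hom_inv_id := by rw [← coneMap_comp, e.hom_inv_id, coneMap_id]
  inv_hom_id := by rw [← coneMap_comp, e.inv_hom_id, coneMap_id]

variable (F : ModuleCat.{u} R ⥤ ModuleCat.{u} S) [F.Additive]

lemma mapHC_smul_id (r : R) (s : S)
    (h : ∀ M : ModuleCat.{u} R, F.map (r • 𝟙 M) = s • 𝟙 (F.obj M))
    (K : CochainComplex (ModuleCat.{u} R) ℤ) :
    (F.mapHomologicalComplex (ComplexShape.up ℤ)).map (r • 𝟙 K) =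
      s • 𝟙 ((F.mapHomologicalComplex (ComplexShape.up ℤ)).obj K) := by
  ext i : 1
  rw [Functor.mapHomologicalComplex_map_f, HomologicalComplex.smul_f_apply,
    HomologicalComplex.smul_f_apply, HomologicalComplex.id_f, HomologicalComplex.id_f]
  exact h (K.X i)

/-- An additive functor compatible with the scalars commutes with Koszul complexes. -/
theorem nonempty_mapKoszulIso {T : Type*} (α : T → R) (β : T → S)
    (h : ∀ (t : T) (M : ModuleCat.{u} R), F.map (α t • 𝟙 M) = β t • 𝟙 (F.obj M))
    (M : ModuleCat.{u} R) : ∀ l : List T,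
    Nonempty ((F.mapHomologicalComplex (ComplexShape.up ℤ)).obj (koszulCx M (l.map α)) ≅
      koszulCx (F.obj M) (l.map β))
  | [] => ⟨(HomologicalComplex.singleMapHomologicalComplex F (ComplexShape.up ℤ) 0).app M⟩
  | t :: l => by
      obtain ⟨e⟩ := nonempty_mapKoszulIso α β h M l
      have e1 := mappingCone.mapHomologicalComplexIso (α t • 𝟙 (koszulCx M (l.map α))) F
      rw [mapHC_smul_id F (α t) (β t) (h t)] at e1
      exact ⟨e1 ≪≫ coneIso (β t) e⟩

end P1

section PF
variable {R S : Type u} [CommRing R] [CommRing S] [Algebra R S]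

instance isScalarTower_restr (X : ModuleCat.{u} S) :
    IsScalarTower R S ((ModuleCat.restrictScalars (algebraMap R S)).obj X) :=
  ⟨fun r s x => by
    show (r • s) • (show X from x) = algebraMap R S r • (s • (show X from x))
    rw [Algebra.smul_def, mul_smul]⟩

/-- restriction of scalars of an `S`-linear equivalence -/
def restrictEquiv' {E : ModuleCat.{u} S} {N : Type u} [AddCommGroup N] [Module S N] [Module R N]
    [IsScalarTower R S N] (e : E ≃ₗ[S] N) :
    ((ModuleCat.restrictScalars (algebraMap R S)).obj E) ≃ₗ[R] N where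
  toFun := fun x => e (show E from x)
  invFun := fun y => (e.symm y : E)
  map_add' := fun x y => e.map_add _ _
  map_smul' := fun a x => by
    show e ((algebraMap R S a) • (show E from x)) = a • e _
    rw [e.map_smul, algebraMap_smul]
  left_inv := fun x => e.symm_apply_apply _
  right_inv := e.apply_symm_apply

/-- the `S`-linear projection formula `X ⊗_S (S ⊗_R N) ≃ X ⊗_R N`. -/
noncomputable def pfEquivS (X : ModuleCat.{u} S) (N : ModuleCat.{u} R) :
    (X ⊗ (ModuleCat.extendScalars (algebraMap R S)).obj N : ModuleCat.{u} S) ≃ₗ[S]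
      ((ModuleCat.restrictScalars (algebraMap R S)).obj X) ⊗[R] N :=
  (TensorProduct.congr (LinearEquiv.refl S X) (extendScalarsObjEquiv (S := S) N)) ≪≫ₗ
    (TensorProduct.AlgebraTensorModule.cancelBaseChange R S S
      ((ModuleCat.restrictScalars (algebraMap R S)).obj X) N)

lemma pfEquivS_tmul (X : ModuleCat.{u} S) (N : ModuleCat.{u} R) (x : X) (s : S) (n : N) :
    pfEquivS X N (x ⊗ₜ[S] ((extendScalarsObjEquiv (S := S) N).symm (s ⊗ₜ[R] n))) =
      TensorProduct.tmul R (show (ModuleCat.restrictScalars (algebraMap R S)).obj X from s • x) n := by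
  unfold pfEquivS
  rw [LinearEquiv.trans_apply, TensorProduct.congr_tmul, LinearEquiv.apply_symm_apply]
  rfl

lemma pfEquivS_naturality {X Y : ModuleCat.{u} S} (g : X ⟶ Y) (N : ModuleCat.{u} R)
    (t : (X ⊗ (ModuleCat.extendScalars (algebraMap R S)).obj N : ModuleCat.{u} S)) :
    pfEquivS Y N ((g ▷ (ModuleCat.extendScalars (algebraMap R S)).obj N).hom t) =
      (((ModuleCat.restrictScalars (algebraMap R S)).map g) ▷ N).hom (pfEquivS X N t) := by
  induction t using TensorProduct.induction_on with
  | zero => simp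
  | add a b ha hb => rw [map_add, map_add, ha, hb, map_add, map_add]
  | tmul x e =>
    obtain ⟨y, rfl⟩ := (extendScalarsObjEquiv (S := S) N).symm.surjective e
    induction y using TensorProduct.induction_on with
    | zero => simp
    | add a b ha hb =>
      rw [map_add, TensorProduct.tmul_add, map_add, map_add, ha, hb, map_add, map_add]
    | tmul s n =>
      rw [pfEquivS_tmul]
      have h1 : (g ▷ (ModuleCat.extendScalars (algebraMap R S)).obj N).hom
          (x ⊗ₜ[S] ((extendScalarsObjEquiv (S := S) N).symm (s ⊗ₜ[R] n))) =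
          (g.hom x) ⊗ₜ[S] ((extendScalarsObjEquiv (S := S) N).symm (s ⊗ₜ[R] n)) := rfl
      rw [h1, pfEquivS_tmul]
      have h2 : g.hom (s • x) = s • g.hom x := map_smul g.hom s x
      rw [← h2]
      rfl

/-- the projection formula as an `R`-linear equivalence. -/
noncomputable def pfEquiv (X : ModuleCat.{u} S) (N : ModuleCat.{u} R) :
    ((ModuleCat.restrictScalars (algebraMap R S)).obj
      (X ⊗ (ModuleCat.extendScalars (algebraMap R S)).obj N)) ≃ₗ[R]
      ((ModuleCat.restrictScalars (algebraMap R S)).obj X) ⊗[R] N :=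
  restrictEquiv' (pfEquivS X N)

/-- the projection formula for complexes. -/
noncomputable def pfCxIso (K : CochainComplex (ModuleCat.{u} S) ℤ) (N : ModuleCat.{u} R) :
    ((ModuleCat.restrictScalars (algebraMap R S)).mapHomologicalComplex (ComplexShape.up ℤ)).obj
      (CohIII.tensorObj K ((ModuleCat.extendScalars (algebraMap R S)).obj N)) ≅
    CohIII.tensorObj
      (((ModuleCat.restrictScalars (algebraMap R S)).mapHomologicalComplex
        (ComplexShape.up ℤ)).obj K) N :=
  HomologicalComplex.Hom.isoOfComponents (fun i => (pfEquiv (K.X i) N).toModuleIso) (by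
    intro i j _
    apply ModuleCat.hom_ext
    apply LinearMap.ext
    intro t
    exact (pfEquivS_naturality (K.d i j) N (show (K.X i ⊗ _ : ModuleCat.{u} S) from t)).symm)

end PF

section FlatTerms
variable {A : Type u} [CommRing A]

lemma flat_cone_X {K : CochainComplex (ModuleCat.{u} A) ℤ} (f : A)
    (hK : ∀ i, Module.Flat A (K.X i)) (i : ℤ) :
    Module.Flat A ((mappingCone (f • 𝟙 K)).X i) := by
  have := hK i
  have := hK (i + 1)
  let ι : (mappingCone (f • 𝟙 K)).X i →ₗ[A] (K.X (i + 1) × K.X i) :=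
    LinearMap.prod ((mappingCone.fst (f • 𝟙 K)).1.v i (i + 1) rfl).hom
      ((mappingCone.snd (f • 𝟙 K)).v i i (add_zero i)).hom
  let ρ : (K.X (i + 1) × K.X i) →ₗ[A] (mappingCone (f • 𝟙 K)).X i :=
    LinearMap.coprod ((mappingCone.inl (f • 𝟙 K)).v (i + 1) i (by lia)).hom
      ((mappingCone.inr (f • 𝟙 K)).f i).hom
  have hprod : Module.Flat A (K.X (i + 1) × K.X i) := Groth.Agent.Lib.Helper71.flat_prod
  refine Module.Flat.of_retract ι ρ ?_
  apply LinearMap.ext
  intro x
  exact congrArg (fun φ => φ.hom x) (mappingCone.id_X (f • 𝟙 K) i (i + 1) rfl)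

lemma flat_koszulCx_X (M : ModuleCat.{u} A) (hM : Module.Flat A M) :
    ∀ (fs : List A) (i : ℤ), Module.Flat A ((koszulCx M fs).X i)
  | [], i => by
      by_cases hi : i = 0
      · subst hi
        exact Module.Flat.of_linearEquiv
          (HomologicalComplex.singleObjXSelf (ComplexShape.up ℤ) 0 M).toLinearEquiv
      · have hz : IsZero ((koszulCx M []).X i) :=
          HomologicalComplex.isZero_single_obj_X _ _ _ _ hi
        have : Subsingleton ((koszulCx M []).X i) := ModuleCat.subsingleton_of_isZero hz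
        infer_instance
  | f :: fs, i => flat_cone_X f (flat_koszulCx_X M hM fs) i

variable {B : Type u} [CommRing B] [Algebra A B]

lemma flat_restr [Module.Flat A B] (X : ModuleCat.{u} B) (h : Module.Flat B X) :
    Module.Flat A ((ModuleCat.restrictScalars (algebraMap A B)).obj X) := by
  haveI : Module.Flat B ((ModuleCat.restrictScalars (algebraMap A B)).obj X) := h
  exact Module.Flat.trans A B _

end FlatTerms

section Y4

lemma isZero_homology_restr_mapHC {R S : Type u} [CommRing R] [CommRing S] (f : R →+* S)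
    (L : CochainComplex (ModuleCat.{u} S) ℤ) (q : ℤ) (h : IsZero (L.homology q)) :
    IsZero ((((ModuleCat.restrictScalars f).mapHomologicalComplex (ComplexShape.up ℤ)).obj
      L).homology q) := by
  have e : (((ModuleCat.restrictScalars f).mapHomologicalComplex (ComplexShape.up ℤ)).obj
      L).homology q ≅ (ModuleCat.restrictScalars f).obj (L.homology q) :=
    (L.sc q).mapHomologyIso (ModuleCat.restrictScalars f)
  exact IsZero.of_iso ((ModuleCat.restrictScalars f).map_isZero h) e

lemma isZero_of_isZero_homology_restr_mapHC {R S : Type u} [CommRing R] [CommRing S] (f : R →+* S)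
    (L : CochainComplex (ModuleCat.{u} S) ℤ) (q : ℤ)
    (h : IsZero ((((ModuleCat.restrictScalars f).mapHomologicalComplex (ComplexShape.up ℤ)).obj
      L).homology q)) : IsZero (L.homology q) := by
  have e : (((ModuleCat.restrictScalars f).mapHomologicalComplex (ComplexShape.up ℤ)).obj
      L).homology q ≅ (ModuleCat.restrictScalars f).obj (L.homology q) :=
    (L.sc q).mapHomologyIso (ModuleCat.restrictScalars f)
  have h2 : IsZero ((ModuleCat.restrictScalars f).obj (L.homology q)) := IsZero.of_iso h e.symm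
  have : Subsingleton ((ModuleCat.restrictScalars f).obj (L.homology q)) :=
    ModuleCat.subsingleton_of_isZero h2
  have : Subsingleton (L.homology q) := this
  exact ModuleCat.isZero_of_subsingleton _

variable {B : Type u} [CommRing B]

/-- `K(B; rs) ⊗_B M ≅ K(M; rs)`. -/
theorem nonempty_tensorObj_koszul_iso (M : ModuleCat.{u} B) (rs : List B) :
    Nonempty (CohIII.tensorObj (koszulCx (ModuleCat.of B B) rs) M ≅ koszulCx M rs) := by
  obtain ⟨e⟩ := nonempty_mapKoszulIso (tensorRight M) (id : B → B) (id : B → B)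
    (fun t X => by
      show (t • 𝟙 X) ▷ M = t • 𝟙 (X ⊗ M)
      rw [MonoidalLinear.smul_whiskerRight, id_whiskerRight])
    (ModuleCat.of B B) rs
  rw [List.map_id] at e
  exact ⟨e ≪≫ kIso (λ_ M) rs⟩

variable (I : Ideal B)

/-- `B/I` as a `B/I`-module restricted to `B` is `B/I` as a `B`-module. -/
noncomputable def restrQuotIso :
    (ModuleCat.restrictScalars (Ideal.Quotient.mk I)).obj (ModuleCat.of (B ⧸ I) (B ⧸ I)) ≅
      ModuleCat.of B (B ⧸ I) :=
  LinearEquiv.toModuleIso
    { toFun := fun x => x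
      invFun := fun x => x
      map_add' := fun _ _ => rfl
      map_smul' := fun b x => by
        obtain ⟨y, rfl⟩ := Ideal.Quotient.mk_surjective x
        rfl
      left_inv := fun _ => rfl
      right_inv := fun _ => rfl }

/-- `K_B(B/I; rs) ≅ K_{B/I}(B/I; rs mod I)` restricted to `B`. -/
theorem nonempty_koszul_quot_iso (rs : List B) :
    Nonempty (((ModuleCat.restrictScalars (Ideal.Quotient.mk I)).mapHomologicalComplex
        (ComplexShape.up ℤ)).obj
        (koszulCx (ModuleCat.of (B ⧸ I) (B ⧸ I)) (rs.map (Ideal.Quotient.mk I))) ≅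
      koszulCx (ModuleCat.of B (B ⧸ I)) rs) := by
  obtain ⟨e⟩ := nonempty_mapKoszulIso (ModuleCat.restrictScalars (Ideal.Quotient.mk I))
    (Ideal.Quotient.mk I : B → B ⧸ I) (id : B → B)
    (fun t X => rfl) (ModuleCat.of (B ⧸ I) (B ⧸ I)) rs
  rw [List.map_id] at e
  exact ⟨e ≪≫ kIso (restrQuotIso I) rs⟩

end Y4

section Y5a
variable {A B : Type u} [CommRing A] [CommRing B] [Algebra A B]

lemma flat_quot_tensor (J : Ideal A) (rs : List B)
    (hflat : Module.Flat (A ⧸ J) ((B ⧸ J.map (algebraMap A B)) ⧸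
      Ideal.ofList (rs.map (Ideal.Quotient.mk (J.map (algebraMap A B)))))) :
    Module.Flat (A ⧸ J) ((A ⧸ J) ⊗[A] (B ⧸ Ideal.ofList rs)) := by
  have e1 := Algebra.TensorProduct.quotIdealMapEquivQuotTensor (B ⧸ Ideal.ofList rs) J
  have h1 : J.map (algebraMap A (B ⧸ Ideal.ofList rs)) =
      (J.map (algebraMap A B)).map (Ideal.Quotient.mkₐ A (Ideal.ofList rs)) := by
    have h0 : (J.map (algebraMap A B)).map (Ideal.Quotient.mkₐ A (Ideal.ofList rs)) =
        (J.map (algebraMap A B)).map (Ideal.Quotient.mk (Ideal.ofList rs)) := rfl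
    rw [h0, Ideal.map_map]
    rfl
  have h2 : (Ideal.ofList rs).map (Ideal.Quotient.mkₐ A (J.map (algebraMap A B))) =
      Ideal.ofList (rs.map (Ideal.Quotient.mk (J.map (algebraMap A B)))) :=
    Ideal.map_ofList (Ideal.Quotient.mk (J.map (algebraMap A B))) rs
  have e2 : ((B ⧸ Ideal.ofList rs) ⧸ J.map (algebraMap A (B ⧸ Ideal.ofList rs))) ≃ₐ[A]
      ((B ⧸ J.map (algebraMap A B)) ⧸
        Ideal.ofList (rs.map (Ideal.Quotient.mk (J.map (algebraMap A B))))) :=
    (Ideal.quotientEquivAlgOfEq A h1).trans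
      ((DoubleQuot.quotQuotEquivCommₐ A (Ideal.ofList rs) (J.map (algebraMap A B))).trans
        (Ideal.quotientEquivAlgOfEq A h2))
  have e2' : ((B ⧸ Ideal.ofList rs) ⧸ J.map (algebraMap A (B ⧸ Ideal.ofList rs))) ≃ₗ[A ⧸ J]
      ((B ⧸ J.map (algebraMap A B)) ⧸
        Ideal.ofList (rs.map (Ideal.Quotient.mk (J.map (algebraMap A B))))) :=
    e2.toLinearEquiv.extendScalarsOfSurjective Ideal.Quotient.mk_surjective
  have : Module.Flat (A ⧸ J)
      ((B ⧸ Ideal.ofList rs) ⧸ J.map (algebraMap A (B ⧸ Ideal.ofList rs))) :=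
    Module.Flat.of_linearEquiv e2'
  exact Module.Flat.of_linearEquiv e1.toLinearEquiv.symm

end Y5a

section Main
variable {A B : Type u} [CommRing A] [CommRing B] [Algebra A B]

variable (A) in
/-- the Koszul complex of `rs`, as a complex of `A`-modules -/
noncomputable abbrev PA (rs : List B) : CochainComplex (ModuleCat.{u} A) ℤ :=
  ((ModuleCat.restrictScalars (algebraMap A B)).mapHomologicalComplex (ComplexShape.up ℤ)).obj
    (koszulCx (ModuleCat.of B B) rs)

lemma flat_PA_X [Module.Flat A B] (rs : List B) (i : ℤ) : Module.Flat A ((PA A rs).X i) :=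
  flat_restr _ (flat_koszulCx_X (ModuleCat.of B B) inferInstance rs i)

lemma isZero_PA_X_of_pos (rs : List B) (i : ℤ) (hi : 0 < i) : IsZero ((PA A rs).X i) :=
  (ModuleCat.restrictScalars (algebraMap A B)).map_isZero (isZero_koszulCx_X_of_pos _ rs i hi)

/-- `H^q(K(B; rs) ⊗_A A/J) = 0` for `q ≠ 0` when `rs` is Koszul-regular modulo `J B`. -/
theorem isZero_T_quot (J : Ideal A) (rs : List B)
    (hreg : LCI.IsKoszulRegularSeq (B ⧸ J.map (algebraMap A B))
      (rs.map (Ideal.Quotient.mk (J.map (algebraMap A B))))) (q : ℤ) (hq : q ≠ 0) :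
    IsZero ((CohIII.TFun (PA A rs) q).obj (ModuleCat.of A (A ⧸ J))) := by
  have h0 : IsZero ((koszulCx (ModuleCat.of (B ⧸ J.map (algebraMap A B))
      (B ⧸ J.map (algebraMap A B)))
      (rs.map (Ideal.Quotient.mk (J.map (algebraMap A B))))).homology q) := by
    have key : ∀ (K L : CochainComplex (ModuleCat.{u} (B ⧸ J.map (algebraMap A B))) ℤ),
        K = L → IsZero (K.homology q) → IsZero (L.homology q) := by
      rintro K L rfl h
      exact h
    exact key _ _ (Groth.Agent.Lib.Helper94.koszul_eq _ _) (hreg q hq)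
  have h1 := isZero_homology_restr_mapHC (Ideal.Quotient.mk (J.map (algebraMap A B))) _ q h0
  obtain ⟨e1⟩ := nonempty_koszul_quot_iso (J.map (algebraMap A B)) rs
  have h2 : IsZero ((koszulCx (ModuleCat.of B (B ⧸ J.map (algebraMap A B))) rs).homology q) :=
    IsZero.of_iso h1 ((HomologicalComplex.homologyFunctor _ _ q).mapIso e1.symm)
  let e3 : (ModuleCat.extendScalars (algebraMap A B)).obj (ModuleCat.of A (A ⧸ J)) ≅
      ModuleCat.of B (B ⧸ J.map (algebraMap A B)) :=
    ((extendScalarsObjEquiv (S := B) (ModuleCat.of A (A ⧸ J))) ≪≫ₗ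
      (Algebra.TensorProduct.quotIdealMapEquivTensorQuot B J).symm.toLinearEquiv).toModuleIso
  have h3 : IsZero ((koszulCx ((ModuleCat.extendScalars (algebraMap A B)).obj
      (ModuleCat.of A (A ⧸ J))) rs).homology q) :=
    IsZero.of_iso h2 ((HomologicalComplex.homologyFunctor _ _ q).mapIso (kIso e3 rs))
  obtain ⟨e4⟩ := nonempty_tensorObj_koszul_iso
    ((ModuleCat.extendScalars (algebraMap A B)).obj (ModuleCat.of A (A ⧸ J))) rs
  have h4 : IsZero ((CohIII.tensorObj (koszulCx (ModuleCat.of B B) rs)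
      ((ModuleCat.extendScalars (algebraMap A B)).obj (ModuleCat.of A (A ⧸ J)))).homology q) :=
    IsZero.of_iso h3 ((HomologicalComplex.homologyFunctor _ _ q).mapIso e4)
  have h5 := isZero_homology_restr_mapHC (algebraMap A B) _ q h4
  exact IsZero.of_iso h5 ((HomologicalComplex.homologyFunctor _ _ q).mapIso
    (pfCxIso (koszulCx (ModuleCat.of B B) rs) (ModuleCat.of A (A ⧸ J))).symm)

/-- `H^0` of the Koszul complex restricted to `A` is `B/(rs)`. -/
theorem nonempty_H0_equiv (rs : List B) :
    Nonempty ((PA A rs).homology 0 ≃ₗ[A] (B ⧸ Ideal.ofList rs)) := by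
  obtain ⟨e⟩ := Groth.Agent.Lib.Helper12.KoszulTop.nonempty_top_equiv rs B
  have h : (Ideal.ofList rs • (⊤ : Submodule B B)) = Ideal.ofList rs := by
    rw [Ideal.smul_eq_mul]
    exact Ideal.mul_top _
  let e' : (koszulCx (ModuleCat.of B B) rs).homology 0 ≃ₗ[B] (B ⧸ Ideal.ofList rs) :=
    e ≪≫ₗ Submodule.quotEquivOfEq _ _ h
  let i : (PA A rs).homology 0 ≅ (ModuleCat.restrictScalars (algebraMap A B)).obj
      ((koszulCx (ModuleCat.of B B) rs).homology 0) :=
    ((koszulCx (ModuleCat.of B B) rs).sc 0).mapHomologyIso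
      (ModuleCat.restrictScalars (algebraMap A B))
  exact ⟨i.toLinearEquiv ≪≫ₗ restrictEquiv' e'⟩

lemma subsingleton_of_tensor_quot_nilp (J : Ideal A) (n : ℕ) (hJ : J ^ n = ⊥)
    (H : Type u) [AddCommGroup H] [Module A H] (h : Subsingleton (H ⊗[A] (A ⧸ J))) :
    Subsingleton H := by
  have h1 : Subsingleton (H ⧸ (J • ⊤ : Submodule A H)) :=
    (TensorProduct.tensorQuotEquivQuotSMul H J).symm.toEquiv.subsingleton
  have h2 : (J • ⊤ : Submodule A H) = ⊤ := Submodule.Quotient.subsingleton_iff.mp h1
  have h3 : ∀ m : ℕ, ((J ^ m) • ⊤ : Submodule A H) = ⊤ := by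
    intro m
    induction m with
    | zero => rw [pow_zero, Ideal.one_eq_top, Submodule.top_smul]
    | succ m ih => rw [pow_succ, Submodule.mul_smul, h2, ih]
  have h4 := h3 n
  rw [hJ, Submodule.bot_smul] at h4
  exact (Submodule.subsingleton_iff A).mp (subsingleton_of_bot_eq_top h4)

end Main

section Thm
variable {A B : Type u} [CommRing A] [CommRing B] [Algebra A B]

/-- transport of injectivity of `J ⊗ M → A ⊗ M` along a linear equivalence. -/
lemma rTensor_injective_of_equiv (J : Ideal A) {M N : Type u} [AddCommGroup M] [Module A M]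
    [AddCommGroup N] [Module A N] (e : M ≃ₗ[A] N)
    (h : Function.Injective (J.subtype.rTensor M)) : Function.Injective (J.subtype.rTensor N) := by
  have hcomm : (J.subtype.rTensor N) ∘ₗ (LinearMap.lTensor J e.toLinearMap) =
      (LinearMap.lTensor A e.toLinearMap) ∘ₗ (J.subtype.rTensor M) := by
    rw [LinearMap.rTensor_comp_lTensor, LinearMap.lTensor_comp_rTensor]
  intro x y hxy
  obtain ⟨x', rfl⟩ := (LinearEquiv.lTensor J e).surjective x
  obtain ⟨y', rfl⟩ := (LinearEquiv.lTensor J e).surjective y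
  have hx := LinearMap.congr_fun hcomm x'
  have hy := LinearMap.congr_fun hcomm y'
  simp only [LinearMap.comp_apply] at hx hy
  have h3 : (LinearEquiv.lTensor A e) (J.subtype.rTensor M x') =
      (LinearEquiv.lTensor A e) (J.subtype.rTensor M y') := by
    change (LinearMap.lTensor A e.toLinearMap) _ = (LinearMap.lTensor A e.toLinearMap) _
    rw [← hx, ← hy]
    exact hxy
  rw [h ((LinearEquiv.lTensor A e).injective h3)]

/-- **Lifting Koszul-regularity and flatness along a nilpotent thickening.** -/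
theorem koszulRegular_and_flat_of_nilpotent [Module.Flat A B] (J : Ideal A) (n : ℕ)
    (hJ : J ^ n = ⊥) (rs : List B)
    (hreg : LCI.IsKoszulRegularSeq (B ⧸ J.map (algebraMap A B))
      (rs.map (Ideal.Quotient.mk (J.map (algebraMap A B)))))
    (hflat : Module.Flat (A ⧸ J) ((B ⧸ J.map (algebraMap A B)) ⧸
      Ideal.ofList (rs.map (Ideal.Quotient.mk (J.map (algebraMap A B)))))) :
    LCI.IsKoszulRegularSeq B rs ∧ Module.Flat A (B ⧸ Ideal.ofList rs) := by
  have hP : ∀ i, Module.Flat A ((PA A rs).X i) := flat_PA_X rs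
  have hTq := isZero_T_quot J rs hreg
  have hT1 : ∀ M, IsZero ((CohIII.TFun (PA A rs) 1).obj M) := fun M =>
    isZero_TFun_obj_of_isZero (PA A rs) 1 (isZero_PA_X_of_pos rs 1 one_pos) M
  have hM1 : (CohIII.TFun (PA A rs) 1).PreservesMonomorphisms :=
    preservesMono_of_forall_isZero _ hT1
  have hE0 : (CohIII.TFun (PA A rs) 0).PreservesEpimorphisms :=
    (preservesEpi_iff_preservesMono_of_rel (PA A rs) hP 0 1 (by simp)).mpr hM1
  obtain ⟨eC⟩ := nonempty_H0_equiv (A := A) rs
  -- flatness of `B/(rs)`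
  have hflatC : Module.Flat A (B ⧸ Ideal.ofList rs) := by
    have hinj : Function.Injective (J.subtype.rTensor (B ⧸ Ideal.ofList rs)) := by
      let S : ShortComplex (ModuleCat.{u} A) :=
        ShortComplex.mk (ModuleCat.ofHom J.subtype) (ModuleCat.ofHom (Submodule.mkQ J)) (by
          ext x
          exact Ideal.Quotient.eq_zero_iff_mem.mpr x.2)
      have hS : S.ShortExact := by
        apply ModuleCat.shortComplex_shortExact
        · exact LinearMap.exact_subtype_mkQ J
        · exact Subtype.val_injective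
        · exact Submodule.mkQ_surjective J
      have hT := tensorSC_shortExact (PA A rs) hP S hS
      have h1 := hT.homology_exact₁ (-1) 0 (by simp)
      have hδ : hT.δ (-1) 0 (by simp) = 0 := (hTq (-1) (by omega)).eq_of_src _ _
      have hmono : Mono ((CohIII.TFun (PA A rs) 0).map S.f) := (h1.mono_g_iff).mpr hδ
      let τ := tensorIsoOfPreservesEpi' (PA A rs) hP 0 1 (by simp) hE0
      have hmono' : Mono ((tensorLeft ((PA A rs).homology 0)).map S.f) := by
        have hn := τ.hom.naturality S.f
        have h2 : (tensorLeft ((PA A rs).homology 0)).map S.f =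
            τ.inv.app _ ≫ (CohIII.TFun (PA A rs) 0).map S.f ≫ τ.hom.app _ := by
          rw [hn, ← Category.assoc, Iso.inv_hom_id_app, Category.id_comp]
        rw [h2]
        have hm1 : Mono (τ.hom.app S.X₂) := (inferInstance : Mono ((τ.app S.X₂).hom))
        have hm2 : Mono (τ.inv.app S.X₁) := (inferInstance : Mono ((τ.app S.X₁).inv))
        have hm3 : Mono ((CohIII.TFun (PA A rs) 0).map S.f ≫ τ.hom.app S.X₂) :=
          @mono_comp _ _ _ _ _ _ hmono _ hm1
        exact @mono_comp _ _ _ _ _ _ hm2 _ hm3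
      have hinj0 : Function.Injective (J.subtype.lTensor ((PA A rs).homology 0)) :=
        (mono_whiskerLeft_iff _ S.f).mp hmono'
      rw [LinearMap.lTensor_inj_iff_rTensor_inj] at hinj0
      exact rTensor_injective_of_equiv J eC hinj0
    haveI := flat_quot_tensor J rs hflat
    exact Groth.Agent.Lib.Helper98.flat_of_nilpotent J _ hinj (n + 1) (by omega)
      (by rw [pow_succ, hJ, Ideal.bot_mul])
  refine ⟨?_, hflatC⟩
  -- Koszul regularity
  have hM0 : (CohIII.TFun (PA A rs) 0).PreservesMonomorphisms := by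
    rw [preservesMono_iff_flat_obj_self (PA A rs) hP 0 1 (by simp) hE0]
    exact Module.Flat.of_linearEquiv
      ((TFunObjSelfEquiv' (PA A rs) hP 0 1 (by simp) hE0) ≪≫ₗ eC)
  have key : ∀ k : ℕ, (CohIII.TFun (PA A rs) (-(k : ℤ))).PreservesMonomorphisms ∧
      (1 ≤ k → IsZero ((PA A rs).homology (-(k : ℤ)))) := by
    intro k
    induction k with
    | zero => exact ⟨by simpa using hM0, fun h => absurd h (by omega)⟩
    | succ k ih =>
      have hrel : (ComplexShape.up ℤ).Rel (-((k + 1 : ℕ) : ℤ)) (-(k : ℤ)) := by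
        simp only [ComplexShape.up_Rel]
        push_cast
        ring
      have hE : (CohIII.TFun (PA A rs) (-((k + 1 : ℕ) : ℤ))).PreservesEpimorphisms :=
        (preservesEpi_iff_preservesMono_of_rel (PA A rs) hP _ _ hrel).mpr ih.1
      let τ := tensorIsoOfPreservesEpi' (PA A rs) hP _ _ hrel hE
      have hz : IsZero ((tensorLeft ((PA A rs).homology (-((k + 1 : ℕ) : ℤ)))).obj
          (ModuleCat.of A (A ⧸ J))) :=
        IsZero.of_iso (hTq _ (by push_cast; omega)) (τ.app _).symm
      have hsub : Subsingleton (((PA A rs).homology (-((k + 1 : ℕ) : ℤ))) ⊗[A] (A ⧸ J)) :=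
        ModuleCat.subsingleton_of_isZero hz
      have hsub' : Subsingleton ((PA A rs).homology (-((k + 1 : ℕ) : ℤ))) :=
        subsingleton_of_tensor_quot_nilp J n hJ _ hsub
      have hH : IsZero ((PA A rs).homology (-((k + 1 : ℕ) : ℤ))) :=
        ModuleCat.isZero_of_subsingleton _
      have hall : ∀ M, IsZero ((CohIII.TFun (PA A rs) (-((k + 1 : ℕ) : ℤ))).obj M) := fun M =>
        IsZero.of_iso ((tensorRight M).map_isZero hH) (τ.app M)
      exact ⟨preservesMono_of_forall_isZero _ hall, fun _ => hH⟩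
  intro i hi
  have key2 : ∀ (K L : CochainComplex (ModuleCat.{u} B) ℤ),
      K = L → IsZero (K.homology i) → IsZero (L.homology i) := by
    rintro K L rfl h
    exact h
  refine key2 _ _ (Groth.Agent.Lib.Helper94.koszul_eq B rs).symm ?_
  rcases lt_or_gt_of_ne hi with hneg | hpos
  · obtain ⟨k, hk⟩ : ∃ k : ℕ, i = -(k : ℤ) := ⟨(-i).toNat, by omega⟩
    subst hk
    exact isZero_of_isZero_homology_restr_mapHC (algebraMap A B) _ _
      ((key k).2 (by omega))
  · exact isZero_homology_koszulCx_of_pos _ rs i hpos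

end Thm

end Groth.Agent.Lib.Helper12.KoszulNilp
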