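import Groth.Agent.Lib.Helper12.KoszulNilp

/-!
# The Koszul complex of `x • l`

`K(x f₁, …, x fₙ)` is isomorphic to `K(f₁, …, fₙ)` with differential multiplied by `x`.
-/

set_option autoImplicit false

namespace Groth.Agent.Lib.Helper12.KoszulScale

open CategoryTheory CategoryTheory.Limits CochainComplex CohIII HomComplex
open Groth.Agent.Lib.Helper12.Koszul Groth.Agent.Lib.Helper12.KoszulDepth
open Groth.Agent.Lib.Helper12.KoszulNilp

universe u

variable {A : Type u} [CommRing A]

/-- the complex with the same terms and differential multiplied by `x`. -/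
noncomputable abbrev scaleD (x : A) (K : CochainComplex (ModuleCat.{u} A) ℤ) :
    CochainComplex (ModuleCat.{u} A) ℤ where
  X := K.X
  d i j := x • K.d i j
  shape i j h := by rw [K.shape i j h, smul_zero]
  d_comp_d' i j k _ _ := by
    rw [Linear.smul_comp, Linear.comp_smul, K.d_comp_d, smul_zero, smul_zero]

@[simp] lemma scaleD_X (x : A) (K : CochainComplex (ModuleCat.{u} A) ℤ) (i : ℤ) :
    (scaleD x K).X i = K.X i := rfl

@[simp] lemma scaleD_d (x : A) (K : CochainComplex (ModuleCat.{u} A) ℤ) (i j : ℤ) :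
    (scaleD x K).d i j = x • K.d i j := rfl

/-- functoriality of `scaleD`. -/
noncomputable def scaleIso (x : A) {K L : CochainComplex (ModuleCat.{u} A) ℤ} (e : K ≅ L) :
    scaleD x K ≅ scaleD x L :=
  HomologicalComplex.Hom.isoOfComponents (fun i => (HomologicalComplex.eval _ _ i).mapIso e) (by
    intro i j _
    show e.hom.f i ≫ (x • L.d i j) = (x • K.d i j) ≫ e.hom.f j
    rw [Linear.comp_smul, Linear.smul_comp, e.hom.comm])

section Cone

variable (x f : A) (K : CochainComplex (ModuleCat.{u} A) ℤ)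

/-- degreewise comparison of the two cones. -/
noncomputable def coneScaleXIso (n : ℤ) :
    (mappingCone ((x * f) • 𝟙 (scaleD x K))).X n ≅ (mappingCone (f • 𝟙 K)).X n where
  hom := (mappingCone.fst ((x * f) • 𝟙 (scaleD x K))).1.v n (n + 1) rfl ≫
      (mappingCone.inl (f • 𝟙 K)).v (n + 1) n (by lia) +
    (mappingCone.snd ((x * f) • 𝟙 (scaleD x K))).v n n (add_zero n) ≫
      (mappingCone.inr (f • 𝟙 K)).f n
  inv := (mappingCone.fst (f • 𝟙 K)).1.v n (n + 1) rfl ≫
      (mappingCone.inl ((x * f) • 𝟙 (scaleD x K))).v (n + 1) n (by lia) +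
    (mappingCone.snd (f • 𝟙 K)).v n n (add_zero n) ≫
      (mappingCone.inr ((x * f) • 𝟙 (scaleD x K))).f n
  hom_inv_id := by
    simp only [Preadditive.comp_add, Preadditive.add_comp, Category.assoc,
      mappingCone.inl_v_fst_v_assoc, mappingCone.inl_v_snd_v_assoc,
      mappingCone.inr_f_fst_v_assoc, mappingCone.inr_f_snd_v_assoc, zero_comp, comp_zero,
      add_zero, zero_add]
    exact mappingCone.id_X ((x * f) • 𝟙 (scaleD x K)) n (n + 1) rfl
  inv_hom_id := by
    simp only [Preadditive.comp_add, Preadditive.add_comp, Category.assoc,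
      mappingCone.inl_v_fst_v_assoc, mappingCone.inl_v_snd_v_assoc,
      mappingCone.inr_f_fst_v_assoc, mappingCone.inr_f_snd_v_assoc, zero_comp, comp_zero,
      add_zero, zero_add]
    exact mappingCone.id_X (f • 𝟙 K) n (n + 1) rfl

lemma coneScaleXIso_hom_fst (n m : ℤ) (h : n + 1 = m) :
    (coneScaleXIso x f K n).hom ≫ (mappingCone.fst (f • 𝟙 K)).1.v n m h =
      (mappingCone.fst ((x * f) • 𝟙 (scaleD x K))).1.v n m h := by
  subst h
  simp [coneScaleXIso]

lemma coneScaleXIso_hom_snd (n : ℤ) :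
    (coneScaleXIso x f K n).hom ≫ (mappingCone.snd (f • 𝟙 K)).v n n (add_zero n) =
      (mappingCone.snd ((x * f) • 𝟙 (scaleD x K))).v n n (add_zero n) := by
  simp [coneScaleXIso]

/-- the cone of `x f` on the scaled complex is the scaled cone of `f`. -/
noncomputable def coneScaleIso :
    mappingCone ((x * f) • 𝟙 (scaleD x K)) ≅ scaleD x (mappingCone (f • 𝟙 K)) :=
  HomologicalComplex.Hom.isoOfComponents (coneScaleXIso x f K) (by
    rintro n _ rfl
    show (coneScaleXIso x f K n).hom ≫ (x • (mappingCone (f • 𝟙 K)).d n (n + 1)) =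
      (mappingCone ((x * f) • 𝟙 (scaleD x K))).d n (n + 1) ≫ (coneScaleXIso x f K (n + 1)).hom
    rw [mappingCone.ext_to_iff _ _ (n + 2) (by lia)]
    constructor
    · rw [Category.assoc, Category.assoc, coneScaleXIso_hom_fst, Linear.smul_comp,
        mappingCone.d_fst_v _ n (n + 1) (n + 2) rfl (by lia),
        mappingCone.d_fst_v _ n (n + 1) (n + 2) rfl (by lia), Linear.comp_smul,
        Preadditive.comp_neg, ← Category.assoc, coneScaleXIso_hom_fst]
      simp
    · rw [Category.assoc, Category.assoc, coneScaleXIso_hom_snd, Linear.smul_comp,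
        mappingCone.d_snd_v _ n (n + 1) rfl, mappingCone.d_snd_v _ n (n + 1) rfl,
        Linear.comp_smul, Preadditive.comp_add, ← Category.assoc, ← Category.assoc,
        coneScaleXIso_hom_fst, coneScaleXIso_hom_snd]
      simp [smul_smul])

end Cone

/-- `K(x • l; M) ≅ K(l; M)` with differential multiplied by `x`. -/
theorem nonempty_koszul_scale_iso (x : A) (M : ModuleCat.{u} A) : ∀ l : List A,
    Nonempty (koszulCx M (l.map (fun f => x * f)) ≅ scaleD x (koszulCx M l))
  | [] => ⟨HomologicalComplex.Hom.isoOfComponents (fun i => Iso.refl _) (by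
      intro i j _
      show 𝟙 _ ≫ (x • (koszulCx M []).d i j) = (koszulCx M []).d i j ≫ 𝟙 _
      rw [koszulCx_nil, HomologicalComplex.single_obj_d]
      simp)⟩
  | f :: l => by
      obtain ⟨e⟩ := nonempty_koszul_scale_iso x M l
      exact ⟨coneIso (x * f) e ≪≫ coneScaleIso x f (koszulCx M l)⟩

open Pointwise in
/-- homology of the scaled complex. -/
theorem nonempty_homology_scaleD (x : A) (K : CochainComplex (ModuleCat.{u} A) ℤ) (q : ℤ)
    (hreg : IsSMulRegular (K.X (q + 1)) x) :
    Nonempty ((scaleD x K).homology q ≅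
      ModuleCat.of A (↥(LinearMap.ker (K.d q (q + 1)).hom) ⧸
        Submodule.comap (LinearMap.ker (K.d q (q + 1)).hom).subtype
          (Ideal.span {x} • LinearMap.range (K.d (q - 1) q).hom))) := by
  let L := scaleD x K
  have e1 : L.homology q ≅ (L.sc' (q - 1) q (q + 1)).homology :=
    L.homologyIsoSc' (q - 1) q (q + 1) (by simp) (by simp)
  have e2 := (L.sc' (q - 1) q (q + 1)).moduleCatHomologyIso
  have hker : LinearMap.ker (L.sc' (q - 1) q (q + 1)).g.hom = LinearMap.ker (K.d q (q + 1)).hom := by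
    ext y
    show (x • K.d q (q + 1)).hom y = 0 ↔ (K.d q (q + 1)).hom y = 0
    rw [ModuleCat.hom_smul, LinearMap.smul_apply]
    constructor
    · intro h
      apply hreg
      show x • _ = x • (0 : K.X (q + 1))
      rw [h, smul_zero]
    · intro h
      rw [h, smul_zero]
  let e3 : (↥(LinearMap.ker (L.sc' (q - 1) q (q + 1)).g.hom) ⧸
      LinearMap.range (L.sc' (q - 1) q (q + 1)).moduleCatToCycles) ≃ₗ[A]
      (↥(LinearMap.ker (K.d q (q + 1)).hom) ⧸
        Submodule.comap (LinearMap.ker (K.d q (q + 1)).hom).subtype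
          (Ideal.span {x} • LinearMap.range (K.d (q - 1) q).hom)) :=
    Submodule.Quotient.equiv _ _ (LinearEquiv.ofEq _ _ hker) (by
      ext z
      rw [Submodule.mem_map, Submodule.mem_comap, Submodule.ideal_span_singleton_smul,
        Submodule.mem_smul_pointwise_iff_exists]
      constructor
      · rintro ⟨w, ⟨v, rfl⟩, rfl⟩
        refine ⟨(K.d (q - 1) q).hom v, ⟨v, rfl⟩, ?_⟩
        show x • (K.d (q - 1) q).hom v = (x • K.d (q - 1) q).hom v
        rw [ModuleCat.hom_smul, LinearMap.smul_apply]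
      · rintro ⟨u, ⟨v, rfl⟩, hu⟩
        refine ⟨(L.sc' (q - 1) q (q + 1)).moduleCatToCycles v, ⟨v, rfl⟩, ?_⟩
        apply Subtype.ext
        show (x • K.d (q - 1) q).hom v = z.1
        rw [ModuleCat.hom_smul, LinearMap.smul_apply]
        exact hu)
  exact ⟨e1 ≪≫ e2 ≪≫ e3.toModuleIso⟩

end Groth.Agent.Lib.Helper12.KoszulScale
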