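import Mathlib
import Groth.Agent.Lib.Helper12.NagataFP
import Groth.Agent.Lib.Helper12.FourTermFlat
import Groth.Agent.S2107

/-!
# Local consequences of Nagata's theorem over valuation rings (helper12)

* `exists_localModel`: a local ring `B` essentially of finite type over `A` is a quotient of a local
  ring `B₀` essentially of finite presentation over `A` (a localization of a polynomial ring).
* `injective_and_flat_coker`: the fibre criterion for maps of finite modules over such a `B₀`, with
  `A` a valuation ring (finite presentation comes for free from Nagata's theorem).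
-/

set_option autoImplicit false
universe u

namespace Groth.Agent.Lib.Helper12.NagataLocal

open Groth.Agent.Lib.Helper12.NagataFP

/-- A local ring essentially of finite type over `A` is a quotient of a localization of a polynomial
ring over `A` at a prime. -/
theorem exists_localModel (A B : Type u) [CommRing A] [CommRing B] [IsLocalRing B] [Algebra A B]
    [Algebra.EssFiniteType A B] :
    ∃ (B₀ : Type u) (_ : CommRing B₀) (_ : IsLocalRing B₀) (_ : Algebra A B₀) (_ : Algebra B₀ B)
      (_ : IsScalarTower A B₀ B), Function.Surjective (algebraMap B₀ B) ∧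
        CAlgX.IsEssFinitePresentation A B₀ ∧ Algebra.EssFiniteType A B₀ := by
  classical
  let S₀ := Algebra.EssFiniteType.subalgebra A B
  let W₀ := Algebra.EssFiniteType.submonoid A B
  obtain ⟨n, f, hf⟩ := Algebra.FiniteType.iff_quotient_mvPolynomial''.mp
    (inferInstance : Algebra.FiniteType A S₀)
  let g : MvPolynomial (Fin n) A →ₐ[A] B := S₀.val.comp f
  let q₀ : Ideal (MvPolynomial (Fin n) A) := (IsLocalRing.maximalIdeal B).comap g.toRingHom
  haveI : q₀.IsPrime := Ideal.comap_isPrime _ _
  have hg : ∀ y : q₀.primeCompl, IsUnit (g.toRingHom y) := by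
    intro y
    have h1 : g.toRingHom y ∉ IsLocalRing.maximalIdeal B := fun h => y.2 h
    simpa [IsLocalRing.mem_maximalIdeal, mem_nonunits_iff] using h1
  let φ : Localization.AtPrime q₀ →+* B := IsLocalization.lift hg
  letI : Algebra (Localization.AtPrime q₀) B := φ.toAlgebra
  have hφ : ∀ p, φ (algebraMap (MvPolynomial (Fin n) A) (Localization.AtPrime q₀) p) = g p :=
    fun p => IsLocalization.lift_eq hg p
  haveI : IsScalarTower A (Localization.AtPrime q₀) B := IsScalarTower.of_algebraMap_eq fun a => by
    change algebraMap A B a = φ (algebraMap A (Localization.AtPrime q₀) a)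
    rw [IsScalarTower.algebraMap_apply A (MvPolynomial (Fin n) A) (Localization.AtPrime q₀), hφ,
      AlgHom.commutes]
  refine ⟨Localization.AtPrime q₀, inferInstance, inferInstance, inferInstance, inferInstance,
    inferInstance, ?_, ?_, ?_⟩
  · intro b
    obtain ⟨⟨s, w⟩, hsw⟩ := IsLocalization.surj W₀ b
    obtain ⟨ps, rfl⟩ := hf s
    obtain ⟨pw, hpw⟩ := hf w.1
    have hwunit : IsUnit (g pw) := by
      have : g pw = algebraMap S₀ B w.1 := by simp [g, hpw]
      rw [this]
      exact w.2
    have hpwq : pw ∈ q₀.primeCompl := by
      intro h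
      have : g pw ∈ IsLocalRing.maximalIdeal B := h
      exact (IsLocalRing.mem_maximalIdeal _).mp this hwunit
    refine ⟨IsLocalization.mk' (Localization.AtPrime q₀) ps ⟨pw, hpwq⟩, ?_⟩
    change φ _ = b
    have h1 : φ (IsLocalization.mk' (Localization.AtPrime q₀) ps ⟨pw, hpwq⟩) * g pw = g ps := by
      rw [← hφ pw, ← map_mul, IsLocalization.mk'_spec, hφ]
    have h2 : b * g pw = g ps := by
      have e1 : g pw = algebraMap S₀ B w.1 := by simp [g, hpw]
      have e2 : g ps = algebraMap S₀ B (f ps) := rfl
      rw [e1, e2]
      exact hsw
    exact hwunit.mul_right_cancel (h1.trans h2.symm)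
  · exact ⟨MvPolynomial (Fin n) A, inferInstance, inferInstance, inferInstance, inferInstance,
      q₀.primeCompl, inferInstance, inferInstance⟩
  · haveI : Algebra.EssFiniteType (MvPolynomial (Fin n) A) (Localization.AtPrime q₀) :=
      Algebra.EssFiniteType.of_isLocalization _ q₀.primeCompl
    exact Algebra.EssFiniteType.comp A (MvPolynomial (Fin n) A) (Localization.AtPrime q₀)

open Groth.Agent.Lib.Helper12.FlatOffClosed in
/-- Fibre criterion over a valuation ring, for finite (not necessarily finitely presented) modules
over a local ring essentially of finite presentation. -/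
theorem injective_and_flat_coker
    {A : Type u} [CommRing A] [IsDomain A] [ValuationRing A]
    {S : Type u} [CommRing S] [IsLocalRing S] [Algebra A S] [IsLocalHom (algebraMap A S)]
    (hS : CAlgX.IsEssFinitePresentation A S) [Algebra.EssFiniteType A S]
    {N M : Type u} [AddCommGroup N] [Module S N] [Module A N] [IsScalarTower A S N]
    [Module.Finite S N]
    [AddCommGroup M] [Module S M] [Module A M] [IsScalarTower A S M] [Module.Finite S M]
    [Module.Flat A M] (u : N →ₗ[S] M)
    (hu : ∀ x : N, u x ∈ IsLocalRing.maximalIdeal A • (⊤ : Submodule A M) →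
      x ∈ IsLocalRing.maximalIdeal A • (⊤ : Submodule A N)) :
    Function.Injective u ∧ Module.Flat A (M ⧸ LinearMap.range u) := by
  haveI : Module.FinitePresentation S M := finitePresentation_of_essFiniteType (R := A) S M
  haveI : Module.Finite S (LinearMap.range u) := Module.Finite.range u
  haveI : Module.Flat A (LinearMap.range u) :=
    flat_submodule ((LinearMap.range u).restrictScalars A)
  haveI : Module.FinitePresentation S (LinearMap.range u) :=
    finitePresentation_of_essFiniteType (R := A) S (LinearMap.range u)
  have hmapmem : ∀ n : N, n ∈ IsLocalRing.maximalIdeal A • (⊤ : Submodule A N) →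
      u.rangeRestrict n ∈ IsLocalRing.maximalIdeal A • (⊤ : Submodule A (LinearMap.range u)) := by
    intro n hn
    refine Submodule.smul_induction_on hn ?_ ?_
    · intro a ha y _
      rw [← algebraMap_smul S a y, map_smul, algebraMap_smul S a (u.rangeRestrict y)]
      exact Submodule.smul_mem_smul ha trivial
    · intro y y' hy hy'
      rw [map_add]; exact add_mem hy hy'
  have h2107 := Groth.Agent.S2107.result hS (LinearMap.range u).subtype (fun x hx => by
    obtain ⟨n, hn⟩ := x.2
    have h1 : u n ∈ IsLocalRing.maximalIdeal A • (⊤ : Submodule A M) := by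
      rw [smul_top_eq (B := S), hn]; exact hx
    have h2 := hmapmem n (hu n h1)
    have hx' : x = u.rangeRestrict n := Subtype.ext hn.symm
    rw [hx', ← smul_top_eq (B := S)]
    exact h2)
  refine ⟨?_, ?_⟩
  · -- injectivity via Nakayama
    have hKfg : (LinearMap.ker u).FG := by
      have := Module.FinitePresentation.fg_ker u.rangeRestrict u.surjective_rangeRestrict
      rwa [LinearMap.ker_rangeRestrict] at this
    haveI : Module.Finite S (LinearMap.ker u) := Module.Finite.iff_fg.mpr hKfg
    have hJ : (IsLocalRing.maximalIdeal A).map (algebraMap A S) ≠ ⊤ := by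
      have := IsLocalRing.map_maximalIdeal_le (algebraMap A S)
      exact fun h => (IsLocalRing.maximalIdeal.isMaximal S).ne_top (top_le_iff.mp (h ▸ this))
    have htop : (IsLocalRing.maximalIdeal A).map (algebraMap A S) •
        (⊤ : Submodule S (LinearMap.ker u)) = ⊤ := by
      rw [eq_top_iff]
      rintro z -
      refine Groth.Agent.Lib.Helper12.FourTermFlat.mem_smul_top_of_flat_coker (A := A)
        (LinearMap.ker u).subtype u.rangeRestrict (Submodule.subtype_injective _) ?_
        u.surjective_rangeRestrict (IsLocalRing.maximalIdeal A) z ?_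
      · rw [LinearMap.exact_iff, LinearMap.ker_rangeRestrict, Submodule.range_subtype]
      · rw [← smul_top_eq (B := S)]
        refine hu _ ?_
        have : u (z : N) = 0 := z.2
        rw [Submodule.subtype_apply, this]
        exact zero_mem _
    haveI := Groth.Agent.Lib.Helper12.FourTermFlat.subsingleton_of_smul_top_eq_top _ hJ htop
    rw [← LinearMap.ker_eq_bot, Submodule.eq_bot_iff]
    intro x hx
    have : (⟨x, hx⟩ : LinearMap.ker u) = 0 := Subsingleton.elim _ _
    exact congrArg Subtype.val this
  · have := h2107.2
    rwa [Submodule.range_subtype] at this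

end Groth.Agent.Lib.Helper12.NagataLocal
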