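import Mathlib

/-!
# A prime of a pushout over a compatible pair of primes (helper12)

`S'' = S ⊗[R] R''`; `q ⊆ S`, `m ⊆ R''` primes with the same contraction `p` to `R`.  Then some prime
of `S''` contracts to `q` and to `m`.
-/

set_option autoImplicit false
universe u

namespace Groth.Agent.Lib.Helper12.PrimeOverPair

open TensorProduct

variable {R S R'' S'' : Type u} [CommRing R] [CommRing S] [CommRing R''] [CommRing S'']
  [Algebra R S] [Algebra R R''] [Algebra S S''] [Algebra R'' S''] [Algebra R S'']
  [IsScalarTower R S S''] [IsScalarTower R R'' S''] [Algebra.IsPushout R S R'' S'']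

theorem exists_prime_over_pair (p : Ideal R) [p.IsPrime] (q : Ideal S) [q.IsPrime]
    (m : Ideal R'') [m.IsPrime] [q.LiesOver p] [m.LiesOver p] :
    ∃ Q : Ideal S'', Q.IsPrime ∧ Q.comap (algebraMap S S'') = q ∧
      Q.comap (algebraMap R'' S'') = m := by
  letI := Localization.AtPrime.algebraOfLiesOver p q
  letI := Localization.AtPrime.algebraOfLiesOver p m
  haveI t1 : IsScalarTower R p.ResidueField q.ResidueField :=
    inferInstanceAs (IsScalarTower R (IsLocalRing.ResidueField (Localization.AtPrime p))
      (IsLocalRing.ResidueField (Localization.AtPrime q)))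
  haveI t2 : IsScalarTower R p.ResidueField m.ResidueField :=
    inferInstanceAs (IsScalarTower R (IsLocalRing.ResidueField (Localization.AtPrime p))
      (IsLocalRing.ResidueField (Localization.AtPrime m)))
  haveI : Nontrivial (q.ResidueField ⊗[p.ResidueField] m.ResidueField) :=
    (Module.FaithfullyFlat.nontrivial_tensorProduct_iff_right p.ResidueField
      q.ResidueField).mpr inferInstance
  have hne : (1 : q.ResidueField ⊗[R] m.ResidueField) ≠ 0 := by
    intro h0
    have := congrArg (TensorProduct.mapOfCompatibleSMul p.ResidueField R R q.ResidueField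
      m.ResidueField) h0
    rw [Algebra.TensorProduct.one_def, TensorProduct.mapOfCompatibleSMul_tmul, map_zero] at this
    exact one_ne_zero (α := q.ResidueField ⊗[p.ResidueField] m.ResidueField) this
  haveI : Nontrivial (q.ResidueField ⊗[R] m.ResidueField) := ⟨⟨1, 0, hne⟩⟩
  obtain ⟨𝔓, h𝔓⟩ := Ideal.exists_maximal (q.ResidueField ⊗[R] m.ResidueField)
  let f : S →ₐ[R] q.ResidueField ⊗[R] m.ResidueField :=
    (Algebra.TensorProduct.includeLeft).comp (IsScalarTower.toAlgHom R S q.ResidueField)
  let g : R'' →ₐ[R] q.ResidueField ⊗[R] m.ResidueField :=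
    (Algebra.TensorProduct.includeRight).comp (IsScalarTower.toAlgHom R R'' m.ResidueField)
  let ψ : S'' →ₐ[R] q.ResidueField ⊗[R] m.ResidueField :=
    Algebra.pushoutDesc S'' f g (fun x y => mul_comm _ _)
  have hψl : ∀ c, ψ (algebraMap S S'' c) = f c := fun c => Algebra.pushoutDesc_left S'' f g _ c
  have hψr : ∀ b, ψ (algebraMap R'' S'' b) = g b := fun b => Algebra.pushoutDesc_right S'' f g _ b
  refine ⟨𝔓.comap ψ.toRingHom, inferInstance, ?_, ?_⟩
  · ext b
    rw [Ideal.mem_comap, Ideal.mem_comap]
    change ψ (algebraMap S S'' b) ∈ 𝔓 ↔ b ∈ q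
    rw [hψl]
    have hf : f b = (algebraMap S q.ResidueField b) ⊗ₜ[R] (1 : m.ResidueField) := rfl
    constructor
    · intro hmem
      by_contra hb
      have hunit : IsUnit (algebraMap S q.ResidueField b) := by
        rw [isUnit_iff_ne_zero, Ne, Ideal.algebraMap_residueField_eq_zero]
        exact hb
      have hu : IsUnit (f b) := by
        rw [hf]
        exact hunit.map (Algebra.TensorProduct.includeLeft :
          q.ResidueField →ₐ[R] q.ResidueField ⊗[R] m.ResidueField)
      exact h𝔓.ne_top (Ideal.eq_top_of_isUnit_mem _ hmem hu)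
    · intro hb
      rw [hf, (Ideal.algebraMap_residueField_eq_zero).mpr hb, TensorProduct.zero_tmul]
      exact 𝔓.zero_mem
  · ext b
    rw [Ideal.mem_comap, Ideal.mem_comap]
    change ψ (algebraMap R'' S'' b) ∈ 𝔓 ↔ b ∈ m
    rw [hψr]
    have hg : g b = (1 : q.ResidueField) ⊗ₜ[R] (algebraMap R'' m.ResidueField b) := rfl
    constructor
    · intro hmem
      by_contra hb
      have hunit : IsUnit (algebraMap R'' m.ResidueField b) := by
        rw [isUnit_iff_ne_zero, Ne, Ideal.algebraMap_residueField_eq_zero]
        exact hb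
      have hu : IsUnit (g b) := by
        rw [hg]
        exact hunit.map (Algebra.TensorProduct.includeRight :
          m.ResidueField →ₐ[R] q.ResidueField ⊗[R] m.ResidueField)
      exact h𝔓.ne_top (Ideal.eq_top_of_isUnit_mem _ hmem hu)
    · intro hb
      rw [hg, (Ideal.algebraMap_residueField_eq_zero).mpr hb, TensorProduct.tmul_zero]
      exact 𝔓.zero_mem

end Groth.Agent.Lib.Helper12.PrimeOverPair
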