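import Mathlib
import Groth.Agent.Lib.Helper16.ProConsAffine

/-!
# Pro-constructible = intersection of constructibles on a qcqs (pre)spectral space (helper12)

Glue around helper16's `ProCons*` libraries.
-/

set_option autoImplicit false

namespace Groth.Agent.Lib.Helper12.ProConsIff

open Topology Set AlgebraicGeometry CategoryTheory Groth.Agent.Lib.Helper16

universe u

lemma isProConstructible_univ {X : Type*} [TopologicalSpace X] :
    ProCons.IsProConstructible (univ : Set X) :=
  fun _ => ⟨univ, isOpen_univ, mem_univ _, ∅, by simp, by simp⟩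

lemma isProConstructible_sInter {X : Type*} [TopologicalSpace X] {S : Set (Set X)}
    (hS : ∀ s ∈ S, IsConstructible s) : ProCons.IsProConstructible (⋂₀ S) := by
  intro x
  refine ⟨univ, isOpen_univ, mem_univ _, (fun s => Subtype.val ⁻¹' s) '' S, ?_, ?_⟩
  · rintro _ ⟨s, hs, rfl⟩
    exact ((hS s hs).preimage_of_isOpenEmbedding
      isOpen_univ.isOpenEmbedding_subtypeVal).isLocallyConstructible
  · ext y
    simp only [mem_preimage, mem_sInter, mem_image, forall_exists_index, and_imp,
      forall_apply_eq_imp_iff₂]

/-- On a quasi-compact quasi-separated prespectral space, a pro-constructible set is an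
intersection of constructible sets. -/
lemma exists_sInter_eq {X : Type*} [TopologicalSpace X] [CompactSpace X] [PrespectralSpace X]
    [QuasiSeparatedSpace X] {E : Set X} (hE : ProCons.IsProConstructible E) :
    ∃ S : Set (Set X), (∀ s ∈ S, IsConstructible s) ∧ E = ⋂₀ S := by
  have hemb := (isOpen_univ (X := X)).isOpenEmbedding_subtypeVal
  have : CompactSpace (univ : Set X) := isCompact_iff_compactSpace.mp isCompact_univ
  have : PrespectralSpace (univ : Set X) := hemb.prespectralSpace
  have : QuasiSeparatedSpace (univ : Set X) := hemb.quasiSeparatedSpace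
  obtain ⟨S, hS, hES⟩ := exists_sInter_of_isProConstructible hE (W := (univ : Set X)) isOpen_univ
  refine ⟨(fun C => Subtype.val '' C) '' S, ?_, ?_⟩
  · rintro _ ⟨C, hC, rfl⟩
    refine (hS C hC).image_of_isOpenEmbedding hemb ?_
    rw [Subtype.range_coe]
    exact IsRetrocompact.univ
  · ext x
    have h1 : x ∈ E ↔ (⟨x, mem_univ x⟩ : (univ : Set X)) ∈ (Subtype.val ⁻¹' E : Set (univ : Set X)) :=
      Iff.rfl
    rw [h1, hES]
    simp only [mem_sInter, mem_image, forall_exists_index, and_imp, forall_apply_eq_imp_iff₂]
    constructor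
    · intro h C hC
      exact ⟨⟨x, mem_univ x⟩, h C hC, rfl⟩
    · intro h C hC
      obtain ⟨y, hy, hyx⟩ := h C hC
      have : y = ⟨x, mem_univ x⟩ := Subtype.ext hyx
      rwa [this] at hy

/-- The image of a quasi-compact morphism into a qcqs scheme is an intersection of constructible
sets. -/
theorem exists_sInter_eq_range {X' X : Scheme.{u}} [CompactSpace X] [QuasiSeparatedSpace X]
    (f : X' ⟶ X) [QuasiCompact f] :
    ∃ S : Set (Set X), (∀ s ∈ S, IsConstructible s) ∧ Set.range f.base = ⋂₀ S := by
  have h := isProConstructible_image f univ isProConstructible_univ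
  rw [Set.image_univ] at h
  exact exists_sInter_eq h

/-- An intersection of constructible subsets of a qcqs scheme is the image of an affine scheme
under a quasi-compact morphism. -/
theorem exists_quasiCompact_range_eq {X : Scheme.{u}} [CompactSpace X] [QuasiSeparatedSpace X]
    {S : Set (Set X)} (hS : ∀ s ∈ S, IsConstructible s) :
    ∃ (X' : Scheme.{u}) (f : X' ⟶ X), QuasiCompact f ∧ Set.range f.base = ⋂₀ S := by
  obtain ⟨X', f, hX', hf⟩ := exists_affine_range_eq (isProConstructible_sInter hS)
  exact ⟨X', f, inferInstance, hf⟩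

/-- Affine version: the image of `Spec B → Spec A` is an intersection of constructible sets. -/
theorem exists_sInter_eq_range_comap {A B : Type u} [CommRing A] [CommRing B] (f : A →+* B) :
    ∃ S : Set (Set (PrimeSpectrum A)), (∀ s ∈ S, IsConstructible s) ∧
      Set.range (PrimeSpectrum.comap f) = ⋂₀ S := by
  obtain ⟨S, hS, h⟩ := exists_sInter_eq_range (Spec.map (CommRingCat.ofHom f))
  exact ⟨S, hS, h⟩

/-- Affine version: an intersection of constructible subsets of `Spec A` is the image of
`Spec B → Spec A` for some `A → B`. -/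
theorem exists_ringHom_range_comap_eq_sInter {A : Type u} [CommRing A]
    {S : Set (Set (PrimeSpectrum A))} (hS : ∀ s ∈ S, IsConstructible s) :
    ∃ (B : Type u) (_ : CommRing B) (f : A →+* B), Set.range (PrimeSpectrum.comap f) = ⋂₀ S := by
  apply exists_ringHom_range_comap_eq
  intro q hq
  simp only [mem_sInter, not_forall] at hq
  obtain ⟨s, hs, hqs⟩ := hq
  refine ⟨sᶜ, (hS s hs).compl, hqs, ?_⟩
  rw [Set.disjoint_left]
  intro x hx hx'
  exact hx (hx' s hs)

end Groth.Agent.Lib.Helper12.ProConsIff
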