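import Mathlib
import Groth.Prelude.Def_FlatCA

/-!
# Projective modules are universally pure (helper12)

Algebraic core: content ideals of elements of a projective module, a Cayley–Hamilton form of
Nakayama's lemma in a domain, and the comparison of the fibre module with `κ(p) ⊗ N`.
-/

set_option autoImplicit false
universe u
open TensorProduct

namespace Groth.Agent.Lib.Helper12.ProjPure

/-- Cayley–Hamilton form of Nakayama in a domain: a finitely generated ideal `M` with
`s M ⊆ J M`, where no power of `s` lies in `J`, is zero. -/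
lemma ideal_eq_bot_of_mul_le {R : Type*} [CommRing R] [IsDomain R] (J M : Ideal R) (hM : M.FG)
    (s : R) (h : ∀ m ∈ M, s * m ∈ J * M) (hs : ∀ d : ℕ, s ^ d ∉ J) : M = ⊥ := by
  by_contra hne
  obtain ⟨m, hmM, hm0⟩ := Submodule.exists_mem_ne_zero_of_ne_bot hne
  haveI : Module.Finite R M := Module.Finite.iff_fg.mpr hM
  let f : Module.End R M := algebraMap R (Module.End R M) s
  have hrange : LinearMap.range f ≤ J • (⊤ : Submodule R M) := by
    rintro y ⟨z, rfl⟩
    rw [Submodule.mem_smul_top_iff]
    have : ((f z : M) : R) = s * (z : R) := by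
      simp [f, Module.algebraMap_end_apply]
    rw [this]
    exact h _ z.2
  obtain ⟨p, hmonic, -, hcoeff, hp⟩ :=
    LinearMap.exists_monic_and_natDegree_eq_and_coeff_mem_pow_and_aeval_eq_zero R f J hrange
  rw [Polynomial.aeval_algebraMap_apply] at hp
  have h0 : (Polynomial.aeval s p) * m = 0 := by
    have := congrArg (fun g : Module.End R M => ((g ⟨m, hmM⟩ : M) : R)) hp
    simpa [Module.algebraMap_end_apply] using this
  have hev : Polynomial.aeval s p = 0 := by
    rcases mul_eq_zero.mp h0 with h | h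
    · exact h
    · exact absurd h hm0
  rw [Polynomial.coe_aeval_eq_eval, Polynomial.eval_eq_sum_range, Finset.sum_range_succ,
    hmonic.coeff_natDegree, one_mul] at hev
  apply hs p.natDegree
  have : s ^ p.natDegree = - ∑ x ∈ Finset.range p.natDegree, p.coeff x * s ^ x := by
    rw [eq_neg_iff_add_eq_zero, add_comm]; exact hev
  rw [this]
  refine J.neg_mem (J.sum_mem fun k hk => ?_)
  refine J.mul_mem_right _ ?_
  exact Ideal.pow_le_self (Nat.sub_ne_zero_of_lt (Finset.mem_range.mp hk)) (hcoeff k)

section Key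

variable {A B : Type u} [CommRing A] [CommRing B] [Algebra A B] (N : Type u) [AddCommGroup N]
  [Module B N] [Module A N] [IsScalarTower A B N]

/-- `J • ⊤` (an `A`-submodule of `N`) is stable under `B`. -/
lemma smul_mem_smul_top (J : Ideal A) (b : B) {n : N} (hn : n ∈ J • (⊤ : Submodule A N)) :
    b • n ∈ J • (⊤ : Submodule A N) := by
  refine Submodule.smul_induction_on hn (fun a ha m _ => ?_) (fun x y hx hy => ?_)
  · rw [smul_comm]; exact Submodule.smul_mem_smul ha trivial
  · rw [smul_add]; exact add_mem hx hy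

lemma map_smul_mem (t I : Ideal A) {τ : B} (hτ : τ ∈ t.map (algebraMap A B)) {n : N}
    (hn : n ∈ I • (⊤ : Submodule A N)) : τ • n ∈ (t * I) • (⊤ : Submodule A N) := by
  unfold Ideal.map at hτ
  induction hτ using Submodule.span_induction with
  | mem x hx =>
    obtain ⟨a, ha, rfl⟩ := hx
    rw [algebraMap_smul B a n]
    have h : (t * I) • (⊤ : Submodule A N) = t • (I • (⊤ : Submodule A N)) :=
      Submodule.smul_assoc t I ⊤
    rw [h]
    exact Submodule.smul_mem_smul ha hn
  | zero => simp
  | add x y _ _ hx hy => rw [add_smul]; exact add_mem hx hy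
  | smul b x _ hx =>
    have h1 : (b • x) • n = b • (x • n) := by rw [smul_eq_mul, mul_smul]
    rw [h1]
    exact smul_mem_smul_top N (t * I) b hx

omit [Module B N] [IsScalarTower A B N] in
lemma functional_mem (J : Ideal A) (φ : N →ₗ[A] A) {n : N} (hn : n ∈ J • (⊤ : Submodule A N)) :
    φ n ∈ J := by
  refine Submodule.smul_induction_on hn (fun a ha m _ => ?_) (fun x y hx hy => ?_)
  · rw [map_smul, smul_eq_mul]; exact J.mul_mem_right _ ha
  · rw [map_add]; exact J.add_mem hx hy

/-- The key content-ideal argument. -/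
theorem key [Module.Projective A N] (t' t : Ideal A) [t'.IsPrime] [t.IsPrime] (hle : t' ≤ t)
    (g : B) (s : A) (hs : s ∉ t) (hτ : algebraMap A B s - g ∈ t.map (algebraMap A B))
    (n : N) (hZ : ∀ φ : N →ₗ[A] A, φ (g • n) ∈ t') : ∀ φ : N →ₗ[A] A, φ n ∈ t' := by
  classical
  obtain ⟨σ, hσ⟩ := (Module.projective_def' (R := A) (P := N)).mp inferInstance
  set c := σ n with hc
  let I : Ideal A := Ideal.span ((c.support.image c : Finset A) : Set A)
  have hIfg : I.FG := ⟨c.support.image c, rfl⟩
  have hn : n = ∑ m ∈ c.support, c m • m := by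
    have := LinearMap.congr_fun hσ n
    simp only [LinearMap.coe_comp, Function.comp_apply, LinearMap.id_coe, id_eq,
      Finsupp.linearCombination_apply, Finsupp.sum] at this
    exact this.symm
  have hnI : n ∈ I • (⊤ : Submodule A N) := by
    rw [hn]
    refine Submodule.sum_mem _ fun m hm => Submodule.smul_mem_smul (Ideal.subset_span ?_) trivial
    exact Finset.mem_coe.mpr (Finset.mem_image.mpr ⟨m, hm, rfl⟩)
  have hmain : ∀ φ : N →ₗ[A] A, s * φ n ∈ t' ⊔ t * I := by
    intro φ
    have h0 : s • n = g • n + (algebraMap A B s - g) • n := by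
      rw [sub_smul, algebraMap_smul B s n]; abel
    have h1 : s * φ n = φ (g • n) + φ ((algebraMap A B s - g) • n) := by
      rw [← smul_eq_mul, ← map_smul, h0, map_add]
    rw [h1]
    exact Submodule.add_mem_sup (hZ φ) (functional_mem N _ φ (map_smul_mem N t I hτ hnI))
  have hall : ∀ a ∈ I, s * a ∈ t' ⊔ t * I := by
    intro a ha
    induction ha using Submodule.span_induction with
    | mem x hx =>
      obtain ⟨m, -, rfl⟩ := Finset.mem_image.mp (Finset.mem_coe.mp hx)
      exact hmain ((Finsupp.lapply m) ∘ₗ σ)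
    | zero => simp
    | add x y _ _ hx hy => rw [mul_add]; exact add_mem hx hy
    | smul r x _ hx =>
      rw [smul_eq_mul, mul_left_comm]; exact Ideal.mul_mem_left _ _ hx
  have hIle : I ≤ t' := by
    have := ideal_eq_bot_of_mul_le (R := A ⧸ t') (t.map (Ideal.Quotient.mk t'))
      (I.map (Ideal.Quotient.mk t')) (hIfg.map _) (Ideal.Quotient.mk t' s) ?_ ?_
    · rwa [Ideal.map_eq_bot_iff_le_ker, Ideal.mk_ker] at this
    · intro m hm
      obtain ⟨a, ha, rfl⟩ := (Ideal.mem_map_iff_of_surjective _ Ideal.Quotient.mk_surjective).mp hm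
      rw [← map_mul, ← Ideal.map_mul]
      have h2 := Ideal.mem_map_of_mem (Ideal.Quotient.mk t') (hall a ha)
      rwa [Ideal.map_sup, Ideal.map_quotient_self, bot_sup_eq] at h2
    · intro d hd
      rw [← map_pow] at hd
      obtain ⟨a, ha, hmk⟩ := (Ideal.mem_map_iff_of_surjective _ Ideal.Quotient.mk_surjective).mp hd
      have h3 : a - s ^ d ∈ t' := Ideal.Quotient.eq.mp hmk
      have h4 : s ^ d ∈ t := by
        have := t.sub_mem ha (hle h3)
        simpa using this
      exact hs (Ideal.IsPrime.mem_of_pow_mem inferInstance d h4)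
  intro φ
  exact hIle (functional_mem N I φ hnI)

end Key

/-- If no prime containing `P` lies over `t`, then some `s ∉ t` lies in `P + tB`. -/
lemma exists_mem_sup_map {A B : Type u} [CommRing A] [CommRing B] [Algebra A B] (t : Ideal A)
    [t.IsPrime] (P : Ideal B)
    (hno : ∀ (P' : Ideal B) [P'.IsPrime], P ≤ P' → ¬ P'.LiesOver t) :
    ∃ s ∉ t, algebraMap A B s ∈ P ⊔ t.map (algebraMap A B) := by
  by_contra h
  push_neg at h
  have hdisj : Disjoint ((P ⊔ t.map (algebraMap A B) : Ideal B) : Set B)
      (Submonoid.map (algebraMap A B) t.primeCompl : Set B) := by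
    rw [Set.disjoint_left]
    rintro _ hb ⟨s, hs, rfl⟩
    exact h s hs hb
  obtain ⟨P', hP', hle, hd⟩ := Ideal.exists_le_prime_disjoint _ _ hdisj
  refine hno P' (le_sup_left.trans hle) ⟨?_⟩
  ext a
  rw [Ideal.under_def, Ideal.mem_comap]
  constructor
  · intro ha; exact hle (Ideal.mem_sup_right (Ideal.mem_map_of_mem _ ha))
  · intro ha; by_contra hat; exact Set.disjoint_left.mp hd ha ⟨a, hat, rfl⟩

section Fibre

variable {A : Type u} [CommRing A] (t' : Ideal A) [t'.IsPrime] (N : Type u) [AddCommGroup N]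
  [Module A N]

/-- If `1 ⊗ n = 0` in `κ(t') ⊗ N` then every functional sends `n` into `t'`. -/
lemma functional_mem_of_one_tmul_eq_zero {n : N} (h : (1 : t'.ResidueField) ⊗ₜ[A] n = 0)
    (φ : N →ₗ[A] A) : φ n ∈ t' := by
  have h1 := congrArg (fun y => TensorProduct.rid A t'.ResidueField
    (LinearMap.lTensor t'.ResidueField φ y)) h
  simp only [LinearMap.lTensor_tmul, TensorProduct.rid_tmul, map_zero] at h1
  rwa [← Algebra.algebraMap_eq_smul_one, Ideal.algebraMap_residueField_eq_zero] at h1

/-- For a projective module the converse holds. -/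
lemma one_tmul_eq_zero_of_functional_mem [Module.Projective A N] {n : N}
    (h : ∀ φ : N →ₗ[A] A, φ n ∈ t') : (1 : t'.ResidueField) ⊗ₜ[A] n = 0 := by
  classical
  obtain ⟨σ, hσ⟩ := (Module.projective_def' (R := A) (P := N)).mp inferInstance
  have hn : n = ∑ m ∈ (σ n).support, (σ n) m • m := by
    have := LinearMap.congr_fun hσ n
    simp only [LinearMap.coe_comp, Function.comp_apply, LinearMap.id_coe, id_eq,
      Finsupp.linearCombination_apply, Finsupp.sum] at this
    exact this.symm
  rw [hn, TensorProduct.tmul_sum]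
  refine Finset.sum_eq_zero fun m _ => ?_
  have h0 : algebraMap A t'.ResidueField ((σ n) m) = 0 :=
    (Ideal.algebraMap_residueField_eq_zero).mpr (h (Finsupp.lapply m ∘ₗ σ))
  rw [TensorProduct.tmul_smul, TensorProduct.smul_tmul', ← Algebra.algebraMap_eq_smul_one, h0,
    TensorProduct.zero_tmul]

/-- Clearing denominators in `κ(t') ⊗ N`. -/
lemma exists_smul_eq_one_tmul (y : t'.ResidueField ⊗[A] N) :
    ∃ r ∉ t', ∃ n : N, r • y = (1 : t'.ResidueField) ⊗ₜ[A] n := by
  induction y using TensorProduct.induction_on with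
  | zero => exact ⟨1, t'.primeCompl.one_mem, 0, by simp⟩
  | tmul k n =>
    obtain ⟨k', rfl⟩ := IsLocalRing.residue_surjective k
    obtain ⟨⟨a, r⟩, rfl⟩ := IsLocalization.mk'_surjective t'.primeCompl k'
    refine ⟨r, r.2, a • n, ?_⟩
    have h1 : (r : A) • (IsLocalRing.residue (Localization.AtPrime t')
        (IsLocalization.mk' (Localization.AtPrime t') a r)) = algebraMap A t'.ResidueField a := by
      rw [Algebra.smul_def, IsScalarTower.algebraMap_apply A (Localization.AtPrime t')
        t'.ResidueField, IsScalarTower.algebraMap_apply A (Localization.AtPrime t')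
        t'.ResidueField, IsLocalRing.ResidueField.algebraMap_eq, ← map_mul,
        IsLocalization.mk'_spec']
    rw [TensorProduct.smul_tmul', h1, Algebra.algebraMap_eq_smul_one, TensorProduct.smul_tmul]
  | add y₁ y₂ h₁ h₂ =>
    obtain ⟨r₁, hr₁, n₁, e₁⟩ := h₁
    obtain ⟨r₂, hr₂, n₂, e₂⟩ := h₂
    refine ⟨r₁ * r₂, t'.primeCompl.mul_mem hr₁ hr₂, r₂ • n₁ + r₁ • n₂, ?_⟩
    have a1 : (r₁ * r₂) • y₁ = (1 : t'.ResidueField) ⊗ₜ[A] (r₂ • n₁) := by
      rw [mul_comm, mul_smul, e₁, TensorProduct.tmul_smul]
    have a2 : (r₁ * r₂) • y₂ = (1 : t'.ResidueField) ⊗ₜ[A] (r₁ • n₂) := by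
      rw [mul_smul, e₂, TensorProduct.tmul_smul]
    rw [smul_add, a1, a2, TensorProduct.tmul_add]

attribute [local instance] Algebra.TensorProduct.rightAlgebra

variable {B : Type u} [CommRing B] [Algebra A B] [Module B N] [IsScalarTower A B N]

/-- From a nonzero element of the fibre module killed by (the image of) `G`, produce an element of
`N` detected by functionals. -/
theorem exists_of_fibre [Module.Projective A N] (x : (t'.Fiber B) ⊗[B] N) (hx : x ≠ 0) (G : B)
    (hG : (Algebra.TensorProduct.includeRight (R := A) (A := t'.ResidueField) (B := B) G) • x = 0) :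
    ∃ n : N, (¬ ∀ φ : N →ₗ[A] A, φ n ∈ t') ∧ ∀ φ : N →ₗ[A] A, φ (G • n) ∈ t' := by
  let e' : (t'.Fiber B) ⊗[B] N ≃ₗ[t'.ResidueField] t'.ResidueField ⊗[A] N :=
    Algebra.IsPushout.cancelBaseChange A t'.ResidueField B (t'.Fiber B) N
  obtain ⟨r, hr, n, hn⟩ := exists_smul_eq_one_tmul t' N (e' x)
  set c : t'.ResidueField := algebraMap A t'.ResidueField r with hc
  have hc0 : c ≠ 0 := fun h => hr ((Ideal.algebraMap_residueField_eq_zero).mp h)
  have hx' : c • x = (1 : t'.Fiber B) ⊗ₜ[B] n := by
    apply e'.injective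
    rw [map_smul, Algebra.IsPushout.cancelBaseChange_tmul, ← hn, hc,
      algebraMap_smul t'.ResidueField r (e' x)]
  refine ⟨n, fun hZ => hx ?_, fun φ => ?_⟩
  · have h1 := one_tmul_eq_zero_of_functional_mem t' N hZ
    have h2 : e' (c • x) = 0 := by
      rw [hx', Algebra.IsPushout.cancelBaseChange_tmul, h1]
    have h3 : c • x = 0 := by simpa using h2
    exact (smul_eq_zero_iff_right hc0).mp h3
  · apply functional_mem_of_one_tmul_eq_zero t' N
    have h1 : (1 : t'.Fiber B) ⊗ₜ[B] (G • n) = 0 := by
      have h2 : (1 : t'.Fiber B) ⊗ₜ[B] (G • n) = G • ((1 : t'.Fiber B) ⊗ₜ[B] n) := by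
        rw [TensorProduct.tmul_smul]
      rw [h2, ← hx', smul_comm, ← algebraMap_smul (t'.Fiber B) G x]
      have h3 : algebraMap B (t'.Fiber B) G =
        Algebra.TensorProduct.includeRight (R := A) (A := t'.ResidueField) (B := B) G := rfl
      rw [h3, hG, smul_zero]
    have h4 := congrArg e' h1
    rwa [Algebra.IsPushout.cancelBaseChange_tmul, map_zero] at h4

end Fibre

end Groth.Agent.Lib.Helper12.ProjPure
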