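import Mathlib
import Groth.Agent.Lib.Helper12.GlobalFP
import Groth.Agent.Lib.Helper12.NagataFP

set_option autoImplicit false
universe u
open TensorProduct

namespace Groth.Agent.Lib.Helper12.PruferCoh

open Groth.Agent.Lib.Helper12.GlobalFP

section General
variable (R : Type u) [CommRing R] [IsDomain R]
  (hR : ∀ (p : Ideal R) [p.IsPrime], ValuationRing (Localization.AtPrime p))
  (S : Type u) [CommRing S] [Algebra R S] [Algebra.FinitePresentation R S]
  (M : Type u) [AddCommGroup M] [Module S M] [Module R M] [IsScalarTower R S M]
  [Module.Finite S M] [Module.Flat R M]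

include hR in
/-- Over a Prüfer domain, a finite module over a finitely presented algebra which is flat over the
base is finitely presented. -/
theorem fp_of_flat_prufer : Module.FinitePresentation S M := by
  classical
  have hs : Function.Injective fun a : R => fun p : ({⊥} : Finset (PrimeSpectrum R)) =>
      algebraMap R (Localization.AtPrime p.1.asIdeal) a := by
    intro a b hab
    have h0 := congrFun hab ⟨⊥, Finset.mem_singleton_self _⟩
    exact IsLocalization.injective (Localization.AtPrime (⊥ : PrimeSpectrum R).asIdeal)
      (M := (⊥ : PrimeSpectrum R).asIdeal.primeCompl)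
      (Ideal.primeCompl_le_nonZeroDivisors _) h0
  refine finitePresentation_of_locally {⊥} hs (fun p _ => ?_)
  haveI : ValuationRing (Localization.AtPrime p) := hR p
  let W := Algebra.algebraMapSubmonoid S p.primeCompl
  let B := Localization W
  let Rp := Localization.AtPrime p
  let MW := LocalizedModule W M
  haveI : Algebra.EssFiniteType R B := Algebra.EssFiniteType.comp R S B
  haveI : Algebra.EssFiniteType Rp B := Algebra.EssFiniteType.of_comp R Rp B
  letI : Module Rp MW := Module.compHom MW (algebraMap Rp B)
  haveI : IsScalarTower Rp B MW := ⟨fun x b m => by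
    change (x • b) • m = (algebraMap Rp B x) • (b • m)
    rw [Algebra.smul_def, mul_smul]⟩
  haveI : IsScalarTower R Rp MW := ⟨fun r x m => by
    change (algebraMap Rp B (r • x)) • m = r • ((algebraMap Rp B x) • m)
    rw [Algebra.smul_def, map_mul, ← IsScalarTower.algebraMap_apply R Rp B, mul_smul,
      algebraMap_smul]⟩
  haveI : Module.Flat R MW := Groth.Agent.Lib.Helper12.FourTermFlat.flat_localizedModule W M
  haveI : Module.Flat Rp MW := (Module.flat_iff_of_isLocalization Rp p.primeCompl MW).mpr inferInstance
  exact Groth.Agent.Lib.Helper12.NagataFP.finitePresentation_of_essFiniteType (R := Rp) B MW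

end General

section Coherent
variable (R : Type u) [CommRing R] [IsDomain R]
  (hR : ∀ (p : Ideal R) [p.IsPrime], ValuationRing (Localization.AtPrime p))

include hR in
/-- Over a Prüfer domain, torsion-free modules are flat. -/
theorem flat_of_torsionFree (M : Type u) [AddCommGroup M] [Module R M]
    [Module.IsTorsionFree R M] : Module.Flat R M := by
  rw [Module.Flat.flat_iff_torsion_eq_bot_of_valuationRing_localization_isMaximal
    (fun P _ => hR P), ← Submodule.isTorsionFree_iff_torsion_eq_bot]
  infer_instance

include hR in
/-- A finitely presented algebra over a Prüfer domain is coherent. -/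
theorem ideal_finitePresentation (A : Type u) [CommRing A] [Algebra R A]
    [Algebra.FinitePresentation R A] (I : Ideal A) (hI : I.FG) :
    Module.FinitePresentation A I := by
  classical
  obtain ⟨n, f, hf, hker⟩ := (inferInstance : Algebra.FinitePresentation R A).out
  let P := MvPolynomial (Fin n) R
  let I' : Ideal P := I.comap f.toRingHom
  have hJle : RingHom.ker f.toRingHom ≤ I' := Ideal.comap_mono bot_le
  have hI'fg : I'.FG := by
    refine Ideal.fg_of_fg_map_of_fg_inf_ker_of_surjective (f := f.toRingHom) ?_ ?_ hf
    · have : Ideal.map f.toRingHom I' = I := Ideal.map_comap_of_surjective f.toRingHom hf I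
      rw [this]
      exact hI
    · rw [inf_eq_right.mpr hJle]
      exact hker
  haveI : Module.Finite P I' := Module.Finite.iff_fg.mpr hI'fg
  haveI : Module.Flat R I' := flat_of_torsionFree R hR I'
  haveI : Module.FinitePresentation P I' := fp_of_flat_prufer R hR P I'
  letI : Algebra P A := f.toRingHom.toAlgebra
  have hsurj : Function.Surjective (algebraMap P A) := hf
  let l : I' →ₗ[P] I :=
    { toFun := fun x => ⟨f x.1, x.2⟩
      map_add' := fun x y => Subtype.ext (map_add f _ _)
      map_smul' := fun c x => Subtype.ext (by
        change f (c * x.1) = f c * f x.1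
        exact map_mul f _ _) }
  have hl : Function.Surjective l := by
    rintro ⟨y, hy⟩
    obtain ⟨x, rfl⟩ := hf y
    exact ⟨⟨x, hy⟩, rfl⟩
  have hkl : (LinearMap.ker l).FG := by
    refine Submodule.fg_of_fg_map_injective I'.subtype Subtype.val_injective ?_
    have : (LinearMap.ker l).map I'.subtype = RingHom.ker f.toRingHom := by
      ext x
      constructor
      · rintro ⟨y, hy, rfl⟩
        have := congrArg Subtype.val (LinearMap.mem_ker.mp hy)
        exact this
      · intro hx
        exact ⟨⟨x, hJle hx⟩, LinearMap.mem_ker.mpr (Subtype.ext hx), rfl⟩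
    rw [this]
    exact hker
  haveI : Module.FinitePresentation P I := Module.finitePresentation_of_surjective l hl hkl
  exact FinitePresentation.of_isBaseChange (LinearMap.id : I →ₗ[P] I)
    (Groth.Agent.Lib.Helper12.NagataFP.isBaseChange_id_of_surjective hsurj)

end Coherent

end Groth.Agent.Lib.Helper12.PruferCoh
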