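import Mathlib

set_option autoImplicit false

namespace Groth.Agent.Lib.Helper12.ReducedGeneric

open AlgebraicGeometry CategoryTheory CategoryTheory.Limits

universe u

/-- If the stalk at `η` is a field, `pullback f (Y.fromSpecStalk η)` is reduced as soon as the
fibre `f.fiber η` is. -/
lemma isReduced_pullback_fromSpecStalk {X Y : Scheme.{u}} (f : X ⟶ Y) (η : Y)
    (hη : IsField (Y.presheaf.stalk η)) (hred : IsReduced (f.fiber η)) :
    IsReduced (pullback f (Y.fromSpecStalk η)) := by
  have hbij : Function.Bijective (Y.residue η).hom := by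
    let _ := hη.toField
    exact ⟨(IsLocalRing.residue (Y.presheaf.stalk η)).injective, IsLocalRing.residue_surjective⟩
  have hiso : IsIso (Y.residue η) := (ConcreteCategory.isIso_iff_bijective _).mpr hbij
  have hiso' : IsIso (Spec.map (Y.residue η)) := inferInstance
  let g : pullback f (Y.fromSpecStalk η) ⟶ f.fiber η :=
    pullback.map f (Y.fromSpecStalk η) f (Y.fromSpecResidueField η) (𝟙 X)
      (inv (Spec.map (Y.residue η))) (𝟙 Y) (by simp) (by
        rw [Category.comp_id, Scheme.fromSpecResidueField, IsIso.inv_hom_id_assoc])
  have : IsIso g := pullback.map_isIso _ _ _ _ _ _ _ _ _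
  exact isReduced_of_isOpenImmersion g

set_option backward.isDefEq.respectTransparency false in
/-- Variant of Mathlib's `GeometricallyReduced.isReduced_of_flat_of_finite_irreducibleComponents`
using only reducedness of the fibres over the generic points. -/
theorem isReduced_of_flat_of_generic_fibres {X Y : Scheme.{u}} (f : X ⟶ Y) [Flat f]
    [IsReduced Y] (hfin : (irreducibleComponents ↥Y).Finite)
    (h : ∀ η : Y, closure {η} ∈ irreducibleComponents ↥Y → IsReduced (f.fiber η)) :
    IsReduced X := by
  have : Finite (irreducibleComponents Y) := hfin.to_subtype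
  let pt (Z : irreducibleComponents Y) := Y.presheaf.stalk Z.property.1.genericPoint
  have hcl (Z : irreducibleComponents Y) :
      closure {Z.property.1.genericPoint} ∈ irreducibleComponents Y := by
    rw [Z.property.1.closure_genericPoint (isClosed_of_mem_irreducibleComponents _ Z.property)]
    exact Z.property
  have hpt (Z : _) : IsField (pt Z) :=
    isField_stalk_of_closure_mem_irreducibleComponents _ _ (hcl Z)
  let (Z : _) := (hpt Z).toField
  let Z := ∐ fun Z ↦ Spec (pt Z)
  let g : Z ⟶ Y := Sigma.desc fun Z ↦ Y.fromSpecStalk _
  have : Finite Z := (sigmaMk _).finite_iff.mp inferInstance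
  have : QuasiCompact g := ⟨fun _ _ _ ↦ (Set.toFinite _).isCompact⟩
  have H : IsSchemeTheoreticallyDominant g := by
    rw [isSchemeTheoreticallyDominant_iff_isDominant, isDominant_iff, denseRange_iff_closure_range,
      Set.eq_univ_iff_forall]
    intro y
    let z : Z := Sigma.ι (fun Z ↦ Spec (pt Z)) ⟨_, irreducibleComponent_mem_irreducibleComponents y⟩
      (IsLocalRing.closedPoint _)
    have hz : g z ⤳ y := by
      simp only [g, z, Z, ← Scheme.Hom.comp_apply, Sigma.ι_desc, pt,
        Scheme.fromSpecStalk_closedPoint]
      exact (IsIrreducible.isGenericPoint_genericPoint _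
        isClosed_irreducibleComponent).specializes mem_irreducibleComponent
    exact hz.mem_closed isClosed_closure (subset_closure ⟨_, rfl⟩)
  suffices IsReduced (pullback f g) from IsSchemeTheoreticallyDominant.isReduced (pullback.fst f g)
  have H := IsUniversalColimit.isPullback_of_isColimit_left
    (X := fun Z ↦ Spec (pt Z))
    (FinitaryPreExtensive.isUniversal_finiteCoproducts (coproductIsCoproduct _))
    (fun Z ↦ Y.fromSpecStalk _) g f _ _ (fun _ ↦ .of_hasPullback _ _) (coproductIsCoproduct _)
  apply +allowSynthFailures @isReduced_of_isOpenImmersion (f := H.isoPullback.inv)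
  apply +allowSynthFailures @IsReduced.of_openCover (𝒰 := sigmaOpenCover _)
  exact fun i ↦ isReduced_pullback_fromSpecStalk f _ (hpt i) (h _ (hcl i))

end Groth.Agent.Lib.Helper12.ReducedGeneric
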