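import Groth.Agent.Lib.Helper12.FourTermFlat
import Groth.Agent.Lib.Helper12.FibreDepth
import Groth.Agent.Lib.Helper12.LocQuot
import Groth.Agent.Lib.Helper93.Reflexive

/-!
# Serre's condition `(S₂)` for the fibre stalk of the kernel (helper12)
-/

set_option autoImplicit false
universe u

namespace Groth.Agent.Lib.Helper12.S2Ker

open TensorProduct IsLocalRing LocCoh
open Groth.Agent.Lib.Helper12.FourTermFlat Groth.Agent.Lib.Helper12.LocQuot

section Proj

variable {B : Type*} [CommRing B] (I : Ideal B) (M : Type*) [AddCommGroup M] [Module B M]

/-- The reduction modulo `I` of a projective module is projective over `B / I`. -/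
theorem projective_quotient_smul_top [Module.Projective B M] :
    Module.Projective (B ⧸ I) (M ⧸ I • (⊤ : Submodule B M)) := by
  let e : (B ⧸ I) ⊗[B] M ≃ₗ[B ⧸ I] M ⧸ I • (⊤ : Submodule B M) :=
    (TensorProduct.quotTensorEquivQuotSMul M I).extendScalarsOfSurjective
      Ideal.Quotient.mk_surjective
  exact Module.Projective.of_equiv e

end Proj

section General

variable {L : Type u} [CommRing L] [IsNoetherianRing L]
  {X Y Z : Type u} [AddCommGroup X] [Module L X] [Module.Finite L X]
  [AddCommGroup Y] [Module L Y] [Module.Finite L Y] [Module.IsReflexive L Y]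
  [AddCommGroup Z] [Module L Z] [Module.Finite L Z] [Module.IsReflexive L Z]

/-- The kernel of a map of finite reflexive modules over an `(S₂)` ring is `(S₂)`. -/
theorem hasSk_two_of_exact_reflexive (hS2 : HasSk 2 L L) (f : X →ₗ[L] Y) (g : Y →ₗ[L] Z)
    (hf : Function.Injective f) (hfg : Function.Exact f g) : HasSk 2 L X := by
  have hS1 : HasSk 1 L L := fun p _ =>
    le_trans (min_le_min_right _ (by norm_num)) (hS2 p)
  let g' : Y →ₗ[L] Z × L := LinearMap.prod g 0
  have hfg' : Function.Exact f g' := by
    intro y
    rw [← hfg y]
    constructor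
    · intro h
      exact congrArg Prod.fst h
    · intro h
      exact Prod.ext h rfl
  have hsupp : Module.support L X ⊆ Module.support L (Z × L) := by
    intro p _
    have h1 := Module.support_subset_of_injective (LinearMap.inr L Z L) LinearMap.inr_injective
    rw [Groth.Agent.Lib.Helper93.Depth.support_self_eq_univ] at h1
    exact h1 (Set.mem_univ p)
  exact Groth.Agent.Lib.Helper93.Depth.hasSk_two_of_exact f g' hf hfg' hsupp
    (Groth.Agent.Lib.Helper93.Depth.hasSk_of_isReflexive (Z × L) 1 (by norm_num) hS1)
    (Groth.Agent.Lib.Helper93.Depth.hasSk_of_isReflexive Y 2 le_rfl hS2)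

end General

section Main

variable (R : Type u) [CommRing R] [IsNoetherianRing R] [IsLocalRing R] (C : Type u) [CommRing C]
  [IsNoetherianRing C] [Algebra R C] [Module.Flat R C] (n : Ideal C) [n.IsPrime]
  {F E0 E1 G : Type u} [AddCommGroup F] [Module C F] [Module R F] [IsScalarTower R C F]
  [Module.Finite C F]
  [AddCommGroup E0] [Module C E0] [Module R E0] [IsScalarTower R C E0] [Module.Finite C E0]
  [Module.Projective C E0]
  [AddCommGroup E1] [Module C E1] [Module R E1] [IsScalarTower R C E1] [Module.Finite C E1]
  [Module.Projective C E1]
  [AddCommGroup G] [Module C G] [Module R G] [IsScalarTower R C G] [Module.Finite C G]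
  (f : F →ₗ[C] E0) (u : E0 →ₗ[C] E1) (v : E1 →ₗ[C] G)

/-- If the stalk of the cokernel is flat, the stalk of the kernel is flat and its closed fibre is
`(S₂)` whenever the fibre local ring is. -/
theorem flat_and_hasSk (hn : (maximalIdeal R).map (algebraMap R C) ≤ n)
    (hf : Function.Injective f) (hfu : Function.Exact f u) (huv : Function.Exact u v)
    (hv : Function.Surjective v)
    (hS2 : HasSk 2 (EGA4.FibLocRing R C n) (EGA4.FibLocRing R C n))
    (hG : Module.Flat R (LocalizedModule n.primeCompl G)) :
    Module.Flat R (LocalizedModule n.primeCompl F) ∧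
      HasSk 2 (EGA4.FibLocRing R C n) (EGA4.FibLocMod R C n F) := by
  haveI hloc : IsLocalHom (algebraMap R (Localization.AtPrime n)) :=
    ((IsLocalRing.local_hom_TFAE _).out 0 2).mpr (map_le_maximalIdeal hn le_rfl)
  haveI : Module.Flat R E0 := Module.Flat.trans R C E0
  haveI : Module.Flat R E1 := Module.Flat.trans R C E1
  haveI fE0 : Module.Flat R (LocalizedModule n.primeCompl E0) :=
    Groth.Agent.Lib.Helper12.FibreDepth.flat_localizedModule n.primeCompl E0
  haveI fE1 : Module.Flat R (LocalizedModule n.primeCompl E1) :=
    Groth.Agent.Lib.Helper12.FibreDepth.flat_localizedModule n.primeCompl E1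
  have hfq := LocalizedModule.map_injective n.primeCompl f hf
  have hfuq := LocalizedModule.map_exact n.primeCompl f u hfu
  have huvq := LocalizedModule.map_exact n.primeCompl u v huv
  have hvq := LocalizedModule.map_surjective n.primeCompl v hv
  haveI := hG
  refine ⟨flat_F_of_flat_G R (Localization.AtPrime n) (LocalizedModule.map n.primeCompl f)
    (LocalizedModule.map n.primeCompl u) (LocalizedModule.map n.primeCompl v) hfq hfuq huvq hvq, ?_⟩
  haveI : Module.Flat R (LinearMap.ker (LocalizedModule.map n.primeCompl v)) :=
    flat_ker_v R (Localization.AtPrime n) (LocalizedModule.map n.primeCompl v) hvq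
  have hinj : Function.Injective
      (fibMap ((n.comap (algebraMap R C)).map (algebraMap R (Localization.AtPrime n)))
        (LocalizedModule.map n.primeCompl f)) := by
    refine fibMap_injective _ _ (fun x hx => ?_)
    exact mem_smul_top_of_flat_coker (LocalizedModule.map n.primeCompl f)
      (uhat (Localization.AtPrime n) (LocalizedModule.map n.primeCompl u)
        (LocalizedModule.map n.primeCompl v) huvq) hfq
      (exact_f_uhat (Localization.AtPrime n) (LocalizedModule.map n.primeCompl f)
        (LocalizedModule.map n.primeCompl u) (LocalizedModule.map n.primeCompl v) hfuq huvq)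
      (uhat_surjective (Localization.AtPrime n) (LocalizedModule.map n.primeCompl u)
        (LocalizedModule.map n.primeCompl v) huvq) (n.comap (algebraMap R C)) x hx
  have hex : Function.Exact
      (fibMap ((n.comap (algebraMap R C)).map (algebraMap R (Localization.AtPrime n)))
        (LocalizedModule.map n.primeCompl f))
      (fibMap ((n.comap (algebraMap R C)).map (algebraMap R (Localization.AtPrime n)))
        (LocalizedModule.map n.primeCompl u)) := by
    refine fibMap_exact _ _ _ hfuq (fun y hy => ?_)
    have hz := mem_smul_top_of_flat_coker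
      (LinearMap.ker (LocalizedModule.map n.primeCompl v)).subtype
      (LocalizedModule.map n.primeCompl v) Subtype.val_injective
      (LinearMap.exact_subtype_ker_map _) hvq (n.comap (algebraMap R C))
      (uhat (Localization.AtPrime n) (LocalizedModule.map n.primeCompl u)
        (LocalizedModule.map n.primeCompl v) huvq y) hy
    obtain ⟨y', hy', hyy'⟩ := exists_mem_of_surjective _
      (uhat (Localization.AtPrime n) (LocalizedModule.map n.primeCompl u)
        (LocalizedModule.map n.primeCompl v) huvq)
      (uhat_surjective (Localization.AtPrime n) (LocalizedModule.map n.primeCompl u)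
        (LocalizedModule.map n.primeCompl v) huvq) y hz
    exact ⟨y', hy', congrArg Subtype.val hyy'⟩
  haveI : Module.Projective (EGA4.FibLocRing R C n) (EGA4.FibLocMod R C n E0) :=
    projective_quotient_smul_top _ _
  haveI : Module.Projective (EGA4.FibLocRing R C n) (EGA4.FibLocMod R C n E1) :=
    projective_quotient_smul_top _ _
  exact hasSk_two_of_exact_reflexive hS2
    ((fibMap ((n.comap (algebraMap R C)).map (algebraMap R (Localization.AtPrime n)))
      (LocalizedModule.map n.primeCompl f)).extendScalarsOfSurjective Ideal.Quotient.mk_surjective)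
    ((fibMap ((n.comap (algebraMap R C)).map (algebraMap R (Localization.AtPrime n)))
      (LocalizedModule.map n.primeCompl u)).extendScalarsOfSurjective Ideal.Quotient.mk_surjective)
    hinj hex

end Main

end Groth.Agent.Lib.Helper12.S2Ker
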