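import Mathlib
import Groth.Agent.Lib.Helper12.DVRFlatSch
import Groth.Agent.Lib.Helper12.EquidimKey
import Groth.Prelude.Def_MoreMor

set_option autoImplicit false
set_option linter.style.haveILetI false
universe u
open IsLocalRing AlgebraicGeometry CategoryTheory Limits

namespace Groth.Agent.Lib.Helper12.SectionNbhd

section ringLemma

variable {O : Type*} [CommRing O] (π : O)

/-- If `π` is a nonzerodivisor and `O/π` is reduced, every idempotent of `O[1/π]` comes from an
idempotent of `O`. -/
theorem exists_idempotent_of_away (hπ : π ∈ nonZeroDivisors O)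
    [hred : _root_.IsReduced (O ⧸ Ideal.span {π})]
    (e : Localization.Away π) (he : IsIdempotentElem e) :
    ∃ b : O, IsIdempotentElem b ∧ algebraMap O (Localization.Away π) b = e := by
  classical
  have hinj : Function.Injective (algebraMap O (Localization.Away π)) :=
    IsLocalization.injective (Localization.Away π) (Submonoid.powers_le.mpr hπ)
  have hunit : IsUnit (algebraMap O (Localization.Away π) π) :=
    IsLocalization.Away.algebraMap_isUnit π
  have hex : ∃ n : ℕ, ∃ b : O, e * algebraMap O (Localization.Away π) (π ^ n) =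
      algebraMap O (Localization.Away π) b := by
    obtain ⟨⟨b, ⟨_, n, rfl⟩⟩, hb⟩ := IsLocalization.surj (Submonoid.powers π) e
    exact ⟨n, b, hb⟩
  have hmin : Nat.find hex = 0 := by
    by_contra hne
    obtain ⟨m, hm⟩ := Nat.exists_eq_succ_of_ne_zero hne
    obtain ⟨b, hb⟩ := Nat.find_spec hex
    rw [hm] at hb
    -- `b ^ 2 = π ^ (m+1) * b`
    have h1 : b * b = π ^ (m + 1) * b := by
      apply hinj
      rw [map_mul, map_mul, ← hb]
      calc e * algebraMap O _ (π ^ (m + 1)) * (e * algebraMap O _ (π ^ (m + 1)))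
          = (e * e) * algebraMap O _ (π ^ (m + 1)) * algebraMap O _ (π ^ (m + 1)) := by ring
        _ = e * algebraMap O _ (π ^ (m + 1)) * algebraMap O _ (π ^ (m + 1)) := by rw [he.eq]
        _ = algebraMap O _ (π ^ (m + 1)) * (e * algebraMap O _ (π ^ (m + 1))) := by ring
    have h2 : Ideal.Quotient.mk (Ideal.span {π}) b = 0 := by
      apply IsReduced.eq_zero
      refine ⟨2, ?_⟩
      rw [← map_pow, pow_two, h1, Ideal.Quotient.eq_zero_iff_mem, pow_succ]
      exact Ideal.mul_mem_right _ _ (Ideal.mul_mem_left _ _ (Ideal.mem_span_singleton_self π))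
    rw [Ideal.Quotient.eq_zero_iff_mem, Ideal.mem_span_singleton] at h2
    obtain ⟨c, rfl⟩ := h2
    have h3 : e * algebraMap O (Localization.Away π) (π ^ m) =
        algebraMap O (Localization.Away π) c := by
      apply hunit.mul_left_cancel
      rw [← map_mul (algebraMap O (Localization.Away π)) π c, ← hb, pow_succ, map_mul]
      ring
    have h4 : Nat.find hex ≤ m := Nat.find_min' hex ⟨c, h3⟩
    omega
  obtain ⟨b, hb⟩ := Nat.find_spec hex
  rw [hmin, pow_zero, map_one, mul_one] at hb
  refine ⟨b, ?_, hb.symm⟩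
  apply hinj
  rw [map_mul, ← hb, he.eq]

/-- the spectrum of `O[1/π]` is preconnected if `O` is local, `π` a nonzerodivisor and `O/π`
reduced -/
theorem preconnectedSpace_away [IsLocalRing O] (hπ : π ∈ nonZeroDivisors O)
    [hred : _root_.IsReduced (O ⧸ Ideal.span {π})] :
    PreconnectedSpace (PrimeSpectrum (Localization.Away π)) := by
  rw [preconnectedSpace_iff_clopen]
  intro s hs
  obtain ⟨e, he, rfl⟩ := PrimeSpectrum.isClopen_iff.mp hs
  obtain ⟨b, hb, rfl⟩ := exists_idempotent_of_away π hπ e he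
  rcases IsLocalRing.isUnit_or_isUnit_one_sub_self b with h | h
  · right
    have : b = 1 := by
      have h1 : b * (1 - b) = 0 := by rw [mul_sub, mul_one, hb.eq, sub_self]
      have h2 : 1 - b = 0 := h.mul_right_eq_zero.mp h1
      exact (sub_eq_zero.mp h2).symm
    rw [this, map_one, PrimeSpectrum.basicOpen_one]
    rfl
  · left
    have : b = 0 := by
      have h1 : (1 - b) * b = 0 := by rw [sub_mul, one_mul, hb.eq, sub_self]
      exact h.mul_right_eq_zero.mp h1
    rw [this, map_zero, PrimeSpectrum.basicOpen_zero]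
    rfl

/-- the basic open `D(π)` of the spectrum of `O` is preconnected -/
theorem isPreconnected_basicOpen [IsLocalRing O] (hπ : π ∈ nonZeroDivisors O)
    [hred : _root_.IsReduced (O ⧸ Ideal.span {π})] :
    _root_.IsPreconnected ((PrimeSpectrum.basicOpen π : TopologicalSpace.Opens (PrimeSpectrum O)) :
      Set (PrimeSpectrum O)) := by
  haveI := preconnectedSpace_away π hπ
  have h1 := PrimeSpectrum.localization_away_comap_range (Localization.Away π) π
  rw [← h1, ← Set.image_univ]
  exact isPreconnected_univ.image _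
    (PrimeSpectrum.continuous_comap (algebraMap O (Localization.Away π))).continuousOn

end ringLemma

section dvr

open Groth.Agent.Lib.Helper12.DVRFlatSch Groth.Agent.Lib.Helper55
open Groth.Agent.Lib.Helper12.EquidimKey

variable {A' : Type u} [CommRing A'] [IsDomain A'] [IsDiscreteValuationRing A'] {P : Scheme.{u}}
  (h : P ⟶ Spec (CommRingCat.of A'))

/-- generizations of `p` outside the closed fibre -/
def gen (p : P) : Set P := {q : P | q ⤳ p ∧ h.base q ≠ closedPoint A'}

theorem gen_mono {p₁ p₂ : P} (h12 : p₁ ⤳ p₂) : gen h p₁ ⊆ gen h p₂ :=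
  fun _ hq => ⟨hq.1.trans h12, hq.2⟩

theorem gen_eq_image (ϖ : A') (hϖ : maximalIdeal A' = Ideal.span {ϖ}) (p : P) :
    gen h p = (P.fromSpecStalk p).base ''
      ((PrimeSpectrum.basicOpen (toStalk h p ϖ) :
        TopologicalSpace.Opens (PrimeSpectrum (P.presheaf.stalk p))) :
        Set (PrimeSpectrum (P.presheaf.stalk p))) := by
  ext q
  constructor
  · rintro ⟨hqp, hqs⟩
    obtain ⟨Q, rfl⟩ : q ∈ Set.range (P.fromSpecStalk p).base := by
      rw [Scheme.range_fromSpecStalk]; exact hqp
    refine ⟨Q, ?_, rfl⟩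
    change toStalk h p ϖ ∉ Q.asIdeal
    rw [mem_asIdeal_iff_of_fromSpecStalk, eq_closedPoint_of_mem ϖ hϖ]
    exact hqs
  · rintro ⟨Q, hQ, rfl⟩
    refine ⟨?_, ?_⟩
    · have : (P.fromSpecStalk p).base Q ∈ Set.range (P.fromSpecStalk p).base := ⟨Q, rfl⟩
      rwa [Scheme.range_fromSpecStalk] at this
    · have hQ' : toStalk h p ϖ ∉ Q.asIdeal := hQ
      rw [mem_asIdeal_iff_of_fromSpecStalk, eq_closedPoint_of_mem ϖ hϖ] at hQ'
      exact hQ'

/-- at a point of the closed fibre where `h` is flat with reduced fibre, the set of generizations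
in the generic fibre is connected -/
theorem isConnected_gen [LocallyOfFiniteType h] (p : P) (hp : h.base p = closedPoint A')
    (hflat : (h.stalkMap p).hom.Flat)
    (hred : _root_.IsReduced ((h.fiber (h.base p)).presheaf.stalk (h.asFiber p))) :
    _root_.IsConnected (gen h p) := by
  obtain ⟨ϖ, hϖ⟩ := IsDiscreteValuationRing.exists_irreducible A'
  have hmaxϖ : maximalIdeal A' = Ideal.span {ϖ} := hϖ.maximalIdeal_eq
  -- flatness of `toStalk`
  haveI := isIso_toStalkBase (h.base p) hp
  have hbij : Function.Bijective (toStalkBase (h.base p)).hom :=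
    ConcreteCategory.bijective_of_isIso (toStalkBase (h.base p))
  have hfl : (toStalk h p).Flat := by
    rw [toStalk_eq']
    exact RingHom.Flat.comp (RingHom.Flat.of_bijective hbij) hflat
  letI algA'B : Algebra A' (P.presheaf.stalk p) := (toStalk h p).toAlgebra
  haveI : Module.Flat A' (P.presheaf.stalk p) := hfl
  have hnzd : toStalk h p ϖ ∈ nonZeroDivisors (P.presheaf.stalk p) := by
    have hreg : IsSMulRegular (P.presheaf.stalk p) ϖ :=
      Module.Flat.isSMulRegular_of_nonZeroDivisors (mem_nonZeroDivisors_of_ne_zero hϖ.ne_zero)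
    rw [mem_nonZeroDivisors_iff_right]
    intro x hx
    apply hreg
    change toStalk h p ϖ * x = toStalk h p ϖ * 0
    rw [mul_zero, mul_comm]; exact hx
  haveI hredq : _root_.IsReduced (P.presheaf.stalk p ⧸ Ideal.span {toStalk h p ϖ}) := by
    obtain ⟨e⟩ := Groth.Agent.Lib.Helper24.nonempty_fibre_stalk_ringEquiv_quotient h p
    rw [map_maximalIdeal_eq_span h p hp ϖ hmaxϖ] at e
    exact isReduced_of_injective e.symm.toRingHom e.symm.injective
  rw [gen_eq_image h ϖ hmaxϖ p]
  refine ⟨?_, (isPreconnected_basicOpen (toStalk h p ϖ) hnzd).image _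
    (P.fromSpecStalk p).base.hom.continuous.continuousOn⟩
  apply Set.Nonempty.image
  by_contra hempty
  rw [Set.not_nonempty_iff_eq_empty] at hempty
  have h1 : PrimeSpectrum.basicOpen (toStalk h p ϖ) = ⊥ := by
    apply TopologicalSpace.Opens.ext
    exact hempty
  rw [PrimeSpectrum.basicOpen_eq_bot_iff] at h1
  obtain ⟨n, hn⟩ := h1
  have h2 : (toStalk h p ϖ) ^ n ∈ nonZeroDivisors (P.presheaf.stalk p) := pow_mem hnzd n
  rw [hn] at h2
  exact zero_notMem_nonZeroDivisors h2

/-- two points of a subspace one of which specializes to the other lie in the same connected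
component -/
theorem mem_connectedComponentIn_of_specializes {T : Type*} [TopologicalSpace T] {F : Set T}
    {a b c : T} (hb : b ∈ connectedComponentIn F c) (hab : a ⤳ b) (ha : a ∈ F) :
    a ∈ connectedComponentIn F c := by
  have hbF : b ∈ F := connectedComponentIn_subset F c hb
  have hpre : _root_.IsPreconnected ({a, b} : Set T) := by
    have h1 : _root_.IsPreconnected ({a} : Set T) := isPreconnected_singleton
    refine h1.subset_closure (by simp) ?_
    rintro x (rfl | rfl)
    · exact subset_closure rfl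
    · exact specializes_iff_mem_closure.mp hab
  have hsub : ({a, b} : Set T) ⊆ F := by
    rintro x (rfl | rfl)
    · exact ha
    · exact hbF
  have h2 := hpre.subset_connectedComponentIn (x := b) (by simp) hsub
  rw [← connectedComponentIn_eq hb] at h2
  exact h2 (by simp)

variable [LocallyOfFiniteType h] (σ : Spec (CommRingCat.of A') ⟶ P) (hσ : σ ≫ h = 𝟙 _)

include hσ in
/-- **The DVR lemma.**  Let `h : P ⟶ Spec A'` be locally of finite type over a discrete valuation
ring with a section `σ`, flat with reduced closed fibre at the points of the connected component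
of `σ(s)` in the closed fibre.  Then the section components are stable under generization at the
points of the closed fibre. -/
theorem sectionComponents_generization
    (hgood : ∀ p : P, h.base p = closedPoint A' → p ∈ MoreMor.sectionComponents h σ →
      (h.stalkMap p).hom.Flat ∧
        _root_.IsReduced ((h.fiber (h.base p)).presheaf.stalk (h.asFiber p)))
    (ξ ξ' : P) (hξ : ξ ∈ MoreMor.sectionComponents h σ) (hξs : h.base ξ = closedPoint A')
    (hξ' : ξ' ⤳ ξ) : ξ' ∈ MoreMor.sectionComponents h σ := by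
  classical
  set s : Spec (CommRingCat.of A') := closedPoint A' with hs
  set F : Set P := h.base ⁻¹' {s} with hF
  set C : Set P := connectedComponentIn F (σ.base s) with hC
  have hσpt : ∀ t, h.base (σ.base t) = t := by
    intro t
    have := congrArg (fun φ => φ.base t) hσ
    simp only [Scheme.Hom.comp_base, TopCat.hom_comp, ContinuousMap.comp_apply] at this
    exact this
  have hσsF : σ.base s ∈ F := hσpt s
  -- membership in the section components over the closed point
  have hmemC : ∀ p : P, h.base p = s → (p ∈ MoreMor.sectionComponents h σ ↔ p ∈ C) := by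
    intro p hp
    change p ∈ connectedComponentIn (h.base ⁻¹' {h.base p}) (σ.base (h.base p)) ↔ _
    rw [hp]
  have hCF : C ⊆ F := connectedComponentIn_subset F _
  have hgoodC : ∀ p ∈ C, _root_.IsConnected (gen h p) := by
    intro p hp
    have hps : h.base p = s := hCF hp
    obtain ⟨h1, h2⟩ := hgood p hps ((hmemC p hps).mpr hp)
    exact isConnected_gen h p hps h1 h2
  -- the generic point and the generic component
  by_cases hξ's : h.base ξ' = s
  · rw [hmemC ξ' hξ's]
    exact mem_connectedComponentIn_of_specializes ((hmemC ξ hξs).mp hξ) hξ' hξ's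
  set η : Spec (CommRingCat.of A') := h.base ξ' with hη
  have hηuniq : ∀ t : Spec (CommRingCat.of A'), t ≠ s → t = η := by
    intro t ht
    have key : ∀ t : Spec (CommRingCat.of A'), t ≠ s → t.asIdeal = ⊥ := by
      intro t ht
      by_contra hne
      apply ht
      apply PrimeSpectrum.ext
      have hmax : t.asIdeal.IsMaximal := t.2.isMaximal hne
      exact IsLocalRing.eq_maximalIdeal hmax
    apply PrimeSpectrum.ext
    rw [key t ht, key η hξ's]
  set E : Set P := connectedComponentIn (h.base ⁻¹' {η}) (σ.base η) with hE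
  have hgenη : ∀ p : P, gen h p ⊆ h.base ⁻¹' {η} := fun p q hq => hηuniq _ hq.2
  -- a connected `gen p` meeting `E` lies in `E`
  have hdich : ∀ p ∈ C, (gen h p ∩ E).Nonempty → gen h p ⊆ E := by
    intro p hp ⟨q, hq1, hq2⟩
    have h2 := (hgoodC p hp).isPreconnected.subset_connectedComponentIn hq1 (hgenη p)
    rw [← connectedComponentIn_eq hq2] at h2
    exact h2
  -- the section point
  have hηs : η ⤳ s := by
    refine (PrimeSpectrum.le_iff_specializes η s).mp ?_
    change η.asIdeal ≤ maximalIdeal A'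
    exact IsLocalRing.le_maximalIdeal η.2.ne_top
  have hση : σ.base η ∈ gen h (σ.base s) :=
    ⟨hηs.map σ.base.hom.continuous, by rw [hσpt]; exact hξ's⟩
  have hσηE : σ.base η ∈ E := mem_connectedComponentIn (hσpt η)
  have hσsC : σ.base s ∈ C := mem_connectedComponentIn hσsF
  -- local constancy
  haveI : IsLocallyNoetherian P := LocallyOfFiniteType.isLocallyNoetherian h
  haveI hlft : LocallyOfFiniteType (h.fiberToSpecResidueField s) :=
    MorphismProperty.pullback_snd (P := @LocallyOfFiniteType) _ _ ‹_›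
  haveI : IsLocallyNoetherian (h.fiber s) :=
    LocallyOfFiniteType.isLocallyNoetherian (h.fiberToSpecResidueField s)
  have hι := (h.fiberι s).isEmbedding
  have hloc : ∀ p ∈ C, ∃ N : Set P, IsOpen N ∧ p ∈ N ∧
      ∀ q ∈ N ∩ C, (gen h p ⊆ E ↔ gen h q ⊆ E) := by
    intro p hp
    have hps : h.base p = s := hCF hp
    obtain ⟨p', rfl⟩ : p ∈ Set.range (h.fiberι s).base := by
      rw [Scheme.Hom.range_fiberι]; exact hps
    obtain ⟨W, hpW, hW⟩ := exists_open_forall_maximal_specializes p'
    obtain ⟨N, hNo, hNW⟩ := hι.toIsInducing.isOpen_iff.mp W.2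
    refine ⟨N, hNo, ?_, ?_⟩
    · have : p' ∈ (h.fiberι s).base ⁻¹' N := by rw [hNW]; exact hpW
      exact this
    · rintro q ⟨hqN, hqC⟩
      have hqs : h.base q = s := hCF hqC
      obtain ⟨q', rfl⟩ : q ∈ Set.range (h.fiberι s).base := by
        rw [Scheme.Hom.range_fiberι]; exact hqs
      have hq'W : q' ∈ W := by
        have : q' ∈ (h.fiberι s).base ⁻¹' N := hqN
        rwa [hNW] at this
      obtain ⟨ζ', hζ'q, hζ'max⟩ := exists_maximal_generization q'
      have hζ'W : ζ' ∈ W := hζ'q.mem_open W.2 hq'W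
      have hζ'p : ζ' ⤳ p' := hW ζ' hζ'W (fun w hw => by rw [hζ'max w hw])
      set ζ := (h.fiberι s).base ζ' with hζ
      have hζq : ζ ⤳ (h.fiberι s).base q' := hζ'q.map (h.fiberι s).base.hom.continuous
      have hζp : ζ ⤳ (h.fiberι s).base p' := hζ'p.map (h.fiberι s).base.hom.continuous
      have hζF : ζ ∈ F := by
        have : ζ ∈ Set.range (h.fiberι s).base := ⟨ζ', rfl⟩
        rwa [Scheme.Hom.range_fiberι] at this
      have hζC : ζ ∈ C := mem_connectedComponentIn_of_specializes hqC hζq hζF
      have hζne := (hgoodC ζ hζC).nonempty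
      obtain ⟨w, hw⟩ := hζne
      constructor
      · intro hpE
        exact hdich _ hqC ⟨w, gen_mono h hζq hw, hpE (gen_mono h hζp hw)⟩
      · intro hqE
        exact hdich _ hp ⟨w, gen_mono h hζp hw, hqE (gen_mono h hζq hw)⟩
  -- the two open sets
  choose! N hNo hNp hNq using hloc
  set U₁ : Set P := ⋃ p ∈ {p | p ∈ C ∧ gen h p ⊆ E}, N p with hU₁
  set U₂ : Set P := ⋃ p ∈ {p | p ∈ C ∧ ¬ gen h p ⊆ E}, N p with hU₂
  have hU₁o : IsOpen U₁ := isOpen_biUnion (fun p hp => hNo p hp.1)
  have hU₂o : IsOpen U₂ := isOpen_biUnion (fun p hp => hNo p hp.1)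
  have hU₁mem : ∀ q ∈ C, q ∈ U₁ → gen h q ⊆ E := by
    intro q hqC hq
    simp only [hU₁, Set.mem_iUnion, Set.mem_ofPred_eq] at hq
    obtain ⟨p, ⟨hpC, hpE⟩, hqN⟩ := hq
    exact (hNq p hpC q ⟨hqN, hqC⟩).mp hpE
  have hU₂mem : ∀ q ∈ C, q ∈ U₂ → ¬ gen h q ⊆ E := by
    intro q hqC hq
    simp only [hU₂, Set.mem_iUnion, Set.mem_ofPred_eq] at hq
    obtain ⟨p, ⟨hpC, hpE⟩, hqN⟩ := hq
    exact fun hqE => hpE ((hNq p hpC q ⟨hqN, hqC⟩).mpr hqE)
  have hcover : C ⊆ U₁ ∪ U₂ := by
    intro p hp
    by_cases hpE : gen h p ⊆ E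
    · left
      simp only [hU₁, Set.mem_iUnion, Set.mem_ofPred_eq]
      exact ⟨p, ⟨hp, hpE⟩, hNp p hp⟩
    · right
      simp only [hU₂, Set.mem_iUnion, Set.mem_ofPred_eq]
      exact ⟨p, ⟨hp, hpE⟩, hNp p hp⟩
  have hCpre : _root_.IsPreconnected C := isPreconnected_connectedComponentIn
  have hσsE : gen h (σ.base s) ⊆ E := hdich _ hσsC ⟨σ.base η, hση, hσηE⟩
  have hσsU₁ : σ.base s ∈ U₁ := by
    simp only [hU₁, Set.mem_iUnion, Set.mem_ofPred_eq]
    exact ⟨σ.base s, ⟨hσsC, hσsE⟩, hNp _ hσsC⟩
  have hCU₁ : C ⊆ U₁ := by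
    by_contra hnot
    rw [Set.not_subset] at hnot
    obtain ⟨q, hqC, hqU₁⟩ := hnot
    have hqU₂ : q ∈ U₂ := (hcover hqC).resolve_left hqU₁
    obtain ⟨r, ⟨hrC, hrU₁, hrU₂⟩⟩ := hCpre U₁ U₂ hU₁o hU₂o hcover ⟨_, hσsC, hσsU₁⟩ ⟨q, hqC, hqU₂⟩
    exact hU₂mem r hrC hrU₂ (hU₁mem r hrC hrU₁)
  -- conclusion
  have hξC : ξ ∈ C := (hmemC ξ hξs).mp hξ
  have hξE : gen h ξ ⊆ E := hU₁mem ξ hξC (hCU₁ hξC)
  exact hξE ⟨hξ', hξ's⟩

end dvr

end Groth.Agent.Lib.Helper12.SectionNbhd
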