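import Mathlib
import Groth.Agent.Lib.Helper12.SectionNbhd
import Groth.Agent.Lib.Helper12.EquidimKey
import Groth.Agent.Lib.Helper78.SectionComp
import Groth.Prelude.Def_MoreMor

set_option autoImplicit false
set_option linter.style.haveILetI false
universe u
open IsLocalRing AlgebraicGeometry CategoryTheory Limits TopologicalSpace

namespace Groth.Agent.Lib.Helper12.SectionNbhd

open Groth.Agent.Lib.Helper12.EquidimKey Groth.Agent.Lib.Helper78.SectionComp

/-- membership in the section components over a given point -/
theorem mem_sectionComponents_iff {X Y : Scheme.{u}} (f : X ⟶ Y) (g : Y ⟶ X) (x : X) (y : Y)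
    (hxy : f.base x = y) :
    x ∈ MoreMor.sectionComponents f g ↔ x ∈ connectedComponentIn (f.base ⁻¹' {y}) (g.base y) := by
  subst hxy
  rfl

/-- **Generization stability.**  If `f` is universally open and the fibre is geometrically reduced
at the points of `X⁰_y`, every generization of a point of `X⁰_y` lies in `X⁰`. -/
theorem mem_sectionComponents_of_specializes {X Y : Scheme.{u}} [IsLocallyNoetherian Y]
    (f : X ⟶ Y) [LocallyOfFiniteType f] (g : Y ⟶ X) (hg : g ≫ f = 𝟙 Y) (y : Y)
    (hy : ∀ x ∈ connectedComponentIn (f.base ⁻¹' {y}) (g.base y), EGA43.IsUnivOpenAt f x ∧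
        FBase.IsGeomReducedAt (f.fiberToSpecResidueField (f.base x)) (f.asFiber x))
    (x : X) (hx : x ∈ connectedComponentIn (f.base ⁻¹' {y}) (g.base y)) (x₁ : X) (hx₁ : x₁ ⤳ x) :
    x₁ ∈ MoreMor.sectionComponents f g := by
  classical
  have hfx : f.base x = y := connectedComponentIn_subset (f.base ⁻¹' {y}) (g.base y) hx
  by_cases hne : x = x₁
  · subst hne
    exact (mem_sectionComponents_iff f g x y hfx).mpr hx
  haveI : IsLocallyNoetherian X := LocallyOfFiniteType.isLocallyNoetherian f
  obtain ⟨A, t, hA, htcl, htgen⟩ :=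
    Groth.Agent.Lib.Helper78.exists_dvr_specialization (𝟙 X) x₁ x hx₁ hne
  haveI := hA
  set s : Spec (CommRingCat.of A) ⟶ Y := t ≫ f with hs
  have H : IsPullback (pullback.fst f s) (pullback.snd f s) f s := IsPullback.of_hasPullback _ _
  let τ : Spec (CommRingCat.of A) ⟶ pullback f s :=
    pullback.lift t (𝟙 _) (by rw [Category.id_comp])
  have hτ1 : τ ≫ pullback.fst f s = t := pullback.lift_fst _ _ _
  have hτ2 : τ ≫ pullback.snd f s = 𝟙 _ := pullback.lift_snd _ _ _
  let σ : Spec (CommRingCat.of A) ⟶ pullback f s :=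
    pullback.lift (s ≫ g) (𝟙 _) (by rw [Category.id_comp, Category.assoc, hg, Category.comp_id])
  have hσ1 : σ ≫ pullback.fst f s = s ≫ g := pullback.lift_fst _ _ _
  have hσ2 : σ ≫ pullback.snd f s = 𝟙 _ := pullback.lift_snd _ _ _
  have hτ1' : ∀ p : Spec (CommRingCat.of A), (pullback.fst f s).base (τ.base p) = t.base p := by
    intro p
    have := congrArg (fun φ => φ.base p) hτ1
    simpa only [Scheme.Hom.comp_base, TopCat.hom_comp, ContinuousMap.comp_apply] using this
  have hτ2' : ∀ p : Spec (CommRingCat.of A), (pullback.snd f s).base (τ.base p) = p := by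
    intro p
    have := congrArg (fun φ => φ.base p) hτ2
    simp only [Scheme.Hom.comp_base, TopCat.hom_comp, ContinuousMap.comp_apply] at this
    exact this
  have hbc : MoreMor.sectionComponents (pullback.snd f s) σ =
      (pullback.fst f s).base ⁻¹' MoreMor.sectionComponents f g :=
    sectionComponents_baseChange f g hg (pullback.snd f s) (pullback.fst f s) s H σ hσ2 hσ1
  -- the generic point of the trait
  set pt : Spec (X.residueField x₁) := closedPoint (X.residueField x₁) with hpt
  set gen : Spec (CommRingCat.of A) := (Spec.map (CommRingCat.ofHom A.subtype)).base pt with hgen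
  have htgen' : t.base gen = x₁ := by
    have := congrArg (fun φ => φ.base pt) htgen
    simp only [Scheme.Hom.comp_base, TopCat.hom_comp, ContinuousMap.comp_apply] at this
    refine this.trans ?_
    exact Scheme.fromSpecResidueField_apply x₁ pt
  have hgencl : gen ⤳ closedPoint A := specializes_closedPoint (R := A) gen
  have hscl : s.base (closedPoint A) = y := by
    rw [hs]
    simp only [Scheme.Hom.comp_base, TopCat.hom_comp, ContinuousMap.comp_apply]
    rw [htcl, hfx]
  have hw : ∀ p : ↥(pullback f s), f.base ((pullback.fst f s).base p) =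
      s.base ((pullback.snd f s).base p) := by
    intro p
    have := congrArg (fun φ => φ.base p) H.w
    simp only [Scheme.Hom.comp_base, TopCat.hom_comp, ContinuousMap.comp_apply] at this
    exact this
  -- the hypotheses of the DVR lemma
  have hgood : ∀ p : ↥(pullback f s), (pullback.snd f s).base p = closedPoint A →
      p ∈ MoreMor.sectionComponents (pullback.snd f s) σ →
      ((pullback.snd f s).stalkMap p).hom.Flat ∧
        _root_.IsReduced (((pullback.snd f s).fiber ((pullback.snd f s).base p)).presheaf.stalk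
          ((pullback.snd f s).asFiber p)) := by
    intro p hp hpσ
    rw [hbc] at hpσ
    have hpy : f.base ((pullback.fst f s).base p) = y := by rw [hw, hp, hscl]
    have hpC : (pullback.fst f s).base p ∈ connectedComponentIn (f.base ⁻¹' {y}) (g.base y) :=
      (mem_sectionComponents_iff f g _ y hpy).mp hpσ
    refine flat_and_isReduced_of_dvr f ((pullback.fst f s).base p) ?_ (hy _ hpC).2 A s
      (by rw [hscl, hpy]) p specializes_rfl hp
    intro z hz _
    have h1 : z ⤳ f.asFiber ((pullback.fst f s).base p) := specializes_iff_mem_closure.mpr hz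
    have h2 := h1.map (f.fiberι (f.base ((pullback.fst f s).base p))).base.hom.continuous
    rw [show (f.fiberι (f.base ((pullback.fst f s).base p))).base
      (f.asFiber ((pullback.fst f s).base p)) = (pullback.fst f s).base p from
      f.fiberι_asFiber _] at h2
    have h3 : (f.fiberι (f.base ((pullback.fst f s).base p))).base z ∈ f.base ⁻¹' {y} := by
      have : (f.fiberι (f.base ((pullback.fst f s).base p))).base z ∈
          Set.range (f.fiberι (f.base ((pullback.fst f s).base p))).base := ⟨z, rfl⟩
      rw [Scheme.Hom.range_fiberι] at this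
      exact this.trans hpy
    exact (hy _ (mem_connectedComponentIn_of_specializes hpC h2 h3)).1
  haveI : LocallyOfFiniteType (pullback.snd f s) := inferInstance
  have hξ : τ.base (closedPoint A) ∈ MoreMor.sectionComponents (pullback.snd f s) σ := by
    rw [hbc]
    change (pullback.fst f s).base (τ.base (closedPoint A)) ∈ MoreMor.sectionComponents f g
    rw [hτ1', htcl]
    exact (mem_sectionComponents_iff f g x y hfx).mpr hx
  have hfin := sectionComponents_generization (pullback.snd f s) σ hσ2 hgood
    (τ.base (closedPoint A)) (τ.base gen) hξ (hτ2' _) (hgencl.map τ.base.hom.continuous)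
  rw [hbc] at hfin
  change (pullback.fst f s).base (τ.base gen) ∈ MoreMor.sectionComponents f g at hfin
  rwa [hτ1', htgen'] at hfin

section top

variable {T : Type*} [TopologicalSpace T]

/-- the connected components of a noetherian space are open -/
theorem isOpen_connectedComponent_of_noetherianSpace [NoetherianSpace T] (x : T) :
    IsOpen (connectedComponent x) := by
  have hfin : (irreducibleComponents T).Finite := NoetherianSpace.finite_irreducibleComponents
  have heq : (connectedComponent x)ᶜ =
      ⋃₀ {Z | Z ∈ irreducibleComponents T ∧ Disjoint Z (connectedComponent x)} := by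
    ext p
    constructor
    · intro hp
      refine ⟨irreducibleComponent p,
        ⟨irreducibleComponent_mem_irreducibleComponents p, ?_⟩, mem_irreducibleComponent⟩
      rw [Set.disjoint_left]
      intro q hqZ hqC
      apply hp
      have h1 : irreducibleComponent p ⊆ connectedComponent q :=
        isIrreducible_irreducibleComponent.isConnected.isPreconnected.subset_connectedComponent hqZ
      rw [← connectedComponent_eq hqC] at h1
      exact h1 mem_irreducibleComponent
    · rintro ⟨Z, ⟨_, hZd⟩, hpZ⟩ hpC
      exact Set.disjoint_left.mp hZd hpZ hpC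
  rw [← isClosed_compl_iff, heq, Set.sUnion_eq_biUnion]
  exact Set.Finite.isClosed_biUnion (hfin.subset (fun Z hZ => hZ.1))
    (fun Z hZ => isClosed_of_mem_irreducibleComponents Z hZ.1)

/-- **Chain argument.**  In a space with a basis of noetherian opens, a point of the connected
component of `a` in a subset `F` already lies in the connected component of `a` in `U ∩ F` for a
suitable noetherian open `U`. -/
theorem exists_noetherian_open_connectedComponentIn
    (hT : ∀ p : T, ∃ N : Set T, IsOpen N ∧ p ∈ N ∧ NoetherianSpace N) (F : Set T) (a : T)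
    (haF : a ∈ F) (x : T) (hx : x ∈ connectedComponentIn F a) :
    ∃ U : Set T, IsOpen U ∧ NoetherianSpace U ∧ a ∈ U ∧ x ∈ connectedComponentIn (U ∩ F) a := by
  classical
  set S : Set T := {p | ∃ U : Set T, IsOpen U ∧ NoetherianSpace U ∧ a ∈ U ∧
    p ∈ connectedComponentIn (U ∩ F) a} with hS
  suffices hxS : x ∈ S from hxS
  -- local dichotomy
  have hloc : ∀ p ∈ F, ∃ O : Set T, IsOpen O ∧ p ∈ O ∧ (O ∩ F ⊆ S ∨ O ∩ F ∩ S = ∅) := by
    intro p hpF
    obtain ⟨N, hNo, hpN, hNn⟩ := hT p
    haveI := hNn
    haveI : NoetherianSpace ↥(N ∩ F) := NoetherianSpace.inter_of_left N F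
    set K := connectedComponentIn (N ∩ F) p with hK
    have hpNF : p ∈ N ∩ F := ⟨hpN, hpF⟩
    obtain ⟨O, hOo, hOK⟩ : ∃ O : Set T, IsOpen O ∧ O ∩ (N ∩ F) = K := by
      have h1 := isOpen_connectedComponent_of_noetherianSpace (⟨p, hpNF⟩ : ↥(N ∩ F))
      obtain ⟨O, hOo, hO⟩ := isOpen_induced_iff.mp h1
      refine ⟨O, hOo, ?_⟩
      rw [hK, connectedComponentIn_eq_image hpNF, ← hO, Subtype.image_preimage_coe,
        Set.inter_comm]
    have hpK : p ∈ K := mem_connectedComponentIn hpNF
    refine ⟨O ∩ N, hOo.inter hNo, ⟨?_, hpN⟩, ?_⟩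
    · rw [← hOK] at hpK; exact hpK.1
    have hONF : O ∩ N ∩ F = K := by rw [← hOK, Set.inter_assoc]
    by_cases hne : (K ∩ S).Nonempty
    · left
      obtain ⟨q, hqK, U, hUo, hUn, haU, hqU⟩ := hne
      rw [hONF]
      intro p' hp'K
      haveI := hUn
      refine ⟨U ∪ N, hUo.union hNo, ?_, Or.inl haU, ?_⟩
      · rw [Set.union_eq_iUnion]
        haveI : ∀ b : Bool, NoetherianSpace ↥(cond b U N) := fun b => by
          cases b
          · exact hNn
          · exact hUn
        exact NoetherianSpace.iUnion _
      · have hpre : _root_.IsPreconnected (connectedComponentIn (U ∩ F) a ∪ K) :=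
          IsPreconnected.union q hqU hqK isPreconnected_connectedComponentIn
            isPreconnected_connectedComponentIn
        have hsub : connectedComponentIn (U ∩ F) a ∪ K ⊆ (U ∪ N) ∩ F := by
          apply Set.union_subset
          · exact (connectedComponentIn_subset _ _).trans
              (Set.inter_subset_inter_left _ Set.subset_union_left)
          · exact (connectedComponentIn_subset _ _).trans
              (Set.inter_subset_inter_left _ Set.subset_union_right)
        exact hpre.subset_connectedComponentIn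
          (Or.inl (mem_connectedComponentIn ⟨haU, haF⟩)) hsub (Or.inr hp'K)
    · right
      rw [hONF]
      exact Set.not_nonempty_iff_eq_empty.mp hne
  have haS : a ∈ S := by
    obtain ⟨N, hNo, haN, hNn⟩ := hT a
    exact ⟨N, hNo, hNn, haN, mem_connectedComponentIn ⟨haN, haF⟩⟩
  by_contra hxS
  choose! O hOo hpO hO using hloc
  set u : Set T := ⋃ p ∈ {p | p ∈ F ∧ O p ∩ F ⊆ S}, O p with hu'
  set v : Set T := ⋃ p ∈ {p | p ∈ F ∧ O p ∩ F ∩ S = ∅}, O p with hv'
  have huo : IsOpen u := isOpen_biUnion fun p hp => hOo p hp.1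
  have hvo : IsOpen v := isOpen_biUnion fun p hp => hOo p hp.1
  have hcov : F ⊆ u ∪ v := by
    intro p hp
    rcases hO p hp with h | h
    · left; exact Set.mem_biUnion (show p ∈ {p | p ∈ F ∧ O p ∩ F ⊆ S} from ⟨hp, h⟩) (hpO p hp)
    · right
      exact Set.mem_biUnion (show p ∈ {p | p ∈ F ∧ O p ∩ F ∩ S = ∅} from ⟨hp, h⟩) (hpO p hp)
  have hu : ∀ q ∈ F, q ∈ u → q ∈ S := by
    intro q hqF hq
    obtain ⟨p, ⟨hpF, hpS⟩, hqO⟩ := Set.mem_iUnion₂.mp hq
    exact hpS ⟨hqO, hqF⟩
  have hv : ∀ q ∈ F, q ∈ v → q ∉ S := by
    intro q hqF hq hqS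
    obtain ⟨p, ⟨hpF, hpS⟩, hqO⟩ := Set.mem_iUnion₂.mp hq
    have : q ∈ O p ∩ F ∩ S := ⟨⟨hqO, hqF⟩, hqS⟩
    rw [hpS] at this; exact this
  have hC : _root_.IsPreconnected (connectedComponentIn F a) := isPreconnected_connectedComponentIn
  have hCF := connectedComponentIn_subset F a
  have hxF : x ∈ F := hCF hx
  have hau : a ∈ u := (hcov haF).resolve_right (fun h => hv a haF h haS)
  have hxv : x ∈ v := (hcov hxF).resolve_left (fun h => hxS (hu x hxF h))
  obtain ⟨r, hrC, hru, hrv⟩ := hC u v huo hvo (hCF.trans hcov)
    ⟨a, mem_connectedComponentIn haF, hau⟩ ⟨x, hx, hxv⟩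
  exact hv r (hCF hrC) hrv (hu r (hCF hrC) hru)

end top

end Groth.Agent.Lib.Helper12.SectionNbhd
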