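import Mathlib
import Groth.Agent.Lib.Helper12.SectionNbhd
import Groth.Agent.Lib.Helper12.SectionNbhd2
import Groth.Agent.Lib.Helper12.ConstrTop
import Groth.Agent.Lib.Helper12.GeomRedLocus
import Groth.Agent.Lib.Helper24.UnivOpenAt
import Groth.Agent.S1326
import Groth.Agent.S4925
import Groth.Prelude.Def_MoreMor

set_option autoImplicit false
set_option linter.style.haveILetI false
universe u
open IsLocalRing AlgebraicGeometry CategoryTheory Limits TopologicalSpace Topology

namespace Groth.Agent.Lib.Helper12.SectionNbhd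

open Groth.Agent.Lib.Helper12.GeomRedLocus

/-- the quasi-compact case of EGA IV 15.6.5 -/
theorem subset_interior_of_noetherianSpace {X Y : Scheme.{u}} [IsLocallyNoetherian Y]
    (f : X ⟶ Y) [LocallyOfFiniteType f] [NoetherianSpace X] (g : Y ⟶ X) (hg : g ≫ f = 𝟙 Y) (y : Y)
    (hy : ∀ x ∈ connectedComponentIn (f.base ⁻¹' {y}) (g.base y), EGA43.IsUnivOpenAt f x ∧
        FBase.IsGeomReducedAt (f.fiberToSpecResidueField (f.base x)) (f.asFiber x)) :
    connectedComponentIn (f.base ⁻¹' {y}) (g.base y) ⊆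
      interior (MoreMor.sectionComponents f g) := by
  haveI : IsLocallyNoetherian X := LocallyOfFiniteType.isLocallyNoetherian f
  have hlc := Groth.Agent.S1326.result f g hg
  have hc : IsConstructible (MoreMor.sectionComponents f g) := hlc.isConstructible
  intro x hx
  rw [mem_interior_iff_mem_nhds,
    Groth.Agent.Lib.Helper12.ConstrTop.mem_nhds_iff_dense_on_irreducible_closed x hc]
  intro Z hZc hZi hxZ
  have hη := hZi.isGenericPoint_genericPoint hZc
  set η := hZi.genericPoint with hηdef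
  have hηx : η ⤳ x := by rw [specializes_iff_mem_closure, hη.def]; exact hxZ
  have hηE := mem_sectionComponents_of_specializes f g hg y hy x hx η hηx
  calc Z = closure {η} := hη.def.symm
    _ ⊆ closure (MoreMor.sectionComponents f g ∩ Z) :=
      closure_mono (Set.singleton_subset_iff.mpr ⟨hηE, hη.mem⟩)

/-- images of section components under a morphism of pairs (morphism, section) -/
theorem image_connectedComponentIn_subset {X Y X' Y' : Scheme.{u}} (f : X ⟶ Y) (g : Y ⟶ X)
    (f' : X' ⟶ Y') (g' : Y' ⟶ X') (i : X' ⟶ X) (j : Y' ⟶ Y) (hf : f' ≫ j = i ≫ f)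
    (hg' : g' ≫ f' = 𝟙 Y') (hgi : g' ≫ i = j ≫ g) (y' : Y') :
    i.base '' connectedComponentIn (f'.base ⁻¹' {y'}) (g'.base y') ⊆
      connectedComponentIn (f.base ⁻¹' {j.base y'}) (g.base (j.base y')) := by
  set A := connectedComponentIn (f'.base ⁻¹' {y'}) (g'.base y') with hA
  have h1 : _root_.IsPreconnected (i.base '' A) :=
    isPreconnected_connectedComponentIn.image _ i.base.hom.continuous.continuousOn
  have h2 : g.base (j.base y') ∈ i.base '' A := by
    refine ⟨g'.base y', ?_, ?_⟩
    · refine mem_connectedComponentIn ?_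
      have := congrArg (fun φ => φ.base y') hg'
      simp only [Scheme.Hom.comp_base, TopCat.hom_comp, ContinuousMap.comp_apply] at this
      exact this
    · have := congrArg (fun φ => φ.base y') hgi
      simpa only [Scheme.Hom.comp_base, TopCat.hom_comp, ContinuousMap.comp_apply] using this
  have h3 : i.base '' A ⊆ f.base ⁻¹' {j.base y'} := by
    rintro _ ⟨a, ha, rfl⟩
    have h4 : f'.base a = y' := connectedComponentIn_subset (f'.base ⁻¹' {y'}) _ ha
    have := congrArg (fun φ => φ.base a) hf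
    simp only [Scheme.Hom.comp_base, TopCat.hom_comp, ContinuousMap.comp_apply] at this
    change f.base (i.base a) = j.base y'
    rw [← this, h4]
  exact h1.subset_connectedComponentIn h2 h3

theorem image_sectionComponents_subset {X Y X' Y' : Scheme.{u}} (f : X ⟶ Y) (g : Y ⟶ X)
    (f' : X' ⟶ Y') (g' : Y' ⟶ X') (i : X' ⟶ X) (j : Y' ⟶ Y) (hf : f' ≫ j = i ≫ f)
    (hg' : g' ≫ f' = 𝟙 Y') (hgi : g' ≫ i = j ≫ g) :
    i.base '' MoreMor.sectionComponents f' g' ⊆ MoreMor.sectionComponents f g := by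
  rintro _ ⟨x', hx', rfl⟩
  have h1 := image_connectedComponentIn_subset f g f' g' i j hf hg' hgi (f'.base x')
    ⟨x', hx', rfl⟩
  have h2 : j.base (f'.base x') = f.base (i.base x') := by
    have := congrArg (fun φ => φ.base x') hf
    simpa only [Scheme.Hom.comp_base, TopCat.hom_comp, ContinuousMap.comp_apply] using this
  rw [h2] at h1
  exact h1

/-- **EGA IV 15.6.5.** -/
theorem subset_interior_sectionComponents {X Y : Scheme.{u}} [IsLocallyNoetherian Y]
    (f : X ⟶ Y) [LocallyOfFiniteType f] (g : Y ⟶ X) (hg : g ≫ f = 𝟙 Y) (y : Y)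
    (hy : ∀ x ∈ connectedComponentIn (f.base ⁻¹' {y}) (g.base y), EGA43.IsUnivOpenAt f x ∧
        FBase.IsGeomReducedAt (f.fiberToSpecResidueField (f.base x)) (f.asFiber x)) :
    connectedComponentIn (f.base ⁻¹' {y}) (g.base y) ⊆
      interior (MoreMor.sectionComponents f g) := by
  intro x hx
  haveI : IsLocallyNoetherian X := LocallyOfFiniteType.isLocallyNoetherian f
  have hgf : ∀ t, f.base (g.base t) = t := by
    intro t
    have := congrArg (fun φ => φ.base t) hg
    simp only [Scheme.Hom.comp_base, TopCat.hom_comp, ContinuousMap.comp_apply] at this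
    exact this
  have haF : g.base y ∈ f.base ⁻¹' {y} := hgf y
  have hT : ∀ p : X, ∃ N : Set X, IsOpen N ∧ p ∈ N ∧ NoetherianSpace N := by
    intro p
    obtain ⟨_, ⟨W, hW, rfl⟩, hpW, -⟩ :=
      X.isBasis_affineOpens.exists_subset_of_mem_open (Set.mem_univ p) isOpen_univ
    haveI : IsNoetherianRing Γ(X, W) := IsLocallyNoetherian.component_noetherian ⟨W, hW⟩
    exact ⟨W, W.2, hpW, noetherianSpace_of_isAffineOpen W hW⟩
  obtain ⟨U₀, hU₀o, hU₀n, haU₀, hxU₀⟩ :=
    exists_noetherian_open_connectedComponentIn hT _ _ haF x hx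
  haveI := hU₀n
  obtain ⟨_, ⟨(V : Y.Opens), hV, rfl⟩, hyV, hVsub⟩ :=
    Y.isBasis_affineOpens.exists_subset_of_mem_open (show y ∈ g.base ⁻¹' U₀ from haU₀)
      (hU₀o.preimage g.base.hom.continuous)
  let U' : X.Opens := ⟨U₀ ∩ f.base ⁻¹' V, hU₀o.inter (V.2.preimage f.base.hom.continuous)⟩
  haveI hU'n : NoetherianSpace ↥U' := NoetherianSpace.inter_of_left U₀ _
  have hUV : U' ≤ f ⁻¹ᵁ V := fun p hp => hp.2
  have hVU : V ≤ g ⁻¹ᵁ U' := fun v hv => ⟨hVsub hv, by
    change f.base (g.base v) ∈ V
    rw [hgf]; exact hv⟩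
  set f' := f.resLE V U' hUV with hf'
  set g' := g.resLE U' V hVU with hg'def
  have hg' : g' ≫ f' = 𝟙 _ := by
    rw [← cancel_mono V.ι, Category.assoc, Scheme.Hom.resLE_comp_ι,
      Scheme.Hom.resLE_comp_ι_assoc, hg, Category.comp_id, Category.id_comp]
  have hfι : f' ≫ V.ι = U'.ι ≫ f := Scheme.Hom.resLE_comp_ι _ _
  have hgι : g' ≫ U'.ι = V.ι ≫ g := Scheme.Hom.resLE_comp_ι _ _
  have hfx : f.base x = y := connectedComponentIn_subset (f.base ⁻¹' {y}) (g.base y) hx
  have hK := connectedComponentIn_subset (U₀ ∩ f.base ⁻¹' {y}) (g.base y)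
  set K := connectedComponentIn (U₀ ∩ f.base ⁻¹' {y}) (g.base y) with hKdef
  have hKU' : K ⊆ (U' : Set X) := fun p hp => ⟨(hK hp).1, by
    change f.base p ∈ V
    rw [show f.base p = y from (hK hp).2]; exact hyV⟩
  obtain ⟨y', hy'eq⟩ : y ∈ Set.range V.ι.base := by rw [Scheme.Opens.range_ι]; exact hyV
  obtain ⟨x', hx'eq⟩ : x ∈ Set.range U'.ι.base := by
    rw [Scheme.Opens.range_ι]; exact hKU' hxU₀
  set s : Set ↥(U'.toScheme) := U'.ι.base ⁻¹' K with hs
  have hιs : U'.ι.base '' s = K := by
    rw [hs, Set.image_preimage_eq_inter_range, Scheme.Opens.range_ι]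
    exact Set.inter_eq_left.mpr hKU'
  have hspre : _root_.IsPreconnected s := by
    rw [← U'.ι.isEmbedding.toIsInducing.isPreconnected_image, hιs]
    exact isPreconnected_connectedComponentIn
  have hval : ∀ p : ↥(U'.toScheme), V.ι.base (f'.base p) = f.base (U'.ι.base p) := by
    intro p
    have := congrArg (fun φ => φ.base p) hfι
    simpa only [Scheme.Hom.comp_base, TopCat.hom_comp, ContinuousMap.comp_apply] using this
  have hvalg : ∀ v : ↥(V.toScheme), U'.ι.base (g'.base v) = g.base (V.ι.base v) := by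
    intro v
    have := congrArg (fun φ => φ.base v) hgι
    simpa only [Scheme.Hom.comp_base, TopCat.hom_comp, ContinuousMap.comp_apply] using this
  have hs_sub : s ⊆ f'.base ⁻¹' {y'} := by
    intro p hp
    apply V.ι.isEmbedding.injective
    rw [hval, hy'eq]
    exact (hK hp).2
  have hg'y's : g'.base y' ∈ s := by
    change U'.ι.base (g'.base y') ∈ K
    rw [hvalg, hy'eq]
    exact mem_connectedComponentIn ⟨haU₀, haF⟩
  have hx's : x' ∈ s := by
    change U'.ι.base x' ∈ K
    rw [hx'eq]; exact hxU₀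
  have hx'C : x' ∈ connectedComponentIn (f'.base ⁻¹' {y'}) (g'.base y') :=
    hspre.subset_connectedComponentIn hg'y's hs_sub hx's
  have hy' : ∀ x'' ∈ connectedComponentIn (f'.base ⁻¹' {y'}) (g'.base y'),
      EGA43.IsUnivOpenAt f' x'' ∧
        FBase.IsGeomReducedAt (f'.fiberToSpecResidueField (f'.base x'')) (f'.asFiber x'') := by
    intro x'' hx''
    have h1 := image_connectedComponentIn_subset f g f' g' U'.ι V.ι hfι hg' hgι y'
      ⟨x'', hx'', rfl⟩
    rw [hy'eq] at h1
    obtain ⟨ho, hr⟩ := hy (U'.ι.base x'') h1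
    constructor
    · have h2 : EGA43.IsUnivOpenAt (U'.ι ≫ f) x'' :=
        Groth.Agent.S4925.result U'.ι f x'' (fun Y' g p _ =>
          Groth.Agent.Lib.Helper24.isOpenAt_of_isOpenMap
            (pullback.snd U'.ι g).isOpenEmbedding.isOpenMap p) ho
      rw [← hfι] at h2
      exact Groth.Agent.Lib.Helper24.isUnivOpenAt_of_isPullback h2 (isPullback_of_mono f' V.ι)
        x'' rfl
    · have h3 : x'' ∈ locus f' := by
        rw [← locus_comp_of_mono f' V.ι, hfι, locus_comp_of_etale]
        exact hr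
      exact h3
  haveI : NoetherianSpace ↥(U'.toScheme) := hU'n
  have hqc := subset_interior_of_noetherianSpace f' g' hg' y' hy' hx'C
  rw [mem_interior_iff_mem_nhds] at hqc ⊢
  have h5 := U'.ι.isOpenEmbedding.isOpenMap.image_mem_nhds hqc
  rw [hx'eq] at h5
  exact Filter.mem_of_superset h5
    (image_sectionComponents_subset f g f' g' U'.ι V.ι hfι hg' hgι)

end Groth.Agent.Lib.Helper12.SectionNbhd
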