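import Mathlib
import Groth.Agent.Lib.Helper84.LocalFlat

/-!
# Change of rings for `Tor₁(-, M)` without `Tor` (helper12)

Let `I ⊆ R` be an ideal and `M` an `R`-module with `M / I M` flat over `R / I`.
Write `K = ker (I ⊗ M → R ⊗ M)` (this is `Tor₁(R/I, M)`).  For an `R`-module `X` the kernel of
`(I X) ⊗ M → X ⊗ M` (the image of `Tor₁(X / I X, M)`) is generated by the images of `K` under the
maps `I ⊗ M → (I X) ⊗ M`, `i ⊗ m ↦ (i x) ⊗ m`.

The submodule `I X` is presented abstractly as an injection `j : Y → X` together with a bilinear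
`ν : X → I → Y` lifting `(x, i) ↦ i • x`.
-/

set_option autoImplicit false
open TensorProduct

namespace Groth.Agent.Lib.Helper12.TorChange

variable {R : Type*} [CommRing R] (I : Ideal R) (M : Type*) [AddCommGroup M] [Module R M]

theorem ker_rTensor_le_span_aux [Module.Flat (R ⧸ I) ((R ⧸ I) ⊗[R] M)]
    {X Y : Type*} [AddCommGroup X] [Module R X] [AddCommGroup Y] [Module R Y]
    (j : Y →ₗ[R] X) (hj : Function.Injective j)
    (ν : X →ₗ[R] I →ₗ[R] Y) (hν : ∀ x i, j (ν x i) = (i : R) • x)
    (hr : ∀ y, j y ∈ I • (⊤ : Submodule R X))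
    {F : Type*} [AddCommGroup F] [Module R F] [Module.Flat R F] (π : F →ₗ[R] X)
    (hπ : Function.Surjective π) :
    LinearMap.ker (j.rTensor M) ≤
      Submodule.span R {z | ∃ x, ∃ k ∈ LinearMap.ker (I.subtype.rTensor M),
        (ν x).rTensor M k = z} := by
  classical
  intro z hz
  rw [LinearMap.mem_ker] at hz
  let σ : F ⊗[R] I →ₗ[R] Y := TensorProduct.lift (ν ∘ₗ π)
  have hσ_tmul : ∀ e i, σ (e ⊗ₜ i) = ν (π e) i := fun e i => by simp [σ]
  let ιF : F ⊗[R] I →ₗ[R] F := (TensorProduct.rid R F).toLinearMap ∘ₗ I.subtype.lTensor F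
  have hιF_tmul : ∀ e (i : I), ιF (e ⊗ₜ i) = (i : R) • e := fun e i => by simp [ιF]
  have hιF : Function.Injective ιF := by
    refine (TensorProduct.rid R F).injective.comp ?_
    exact Module.Flat.lTensor_preserves_injective_linearMap (M := F) I.subtype
      Subtype.val_injective
  have hcomm : j ∘ₗ σ = π ∘ₗ ιF := by
    ext e i
    simp only [TensorProduct.AlgebraTensorModule.curry_apply, TensorProduct.curry_apply,
      LinearMap.coe_restrictScalars, LinearMap.comp_apply, hσ_tmul, hιF_tmul, hν, map_smul]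
  -- σ is surjective
  have hσ : Function.Surjective σ := by
    intro y
    have key : ∀ v ∈ I • (⊤ : Submodule R X), ∃ c, j (σ c) = v := by
      intro v hv
      refine Submodule.smul_induction_on hv ?_ ?_
      · intro i hi x _
        obtain ⟨e, rfl⟩ := hπ x
        exact ⟨e ⊗ₜ ⟨i, hi⟩, by rw [hσ_tmul, hν]⟩
      · rintro v w ⟨c, hc⟩ ⟨d, hd⟩
        exact ⟨c + d, by rw [map_add, map_add, hc, hd]⟩
    obtain ⟨c, hc⟩ := key (j y) (hr y)
    exact ⟨c, hj hc⟩
  -- step 1 : lift z
  obtain ⟨z1, hz1⟩ := LinearMap.rTensor_surjective M hσ z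
  -- step 2
  set y := ιF.rTensor M z1 with hy
  have hy0 : π.rTensor M y = 0 := by
    rw [hy, ← LinearMap.comp_apply, ← LinearMap.rTensor_comp, ← hcomm, LinearMap.rTensor_comp,
      LinearMap.comp_apply, hz1, hz]
  -- step 3
  let L : Submodule R F := LinearMap.ker π
  have hex1 : Function.Exact (L.subtype.rTensor M) (π.rTensor M) :=
    rTensor_exact M (LinearMap.exact_subtype_ker_map π) hπ
  obtain ⟨l, hl⟩ := (hex1 y).1 hy0
  -- step 4
  let IF : Submodule R F := I • ⊤
  let q : F →ₗ[R] F ⧸ IF := IF.mkQ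
  have hqι : q ∘ₗ ιF = 0 := by
    ext e i
    simp only [TensorProduct.AlgebraTensorModule.curry_apply, TensorProduct.curry_apply,
      LinearMap.coe_restrictScalars, LinearMap.comp_apply, hιF_tmul, LinearMap.zero_apply]
    change Submodule.Quotient.mk _ = 0
    rw [Submodule.Quotient.mk_eq_zero]
    exact Submodule.smul_mem_smul i.2 Submodule.mem_top
  have hqy : q.rTensor M y = 0 := by
    rw [hy, ← LinearMap.comp_apply, ← LinearMap.rTensor_comp, hqι, LinearMap.rTensor_zero,
      LinearMap.zero_apply]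
  -- step 5
  let L' : Submodule R L := IF.comap L.subtype
  let qL : L →ₗ[R] L ⧸ L' := L'.mkQ
  let ιbar : L ⧸ L' →ₗ[R] F ⧸ IF := L'.mapQ IF L.subtype le_rfl
  have hιbar : Function.Injective ιbar := by
    rw [injective_iff_map_eq_zero]
    intro x hx
    obtain ⟨l0, rfl⟩ := Submodule.Quotient.mk_surjective _ x
    rw [Submodule.mapQ_apply, Submodule.Quotient.mk_eq_zero] at hx
    rw [Submodule.Quotient.mk_eq_zero]
    exact hx
  have hιq : ιbar ∘ₗ qL = q ∘ₗ L.subtype := by
    ext x
    rfl
  -- step 6 : torsion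
  have tF : Module.IsTorsionBySet R (F ⧸ IF) (I : Set R) := by
    intro x c
    obtain ⟨e, rfl⟩ := Submodule.Quotient.mk_surjective _ x
    rw [← Submodule.Quotient.mk_smul, Submodule.Quotient.mk_eq_zero]
    exact Submodule.smul_mem_smul c.2 Submodule.mem_top
  have tL : Module.IsTorsionBySet R (L ⧸ L') (I : Set R) := by
    intro x c
    obtain ⟨e, rfl⟩ := Submodule.Quotient.mk_surjective _ x
    rw [← Submodule.Quotient.mk_smul, Submodule.Quotient.mk_eq_zero]
    change ((c : R) • e : L).1 ∈ IF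
    exact Submodule.smul_mem_smul c.2 Submodule.mem_top
  -- step 7
  have hinj : Function.Injective (ιbar.rTensor M) :=
    Groth.Agent.Lib.Helper84.rTensor_injective_of_flat_quotient_of_torsion I M tL tF ιbar hιbar
  have hql : qL.rTensor M l = 0 := by
    apply hinj
    rw [← LinearMap.comp_apply, ← LinearMap.rTensor_comp, hιq, LinearMap.rTensor_comp,
      LinearMap.comp_apply, hl, hqy, map_zero]
  -- step 8
  have hex2 : Function.Exact (L'.subtype.rTensor M) (qL.rTensor M) :=
    rTensor_exact M (LinearMap.exact_subtype_mkQ L') (Submodule.mkQ_surjective L')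
  obtain ⟨l', hl'⟩ := (hex2 l).1 hql
  -- step 9
  have hrange : ∀ x : L', ((x : L) : F) ∈ LinearMap.range ιF := by
    intro x
    have hx : ((x : L) : F) ∈ IF := x.2
    refine Submodule.smul_induction_on hx ?_ ?_
    · intro i hi e _
      exact ⟨e ⊗ₜ ⟨i, hi⟩, hιF_tmul _ _⟩
    · intro v w hv hw
      exact Submodule.add_mem _ hv hw
  let τ : L' →ₗ[R] F ⊗[R] I :=
    (LinearEquiv.ofInjective ιF hιF).symm.toLinearMap ∘ₗ
      LinearMap.codRestrict (LinearMap.range ιF) (L.subtype ∘ₗ L'.subtype) hrange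
  have hιτ : ιF ∘ₗ τ = L.subtype ∘ₗ L'.subtype := by
    ext x
    simp only [τ, LinearMap.comp_apply, LinearEquiv.coe_coe]
    rw [LinearEquiv.ofInjective_symm_apply]
    rfl
  have hστ : σ ∘ₗ τ = 0 := by
    ext x
    apply hj
    have h1 := LinearMap.congr_fun hcomm (τ x)
    have h2 := LinearMap.congr_fun hιτ x
    simp only [LinearMap.comp_apply] at h1 h2
    rw [LinearMap.comp_apply, h1, h2, LinearMap.zero_apply, map_zero]
    exact (x : L).2
  -- step 10
  set z2 := z1 - τ.rTensor M l' with hz2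
  have hz2σ : σ.rTensor M z2 = z := by
    rw [hz2, map_sub, hz1, ← LinearMap.comp_apply, ← LinearMap.rTensor_comp, hστ,
      LinearMap.rTensor_zero, LinearMap.zero_apply, sub_zero]
  have hz2ι : ιF.rTensor M z2 = 0 := by
    rw [hz2, map_sub, ← hy, ← LinearMap.comp_apply (ιF.rTensor M), ← LinearMap.rTensor_comp, hιτ,
      LinearMap.rTensor_comp, LinearMap.comp_apply, hl', hl, sub_self]
  -- step 11
  let α := TensorProduct.assoc R F I M
  let u : I ⊗[R] M →ₗ[R] M := (TensorProduct.lid R M).toLinearMap ∘ₗ I.subtype.rTensor M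
  have hu : ∀ t, u t = 0 ↔ I.subtype.rTensor M t = 0 := fun t => by
    simp only [u, LinearMap.comp_apply, LinearEquiv.coe_coe,
      LinearEquiv.map_eq_zero_iff]
  have hα : ιF.rTensor M = u.lTensor F ∘ₗ α.toLinearMap := by
    ext e i m
    simp only [TensorProduct.AlgebraTensorModule.curry_apply, TensorProduct.curry_apply,
      LinearMap.coe_restrictScalars, LinearMap.comp_apply, LinearMap.rTensor_tmul, hιF_tmul,
      LinearEquiv.coe_coe, α, TensorProduct.assoc_tmul, LinearMap.lTensor_tmul, u,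
      Submodule.subtype_apply, TensorProduct.lid_tmul]
    rw [TensorProduct.smul_tmul]
  -- step 12
  let K : Submodule R (I ⊗[R] M) := LinearMap.ker u
  have h0 : Function.Exact K.subtype u := LinearMap.exact_subtype_ker_map u
  have hex3 : Function.Exact (K.subtype.lTensor F) (u.lTensor F) := by
    have := Module.Flat.lTensor_exact F (N := K) (N' := I ⊗[R] M) (N'' := M) (f := K.subtype)
      (g := u) h0
    exact this
  have hαz : u.lTensor F (α z2) = 0 := by
    have := LinearMap.congr_fun hα z2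
    rw [hz2ι] at this
    exact this.symm
  obtain ⟨c, hc⟩ := (hex3 (α z2)).1 hαz
  -- step 13
  have hpure : ∀ (e : F) (t : I ⊗[R] M), σ.rTensor M (α.symm (e ⊗ₜ t)) = (ν (π e)).rTensor M t := by
    intro e t
    induction t using TensorProduct.induction_on with
    | zero => simp
    | tmul i m => simp [α, hσ_tmul]
    | add a b ha hb => rw [TensorProduct.tmul_add, map_add, map_add, ha, hb, map_add]
  have hfinal : ∀ c : F ⊗[R] K, σ.rTensor M (α.symm (K.subtype.lTensor F c)) ∈
      Submodule.span R {z | ∃ x, ∃ k ∈ LinearMap.ker (I.subtype.rTensor M),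
        (ν x).rTensor M k = z} := by
    intro c
    induction c using TensorProduct.induction_on with
    | zero => simp
    | tmul e k =>
      rw [LinearMap.lTensor_tmul, hpure]
      refine Submodule.subset_span ⟨π e, k.1, ?_, rfl⟩
      rw [LinearMap.mem_ker, ← hu]
      exact k.2
    | add a b ha hb =>
      rw [map_add, map_add, map_add]
      exact Submodule.add_mem _ ha hb
  have := hfinal c
  rwa [hc, LinearEquiv.symm_apply_apply, hz2σ] at this

theorem ker_rTensor_le_span [Module.Flat (R ⧸ I) ((R ⧸ I) ⊗[R] M)]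
    {X Y : Type*} [AddCommGroup X] [Module R X] [AddCommGroup Y] [Module R Y]
    (j : Y →ₗ[R] X) (hj : Function.Injective j)
    (ν : X →ₗ[R] I →ₗ[R] Y) (hν : ∀ x i, j (ν x i) = (i : R) • x)
    (hr : ∀ y, j y ∈ I • (⊤ : Submodule R X)) :
    LinearMap.ker (j.rTensor M) ≤
      Submodule.span R {z | ∃ x, ∃ k ∈ LinearMap.ker (I.subtype.rTensor M),
        (ν x).rTensor M k = z} :=
  ker_rTensor_le_span_aux I M j hj ν hν hr (F := X →₀ R) (Finsupp.linearCombination R id)
    (Finsupp.linearCombination_id_surjective R X)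

end Groth.Agent.Lib.Helper12.TorChange
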