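import Mathlib
import Groth.Agent.Lib.Helper12.TorChange
import Groth.Agent.Lib.Helper12.FourTermFlat
import Groth.Agent.Lib.Helper12.NagataFP

/-!
# Gluing flatness and finite presentation over a semi-valuation ring (helper12)

Let `O` be a ring, `m ⊆ O` an ideal and `O → A` an injective ring map such that `m` is (the image
of) an ideal of `A`, every element of `O ∖ m` becomes a unit of `A`, and `O ⧸ m` is a valuation
ring.  (Example: `A` local with residue field `K`, `R ⊆ K` a valuation ring, `O` the preimage of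
`R`, `m = 𝔪_A`.)  If `C` is an `O`-algebra of finite type with `C → A ⊗ C` injective and `A ⊗ C`
flat and finitely presented over `A`, then `C` is flat and finitely presented over `O`.
-/

set_option autoImplicit false
universe u
open TensorProduct

namespace Groth.Agent.Lib.Helper12.SemiVal

section LemmaB
variable {O A : Type*} [CommRing O] [CommRing A] [Algebra O A]
  (N : Type*) [AddCommGroup N] [Module O N] [Module.Flat A (A ⊗[O] N)]
  {J J' : Type*} [AddCommGroup J] [Module A J] [Module O J] [IsScalarTower O A J]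
  [AddCommGroup J'] [Module A J'] [Module O J'] [IsScalarTower O A J']

/-- If `A ⊗_O N` is `A`-flat, then `- ⊗_O N` preserves injectivity of `A`-linear maps. -/
theorem rTensor_injective_of_flat_baseChange (j : J →ₗ[A] J') (hj : Function.Injective j) :
    Function.Injective ((j.restrictScalars O).rTensor N) := by
  let e := TensorProduct.AlgebraTensorModule.cancelBaseChange O A A J N
  let e' := TensorProduct.AlgebraTensorModule.cancelBaseChange O A A J' N
  have hflat : Function.Injective (j.rTensor (A ⊗[O] N)) :=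
    Module.Flat.rTensor_preserves_injective_linearMap j hj
  have hcomm : ∀ t, e' (j.rTensor (A ⊗[O] N) t) = (j.restrictScalars O).rTensor N (e t) := by
    intro t
    induction t using TensorProduct.induction_on with
    | zero => simp
    | tmul x y =>
      induction y using TensorProduct.induction_on with
      | zero => simp
      | tmul a n => simp [e, e']
      | add y₁ y₂ h₁ h₂ => simp only [tmul_add, map_add, h₁, h₂]
    | add t₁ t₂ h₁ h₂ => simp only [map_add, h₁, h₂]
  intro z₁ z₂ h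
  obtain ⟨t₁, rfl⟩ := e.surjective z₁
  obtain ⟨t₂, rfl⟩ := e.surjective z₂
  rw [← hcomm, ← hcomm] at h
  rw [hflat (e'.injective h)]

end LemmaB

section LemmaG
variable {O : Type u} [CommRing O] (m : Ideal O) (M : Type u) [AddCommGroup M] [Module O M]

/-- Gluing lemma: flatness over `O` from flatness modulo `m`, vanishing of `Tor₁(O/m, M)` and
enough ideals `X` with `X ⊗ M → M` injective. -/
theorem flat_of_glue [Module.Flat (O ⧸ m) ((O ⧸ m) ⊗[O] M)]
    (h2 : Function.Injective (m.subtype.rTensor M))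
    (h3 : ∀ I : Ideal O, ∃ X : Ideal O, I ≤ X ∧ m * X ≤ I ∧
      Function.Injective (X.subtype.rTensor M)) :
    Module.Flat O M := by
  rw [Module.Flat.iff_rTensor_injective']
  intro I
  obtain ⟨X, hIX, hmX, hX⟩ := h3 I
  have hfac : I.subtype = X.subtype ∘ₗ Submodule.inclusion hIX := by ext; rfl
  rw [hfac, LinearMap.rTensor_comp]
  refine hX.comp ?_
  let Y : Submodule O X := m • ⊤
  have hYI' : ∀ y : X, y ∈ Y → (y : O) ∈ I := by
    intro y hy
    refine Submodule.smul_induction_on (p := fun y : X => (y : O) ∈ I) hy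
      (fun a ha x _ => ?_) (fun a b ha hb => ?_)
    · exact hmX (Ideal.mul_mem_mul ha x.2)
    · exact I.add_mem ha hb
  have hYI : ∀ y : Y, (X.subtype ∘ₗ Y.subtype) y ∈ I := fun y => hYI' y.1 y.2
  let α : Y →ₗ[O] I := LinearMap.codRestrict I (X.subtype ∘ₗ Y.subtype) hYI
  have hαj : Submodule.inclusion hIX ∘ₗ α = Y.subtype := by ext; rfl
  have hstar : Function.Injective (Y.subtype.rTensor M) := by
    let ν : X →ₗ[O] m →ₗ[O] Y := LinearMap.mk₂ O
      (fun x i => ⟨(i : O) • x, Submodule.smul_mem_smul i.2 trivial⟩)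
      (fun x₁ x₂ i => by ext; simp)
      (fun c x i => by ext; simp [mul_left_comm])
      (fun x i₁ i₂ => by ext; simp [add_mul])
      (fun c x i => by ext; simp [mul_assoc])
    have key := Groth.Agent.Lib.Helper12.TorChange.ker_rTensor_le_span m M Y.subtype
      Subtype.val_injective ν (fun x i => rfl) (fun y => y.2)
    have hle : Submodule.span O {z | ∃ x, ∃ k ∈ LinearMap.ker (m.subtype.rTensor M),
        (ν x).rTensor M k = z} ≤ ⊥ := by
      rw [Submodule.span_le]
      rintro z ⟨x, k, hk, rfl⟩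
      have hk0 : k = 0 := by
        rw [LinearMap.mem_ker] at hk
        exact h2 (hk.trans (map_zero _).symm)
      simp [hk0]
    refine (injective_iff_map_eq_zero _).mpr fun z hz => ?_
    have hz' : z ∈ LinearMap.ker (Y.subtype.rTensor M) := hz
    exact (Submodule.mem_bot O).mp (hle (key hz'))
  let π : X →ₗ[O] (X ⧸ Y) := Y.mkQ
  let W : Submodule (O ⧸ m) (X ⧸ Y) :=
    { carrier := {q | ∃ i : I, π (Submodule.inclusion hIX i) = q}
      add_mem' := by
        rintro _ _ ⟨i, rfl⟩ ⟨i', rfl⟩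
        exact ⟨i + i', by simp⟩
      zero_mem' := ⟨0, by simp⟩
      smul_mem' := by
        rintro c _ ⟨i, rfl⟩
        obtain ⟨c, rfl⟩ := Ideal.Quotient.mk_surjective c
        exact ⟨c • i, by simp only [map_smul]; rfl⟩ }
  let β : I →ₗ[O] W :=
    { toFun := fun i => ⟨π (Submodule.inclusion hIX i), i, rfl⟩
      map_add' := fun i i' => by ext; simp
      map_smul' := fun c i => by ext; simp }
  have hβsurj : Function.Surjective β := by
    rintro ⟨_, i, rfl⟩
    exact ⟨i, rfl⟩
  have hex : Function.Exact α β := by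
    intro i
    constructor
    · intro hi
      have h1 : π (Submodule.inclusion hIX i) = 0 := congrArg Subtype.val hi
      have h2 : Submodule.inclusion hIX i ∈ Y := (Submodule.Quotient.mk_eq_zero Y).mp h1
      exact ⟨⟨_, h2⟩, Subtype.ext rfl⟩
    · rintro ⟨y, rfl⟩
      apply Subtype.ext
      change π (Submodule.inclusion hIX (α y)) = 0
      have : Submodule.inclusion hIX (α y) = (y : X) := Subtype.ext rfl
      rw [this]
      exact (Submodule.Quotient.mk_eq_zero Y).mpr y.2
  have hδ : Function.Injective ((W.subtype.restrictScalars O).rTensor M) :=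
    rTensor_injective_of_flat_baseChange (O := O) (A := O ⧸ m) M W.subtype Subtype.val_injective
  have hcommδ : (W.subtype.restrictScalars O) ∘ₗ β = π ∘ₗ Submodule.inclusion hIX := by
    ext; rfl
  have hex' := rTensor_exact M hex hβsurj
  refine (injective_iff_map_eq_zero _).mpr fun z hz => ?_
  have h1 : ((W.subtype.restrictScalars O).rTensor M) (β.rTensor M z) = 0 := by
    rw [← LinearMap.comp_apply, ← LinearMap.rTensor_comp, hcommδ, LinearMap.rTensor_comp,
      LinearMap.comp_apply]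
    change (π.rTensor M) ((Submodule.inclusion hIX).rTensor M z) = 0
    rw [hz, map_zero]
  have h2 : β.rTensor M z = 0 := hδ (h1.trans (map_zero _).symm)
  obtain ⟨y, rfl⟩ := (hex' z).mp h2
  have h3 : (Y.subtype.rTensor M) y = 0 := by
    rw [← hαj, LinearMap.rTensor_comp, LinearMap.comp_apply]
    exact hz
  rw [hstar (h3.trans (map_zero _).symm), map_zero]

end LemmaG

section Setting
variable {O A : Type u} [CommRing O] [CommRing A] [Algebra O A]
  (hinj : Function.Injective (algebraMap O A)) (m : Ideal O)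
  (H2 : ∀ (a : A), ∀ x ∈ m, ∃ y ∈ m, algebraMap O A y = a * algebraMap O A x)
  (H3 : ∀ s, s ∉ m → IsUnit (algebraMap O A s))

include hinj H2 H3 in
lemma exists_eq_mul {s : O} (hs : s ∉ m) {a : O} (ha : a ∈ m) : ∃ a' ∈ m, a = s * a' := by
  obtain ⟨u, hu⟩ := H3 s hs
  obtain ⟨y, hy, hy'⟩ := H2 (↑u⁻¹) a ha
  refine ⟨y, hy, hinj ?_⟩
  rw [map_mul, hy', ← hu, ← mul_assoc, Units.mul_inv, one_mul]

include H2 in
lemma exists_of_mem_map {I : Ideal O} (hI : I ≤ m) {a : A} (ha : a ∈ I.map (algebraMap O A)) :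
    ∃ x ∈ m, algebraMap O A x = a := by
  refine Submodule.span_induction (p := fun a _ => ∃ x ∈ m, algebraMap O A x = a)
    ?_ ?_ ?_ ?_ ha
  · rintro _ ⟨i, hi, rfl⟩
    exact ⟨i, hI hi, rfl⟩
  · exact ⟨0, m.zero_mem, map_zero _⟩
  · rintro _ _ _ _ ⟨x, hx, rfl⟩ ⟨y, hy, rfl⟩
    exact ⟨x + y, m.add_mem hx hy, map_add _ _ _⟩
  · rintro c _ _ ⟨x, hx, rfl⟩
    obtain ⟨y, hy, hy'⟩ := H2 c x hx
    exact ⟨y, hy, by rw [hy', smul_eq_mul]⟩

include hinj H2 in
lemma comap_map_le {I : Ideal O} (hI : I ≤ m) :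
    (I.map (algebraMap O A)).comap (algebraMap O A) ≤ m := by
  intro x hx
  obtain ⟨y, hy, hy'⟩ := exists_of_mem_map m H2 hI (Ideal.mem_comap.mp hx)
  rwa [← hinj hy']

include hinj H2 in
lemma comap_map_self : (m.map (algebraMap O A)).comap (algebraMap O A) = m :=
  le_antisymm (comap_map_le hinj m H2 le_rfl) Ideal.le_comap_map

include hinj H2 in
lemma mul_comap_map_le (I : Ideal O) :
    m * (I.map (algebraMap O A)).comap (algebraMap O A) ≤ I := by
  have key : ∀ b ∈ I.map (algebraMap O A), ∀ a ∈ m, ∃ i ∈ I, algebraMap O A i =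
      algebraMap O A a * b := by
    intro b hb
    refine Submodule.span_induction (p := fun b _ => ∀ a ∈ m, ∃ i ∈ I, algebraMap O A i =
      algebraMap O A a * b) ?_ ?_ ?_ ?_ hb
    · rintro _ ⟨i, hi, rfl⟩ a _
      exact ⟨a * i, I.mul_mem_left a hi, map_mul _ _ _⟩
    · intro a _
      exact ⟨0, I.zero_mem, by simp⟩
    · intro b₁ b₂ _ _ h₁ h₂ a ha
      obtain ⟨i₁, hi₁, e₁⟩ := h₁ a ha
      obtain ⟨i₂, hi₂, e₂⟩ := h₂ a ha
      exact ⟨i₁ + i₂, I.add_mem hi₁ hi₂, by rw [map_add, e₁, e₂, mul_add]⟩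
    · intro c b _ h a ha
      obtain ⟨a', ha', e'⟩ := H2 c a ha
      obtain ⟨i, hi, e⟩ := h a' ha'
      exact ⟨i, hi, by rw [e, e', smul_eq_mul]; ring⟩
  rw [Ideal.mul_le]
  intro a ha x hx
  obtain ⟨i, hi, e⟩ := key _ (Ideal.mem_comap.mp hx) a ha
  have : a * x = i := hinj (by rw [e, map_mul])
  rwa [this]

variable (M : Type u) [AddCommGroup M] [Module O M] [Module.Flat A (A ⊗[O] M)]

include hinj H2 in
/-- Lemma C. -/
lemma rTensor_comap_map_injective {I : Ideal O} (hI : I ≤ m) :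
    Function.Injective
      (((I.map (algebraMap O A)).comap (algebraMap O A)).subtype.rTensor M) := by
  set 𝔞 : Ideal A := I.map (algebraMap O A) with h𝔞
  set X : Ideal O := 𝔞.comap (algebraMap O A) with hX
  let e₀ : X →ₗ[O] 𝔞 :=
    { toFun := fun x => ⟨algebraMap O A x, x.2⟩
      map_add' := fun x y => by ext; simp
      map_smul' := fun c x => by ext; simp [Algebra.smul_def] }
  have he₀ : Function.Bijective e₀ := by
    constructor
    · intro x y hxy
      exact Subtype.ext (hinj (congrArg Subtype.val hxy))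
    · rintro ⟨a, ha⟩
      obtain ⟨x, _, rfl⟩ := exists_of_mem_map m H2 hI ha
      exact ⟨⟨x, ha⟩, rfl⟩
  let e : X ≃ₗ[O] 𝔞 := LinearEquiv.ofBijective e₀ he₀
  have hbot : Function.Injective ((𝔞.subtype.restrictScalars O).rTensor M) :=
    rTensor_injective_of_flat_baseChange (O := O) (A := A) M 𝔞.subtype Subtype.val_injective
  have hsq : (𝔞.subtype.restrictScalars O) ∘ₗ e.toLinearMap =
      (Algebra.linearMap O A) ∘ₗ X.subtype := by
    ext; rfl
  have heM : Function.Injective (e.toLinearMap.rTensor M) :=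
    (TensorProduct.congr e (LinearEquiv.refl O M)).injective
  refine (injective_iff_map_eq_zero _).mpr fun z hz => ?_
  have h1 : ((𝔞.subtype.restrictScalars O).rTensor M) (e.toLinearMap.rTensor M z) = 0 := by
    rw [← LinearMap.comp_apply, ← LinearMap.rTensor_comp, hsq, LinearMap.rTensor_comp,
      LinearMap.comp_apply, hz, map_zero]
  exact heM ((hbot (h1.trans (map_zero _).symm)).trans (map_zero _).symm)

end Setting

section Flat
variable {O A : Type u} [CommRing O] [CommRing A] [Algebra O A]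
  (hinj : Function.Injective (algebraMap O A)) (m : Ideal O)
  (H2 : ∀ (a : A), ∀ x ∈ m, ∃ y ∈ m, algebraMap O A y = a * algebraMap O A x)
  (H3 : ∀ s, s ∉ m → IsUnit (algebraMap O A s))
  (M : Type u) [AddCommGroup M] [Module O M]
  (hadm : Function.Injective (TensorProduct.mk O A M 1))

include H3 hadm in
lemma eq_zero_of_smul_eq_zero {s : O} (hs : s ∉ m) {x : M} (hx : s • x = 0) : x = 0 := by
  apply hadm
  rw [map_zero]
  obtain ⟨u, hu⟩ := H3 s hs
  have h0 : (1 : A) ⊗ₜ[O] (s • x) = 0 := by rw [hx, tmul_zero]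
  have h1 : (algebraMap O A s) • ((1 : A) ⊗ₜ[O] x) = (1 : A) ⊗ₜ[O] (s • x) := by
    rw [TensorProduct.smul_tmul', smul_eq_mul, mul_one, TensorProduct.tmul_smul,
      TensorProduct.smul_tmul', Algebra.smul_def, mul_one]
  have h2 : (u : A) • ((1 : A) ⊗ₜ[O] x) = 0 := by rw [hu, h1, h0]
  have h3 : ((u⁻¹ : Aˣ) : A) • ((u : A) • ((1 : A) ⊗ₜ[O] x)) = (1 : A) ⊗ₜ[O] x := by
    rw [← mul_smul, Units.inv_mul, one_smul]
  change (1 : A) ⊗ₜ[O] x = 0
  rw [← h3, h2, smul_zero]

include hinj H2 H3 hadm in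
lemma flat_quotient [IsDomain (O ⧸ m)] [IsBezout (O ⧸ m)] :
    Module.Flat (O ⧸ m) ((O ⧸ m) ⊗[O] M) := by
  rw [Module.Flat.flat_iff_torsion_eq_bot_of_isBezout, eq_bot_iff]
  intro z hz
  rw [Submodule.mem_torsion_iff] at hz
  obtain ⟨⟨r, hr⟩, hrz⟩ := hz
  rw [Submodule.mem_bot]
  obtain ⟨s, rfl⟩ := Ideal.Quotient.mk_surjective r
  have hs : s ∉ m := fun h =>
    (nonZeroDivisors.ne_zero hr) (Ideal.Quotient.eq_zero_iff_mem.mpr h)
  let e := TensorProduct.quotTensorEquivQuotSMul M m
  obtain ⟨y, hy⟩ := Submodule.Quotient.mk_surjective _ (e z)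
  have hz1 : z = (1 : O ⧸ m) ⊗ₜ[O] y := by
    rw [← e.symm_apply_apply z, ← hy]
    rfl
  subst hz1
  have h1 : e (Ideal.Quotient.mk m s • ((1 : O ⧸ m) ⊗ₜ[O] y)) =
      Submodule.Quotient.mk (s • y) := by
    rw [TensorProduct.smul_tmul', smul_eq_mul, mul_one,
      TensorProduct.quotTensorEquivQuotSMul_mk_tmul]
  have h2 : s • y ∈ m • (⊤ : Submodule O M) := by
    rw [← Submodule.Quotient.mk_eq_zero, ← h1]
    change e (Ideal.Quotient.mk m s • ((1 : O ⧸ m) ⊗ₜ[O] y)) = 0
    have : Ideal.Quotient.mk m s • ((1 : O ⧸ m) ⊗ₜ[O] y) = 0 := hrz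
    rw [this, map_zero]
  have hdiv : ∀ w ∈ m • (⊤ : Submodule O M), ∃ w' ∈ m • (⊤ : Submodule O M), w = s • w' := by
    intro w hw
    refine Submodule.smul_induction_on hw ?_ ?_
    · intro a ha x _
      obtain ⟨a', ha', rfl⟩ := exists_eq_mul hinj m H2 H3 hs ha
      exact ⟨a' • x, Submodule.smul_mem_smul ha' trivial, mul_smul _ _ _⟩
    · rintro _ _ ⟨w₁, hw₁, rfl⟩ ⟨w₂, hw₂, rfl⟩
      exact ⟨w₁ + w₂, Submodule.add_mem _ hw₁ hw₂, (smul_add _ _ _).symm⟩
  obtain ⟨y', hy', hyy'⟩ := hdiv _ h2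
  have h3 : y - y' = 0 := eq_zero_of_smul_eq_zero m H3 M hadm hs (by rw [smul_sub, hyy', sub_self])
  have h4 : y ∈ m • (⊤ : Submodule O M) := by rwa [sub_eq_zero.mp h3]
  have h5 : e ((1 : O ⧸ m) ⊗ₜ[O] y) = 0 := by
    rw [TensorProduct.quotTensorEquivQuotSMul_mk_one_tmul]
    exact (Submodule.Quotient.mk_eq_zero _).mpr h4
  exact e.injective (h5.trans (map_zero _).symm)

include hinj H2 H3 hadm in
/-- Flatness over a semi-valuation ring. -/
theorem flat_of_semival [IsDomain (O ⧸ m)] [IsBezout (O ⧸ m)] [Module.Flat A (A ⊗[O] M)] :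
    Module.Flat O M := by
  haveI := flat_quotient hinj m H2 H3 M hadm
  refine flat_of_glue m M ?_ ?_
  · have h := rTensor_comap_map_injective hinj m H2 M (le_refl m)
    rwa [comap_map_self hinj m H2] at h
  · intro I
    by_cases hI : I ≤ m
    · exact ⟨_, Ideal.le_comap_map, mul_comap_map_le hinj m H2 I,
        rTensor_comap_map_injective hinj m H2 M hI⟩
    · refine ⟨⊤, le_top, ?_, ?_⟩
      · obtain ⟨s, hsI, hsm⟩ := Set.not_subset.mp hI
        rw [Ideal.mul_top]
        intro a ha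
        obtain ⟨a', _, rfl⟩ := exists_eq_mul hinj m H2 H3 hsm ha
        exact I.mul_mem_right _ hsI
      · have : (⊤ : Ideal O).subtype =
            (Submodule.topEquiv : (⊤ : Submodule O O) ≃ₗ[O] O).toLinearMap := rfl
        rw [this]
        exact (TensorProduct.congr Submodule.topEquiv (LinearEquiv.refl O M)).injective

end Flat

section FGLift

/-- A finitely generated extension `J.map φ` is already the extension of a finitely generated
subideal of `J`. -/
lemma exists_fg_le_map_eq {P T F : Type*} [CommRing P] [CommRing T] [FunLike F P T]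
    [RingHomClass F P T] (φ : F) (J : Ideal P)
    (h : (J.map φ).FG) : ∃ J₀ : Ideal P, J₀ ≤ J ∧ J₀.FG ∧ J.map φ = J₀.map φ := by
  classical
  have h' : (Submodule.span T (φ '' (J : Set P))).FG := h
  obtain ⟨s', hs', hspan⟩ := (Submodule.fg_span_iff_fg_span_finset_subset _).mp h'
  obtain ⟨G, hG, rfl⟩ := Finset.subset_set_image_iff.mp hs'
  refine ⟨Ideal.span (G : Set P), Ideal.span_le.mpr hG, ⟨G, rfl⟩, ?_⟩
  rw [Ideal.map_span]
  change Submodule.span T (φ '' (J : Set P)) = _
  rw [hspan, Finset.coe_image]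

end FGLift

section FP
variable {O A : Type u} [CommRing O] [CommRing A] [Algebra O A]
  (hinj : Function.Injective (algebraMap O A)) (m : Ideal O)
  (H2 : ∀ (a : A), ∀ x ∈ m, ∃ y ∈ m, algebraMap O A y = a * algebraMap O A x)

include H2 in
/-- multiplication by an element of `m` maps `J₀·(A ⊗ P)` into the image of `J₀`. -/
lemma exists_includeRight_eq {P : Type u} [CommRing P] [Algebra O P] (J₀ : Ideal P)
    {t : A ⊗[O] P}
    (ht : t ∈ J₀.map (Algebra.TensorProduct.includeRight : P →ₐ[O] A ⊗[O] P)) {a : O} (ha : a ∈ m) :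
    ∃ p ∈ J₀, (Algebra.TensorProduct.includeRight : P →ₐ[O] A ⊗[O] P) p =
      (algebraMap O A a ⊗ₜ[O] (1 : P)) * t := by
  have aux : ∀ τ : A ⊗[O] ↥(J₀.restrictScalars O), ∀ a ∈ m, ∃ p ∈ J₀,
      (Algebra.TensorProduct.includeRight : P →ₐ[O] A ⊗[O] P) p =
        (algebraMap O A a ⊗ₜ[O] (1 : P)) *
          (LinearMap.lTensor A (Submodule.subtype (J₀.restrictScalars O))) τ := by
    intro τ
    induction τ using TensorProduct.induction_on with
    | zero =>
      intro a _
      exact ⟨0, J₀.zero_mem, by simp⟩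
    | tmul b g =>
      intro a ha
      obtain ⟨a'', ha'', e⟩ := H2 b a ha
      refine ⟨a'' • (g : P), ?_, ?_⟩
      · rw [Algebra.smul_def]
        exact J₀.mul_mem_left _ g.2
      · rw [LinearMap.lTensor_tmul, Algebra.TensorProduct.tmul_mul_tmul, one_mul, mul_comm, ← e,
          Algebra.TensorProduct.includeRight_apply, Algebra.algebraMap_eq_smul_one,
          TensorProduct.smul_tmul]
        rfl
    | add τ₁ τ₂ h₁ h₂ =>
      intro a ha
      obtain ⟨p₁, hp₁, e₁⟩ := h₁ a ha
      obtain ⟨p₂, hp₂, e₂⟩ := h₂ a ha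
      exact ⟨p₁ + p₂, J₀.add_mem hp₁ hp₂, by rw [map_add, map_add, mul_add, e₁, e₂]⟩
  have ht' : t ∈ (J₀.map (Algebra.TensorProduct.includeRight : P →ₐ[O] A ⊗[O] P)).restrictScalars O :=
    ht
  rw [Ideal.map_includeRight_eq] at ht'
  obtain ⟨τ, rfl⟩ := ht'
  exact aux τ a ha

omit [Algebra O A] in
lemma includeRight_quotient_surjective {P : Type u} [CommRing P] [Algebra O P] :
    Function.Surjective
      (Algebra.TensorProduct.includeRight : P →ₐ[O] (O ⧸ m) ⊗[O] P) := by
  intro z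
  let e := TensorProduct.quotTensorEquivQuotSMul P m
  obtain ⟨y, hy⟩ := Submodule.Quotient.mk_surjective _ (e z)
  refine ⟨y, ?_⟩
  rw [← e.symm_apply_apply z, ← hy]
  rfl

omit [Algebra O A] in
lemma mem_smul_top_of_includeRight_eq_zero {P : Type u} [CommRing P] [Algebra O P] {x : P}
    (hx : (Algebra.TensorProduct.includeRight : P →ₐ[O] (O ⧸ m) ⊗[O] P) x = 0) :
    x ∈ m • (⊤ : Submodule O P) := by
  let e := TensorProduct.quotTensorEquivQuotSMul P m
  have h1 : e ((1 : O ⧸ m) ⊗ₜ[O] x) = 0 := by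
    have : (1 : O ⧸ m) ⊗ₜ[O] x = 0 := hx
    rw [this, map_zero]
  rw [TensorProduct.quotTensorEquivQuotSMul_mk_one_tmul] at h1
  exact (Submodule.Quotient.mk_eq_zero _).mp h1

include hinj H2 in
/-- Finite presentation over a semi-valuation ring. -/
theorem fp_of_semival [IsDomain (O ⧸ m)] [ValuationRing (O ⧸ m)]
    (C : Type u) [CommRing C] [Algebra O C] [Algebra.FiniteType O C] [Module.Flat O C]
    [Algebra.FinitePresentation A (A ⊗[O] C)] : Algebra.FinitePresentation O C := by
  classical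
  obtain ⟨n, f, hf⟩ := Algebra.FiniteType.iff_quotient_mvPolynomial''.mp
    (inferInstance : Algebra.FiniteType O C)
  refine ⟨n, f, hf, ?_⟩
  set J : Ideal (MvPolynomial (Fin n) O) := RingHom.ker f.toRingHom with hJ
  have hJmem : ∀ p, p ∈ J ↔ f p = 0 := fun p => Iff.rfl
  -- the `A`-side
  let inclA : MvPolynomial (Fin n) O →ₐ[O] A ⊗[O] MvPolynomial (Fin n) O :=
    Algebra.TensorProduct.includeRight
  let gA : A ⊗[O] MvPolynomial (Fin n) O →ₐ[A] A ⊗[O] C :=
    Algebra.TensorProduct.map (AlgHom.id A A) f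
  have hgA : Function.Surjective gA := Algebra.FiniteType.baseChangeAux_surj A hf
  have hkerA : RingHom.ker gA = J.map inclA := Algebra.TensorProduct.lTensor_ker f hf
  have hfgA : (J.map inclA).FG := by
    rw [← hkerA]
    exact Algebra.FinitePresentation.ker_fG_of_surjective gA hgA
  obtain ⟨J₀, hJ₀le, hJ₀fg, hJ₀⟩ := exists_fg_le_map_eq inclA J hfgA
  -- the residue side
  let inclR : MvPolynomial (Fin n) O →ₐ[O] (O ⧸ m) ⊗[O] MvPolynomial (Fin n) O :=
    Algebra.TensorProduct.includeRight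
  let gR : (O ⧸ m) ⊗[O] MvPolynomial (Fin n) O →ₐ[O ⧸ m] (O ⧸ m) ⊗[O] C :=
    Algebra.TensorProduct.map (AlgHom.id (O ⧸ m) (O ⧸ m)) f
  have hgR : Function.Surjective gR := Algebra.FiniteType.baseChangeAux_surj (O ⧸ m) hf
  have hkerR : RingHom.ker gR = J.map inclR := Algebra.TensorProduct.lTensor_ker f hf
  have hfgR : (J.map inclR).FG := by
    rw [← hkerR]
    letI : Algebra ((O ⧸ m) ⊗[O] MvPolynomial (Fin n) O) ((O ⧸ m) ⊗[O] C) :=
      gR.toRingHom.toAlgebra
    haveI : IsScalarTower (O ⧸ m) ((O ⧸ m) ⊗[O] MvPolynomial (Fin n) O) ((O ⧸ m) ⊗[O] C) :=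
      IsScalarTower.of_algebraMap_eq (fun r => (gR.commutes r).symm)
    haveI : Module.Finite ((O ⧸ m) ⊗[O] MvPolynomial (Fin n) O) ((O ⧸ m) ⊗[O] C) :=
      Module.Finite.of_surjective (Algebra.linearMap _ _) hgR
    haveI := Groth.Agent.Lib.Helper12.NagataFP.finitePresentation_of_finiteType (R := O ⧸ m)
      ((O ⧸ m) ⊗[O] MvPolynomial (Fin n) O) ((O ⧸ m) ⊗[O] C)
    exact Module.FinitePresentation.fg_ker
      (Algebra.linearMap ((O ⧸ m) ⊗[O] MvPolynomial (Fin n) O) ((O ⧸ m) ⊗[O] C)) hgR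
  obtain ⟨J₁, hJ₁le, hJ₁fg, hJ₁⟩ := exists_fg_le_map_eq inclR J hfgR
  -- combine
  have hinclA : Function.Injective inclA :=
    Algebra.TensorProduct.includeRight_injective hinj
  have hβ : ∀ a ∈ m, ∀ j ∈ J, a • j ∈ J₀ := by
    intro a ha j hj
    have hmem : inclA j ∈ J₀.map inclA := hJ₀ ▸ Ideal.mem_map_of_mem inclA hj
    obtain ⟨p, hp, e⟩ := exists_includeRight_eq m H2 J₀ hmem ha
    have e2 : inclA p = inclA (a • j) := by
      rw [e]
      change (algebraMap O A a ⊗ₜ[O] (1 : MvPolynomial (Fin n) O)) * ((1 : A) ⊗ₜ[O] j) =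
        (1 : A) ⊗ₜ[O] (a • j)
      rw [Algebra.TensorProduct.tmul_mul_tmul, mul_one, one_mul, Algebra.algebraMap_eq_smul_one,
        TensorProduct.smul_tmul]
    rwa [← hinclA e2]
  have hα : ∀ p ∈ J, ∃ h ∈ J₁, p - h ∈ m • (⊤ : Submodule O (MvPolynomial (Fin n) O)) := by
    intro p hp
    have hmem : inclR p ∈ J₁.map inclR := hJ₁ ▸ Ideal.mem_map_of_mem inclR hp
    obtain ⟨h, hh, e⟩ := (Ideal.mem_map_iff_of_surjective inclR
      (includeRight_quotient_surjective m)).mp hmem
    refine ⟨h, hh, mem_smul_top_of_includeRight_eq_zero m ?_⟩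
    change inclR (p - h) = 0
    rw [map_sub, e, sub_self]
  have hpure : ∀ z ∈ J, z ∈ m • (⊤ : Submodule O (MvPolynomial (Fin n) O)) → z ∈ J₀ := by
    intro z hzJ hz
    have hex : Function.Exact (Submodule.subtype (J.restrictScalars O)) f.toLinearMap := by
      intro x
      constructor
      · intro hx
        exact ⟨⟨x, hx⟩, rfl⟩
      · rintro ⟨y, rfl⟩
        exact y.2
    have hz' : (Submodule.subtype (J.restrictScalars O)) ⟨z, hzJ⟩ ∈
        m.map (algebraMap O O) • (⊤ : Submodule O (MvPolynomial (Fin n) O)) := by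
      rw [Algebra.algebraMap_self, Ideal.map_id]
      exact hz
    have key := Groth.Agent.Lib.Helper12.FourTermFlat.mem_smul_top_of_flat_coker (A := O) (B := O)
      (Submodule.subtype (J.restrictScalars O)) f.toLinearMap Subtype.val_injective hex hf m
      ⟨z, hzJ⟩ hz'
    rw [Algebra.algebraMap_self, Ideal.map_id] at key
    refine Submodule.smul_induction_on
      (p := fun w : ↥(J.restrictScalars O) => (w : MvPolynomial (Fin n) O) ∈ J₀) key ?_ ?_
    · intro a ha w _
      exact hβ a ha w.1 w.2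
    · intro w₁ w₂ h₁ h₂
      exact J₀.add_mem h₁ h₂
  have hJeq : J = J₀ ⊔ J₁ := by
    apply le_antisymm
    · intro p hp
      obtain ⟨h, hh, hph⟩ := hα p hp
      have h1 : p - h ∈ J₀ := hpure _ (J.sub_mem hp (hJ₁le hh)) hph
      have : p = (p - h) + h := by ring
      rw [this]
      exact Submodule.add_mem_sup h1 hh
    · exact sup_le hJ₀le hJ₁le
  rw [hJeq]
  exact Submodule.FG.sup hJ₀fg hJ₁fg

end FP

end Groth.Agent.Lib.Helper12.SemiVal
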