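import Mathlib
import Groth.Agent.Lib.Helper12.TorChange
import Groth.Agent.Lib.Helper98.LocalFlatNilp

/-!
# Flatness after base change when the map on `Tor₁` vanishes (helper12)

Abstract form of Stacks 00MM: `R → R'` a ring map, `I ⊆ R`, `I' = I R'`, `M` an `R`-module with
`M / I M` flat over `R / I`; `T` an `R'`-algebra, `S' = W⁻¹ T`; `P` a `T`-module which is the base
change `R' ⊗[R] M`, and `M' = S' ⊗[T] P`.  If `ker (I ⊗ M → M)` dies in `I' ⊗[R'] M'` then
`M' / I' M'` is flat over `R' / I'` and `I' ⊗[R'] M' → M'` is injective.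
-/

set_option autoImplicit false
open TensorProduct

namespace Groth.Agent.Lib.Helper12.TorBaseChange

section TL
variable {T : Type*} [CommRing T] (W : Submonoid T)
  {N₁ N₂ N₁' N₂' : Type*} [AddCommGroup N₁] [Module T N₁] [AddCommGroup N₂] [Module T N₂]
  [AddCommGroup N₁'] [Module T N₁'] [AddCommGroup N₂'] [Module T N₂']

theorem injective_of_isLocalizedModule (a₁ : N₁ →ₗ[T] N₁') (a₂ : N₂ →ₗ[T] N₂')
    [IsLocalizedModule W a₁] [IsLocalizedModule W a₂]
    (g : N₁ →ₗ[T] N₂) (g' : N₁' →ₗ[T] N₂') (hc : g' ∘ₗ a₁ = a₂ ∘ₗ g)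
    (hk : ∀ z, g z = 0 → a₁ z = 0) : Function.Injective g' := by
  rw [injective_iff_map_eq_zero]
  intro z' hz'
  obtain ⟨⟨z₀, w⟩, hw⟩ := IsLocalizedModule.surj W a₁ z'
  simp only [Submonoid.smul_def] at hw
  have h1 : a₂ (g z₀) = 0 := by
    have := LinearMap.congr_fun hc z₀
    simp only [LinearMap.comp_apply] at this
    rw [← this, ← hw, map_smul, hz', smul_zero]
  obtain ⟨w', hw'⟩ := (IsLocalizedModule.eq_zero_iff W a₂).1 h1
  rw [Submonoid.smul_def] at hw'
  have h2 : a₁ ((w' : T) • z₀) = 0 := hk _ (by rw [map_smul, hw'])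
  rw [map_smul, ← hw] at h2
  have h4 : w • z' = 0 := by
    apply IsLocalizedModule.smul_injective a₁ w'
    change w' • (w • z') = w' • (0 : N₁')
    rw [Submonoid.smul_def, Submonoid.smul_def, h2, smul_zero]
  apply IsLocalizedModule.smul_injective a₁ w
  change w • z' = w • (0 : N₁')
  rw [h4, smul_zero]

end TL

section GT
variable {R R' T S' : Type*} [CommRing R] [CommRing R'] [CommRing T] [CommRing S']
  [Algebra R R'] [Algebra R' T] [Algebra T S'] [Algebra R' S'] [IsScalarTower R' T S']
  (W : Submonoid T) [IsLocalization W S']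
  {M : Type*} [AddCommGroup M] [Module R M]
  {P : Type*} [AddCommGroup P] [Module R P] [Module R' P] [Module T P] [IsScalarTower R R' P]
    [IsScalarTower R' T P]
  {M' : Type*} [AddCommGroup M'] [Module R M'] [Module R' M'] [Module T M'] [Module S' M']
    [IsScalarTower R R' M'] [IsScalarTower R' T M'] [IsScalarTower T S' M']
    [IsScalarTower R' S' M']
  {g : M →ₗ[R] P} (hg : IsBaseChange R' g)
  {h : P →ₗ[T] M'} (hh : IsBaseChange S' h)
  (f : M →ₗ[R] M') (hf : ∀ m, f m = h (g m))

section X
variable (X : Type*) [AddCommGroup X] [Module R X] [Module R' X] [IsScalarTower R R' X]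

/-- `X ⊗[R] M ≃ P ⊗[R'] X`, `x ⊗ m ↦ g m ⊗ x`. -/
noncomputable def theta : X ⊗[R] M ≃ₗ[R'] P ⊗[R'] X :=
  (hg.tensorEquiv X).symm ≪≫ₗ TensorProduct.comm R' X P

theorem theta_tmul (x : X) (m : M) : theta hg X (x ⊗ₜ m) = g m ⊗ₜ x := by
  simp [theta, IsBaseChange.tensorEquiv, IsBaseChange.equiv_tmul]

/-- `X ⊗[R] M → X ⊗[R'] M'`, `x ⊗ m ↦ x ⊗ f m`. -/
noncomputable def phi : X ⊗[R] M →ₗ[R] X ⊗[R'] M' :=
  (TensorProduct.mapOfCompatibleSMul R' R R X M') ∘ₗ (TensorProduct.map LinearMap.id f)

theorem phi_tmul (x : X) (m : M) : phi (R' := R') f X (x ⊗ₜ m) = x ⊗ₜ f m := by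
  simp [phi]

end X

section B
variable {X Y : Type*} [AddCommGroup X] [Module R X] [Module R' X] [IsScalarTower R R' X]
  [AddCommGroup Y] [Module R Y] [Module R' Y] [IsScalarTower R R' Y]

theorem theta_natural (u : X →ₗ[R'] Y) (t : X ⊗[R] M) :
    theta hg Y ((u.restrictScalars R).rTensor M t) = u.lTensor P (theta hg X t) := by
  induction t using TensorProduct.induction_on with
  | zero => simp
  | tmul x m => simp [theta_tmul]
  | add a b ha hb => simp only [map_add, ha, hb]

include hf in
theorem map_theta (t : X ⊗[R] M) :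
    TensorProduct.AlgebraTensorModule.map h (LinearMap.id : X →ₗ[R'] X) (theta hg X t) =
      TensorProduct.comm R' X M' (phi (R' := R') f X t) := by
  induction t using TensorProduct.induction_on with
  | zero => simp
  | tmul x m => simp [theta_tmul, phi_tmul, hf]
  | add a b ha hb => simp only [map_add, ha, hb]

include W hg hh hf in
/-- Lemma B: `u ⊗ M'` is injective as soon as the kernel of `u ⊗ M` dies in `X ⊗[R'] M'`. -/
theorem rTensor_injective_of_ker (u : X →ₗ[R'] Y)
    (hker : ∀ t : X ⊗[R] M, (u.restrictScalars R).rTensor M t = 0 → phi (R' := R') f X t = 0) :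
    Function.Injective (u.rTensor M') := by
  rw [← LinearMap.lTensor_inj_iff_rTensor_inj]
  let aX : P ⊗[R'] X →ₗ[T] M' ⊗[R'] X :=
    TensorProduct.AlgebraTensorModule.map h (LinearMap.id : X →ₗ[R'] X)
  let aY : P ⊗[R'] Y →ₗ[T] M' ⊗[R'] Y :=
    TensorProduct.AlgebraTensorModule.map h (LinearMap.id : Y →ₗ[R'] Y)
  haveI : IsLocalizedModule W aX :=
    (isLocalizedModule_iff_isBaseChange W S' aX).2 (isBaseChange_tensorProduct_map S' hh)
  haveI : IsLocalizedModule W aY :=
    (isLocalizedModule_iff_isBaseChange W S' aY).2 (isBaseChange_tensorProduct_map S' hh)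
  let G : P ⊗[R'] X →ₗ[T] P ⊗[R'] Y :=
    TensorProduct.AlgebraTensorModule.map (LinearMap.id : P →ₗ[T] P) u
  let G' : M' ⊗[R'] X →ₗ[T] M' ⊗[R'] Y :=
    TensorProduct.AlgebraTensorModule.map (LinearMap.id : M' →ₗ[T] M') u
  have hc : G' ∘ₗ aX = aY ∘ₗ G :=
    TensorProduct.AlgebraTensorModule.ext fun p x => by simp [G, G', aX, aY]
  have hk : ∀ z, G z = 0 → aX z = 0 := by
    intro z hz
    obtain ⟨t, rfl⟩ := (theta hg X).surjective z
    have h1 : u.lTensor P (theta hg X t) = 0 := hz
    rw [← theta_natural, LinearEquiv.map_eq_zero_iff] at h1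
    change TensorProduct.AlgebraTensorModule.map h (LinearMap.id : X →ₗ[R'] X) (theta hg X t) = 0
    rw [map_theta hg f hf, hker t h1, map_zero]
  exact injective_of_isLocalizedModule W aX aY G G' hc hk

end B

section final
variable (I : Ideal R) [Module.Flat (R ⧸ I) ((R ⧸ I) ⊗[R] M)]

include W hg hh hf in
theorem flat_quotient_tensor :
    Module.Flat (R' ⧸ I.map (algebraMap R R')) ((R' ⧸ I.map (algebraMap R R')) ⊗[R'] M') := by
  apply Groth.Agent.Lib.Helper98.flat_quotient_of_rTensor_injective
  intro J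
  apply rTensor_injective_of_ker W hg hh f hf J.subtype
  intro t ht
  have hmem : ∀ i : I, algebraMap R R' (i : R) ∈ I.map (algebraMap R R') :=
    fun i => Ideal.mem_map_of_mem _ i.2
  have tQ : Module.IsTorsionBySet R (R' ⧸ I.map (algebraMap R R')) (I : Set R) := by
    intro x c
    obtain ⟨r, rfl⟩ := Ideal.Quotient.mk_surjective x
    rw [← algebraMap_smul R' (c : R), Algebra.smul_def, Ideal.Quotient.algebraMap_eq,
      ← map_mul, Ideal.Quotient.eq_zero_iff_mem]
    exact Ideal.mul_mem_right _ _ (hmem c)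
  have tJ : Module.IsTorsionBySet R J (I : Set R) := by
    intro x c
    apply Subtype.ext
    exact tQ (x := (x : R' ⧸ I.map (algebraMap R R'))) (a := c)
  have hinj := Groth.Agent.Lib.Helper84.rTensor_injective_of_flat_quotient_of_torsion I M tJ tQ
    (J.subtype.restrictScalars R) Subtype.val_injective
  have : t = 0 := hinj (by rw [ht, map_zero])
  rw [this, map_zero]

include W hg hh hf in
theorem rTensor_subtype_injective
    (h3 : ∀ k : I ⊗[R] M, I.subtype.rTensor M k = 0 →
      phi (R' := R') f (I.map (algebraMap R R')) ((Algebra.idealMap R' I).rTensor M k) = 0) :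
    Function.Injective ((I.map (algebraMap R R')).subtype.rTensor M') := by
  apply rTensor_injective_of_ker W hg hh f hf (I.map (algebraMap R R')).subtype
  intro t ht
  let j : (I.map (algebraMap R R')) →ₗ[R] R' := (I.map (algebraMap R R')).subtype.restrictScalars R
  let ν : R' →ₗ[R] I →ₗ[R] (I.map (algebraMap R R')) :=
    LinearMap.mk₂ R (fun x i => x • Algebra.idealMap R' I i)
      (fun x y i => add_smul _ _ _) (fun c x i => by rw [smul_assoc])
      (fun x i i' => by rw [map_add, smul_add])
      (fun c x i => by rw [map_smul, smul_comm])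
  have hν : ∀ x i, j (ν x i) = (i : R) • x := by
    intro x i
    change x * algebraMap R R' (i : R) = (i : R) • x
    rw [Algebra.smul_def, mul_comm]
  have hr : ∀ y, j y ∈ I • (⊤ : Submodule R R') := by
    intro y
    rw [Ideal.smul_top_eq_map]
    exact y.2
  have hle := TorChange.ker_rTensor_le_span I M j Subtype.val_injective ν hν hr
  have hkey : ∀ (x : R') (k : I ⊗[R] M),
      phi (R' := R') f (I.map (algebraMap R R')) ((ν x).rTensor M k) =
        x • phi (R' := R') f (I.map (algebraMap R R')) ((Algebra.idealMap R' I).rTensor M k) := by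
    intro x k
    induction k using TensorProduct.induction_on with
    | zero => simp
    | tmul i m =>
      simp only [LinearMap.rTensor_tmul, phi_tmul]
      rw [TensorProduct.smul_tmul']
      rfl
    | add a b ha hb => simp only [map_add, ha, hb, smul_add]
  have hspan : Submodule.span R {z | ∃ x, ∃ k ∈ LinearMap.ker (I.subtype.rTensor M),
      (ν x).rTensor M k = z} ≤ LinearMap.ker (phi (R' := R') f (I.map (algebraMap R R'))) := by
    rw [Submodule.span_le]
    rintro _ ⟨x, k, hk, rfl⟩
    rw [SetLike.mem_coe, LinearMap.mem_ker, hkey, h3 k hk, smul_zero]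
  exact hspan (hle ht)

end final

end GT

end Groth.Agent.Lib.Helper12.TorBaseChange
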