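import Mathlib
import Groth.Agent.Lib.Helper12.TorBaseChange
import Groth.Agent.Lib.Helper71.FibreCritNoeth

/-!
# Stacks 00MM (helper12): flatness of `M' = M ⊗_S S'` over `R'` when `Tor₁` maps to zero.
-/

set_option autoImplicit false
universe u
open scoped TensorProduct
open TensorProduct

namespace Groth.Agent.Lib.Helper12.TorBaseChangeApp

attribute [local instance] Algebra.TensorProduct.rightAlgebra

theorem flat_baseChange_of_flat_mod_and_tor_map_zero
    (R S R' S' : Type u) [CommRing R] [CommRing S] [CommRing R'] [CommRing S']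
    [IsLocalRing R] [IsLocalRing S] [IsLocalRing R'] [IsLocalRing S']
    [IsNoetherianRing R] [IsNoetherianRing S] [IsNoetherianRing R'] [IsNoetherianRing S']
    [Algebra R S] [Algebra R R'] [Algebra S S'] [Algebra R' S'] [Algebra R S']
    [IsScalarTower R S S'] [IsScalarTower R R' S']
    [IsLocalHom (algebraMap R S)] [IsLocalHom (algebraMap R R')] [IsLocalHom (algebraMap S S')]
    [IsLocalHom (algebraMap R' S')]
    (I : Ideal R) (hI : I ≠ ⊤) (M : Type u) [AddCommGroup M] [Module S M] [Module R M] [IsScalarTower R S M]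
    [Module.Finite S M]
    (M' : Type u) [AddCommGroup M'] [Module S' M'] [Module R' M'] [IsScalarTower R' S' M']
    [Module S M'] [IsScalarTower S S' M'] [Module R M'] [IsScalarTower R R' M'] [IsScalarTower R S M']
    (f : M →ₗ[S] M') (hf : IsBaseChange S' f)
    (h1 : ∃ W : Submonoid (S ⊗[R] R'),
      letI : Algebra (S ⊗[R] R') S' :=
        (Algebra.TensorProduct.lift (IsScalarTower.toAlgHom R S S') (IsScalarTower.toAlgHom R R' S')
          (fun s r => Commute.all _ _)).toRingHom.toAlgebra;
      IsLocalization W S')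
    (h2 : Module.Flat (R ⧸ I) ((R ⧸ I) ⊗[R] M))
    (h3 : ∀ x : ↥I ⊗[R] M, (Submodule.subtype I).rTensor M x = 0 →
      (TensorProduct.mapOfCompatibleSMul R' R R ↥(I.map (algebraMap R R')) M')
        ((TensorProduct.map (Algebra.idealMap R' I) (f.restrictScalars R)) x) = 0) :
    Module.Flat R' M' := by
  classical
  obtain ⟨W, hW⟩ := h1
  letI algTS' : Algebra (S ⊗[R] R') S' :=
    (Algebra.TensorProduct.lift (IsScalarTower.toAlgHom R S S') (IsScalarTower.toAlgHom R R' S')
      (fun s r => Commute.all _ _)).toRingHom.toAlgebra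
  haveI : IsLocalization W S' := hW
  have halg : ∀ t : S ⊗[R] R', algebraMap (S ⊗[R] R') S' t =
      Algebra.TensorProduct.lift (IsScalarTower.toAlgHom R S S') (IsScalarTower.toAlgHom R R' S')
        (fun s r => Commute.all _ _) t := fun _ => rfl
  haveI tow1 : IsScalarTower S (S ⊗[R] R') S' := IsScalarTower.of_algebraMap_eq (fun s => by
    rw [halg, Algebra.TensorProduct.algebraMap_apply, Algebra.TensorProduct.lift_tmul]
    simp)
  haveI tow2 : IsScalarTower R' (S ⊗[R] R') S' := IsScalarTower.of_algebraMap_eq (fun r => by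
    rw [halg, Algebra.TensorProduct.right_algebraMap_apply, Algebra.TensorProduct.lift_tmul]
    simp)
  letI modTM' : Module (S ⊗[R] R') M' := Module.compHom M' (algebraMap (S ⊗[R] R') S')
  have hsmul : ∀ (t : S ⊗[R] R') (m : M'), t • m = algebraMap (S ⊗[R] R') S' t • m :=
    fun _ _ => rfl
  haveI tow3 : IsScalarTower (S ⊗[R] R') S' M' := ⟨fun t s m => by
    rw [hsmul, Algebra.smul_def, mul_smul]⟩
  haveI tow4 : IsScalarTower S (S ⊗[R] R') M' := ⟨fun s t m => by
    rw [hsmul, hsmul, Algebra.smul_def, map_mul, ← IsScalarTower.algebraMap_apply S (S ⊗[R] R') S',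
      mul_smul, algebraMap_smul]⟩
  haveI tow5 : IsScalarTower R' (S ⊗[R] R') M' := ⟨fun r t m => by
    rw [hsmul, hsmul, Algebra.smul_def, map_mul, ← IsScalarTower.algebraMap_apply R' (S ⊗[R] R') S',
      mul_smul, algebraMap_smul]⟩
  -- the module `P = T ⊗[S] M`
  let g0 : M →ₗ[S] (S ⊗[R] R') ⊗[S] M := TensorProduct.mk S (S ⊗[R] R') M 1
  have hg0 : IsBaseChange (S ⊗[R] R') g0 := TensorProduct.isBaseChange S M (S ⊗[R] R')
  let g : M →ₗ[R] (S ⊗[R] R') ⊗[S] M := g0.restrictScalars R
  have hg : IsBaseChange R' g :=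
    IsBaseChange.of_equiv (Algebra.IsPushout.cancelBaseChange R R' S (S ⊗[R] R') M).symm
      (fun m => by
        rw [Algebra.IsPushout.cancelBaseChange_symm_tmul, map_one]
        rfl)
  let h : (S ⊗[R] R') ⊗[S] M →ₗ[S ⊗[R] R'] M' := hg0.lift f
  have hh : IsBaseChange S' h := by
    refine IsBaseChange.of_comp hg0 ?_
    rw [IsBaseChange.lift_comp]
    exact hf
  have hfh : ∀ m, (f.restrictScalars R) m = h (g m) := fun m => (hg0.lift_eq f m).symm
  -- the ideal `I'`
  have hIm : I ≤ IsLocalRing.maximalIdeal R := IsLocalRing.le_maximalIdeal hI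
  have hI'S' : (I.map (algebraMap R R')).map (algebraMap R' S') ≤ Ideal.jacobson ⊥ := by
    rw [IsLocalRing.jacobson_eq_maximalIdeal _ bot_ne_top]
    have hI' : I.map (algebraMap R R') ≤ IsLocalRing.maximalIdeal R' :=
      le_trans (Ideal.map_mono hIm) Groth.Agent.Lib.Helper71.FibreCritNoeth.map_maximalIdeal_le
    exact le_trans (Ideal.map_mono hI') Groth.Agent.Lib.Helper71.FibreCritNoeth.map_maximalIdeal_le
  haveI : Module.Finite S' M' := Module.Finite.equiv hf.equiv
  haveI : Module.Flat (R' ⧸ I.map (algebraMap R R')) ((R' ⧸ I.map (algebraMap R R')) ⊗[R'] M') :=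
    Groth.Agent.Lib.Helper12.TorBaseChange.flat_quotient_tensor W hg hh (f.restrictScalars R) hfh I
  have hinj : Function.Injective ((I.map (algebraMap R R')).subtype.rTensor M') := by
    refine Groth.Agent.Lib.Helper12.TorBaseChange.rTensor_subtype_injective W hg hh
      (f.restrictScalars R) hfh I ?_
    intro k hk
    have := h3 k hk
    rw [← this]
    clear this hk
    induction k using TensorProduct.induction_on with
    | zero => simp
    | tmul i m =>
      simp [Groth.Agent.Lib.Helper12.TorBaseChange.phi_tmul]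
    | add a b ha hb => simp only [map_add, ha, hb]
  exact Groth.Agent.Lib.Helper71.FibreCritNoeth.flat_of_rTensor_injective
    (I.map (algebraMap R R')) (B := S') M' hI'S' hinj

end Groth.Agent.Lib.Helper12.TorBaseChangeApp
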